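import Mathlib
import Groth.Prelude.Def_Cyc
import Groth.Agent.CycLim28.Fibre

/-!
# Dimension functions on schemes
-/

universe u

open CategoryTheory AlgebraicGeometry IsLocalRing Groth.Agent.CycLim28

namespace Groth.Agent.CycLib28

variable {X : Scheme.{u}} {δ : X → ℤ}

theorem le_of_specializes (hδ : Cyc.IsDimFun X δ) {x y : X} (h : x ⤳ y) : δ y ≤ δ x := by
  rcases eq_or_ne x y with rfl | hne
  · exact le_rfl
  · exact (hδ x y h hne).1.le

theorem eq_of_specializes_of_le (hδ : Cyc.IsDimFun X δ) {x y : X} (h : x ⤳ y) (hle : δ x ≤ δ y) :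
    x = y := by
  by_contra hne
  exact absurd (hδ x y h hne).1 (not_lt.mpr hle)

theorem exists_step_top (hδ : Cyc.IsDimFun X δ) {ξ x : X} (h : ξ ⤳ x) (hne : ξ ≠ x) :
    ∃ z, ξ ⤳ z ∧ z ⤳ x ∧ δ ξ = δ z + 1 := by
  let S : Set ℤ := δ '' {z | ξ ⤳ z ∧ z ⤳ x ∧ z ≠ ξ}
  obtain ⟨m, ⟨z, ⟨hz1, hz2, hz3⟩, rfl⟩, hm⟩ := Int.exists_greatest_of_bdd (P := fun n ↦ n ∈ S)
    ⟨δ ξ, fun n ⟨z, hz, hn⟩ ↦ hn ▸ le_of_specializes hδ hz.1⟩
    ⟨δ x, x, ⟨h, specializes_refl x, hne.symm⟩, rfl⟩
  refine ⟨z, hz1, hz2, (hδ ξ z hz1 hz3.symm).2 fun w hw1 hw2 ↦ ?_⟩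
  by_contra! hh
  exact absurd (hm (δ w) ⟨w, ⟨hw1, hw2.trans hz2, hh.1⟩, rfl⟩) (not_le.mpr (hδ w z hw2 hh.2).1)

variable (δ) in
/-- `δ` read on the primes of the stalk at `x` -/
noncomputable def drop (x : X) (P : PrimeSpectrum (X.presheaf.stalk x)) : ℤ :=
  δ (X.fromSpecStalk x P) - δ x

theorem specializes_iff_le (x : X) (P Q : PrimeSpectrum (X.presheaf.stalk x)) :
    X.fromSpecStalk x P ⤳ X.fromSpecStalk x Q ↔ P ≤ Q := by
  rw [PrimeSpectrum.le_iff_specializes]
  exact (X.fromSpecStalk x).isEmbedding.isInducing.specializes_iff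

theorem drop_nonneg (hδ : Cyc.IsDimFun X δ) (x : X) (P : PrimeSpectrum (X.presheaf.stalk x)) :
    0 ≤ drop δ x P :=
  sub_nonneg.mpr (le_of_specializes hδ (fromSpecStalk_specializes x P))

theorem drop_lt (hδ : Cyc.IsDimFun X δ) (x : X) {P Q : PrimeSpectrum (X.presheaf.stalk x)} (h : P < Q) :
    drop δ x Q < drop δ x P := by
  refine sub_lt_sub_right (hδ _ _ ((specializes_iff_le x P Q).mpr h.le) fun e ↦ h.ne ?_).1 _
  exact fromSpecStalk_injective x e

theorem exists_series (hδ : Cyc.IsDimFun X δ) (x : X) :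
    ∀ (n : ℕ) (P : PrimeSpectrum (X.presheaf.stalk x)), drop δ x P = n →
      ∃ s : LTSeries (PrimeSpectrum (X.presheaf.stalk x)), s.head = P ∧ s.length = n := by
  intro n
  induction n with
  | zero => exact fun P _ ↦ ⟨RelSeries.singleton _ P, rfl, rfl⟩
  | succ n ih =>
    intro P hP
    have hne : X.fromSpecStalk x P ≠ x := fun e ↦ by
      rw [drop, e, sub_self] at hP
      omega
    obtain ⟨z, hz1, hz2, hz3⟩ := exists_step_top hδ (fromSpecStalk_specializes x P) hne
    obtain ⟨Q, rfl⟩ := exists_fromSpecStalk_eq hz2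
    have hQ : drop δ x Q = n := by rw [drop] at hP ⊢; push_cast at hP; omega
    have hPQ : P < Q := lt_of_le_of_ne ((specializes_iff_le x P Q).mp hz1) fun e ↦ by
      rw [e] at hz3; omega
    obtain ⟨s, hs1, hs2⟩ := ih Q hQ
    exact ⟨s.cons P (show P < s.head by rw [hs1]; exact hPQ), by simp, by simp [hs2]⟩

theorem series_le (hδ : Cyc.IsDimFun X δ) (x : X) (s : LTSeries (PrimeSpectrum (X.presheaf.stalk x))) :
    (s.length : ℤ) ≤ drop δ x s.head := by
  have : ∀ i : Fin (s.length + 1), (i : ℕ) + drop δ x (s i) ≤ drop δ x s.head := by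
    intro i
    induction i using Fin.induction with
    | zero => simp [RelSeries.head]
    | succ i ih =>
      have h := drop_lt hδ x (s.step i)
      simp only [Fin.val_succ, Fin.val_castSucc, Nat.cast_add, Nat.cast_one] at *
      omega
  have h := this (Fin.last _)
  have := drop_nonneg hδ x (s (Fin.last _))
  simp only [Fin.val_last] at h
  omega

/-- the dimension of the local ring at `x` of the closure of a generisation is the drop of `δ` -/
theorem dim_quotient (hδ : Cyc.IsDimFun X δ) (x : X) (P : PrimeSpectrum (X.presheaf.stalk x)) :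
    ringKrullDim (X.presheaf.stalk x ⧸ P.asIdeal) = ((drop δ x P).toNat : WithBot ℕ∞) := by
  rw [ringKrullDim, Order.krullDim_eq_of_orderIso
    (P.asIdeal.primeSpectrumQuotientOrderIsoZeroLocus)]
  apply le_antisymm
  · refine iSup_le fun s ↦ ?_
    let t : LTSeries (PrimeSpectrum (X.presheaf.stalk x)) :=
      s.map Subtype.val fun _ _ h ↦ h
    have h1 : (s.length : ℤ) ≤ drop δ x t.head := series_le hδ x t
    have h2 : drop δ x t.head ≤ drop δ x P := by
      rcases eq_or_lt_of_le (show P ≤ t.head from (s.head).2) with e | e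
      · rw [← e]
      · exact (drop_lt hδ x e).le
    exact_mod_cast (show s.length ≤ (drop δ x P).toNat by omega)
  · obtain ⟨t, ht1, ht2⟩ := exists_series hδ x (drop δ x P).toNat P
      (Int.toNat_of_nonneg (drop_nonneg hδ x P)).symm
    let s : LTSeries (PrimeSpectrum.zeroLocus (P.asIdeal : Set (X.presheaf.stalk x))) :=
      { length := t.length
        toFun := fun i ↦ ⟨t i, (show P ≤ t i by
          rw [← ht1]; exact t.monotone (Fin.zero_le i))⟩
        step := fun i ↦ t.step i }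
    exact le_iSup_of_le s (by rw [show s.length = t.length from rfl, ht2])

theorem immediate_iff (hδ : Cyc.IsDimFun X δ) {x y : X} (h : x ⤳ y) :
    ((x ≠ y ∧ ∀ z, x ⤳ z → z ⤳ y → z = x ∨ z = y)) ↔ δ x = δ y + 1 := by
  refine ⟨fun ⟨hne, hz⟩ ↦ (hδ x y h hne).2 hz, fun he ↦ ⟨fun e ↦ by rw [e] at he; omega, ?_⟩⟩
  intro z hz1 hz2
  by_contra! hh
  have h1 := (hδ x z hz1 hh.1.symm).1
  have h2 := (hδ z y hz2 hh.2).1
  omega

/-- the dimension of a stalk of an integral scheme -/
theorem dim_stalk [IsIntegral X] (hδ : Cyc.IsDimFun X δ) (x : X) :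
    ringKrullDim (X.presheaf.stalk x) = ((δ (genericPoint X) - δ x).toNat : WithBot ℕ∞) := by
  obtain ⟨P, hP⟩ := exists_fromSpecStalk_eq (genericPoint_specializes x)
  have hbot : P.asIdeal = ⊥ := by
    let Q : PrimeSpectrum (X.presheaf.stalk x) := ⟨⊥, Ideal.isPrime_bot⟩
    have : P ≤ Q := (specializes_iff_le x P Q).mp (hP ▸ genericPoint_specializes _)
    exact le_bot_iff.mp this
  have h := dim_quotient hδ x P
  rw [drop, hP] at h
  rw [← h]
  exact (ringKrullDim_eq_of_ringEquiv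
    ((Ideal.quotEquivOfEq hbot).trans (RingEquiv.quotientBot _))).symm

end Groth.Agent.CycLib28
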