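import Mathlib
import Groth.Agent.CycLib28.DimFun

/-!
# Maximal points
-/

universe u

open CategoryTheory AlgebraicGeometry IsLocalRing Groth.Agent.CycLim28 TopologicalSpace

namespace Groth.Agent.CycLib28

variable {X : Scheme.{u}}

theorem isArtinianRing_stalk [IsLocallyNoetherian X] (x : X) (hx : ∀ z : X, z ⤳ x → z = x) :
    IsArtinianRing (X.presheaf.stalk x) := by
  have : Ring.KrullDimLE 0 (X.presheaf.stalk x) := by
    refine Ring.KrullDimLE.mk₀ fun P hP ↦ ?_
    have : (⟨P, hP⟩ : PrimeSpectrum (X.presheaf.stalk x)) = closedPoint _ := by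
      refine fromSpecStalk_injective x ?_
      rw [Scheme.fromSpecStalk_closedPoint]
      exact hx _ (fromSpecStalk_specializes x _)
    have h' : P = maximalIdeal _ := congrArg PrimeSpectrum.asIdeal this
    exact h' ▸ maximalIdeal.isMaximal _
  exact isArtinianRing_iff_krullDimLE_zero.mpr this

theorem length_stalk_lt_top [IsLocallyNoetherian X] (x : X) (hx : ∀ z : X, z ⤳ x → z = x) :
    Module.length (X.presheaf.stalk x) (X.presheaf.stalk x) < ⊤ := by
  have := isArtinianRing_stalk x hx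
  exact Module.length_ne_top.lt_top

theorem exists_maximal_specializes (x : X) : ∃ z : X, z ⤳ x ∧ ∀ w : X, w ⤳ z → w = z := by
  obtain ⟨p, hp, -⟩ := Ideal.exists_minimalPrimes_le
    (bot_le : ⊥ ≤ (closedPoint (X.presheaf.stalk x)).asIdeal)
  let P : PrimeSpectrum (X.presheaf.stalk x) := ⟨p, hp.1.1⟩
  refine ⟨X.fromSpecStalk x P, fromSpecStalk_specializes x P, fun w hw ↦ ?_⟩
  obtain ⟨Q, rfl⟩ := exists_fromSpecStalk_eq (hw.trans (fromSpecStalk_specializes x P))
  have hQP : Q ≤ P := (specializes_iff_le x Q P).mp hw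
  congr 1
  exact PrimeSpectrum.ext (le_antisymm hQP (hp.2 ⟨Q.2, bot_le⟩ hQP))

/-- near `x`, every maximal point is a generisation of `x` -/
theorem exists_nhd_maximal [IsLocallyNoetherian X] (x : X) :
    ∃ U : X.Opens, x ∈ U ∧ ∀ z : X, z ∈ U → (∀ w : X, w ⤳ z → w = z) → z ⤳ x := by
  obtain ⟨_, ⟨V, hV, rfl⟩, hxV, -⟩ :=
    X.isBasis_affineOpens.exists_subset_of_mem_open (Set.mem_univ x) isOpen_univ
  have hV' : IsAffineOpen V := hV
  have : IsNoetherianRing Γ(X, V) := IsLocallyNoetherian.component_noetherian ⟨V, hV⟩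
  have hns : NoetherianSpace V := noetherianSpace_of_isAffineOpen V hV
  let xV : (V : Set X) := ⟨x, hxV⟩
  obtain ⟨S, hSf, hSc, hSi, hS⟩ :=
    NoetherianSpace.exists_finite_set_isClosed_irreducible (α := V) isClosed_univ
  let T : Set X := ⋃ t ∈ {t ∈ S | xV ∉ t}, closure (Subtype.val '' t)
  have hT : IsClosed T := (hSf.subset fun t ht ↦ ht.1).isClosed_biUnion fun _ _ ↦ isClosed_closure
  refine ⟨V ⊓ ⟨Tᶜ, hT.isOpen_compl⟩, ⟨hxV, fun hx ↦ ?_⟩, fun z ⟨hzV, hzT⟩ hz ↦ ?_⟩
  · obtain ⟨t, ht, hxt⟩ := Set.mem_iUnion₂.mp hx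
    refine ht.2 ?_
    have hc := (Topology.IsInducing.subtypeVal (t := (V : Set X))).closure_eq_preimage_closure_image t
    exact (hSc t ht.1).closure_subset (hc.ge hxt)
  · obtain ⟨t, htS, hzt⟩ := hS.le (Set.mem_univ (⟨z, hzV⟩ : V))
    by_cases hxt : xV ∈ t
    · have h1 : IsIrreducible (closure (Subtype.val '' t)) :=
        ((hSi t htS).image _ continuous_subtype_val.continuousOn).closure
      have h2 := h1.isGenericPoint_genericPoint_closure
      rw [closure_closure] at h2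
      rw [← hz _ (h2.specializes (subset_closure ⟨_, hzt, rfl⟩))]
      exact h2.specializes (show x ∈ closure (Subtype.val '' t) from subset_closure ⟨xV, hxt, rfl⟩)
    · exact absurd (show z ∈ T from
        Set.mem_iUnion₂.mpr ⟨t, ⟨htS, hxt⟩, subset_closure ⟨_, hzt, rfl⟩⟩) hzT

end Groth.Agent.CycLib28
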