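import Mathlib
import Groth.Agent.CycLib28.DimFun
import Groth.Agent.Misc15.StalkLoc

/-!
# Stalks at generisations
-/

universe u

open CategoryTheory AlgebraicGeometry IsLocalRing Groth.Agent.CycLim28

namespace Groth.Agent.CycLib28

variable {X : Scheme.{u}}

theorem eq_comap_closedPoint (x : X) (P : PrimeSpectrum (X.presheaf.stalk x)) :
    P = PrimeSpectrum.comap (X.presheaf.stalkSpecializes (fromSpecStalk_specializes x P)).hom
      (closedPoint _) := by
  refine fromSpecStalk_injective x ?_
  have h := congrArg (fun g ↦ g (closedPoint (X.presheaf.stalk (X.fromSpecStalk x P))))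
    (Scheme.SpecMap_stalkSpecializes_fromSpecStalk (fromSpecStalk_specializes x P))
  rw [Scheme.Hom.comp_apply, Scheme.fromSpecStalk_closedPoint] at h
  exact h.symm

/-- the height of a prime of a stalk is the dimension of the stalk at the corresponding point -/
theorem ringKrullDim_stalk_eq_height (x : X) (P : PrimeSpectrum (X.presheaf.stalk x)) :
    ringKrullDim (X.presheaf.stalk (X.fromSpecStalk x P)) = (P.asIdeal.height : WithBot ℕ∞) := by
  set z := X.fromSpecStalk x P
  let h := fromSpecStalk_specializes x P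
  algebraize [(X.presheaf.stalkSpecializes h).hom]
  have := Misc15.isLocalization_stalkSpecializes h
  have hP : P.asIdeal = (maximalIdeal (X.presheaf.stalk z)).comap (X.presheaf.stalkSpecializes h).hom :=
    congrArg PrimeSpectrum.asIdeal (eq_comap_closedPoint x P)
  have hS : (IsUnit.submonoid (X.presheaf.stalk z)).comap (X.presheaf.stalkSpecializes h).hom =
      P.asIdeal.primeCompl := by
    ext a
    rw [Ideal.mem_primeCompl_iff, hP, Ideal.mem_comap, mem_maximalIdeal, mem_nonunits_iff, not_not]
    rfl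
  rw [hS] at this
  have : IsLocalization.AtPrime (X.presheaf.stalk z) P.asIdeal := this
  exact IsLocalization.AtPrime.ringKrullDim_eq_height P.asIdeal (X.presheaf.stalk z)

end Groth.Agent.CycLib28

namespace Groth.Agent.CycLib28

theorem krullDimLE_one_quotient {R : Type u} [CommRing R] [IsLocalRing R] (P : PrimeSpectrum R)
    (h : ∀ Q : PrimeSpectrum R, P ≤ Q → Q = P ∨ Q = IsLocalRing.closedPoint R) :
    Ring.KrullDimLE 1 (R ⧸ P.asIdeal) := by
  rw [Ring.krullDimLE_iff, ringKrullDim,
    Order.krullDim_eq_of_orderIso (P.asIdeal.primeSpectrumQuotientOrderIsoZeroLocus)]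
  refine iSup_le fun s ↦ ?_
  by_contra hh
  push Not at hh
  have h2 : 2 ≤ s.length := by
    have : 1 < s.length := by exact_mod_cast hh
    omega
  have a1 : (s ⟨0, by omega⟩).1 < (s ⟨1, by omega⟩).1 :=
    s.strictMono (show (⟨0, by omega⟩ : Fin (s.length + 1)) < ⟨1, by omega⟩ from Fin.mk_lt_mk.mpr (by omega))
  have a2 : (s ⟨1, by omega⟩).1 < (s ⟨2, by omega⟩).1 :=
    s.strictMono (show (⟨1, by omega⟩ : Fin (s.length + 1)) < ⟨2, by omega⟩ from Fin.mk_lt_mk.mpr (by omega))
  rcases h _ (show P ≤ (s ⟨1, by omega⟩).1 from (s ⟨1, by omega⟩).2) with e | e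
  · rw [e] at a1
    exact a1.not_ge (s ⟨0, by omega⟩).2
  · rw [e] at a2
    exact a2.not_ge (IsLocalRing.le_maximalIdeal (s ⟨2, by omega⟩).1.2.ne_top)

end Groth.Agent.CycLib28
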