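import Mathlib
import Groth.Agent.CycLib28.Maximal
import Groth.Agent.CycLib28.StalkGen
import Groth.Agent.AssSch12.Primary

/-!
# Lengths of stalks of coherent modules at generic points of the support
-/

universe u

open CategoryTheory AlgebraicGeometry IsLocalRing Groth.Agent.CycLim28 Opposite TopologicalSpace
open Groth.Agent.QCohLoc

namespace Groth.Agent.CycLib28

theorem length_ne_top_of_annihilator {R : Type u} [CommRing R] [IsLocalRing R] [IsNoetherianRing R]
    {M : Type u} [AddCommGroup M] [Module R M] [Module.Finite R M]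
    (h : ∀ q : PrimeSpectrum R, Module.annihilator R M ≤ q.asIdeal → q = closedPoint R) :
    Module.length R M ≠ ⊤ := by
  have : Ring.KrullDimLE 0 (R ⧸ Module.annihilator R M) := by
    refine Ring.KrullDimLE.mk₀ fun P hP ↦ ?_
    have h1 : Module.annihilator R M ≤ P.comap (Ideal.Quotient.mk _) := fun a ha ↦ by
      simp [Ideal.Quotient.eq_zero_iff_mem.mpr ha]
    have h2 : P.comap (Ideal.Quotient.mk (Module.annihilator R M)) = maximalIdeal R :=
      congrArg PrimeSpectrum.asIdeal (h ⟨_, hP.comap _⟩ h1)
    have : (P.comap (Ideal.Quotient.mk (Module.annihilator R M))).IsMaximal :=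
      h2 ▸ maximalIdeal.isMaximal R
    rw [← Ideal.map_comap_of_surjective (Ideal.Quotient.mk (Module.annihilator R M))
      Ideal.Quotient.mk_surjective P]
    exact Ideal.IsMaximal.map_of_surjective_of_ker_le Ideal.Quotient.mk_surjective (by rwa [Ideal.mk_ker])
  have : IsArtinianRing (R ⧸ Module.annihilator R M) := isArtinianRing_iff_krullDimLE_zero.mpr this
  have : IsArtinian R (R ⧸ Module.annihilator R M) :=
    isArtinian_of_surjective_algebraMap (R := R ⧸ Module.annihilator R M) Ideal.Quotient.mk_surjective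
  obtain ⟨n, s, hs⟩ := Module.Finite.exists_fin (R := R) (M := M)
  let g : Fin n → (R ⧸ Module.annihilator R M) →ₗ[R] M := fun i ↦
    Submodule.liftQ _ (LinearMap.toSpanSingleton R M (s i)) fun a ha ↦ by
      simpa using Module.mem_annihilator.mp ha (s i)
  let π : (Fin n → R ⧸ Module.annihilator R M) →ₗ[R] M := ∑ i, (g i).comp (LinearMap.proj i)
  have hπ : Function.Surjective π := by
    rw [← LinearMap.range_eq_top, ← top_le_iff, ← hs, Submodule.span_le]
    rintro _ ⟨i, rfl⟩
    refine ⟨Pi.single i (Submodule.Quotient.mk 1), ?_⟩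
    simp only [π, LinearMap.coe_sum, Finset.sum_apply, LinearMap.comp_apply, LinearMap.proj_apply]
    rw [Finset.sum_eq_single i (fun j _ hj ↦ by rw [Pi.single_eq_of_ne hj, map_zero]) (by simp),
      Pi.single_eq_same]
    simp only [g, Submodule.liftQ_apply, LinearMap.toSpanSingleton_apply, one_smul]
  have : IsArtinian R M := isArtinian_of_surjective _ π hπ
  exact Module.length_ne_top

variable {X : Scheme.{u}} {M : X.Modules}

theorem germ_isUnit_of_specializes {U : X.Opens} {z x : X} (h : z ⤳ x) (hxU : x ∈ U) (f : Γ(X, U))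
    (hz : z ∈ X.basicOpen f) :
    IsUnit ((X.presheaf.stalkSpecializes h).hom (X.presheaf.germ U x hxU f)) := by
  rw [TopCat.Presheaf.germ_stalkSpecializes_apply]
  exact (Scheme.mem_basicOpen _ _ _ (h.mem_open U.2 hxU)).1 hz

theorem nontrivial_of_annihilator_le [IsLocallyNoetherian X] (hM : Coh.IsCoh M) (x : X)
    (q : PrimeSpectrum (X.presheaf.stalk x))
    (hq : Module.annihilator (X.presheaf.stalk x) (M.presheaf.stalk x) ≤ q.asIdeal) :
    Nontrivial (M.presheaf.stalk (X.fromSpecStalk x q)) := by
  classical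
  by_contra hz
  rw [not_nontrivial_iff_subsingleton] at hz
  haveI := hM.1
  obtain ⟨_, ⟨V, hV, rfl⟩, hxV, -⟩ :=
    X.isBasis_affineOpens.exists_subset_of_mem_open (Set.mem_univ x) isOpen_univ
  obtain ⟨G, hG⟩ := ((Coherent.isCoh_iff_finite_sections M).1 hM).2 V hV |>.fg_top
  have hsp := fromSpecStalk_specializes x q
  have hzV : X.fromSpecStalk x q ∈ V := hsp.mem_open V.2 hxV
  choose f hf hf0 using fun m : Γ(M, V) ↦
    exists_smul_eq_zero_of_germ M hV hzV m (Subsingleton.elim _ _)
  let F := ∏ m ∈ G, f m
  have hkill : ∀ m ∈ G, F • m = 0 := fun m hm ↦ by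
    simp only [F, ← Finset.prod_erase_mul G f hm, mul_smul, hf0, smul_zero]
  have hkill' : ∀ m : Γ(M, V), F • m = 0 := fun m ↦ by
    have hm : m ∈ Submodule.span Γ(X, V) (G : Set Γ(M, V)) := hG.ge trivial
    induction hm using Submodule.span_induction with
    | mem z hz => exact hkill z hz
    | zero => exact smul_zero _
    | add b c _ _ hb hc => rw [smul_add, hb, hc, add_zero]
    | smul r b _ hb => rw [smul_comm, hb, smul_zero]
  have hann : X.presheaf.germ V x hxV F ∈ Module.annihilator (X.presheaf.stalk x) (M.presheaf.stalk x) := by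
    rw [Module.mem_annihilator]
    intro a
    obtain ⟨g, m, hg, hm⟩ := exists_smul_stalk_eq_germ M hV hxV a
    have hu : IsUnit (X.presheaf.germ V x hxV g) := (Scheme.mem_basicOpen _ _ _ hxV).1 hg
    apply hu.smul_left_cancel.mp
    rw [smul_comm, hm, smul_zero, ← germ_smul' M hxV, hkill', map_zero]
  have hu : IsUnit ((X.presheaf.stalkSpecializes hsp).hom (X.presheaf.germ V x hxV F)) := by
    rw [map_prod, map_prod, IsUnit.prod_iff]
    exact fun m _ ↦ germ_isUnit_of_specializes hsp hxV (f m) (hf m)
  have := congrArg PrimeSpectrum.asIdeal (eq_comap_closedPoint x q)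
  have hmem := hq hann
  rw [this] at hmem
  exact hmem hu

theorem length_stalk_ne_top [IsLocallyNoetherian X] (hM : Coh.IsCoh M) (x : X)
    (hx : ∀ z : X, Nontrivial (M.presheaf.stalk z) → z ⤳ x → z = x) :
    Module.length (X.presheaf.stalk x) (M.presheaf.stalk x) ≠ ⊤ := by
  have := AssSch12.finite_stalk hM x
  refine length_ne_top_of_annihilator fun q hq ↦ fromSpecStalk_injective x ?_
  rw [Scheme.fromSpecStalk_closedPoint]
  exact hx _ (nontrivial_of_annihilator_le hM x q hq) (fromSpecStalk_specializes x q)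

end Groth.Agent.CycLib28
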