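import Mathlib
import Groth.Agent.CycLib28.Support
import Groth.Agent.Coherent.SupportPullback

/-!
# Components of the support of a coherent module
-/

universe u

open CategoryTheory AlgebraicGeometry TopologicalSpace

namespace Groth.Agent.CycLib28

variable {X : Scheme.{u}}

theorem isClosed_nontrivial {F : X.Modules} [IsLocallyNoetherian X] (hF : Coh.IsCoh F) :
    IsClosed {x : X | Nontrivial (F.presheaf.stalk x)} := by
  have := hF.1
  have h := Coherent.isClosed_support F (Coherent.locallyFinGen_of_finite_sections F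
    (fun U : X.affineOpens ↦ U.1) (fun U ↦ U.2)
    (fun x ↦ by
      obtain ⟨_, ⟨U, hU, rfl⟩, hxU, -⟩ :=
        X.isBasis_affineOpens.exists_subset_of_mem_open (Set.mem_univ x) isOpen_univ
      exact ⟨⟨U, hU⟩, hxU⟩)
    fun U ↦ ((Coherent.isCoh_iff_finite_sections F).1 hF).2 U.1 U.2)
  have e : {x : X | Nontrivial (F.presheaf.stalk x)} = CohB1.support F :=
    Set.ext fun x ↦ not_subsingleton_iff_nontrivial.symm
  rwa [e]

theorem locallyFinite_image_components [IsLocallyNoetherian X] (T : Set X) (hT : IsClosed T) :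
    LocallyFinite (fun Z : irreducibleComponents T => ((↑) '' (Z : Set T) : Set X)) := by
  intro x
  obtain ⟨_, ⟨V, hV, rfl⟩, hxV, -⟩ :=
    X.isBasis_affineOpens.exists_subset_of_mem_open (Set.mem_univ x) isOpen_univ
  have : IsNoetherianRing Γ(X, V) := IsLocallyNoetherian.component_noetherian ⟨V, hV⟩
  have hns : NoetherianSpace (V : Set X) := noetherianSpace_of_isAffineOpen V hV
  refine ⟨V, V.2.mem_nhds hxV, ?_⟩
  obtain ⟨S, hSf, hSc, hSi, hS⟩ := NoetherianSpace.exists_finite_set_isClosed_irreducible
    (α := (V : Set X)) (s := Subtype.val ⁻¹' T) (hT.preimage continuous_subtype_val)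
  have key : ∀ Z : irreducibleComponents T, (((↑) '' (Z : Set T) : Set X) ∩ V).Nonempty →
      ∃ t ∈ S, closure (Subtype.val '' t) = ((↑) '' (Z : Set T) : Set X) := by
    intro Z hZ
    have hZc : IsClosed ((↑) '' (Z : Set T) : Set X) :=
      hT.isClosedEmbedding_subtypeVal.isClosedMap _ (isClosed_of_mem_irreducibleComponents _ Z.2)
    have hZi : IsIrreducible ((↑) '' (Z : Set T) : Set X) :=
      Z.2.1.image _ continuous_subtype_val.continuousOn
    have hg := hZi.isGenericPoint_genericPoint hZc
    have hgV : hZi.genericPoint ∈ V := by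
      obtain ⟨w, hw, hwV⟩ := hZ
      exact (hg.specializes hw).mem_open V.2 hwV
    obtain ⟨⟨a, haT⟩, haZ, hav⟩ := hg.mem
    have hgT : hZi.genericPoint ∈ T := hav ▸ haT
    obtain ⟨t, ht, hgt⟩ := hS.le (show (⟨_, hgV⟩ : (V : Set X)) ∈ Subtype.val ⁻¹' T from hgT)
    refine ⟨t, ht, Set.Subset.antisymm ?_ ?_⟩
    · have hsub : closure (Subtype.val '' t) ⊆ T := closure_minimal
        (Set.image_subset_iff.mpr fun b hb ↦ hS.ge ⟨t, ht, hb⟩) hT
      have hirr : IsIrreducible (closure (Subtype.val '' t)) :=
        ((hSi t ht).image _ continuous_subtype_val.continuousOn).closure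
      have hirr' : IsIrreducible (Subtype.val ⁻¹' closure (Subtype.val '' t) : Set T) := by
        refine ⟨?_, ?_⟩
        · obtain ⟨b, hb⟩ := hirr.1
          exact ⟨⟨b, hsub hb⟩, hb⟩
        · rintro u v ⟨u', hu', rfl⟩ ⟨v', hv', rfl⟩ ⟨b, hb1, hb2⟩ ⟨d, hd1, hd2⟩
          obtain ⟨e, he1, he2⟩ := hirr.2 u' v' hu' hv' ⟨b.1, hb1, hb2⟩ ⟨d.1, hd1, hd2⟩
          exact ⟨⟨e, hsub he1⟩, he1, he2⟩
      have hle : (Z : Set T) ⊆ Subtype.val ⁻¹' closure (Subtype.val '' t) := by
        intro b hb
        exact hirr.isGenericPoint_genericPoint_closure.def ▸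
          closure_minimal (Set.singleton_subset_iff.mpr
            (show hZi.genericPoint ∈ closure (closure {hirr.genericPoint}) by
              rw [hirr.isGenericPoint_genericPoint_closure.def, closure_closure, closure_closure]
              exact subset_closure ⟨_, hgt, rfl⟩))
            isClosed_closure (hg.def.ge ⟨b, hb, rfl⟩) |> fun h ↦ by
              simpa [hirr.isGenericPoint_genericPoint_closure.def, closure_closure] using h
      intro w hw
      exact ⟨⟨w, hsub hw⟩, Z.2.2 hirr' hle hw, rfl⟩
    · refine hg.def.ge.trans (closure_minimal (Set.singleton_subset_iff.mpr ?_) isClosed_closure)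
      exact subset_closure ⟨_, hgt, rfl⟩
  refine Set.Finite.of_finite_image (f := fun Z : irreducibleComponents T ↦ ((↑) '' (Z : Set T) : Set X))
    ((hSf.image fun t ↦ closure (Subtype.val '' t)).subset ?_) fun a _ b _ h ↦
      Subtype.ext (Set.image_injective.mpr Subtype.val_injective h)
  rintro _ ⟨Z, hZ, rfl⟩
  exact key Z hZ

theorem locallyFinite_components [IsLocallyNoetherian X] {F : X.Modules} (hF : Coh.IsCoh F) :
    LocallyFinite (fun Z : irreducibleComponents {x : X | Nontrivial (F.presheaf.stalk x)} =>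
      ((↑) '' (Z : Set {x : X | Nontrivial (F.presheaf.stalk x)}) : Set X)) :=
  locallyFinite_image_components _ (isClosed_nontrivial hF)

end Groth.Agent.CycLib28
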