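import Mathlib
import Groth.Prelude.Def_Cyc
import Groth.Agent.CycLim28.Main

/-!
# Pushforward of cycles
-/

universe u

open CategoryTheory AlgebraicGeometry

namespace Groth.Agent.CycLib28

variable {X Y Z : Scheme.{u}} (f : X ⟶ Y) (g : Y ⟶ Z)

theorem delta_le' {δX : X → ℤ} {δY : Y → ℤ} (h : Cyc.DeltaCompat f δX δY) (x : X) : δY (f x) ≤ δX x := by
  obtain ⟨n, -, hx⟩ := h x
  omega

theorem map_apply [QuasiCompact f] (δX : X → ℤ) (δY : Y → ℤ) (c : AlgebraicCycle X ℤ) (y : Y) :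
    AlgebraicCycle.map f δX δY c y =
      ∑ᶠ x ∈ f ⁻¹' {y}, c x * (AlgebraicCycle.mapCoeff f δX δY x : ℤ) := rfl

theorem finite_fibre_inter_support [QuasiCompact f] (c : AlgebraicCycle X ℤ) (y : Y) :
    (f ⁻¹' {y} ∩ Function.support ⇑c).Finite := by
  have h := (Function.locallyFinsupp.locallyFiniteSupport c).finite_inter_support_of_isCompact
    (f.isCompact_preimage_singleton y)
  exact h

theorem map_apply_finset [QuasiCompact f] (δX : X → ℤ) (δY : Y → ℤ) (c : AlgebraicCycle X ℤ) (y : Y)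
    (s : Finset X) (h1 : ∀ x ∈ s, f x = y) (h2 : ∀ x, f x = y → c x ≠ 0 → x ∈ s) :
    AlgebraicCycle.map f δX δY c y = ∑ x ∈ s, c x * (AlgebraicCycle.mapCoeff f δX δY x : ℤ) := by
  rw [map_apply]
  refine finsum_mem_eq_sum_of_inter_support_eq _ ?_
  ext x
  simp only [Set.mem_inter_iff, Set.mem_preimage, Set.mem_singleton_iff, Function.mem_support,
    Finset.mem_coe, and_congr_left_iff]
  exact fun hx ↦ ⟨fun h ↦ h2 x h fun h0 ↦ hx (by rw [h0, zero_mul]), h1 x⟩

theorem residueDegree_comp (x : X) :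
    (f ≫ g).residueDegree x = g.residueDegree (f x) * f.residueDegree x := by
  simp only [Scheme.Hom.residueDegree]
  letI := (f.residueFieldMap x).hom.toAlgebra
  letI := (g.residueFieldMap (f x)).hom.toAlgebra
  letI : Algebra (Z.residueField (g (f x))) (X.residueField x) :=
    ((f.residueFieldMap x).hom.comp (g.residueFieldMap (f x)).hom).toAlgebra
  haveI : IsScalarTower (Z.residueField (g (f x))) (Y.residueField (f x)) (X.residueField x) :=
    IsScalarTower.of_algebraMap_eq fun _ ↦ rfl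
  rw [Module.finrank_mul_finrank (Z.residueField (g (f x))) (Y.residueField (f x)) (X.residueField x)]
  congr 2
  rw [Scheme.residueFieldMap_comp]
  rfl

theorem mapCoeff_comp {δX : X → ℤ} {δY : Y → ℤ} {δZ : Z → ℤ} (hf : Cyc.DeltaCompat f δX δY)
    (hg : Cyc.DeltaCompat g δY δZ) (x : X) :
    AlgebraicCycle.mapCoeff (f ≫ g) δX δZ x =
      AlgebraicCycle.mapCoeff g δY δZ (f x) * AlgebraicCycle.mapCoeff f δX δY x := by
  have h1 := delta_le' f hf x
  have h2 := delta_le' g hg (f x)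
  simp only [AlgebraicCycle.mapCoeff, Scheme.Hom.comp_apply]
  by_cases h : δX x = δZ (g (f x))
  · rw [if_pos h, if_pos (by omega), if_pos (by omega), residueDegree_comp]
  · rw [if_neg h]
    by_cases h' : δY (f x) = δZ (g (f x))
    · rw [if_neg (show ¬ δX x = δY (f x) by omega), mul_zero]
    · rw [if_neg h', zero_mul]

theorem map_map [QuasiCompact f] [QuasiCompact g] {δX : X → ℤ} {δY : Y → ℤ} {δZ : Z → ℤ}
    (hf : Cyc.DeltaCompat f δX δY) (hg : Cyc.DeltaCompat g δY δZ) (c : AlgebraicCycle X ℤ) :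
    AlgebraicCycle.map g δY δZ (AlgebraicCycle.map f δX δY c) =
      AlgebraicCycle.map (f ≫ g) δX δZ c := by
  classical
  refine Function.locallyFinsuppWithin.ext fun z ↦ ?_
  let S := (finite_fibre_inter_support (f ≫ g) c z).toFinset
  have hS : ∀ x, x ∈ S ↔ g (f x) = z ∧ c x ≠ 0 := fun x ↦ by simp [S]
  rw [map_apply_finset (f ≫ g) δX δZ c z S (fun x hx ↦ ((hS x).mp hx).1)
    (fun x h1 h2 ↦ (hS x).mpr ⟨h1, h2⟩)]
  rw [map_apply_finset g δY δZ _ z (S.image f) (fun y hy ↦ ?_) (fun y h1 h2 ↦ ?_),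
    ← Finset.sum_fiberwise_of_maps_to (g := f) (t := S.image f) (fun x hx ↦ Finset.mem_image_of_mem _ hx)]
  · refine Finset.sum_congr rfl fun y hy ↦ ?_
    obtain ⟨x₀, hx₀, rfl⟩ := Finset.mem_image.mp hy
    rw [map_apply_finset f δX δY c (f x₀) {x ∈ S | f x = f x₀} (fun x hx ↦ (Finset.mem_filter.mp hx).2)
      (fun x h1 h2 ↦ Finset.mem_filter.mpr ⟨(hS x).mpr ⟨h1 ▸ ((hS x₀).mp hx₀).1, h2⟩, h1⟩),
      Finset.sum_mul]
    refine Finset.sum_congr rfl fun x hx ↦ ?_
    rw [mapCoeff_comp f g hf hg, (Finset.mem_filter.mp hx).2]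
    push_cast
    ring
  · obtain ⟨x, hx, rfl⟩ := Finset.mem_image.mp hy
    exact ((hS x).mp hx).1
  · obtain ⟨x, hx, hx'⟩ := exists_ne_zero_of_finsum_mem_ne_zero h2
    refine Finset.mem_image.mpr ⟨x, (hS x).mpr ⟨(congrArg g hx).trans h1, fun h0 ↦ hx' ?_⟩, hx⟩
    simp [h0]

/-- lifting a cycle along a map with a chosen section on points with trivial residue extension -/
theorem exists_map_eq [QuasiCompact f] {δX : X → ℤ} {δY : Y → ℤ} (hδ : Cyc.DeltaCompat f δX δY)
    (s : Y → X) (hs : ∀ y, f (s y) = y) (hbij : ∀ y, Function.Surjective (f.residueFieldMap (s y)).hom)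
    (k : ℤ) (α : AlgebraicCycle Y ℤ) (hα : α ∈ Cyc.Zk Y δY k) :
    ∃ β : AlgebraicCycle X ℤ, β ∈ Cyc.Zk X δX k ∧ AlgebraicCycle.map f δX δY β = α := by
  classical
  have hdeg : ∀ y, f.residueDegree (s y) = 1 ∧ δX (s y) = δY y := by
    intro y
    letI := (f.residueFieldMap (s y)).hom.toAlgebra
    let e : Y.residueField (f (s y)) ≃ₐ[Y.residueField (f (s y))] X.residueField (s y) :=
      AlgEquiv.ofBijective (Algebra.ofId _ _) ⟨RingHom.injective _, hbij y⟩
    refine ⟨?_, ?_⟩
    · change Module.finrank (Y.residueField (f (s y))) (X.residueField (s y)) = 1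
      rw [← e.toLinearEquiv.finrank_eq, Module.finrank_self]
    · obtain ⟨n, hn, hx⟩ := hδ (s y)
      rw [hs y] at hx
      have : Algebra.trdeg (Y.residueField (f (s y))) (X.residueField (s y)) = 0 := by
        haveI : Algebra.IsAlgebraic (Y.residueField (f (s y))) (X.residueField (s y)) :=
          ⟨fun a ↦ by obtain ⟨b, rfl⟩ := hbij y a; exact isAlgebraic_algebraMap b⟩
        exact trdeg_eq_zero
      rw [this] at hn
      have hn0 : n = 0 := by exact_mod_cast hn.symm
      omega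
  let β₀ : X → ℤ := fun x ↦ if s (f x) = x then α (f x) else 0
  have hfin : ∀ x : X, ∃ t ∈ nhds x, (t ∩ Function.support β₀).Finite := by
    intro x
    obtain ⟨V, ⟨hV, hVc⟩, hxV, -⟩ := (PrespectralSpace.isTopologicalBasis (X := Y)).exists_subset_of_mem_open
      (Set.mem_univ (f x)) isOpen_univ
    refine ⟨f ⁻¹' V, (hV.preimage f.continuous).mem_nhds hxV, ?_⟩
    have h := (Function.locallyFinsupp.locallyFiniteSupport α).finite_inter_support_of_isCompact hVc
    refine (h.image s).subset fun a ⟨ha, hne⟩ ↦ ?_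
    simp only [β₀, Function.mem_support, ne_eq, ite_eq_right_iff, not_forall] at hne
    exact ⟨f a, ⟨ha, hne.2⟩, hne.1⟩
  let β : AlgebraicCycle X ℤ :=
    { toFun := β₀
      supportWithinDomain' := by simp
      supportLocallyFiniteWithinDomain' := fun x _ ↦ hfin x }
  refine ⟨β, fun x hx ↦ ?_, Function.locallyFinsuppWithin.ext fun y ↦ ?_⟩
  · change β₀ x = 0
    simp only [β₀]
    split_ifs with h
    · refine hα (f x) fun hh ↦ hx ?_
      rw [← h, (hdeg (f x)).2, hh]
    · rfl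
  · rw [map_apply_finset f δX δY β y {s y} (fun x hx ↦ by rw [Finset.mem_singleton.mp hx, hs])
      (fun x h1 h2 ↦ ?_), Finset.sum_singleton]
    · change β₀ (s y) * _ = _
      simp only [β₀, hs, if_pos, AlgebraicCycle.mapCoeff, (hdeg y).2, (hdeg y).1, if_true, Nat.cast_one,
        mul_one]
    · change β₀ x ≠ 0 at h2
      simp only [β₀, ne_eq, ite_eq_right_iff, not_forall] at h2
      rw [Finset.mem_singleton, ← h2.1, h1]

end Groth.Agent.CycLib28
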