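import Mathlib
import Groth.Prelude.Def_Cyc
import Groth.Agent.Coherent.ProperOverApps
import Groth.Agent.AssSch12.PullbackPoint

/-!
# Stalks of pushforwards along topological embeddings
-/

universe u

open CategoryTheory AlgebraicGeometry TopologicalSpace Opposite

namespace Groth.Agent.CycLib28

variable {X Z : Scheme.{u}} (i : Z ⟶ X)

/-- the stalk comparison map of a pushforward -/
noncomputable def pushStalkHom (G : Z.Modules) (z : Z) :
    ((Coh.push i).obj G).presheaf.stalk (i z) ⟶ G.presheaf.stalk z :=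
  TopCat.Presheaf.stalkPushforward Ab.{u} i.base G.presheaf z

theorem pushStalkHom_germ (G : Z.Modules) (z : Z) (U : X.Opens) (h : i z ∈ U) (s : Γ((Coh.push i).obj G, U)) :
    pushStalkHom i G z (((Coh.push i).obj G).presheaf.germ U (i z) h s) =
      G.presheaf.germ (i ⁻¹ᵁ U) z h s :=
  ConcreteCategory.congr_hom (TopCat.Presheaf.stalkPushforward_germ Ab.{u} i.base G.presheaf U z h) s

theorem pushStalkHom_smul (G : Z.Modules) (z : Z) (r : X.presheaf.stalk (i z))
    (m : ((Coh.push i).obj G).presheaf.stalk (i z)) :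
    pushStalkHom i G z (r • m) = (i.stalkMap z).hom r • pushStalkHom i G z m := by
  obtain ⟨U, hU, a, rfl⟩ := X.presheaf.exists_germ_eq r
  obtain ⟨V, hV, s, rfl⟩ := ((Coh.push i).obj G).presheaf.exists_germ_eq m
  let W := U ⊓ V
  have hW : i z ∈ W := ⟨hU, hV⟩
  rw [← X.presheaf.germ_res_apply (homOfLE (inf_le_left : W ≤ U)) (i z) hW a,
    ← ((Coh.push i).obj G).presheaf.germ_res_apply (homOfLE (inf_le_right : W ≤ V)) (i z) hW s]
  set a' := X.presheaf.map (homOfLE (inf_le_left : W ≤ U)).op a
  set s' := ((Coh.push i).obj G).presheaf.map (homOfLE (inf_le_right : W ≤ V)).op s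
  rw [← QCohLoc.germ_smul' ((Coh.push i).obj G) hW a' s', pushStalkHom_germ, pushStalkHom_germ,
    Scheme.Hom.germ_stalkMap_apply]
  exact QCohLoc.germ_smul' G (x := z) (V := i ⁻¹ᵁ W) hW (i.app W a') s'

theorem length_stalk_push [IsClosedImmersion i] (G : Z.Modules) (z : Z) :
    Module.length (X.presheaf.stalk (i z)) (((Coh.push i).obj G).presheaf.stalk (i z)) =
      Module.length (Z.presheaf.stalk z) (G.presheaf.stalk z) := by
  letI : Algebra (X.presheaf.stalk (i z)) (Z.presheaf.stalk z) := (i.stalkMap z).hom.toAlgebra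
  letI : Module (X.presheaf.stalk (i z)) (G.presheaf.stalk z) := Module.compHom _ (i.stalkMap z).hom
  haveI : IsScalarTower (X.presheaf.stalk (i z)) (Z.presheaf.stalk z) (G.presheaf.stalk z) :=
    IsScalarTower.of_algebraMap_smul fun _ _ ↦ rfl
  haveI : IsIso (pushStalkHom i G z) :=
    TopCat.Presheaf.stalkPushforward.stalkPushforward_iso_of_isInducing Ab.{u} i.isClosedEmbedding.isInducing G.presheaf z
  let l : ((Coh.push i).obj G).presheaf.stalk (i z) →ₗ[X.presheaf.stalk (i z)] G.presheaf.stalk z :=
    { toFun := fun m ↦ pushStalkHom i G z m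
      map_add' := fun a b ↦ map_add (pushStalkHom i G z).hom a b
      map_smul' := fun r m ↦ pushStalkHom_smul i G z r m }
  let e := LinearEquiv.ofBijective l (ConcreteCategory.bijective_of_isIso (pushStalkHom i G z))
  rw [e.length_eq]
  exact Module.length_eq_of_surjective (i.stalkMap_surjective z)

theorem subsingleton_stalk_push [IsClosedImmersion i] (G : Z.Modules) {x : X} (hx : x ∉ Set.range i) :
    Subsingleton (((Coh.push i).obj G).presheaf.stalk x) :=
  not_nontrivial_iff_subsingleton.mp fun h ↦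
    hx (Coherent.support_push_subset i G (not_subsingleton_iff_nontrivial.mpr h))

theorem subschemeFun_eq [IsClosedImmersion i] (δ : X → ℤ) (k : ℤ) :
    Cyc.subschemeFun δ k i = Cyc.sheafFun δ k ((Coh.push i).obj (Coh.structureModule Z)) := by
  funext x
  simp only [Cyc.subschemeFun, Cyc.sheafFun]
  split_ifs with hx
  swap
  · rfl
  by_cases hr : x ∈ Set.range i
  · obtain ⟨z, rfl⟩ := hr
    rw [length_stalk_push, show {w : Z | i w = i z} = {z} from Set.ext fun w ↦
      ⟨fun h ↦ i.isClosedEmbedding.injective h, fun h ↦ congrArg i h⟩, finsum_mem_singleton]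
    rw [(LinearEquiv.ofBijective (LinearMap.toSpanSingleton (Z.presheaf.stalk z) _ (AssSch12.unitOne z))
      (AssSch12.bijective_smul_unitOne z)).length_eq]
  · rw [Module.length_eq_zero_iff.mpr (subsingleton_stalk_push i _ hr),
      show {w : Z | i w = x} = ∅ from Set.eq_empty_of_forall_notMem fun w h ↦ hr ⟨w, h⟩,
      finsum_mem_empty]
    rfl

end Groth.Agent.CycLib28
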