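import Mathlib
import Groth.Prelude.Def_Cyc
import Groth.Agent.Coherent.ProperFinite
import Groth.Agent.CycLib28.Components

/-!
# Support of a pushforward along a closed map
-/

universe u

open CategoryTheory AlgebraicGeometry TopologicalSpace

namespace Groth.Agent.CycLib28

theorem support_push_subset_image {X Y : Scheme.{u}} (f : X ⟶ Y) (hf : IsClosedMap f) (F : X.Modules)
    (hF : IsClosed (CohB1.support F)) :
    CohB1.support ((Coh.push f).obj F) ⊆ f '' CohB1.support F := fun y hy ↦ by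
  by_contra hyn
  let U : Y.Opens := ⟨(f '' CohB1.support F)ᶜ, (hf _ hF).isOpen_compl⟩
  refine Coherent.notMem_support_of_subsingleton _ (U := U) hyn (fun V _ hle ↦ ?_) hy
  change Subsingleton Γ(F, f ⁻¹ᵁ V)
  refine ⟨fun p q ↦ TopCat.Presheaf.section_ext (⟨F.presheaf, F.isSheaf⟩ : TopCat.Sheaf Ab X) _ p q
    fun z hz ↦ ?_⟩
  have : Subsingleton (F.presheaf.stalk z) := by
    by_contra h
    exact hle hz ⟨z, h, rfl⟩
  exact Subsingleton.elim (α := F.presheaf.stalk z) _ _

theorem delta_le_of_push {X Y : Scheme.{u}} (f : X ⟶ Y) (hf : IsClosedMap f) [IsLocallyNoetherian X]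
    {F : X.Modules} (hF : Coh.IsCoh F) {δX : X → ℤ} {δY : Y → ℤ} (hδ : ∀ x, δY (f x) ≤ δX x) (k : ℤ)
    (hdim : ∀ x : X, Nontrivial (F.presheaf.stalk x) → δX x ≤ k) (y : Y)
    (hy : Nontrivial (((Coh.push f).obj F).presheaf.stalk y)) : δY y ≤ k := by
  have e : {x : X | Nontrivial (F.presheaf.stalk x)} = CohB1.support F :=
    Set.ext fun x ↦ not_subsingleton_iff_nontrivial.symm
  obtain ⟨x, hx, rfl⟩ := support_push_subset_image f hf F (e ▸ isClosed_nontrivial hF)
    (not_subsingleton_iff_nontrivial.mpr hy)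
  exact (hδ x).trans (hdim x (not_subsingleton_iff_nontrivial.mp hx))

end Groth.Agent.CycLib28
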