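import Mathlib
import Groth.Prelude.Def_Cyc
import Groth.Agent.CycLib28.PushStalk
import Groth.Agent.CycLib28.Components
import Groth.Agent.CycLib28.PushSupport
import Groth.Agent.CycLib28.Push

/-!
# The cycle of a pushforward
-/

universe u

open CategoryTheory AlgebraicGeometry TopologicalSpace Opposite

namespace Groth.Agent.CycLib28

variable {X Y : Scheme.{u}}

/-- a point of a closed subset that no other point of the subset generalises to is locally alone
among the generic points -/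
theorem exists_open_inter_subset_closure [IsLocallyNoetherian X] (T : Set X) (hT : IsClosed T) (x : X)
    (hmax : ∀ z ∈ T, z ⤳ x → z = x) :
    ∃ W : X.Opens, x ∈ W ∧ (W : Set X) ∩ T ⊆ closure {x} := by
  obtain ⟨_, ⟨V, hV, rfl⟩, hxV, -⟩ :=
    X.isBasis_affineOpens.exists_subset_of_mem_open (Set.mem_univ x) isOpen_univ
  have : IsNoetherianRing Γ(X, V) := IsLocallyNoetherian.component_noetherian ⟨V, hV⟩
  have hns : NoetherianSpace (V : Set X) := noetherianSpace_of_isAffineOpen V hV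
  obtain ⟨S, hSf, hSc, hSi, hS⟩ := NoetherianSpace.exists_finite_set_isClosed_irreducible
    (α := (V : Set X)) (s := Subtype.val ⁻¹' T) (hT.preimage continuous_subtype_val)
  let B : Set (V : Set X) := ⋃ t ∈ {t ∈ S | (⟨x, hxV⟩ : (V : Set X)) ∉ t}, t
  have hB : IsClosed B := (hSf.subset fun t ht ↦ ht.1).isClosed_biUnion fun t ht ↦ hSc t ht.1
  refine ⟨⟨Subtype.val '' Bᶜ, V.2.isOpenMap_subtype_val _ hB.isOpen_compl⟩, ⟨⟨x, hxV⟩, ?_, rfl⟩, ?_⟩
  · simp only [B, Set.mem_compl_iff, Set.mem_iUnion, not_exists]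
    exact fun t ht hxt ↦ ht.2 hxt
  · rintro z ⟨⟨⟨z, hzV⟩, hzB, rfl⟩, hzT⟩
    obtain ⟨t, ht, hzt⟩ := hS.le (show (⟨z, hzV⟩ : (V : Set X)) ∈ Subtype.val ⁻¹' T from hzT)
    have hxt : (⟨x, hxV⟩ : (V : Set X)) ∈ t := by
      by_contra h
      exact hzB (Set.mem_biUnion ⟨ht, h⟩ hzt)
    have hirr : IsIrreducible (closure (Subtype.val '' t)) :=
      ((hSi t ht).image _ continuous_subtype_val.continuousOn).closure
    have hg := hirr.isGenericPoint_genericPoint isClosed_closure
    have hsub : closure (Subtype.val '' t) ⊆ T :=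
      closure_minimal (Set.image_subset_iff.mpr fun b hb ↦ hS.ge ⟨t, ht, hb⟩) hT
    have hge : hirr.genericPoint = x :=
      hmax _ (hsub hg.mem) (hg.specializes (subset_closure ⟨_, hxt, rfl⟩))
    have : (z : X) ∈ closure {hirr.genericPoint} := hg.symm.le (subset_closure ⟨_, hzt, rfl⟩)
    rwa [hge] at this

variable (f : X ⟶ Y)

/-- germs of a pushforward at a point upstairs -/
noncomputable def pushGerm (F : X.Modules) (y : Y) (x : X) (hx : f x = y) :
    ((Coh.push f).obj F).presheaf.stalk y ⟶ F.presheaf.stalk x :=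
  ((Coh.push f).obj F).presheaf.stalkSpecializes (Inseparable.of_eq hx).specializes ≫ pushStalkHom f F x

theorem pushGerm_germ (F : X.Modules) (y : Y) (x : X) (hx : f x = y) (U : Y.Opens) (h : y ∈ U)
    (s : Γ((Coh.push f).obj F, U)) :
    pushGerm f F y x hx (((Coh.push f).obj F).presheaf.germ U y h s) =
      F.presheaf.germ (f ⁻¹ᵁ U) x (show f x ∈ U from hx.symm ▸ h) s := by
  subst hx
  change pushStalkHom f F x (((Coh.push f).obj F).presheaf.stalkSpecializes _ _) = _
  rw [TopCat.Presheaf.germ_stalkSpecializes_apply]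
  exact pushStalkHom_germ f F x U h s

theorem pushGerm_bijective (hf : IsClosedMap f) (F : X.Modules) (T : Set X) (hT : IsClosed T)
    (hsub : ∀ z, z ∉ T → Subsingleton (F.presheaf.stalk z)) (y : Y) (s : Finset X)
    (hs : ∀ x, x ∈ s ↔ x ∈ T ∧ f x = y) (W : X → X.Opens) (hxW : ∀ x ∈ s, x ∈ W x)
    (hdisj : ∀ x ∈ s, ∀ x' ∈ s, x ≠ x' → ∀ z ∈ W x, z ∈ W x' → z ∉ T) :
    Function.Bijective (fun m (x : s) ↦ pushGerm f F y x.1 ((hs x.1).mp x.2).2 m :
      ((Coh.push f).obj F).presheaf.stalk y → ∀ x : s, F.presheaf.stalk x.1) := by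
  classical
  let Fs : TopCat.Sheaf Ab X := ⟨F.presheaf, F.isSheaf⟩
  have shrink : ∀ W' : s → X.Opens, (∀ x : s, x.1 ∈ W' x) →
      ∃ V : Y.Opens, y ∈ V ∧ ∀ z, f z ∈ V → z ∈ T → ∃ x : s, z ∈ W' x := by
    intro W' hW'
    let C : Set X := T ∩ (⋃ x : s, (W' x : Set X))ᶜ
    have hC : IsClosed C := hT.inter (isOpen_iUnion fun x ↦ (W' x).2).isClosed_compl
    refine ⟨⟨(f '' C)ᶜ, (hf _ hC).isOpen_compl⟩, ?_, fun z hz hzT ↦ ?_⟩
    · rintro ⟨z, ⟨hzT, hz⟩, rfl⟩
      exact hz (Set.mem_iUnion.mpr ⟨⟨z, (hs z).mpr ⟨hzT, rfl⟩⟩, hW' _⟩)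
    · by_contra h
      exact hz ⟨z, ⟨hzT, fun hh ↦ h (by simpa using hh)⟩, rfl⟩
  refine ⟨fun m m' hmm ↦ ?_, fun v ↦ ?_⟩
  · obtain ⟨U₁, hU₁, a, rfl⟩ := ((Coh.push f).obj F).presheaf.exists_germ_eq m
    obtain ⟨U₂, hU₂, b, rfl⟩ := ((Coh.push f).obj F).presheaf.exists_germ_eq m'
    have hloc : ∀ x : s, ∃ (W' : X.Opens) (i₁ : W' ⟶ f ⁻¹ᵁ U₁) (i₂ : W' ⟶ f ⁻¹ᵁ U₂), x.1 ∈ W' ∧
        F.presheaf.map i₁.op a = F.presheaf.map i₂.op b := fun x ↦ by
      have h := congrFun hmm x
      simp only [pushGerm_germ] at h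
      obtain ⟨W', hxW', i₁, i₂, he⟩ := F.presheaf.germ_eq _ _ _ _ _ h
      exact ⟨W', i₁, i₂, hxW', he⟩
    choose W' i₁ i₂ hxW' he using hloc
    obtain ⟨V, hyV, hV⟩ := shrink W' hxW'
    let V' := V ⊓ U₁ ⊓ U₂
    have hyV' : y ∈ V' := ⟨⟨hyV, hU₁⟩, hU₂⟩
    rw [← ((Coh.push f).obj F).presheaf.germ_res_apply (homOfLE (show V' ≤ U₁ from inf_le_left.trans inf_le_right)) y hyV' a,
      ← ((Coh.push f).obj F).presheaf.germ_res_apply (homOfLE (show V' ≤ U₂ from inf_le_right)) y hyV' b]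
    congr 1
    refine TopCat.Presheaf.section_ext Fs (f ⁻¹ᵁ V') _ _ fun z hz ↦ ?_
    by_cases hzT : z ∈ T
    · obtain ⟨x, hzx⟩ := hV z hz.1.1 hzT
      refine (F.presheaf.germ_res_apply ((Opens.map f.base).map (homOfLE _)) z hz a).trans ?_
      refine Eq.trans ?_ (F.presheaf.germ_res_apply ((Opens.map f.base).map (homOfLE _)) z hz b).symm
      rw [← F.presheaf.germ_res_apply (i₁ x) z hzx a, ← F.presheaf.germ_res_apply (i₂ x) z hzx b, he x]
    · have := hsub z hzT
      exact Subsingleton.elim (α := F.presheaf.stalk z) _ _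
  · have hex : ∀ x : s, ∃ (U : X.Opens) (h : x.1 ∈ U) (a : Γ(F, U)), U ≤ W x.1 ∧ F.presheaf.germ U x.1 h a = v x := by
      intro x
      obtain ⟨U, hU, a, ha⟩ := F.presheaf.exists_germ_eq (v x)
      refine ⟨U ⊓ W x.1, ⟨hU, hxW _ x.2⟩, F.presheaf.map (homOfLE inf_le_left).op a, inf_le_right, ?_⟩
      exact (TopCat.Presheaf.germ_res_apply _ _ _ _ _).trans ha
    choose U hU a hUW ha using hex
    obtain ⟨V, hyV, hV⟩ := shrink U hU
    let N : X.Opens := ⟨Tᶜ, hT.isOpen_compl⟩
    let cov : Option s → X.Opens := fun o ↦ o.elim (N ⊓ f ⁻¹ᵁ V) (fun x ↦ U x ⊓ f ⁻¹ᵁ V)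
    let sf : ∀ o : Option s, Γ(F, cov o) := fun o ↦ match o with
      | none => 0
      | some x => F.presheaf.map (homOfLE (inf_le_left : U x ⊓ f ⁻¹ᵁ V ≤ U x)).op (a x)
    have hcomp : TopCat.Presheaf.IsCompatible Fs.1 cov sf := by
      intro o o'
      by_cases hoo : o = o'
      · subst hoo; rfl
      refine TopCat.Presheaf.section_ext Fs _ _ _ fun z hz ↦ ?_
      have : Subsingleton (F.presheaf.stalk z) := hsub z fun hzT ↦ by
        match o, o', hoo with
        | none, none, h => exact h rfl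
        | none, some x, _ => exact hz.1.1 hzT
        | some x, none, _ => exact hz.2.1 hzT
        | some x, some x', h =>
          exact hdisj x.1 x.2 x'.1 x'.2 (fun e ↦ h (congrArg some (Subtype.ext e))) z
            (hUW x hz.1.1) (hUW x' hz.2.1) hzT
      exact Subsingleton.elim (α := F.presheaf.stalk z) _ _
    obtain ⟨t, ht, -⟩ := Fs.existsUnique_gluing' cov (f ⁻¹ᵁ V)
      (fun o ↦ homOfLE (match o with | none => inf_le_right | some x => inf_le_right))
      (fun z hz ↦ by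
        refine TopologicalSpace.Opens.mem_iSup.mpr ?_
        by_cases hzT : z ∈ T
        · obtain ⟨x, hx⟩ := hV z hz hzT
          exact ⟨some x, hx, hz⟩
        · exact ⟨none, hzT, hz⟩) sf hcomp
    refine ⟨((Coh.push f).obj F).presheaf.germ V y hyV t, funext fun x ↦ ?_⟩
    simp only [pushGerm_germ]
    have h1 := congrArg (F.presheaf.germ (cov (some x)) x.1 ⟨hU x, show f x.1 ∈ V from ((hs x.1).mp x.2).2.symm ▸ hyV⟩) (ht (some x))
    simp only [sf] at h1
    refine ((F.presheaf.germ_res_apply _ _ _ t).symm.trans h1).trans ?_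
    exact (F.presheaf.germ_res_apply _ _ _ (a x)).trans (ha x)

theorem pushGerm_smul (F : X.Modules) (y : Y) (x : X) (hx : f x = y) (r : Y.presheaf.stalk y)
    (m : ((Coh.push f).obj F).presheaf.stalk y) :
    pushGerm f F y x hx (r • m) =
      (f.stalkMap x).hom ((Y.presheaf.stalkSpecializes (Inseparable.of_eq hx).specializes).hom r) •
        pushGerm f F y x hx m := by
  subst hx
  have h1 : ∀ n, pushGerm f F (f x) x rfl n = pushStalkHom f F x n := fun n ↦ by
    change pushStalkHom f F x (((Coh.push f).obj F).presheaf.stalkSpecializes _ n) = _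
    rw [TopCat.Presheaf.stalkSpecializes_refl]; rfl
  rw [h1, h1, TopCat.Presheaf.stalkSpecializes_refl]
  exact pushStalkHom_smul f F x r m

/-- the ring map from the stalk at the image -/
noncomputable def stalkTo (y : Y) (x : X) (hx : f x = y) : Y.presheaf.stalk y →+* X.presheaf.stalk x :=
  (f.stalkMap x).hom.comp (Y.presheaf.stalkSpecializes (Inseparable.of_eq hx).specializes).hom

theorem residueDegree_eq_finrank (x : X) :
    (letI := (f.stalkMap x).hom.toAlgebra
     haveI : IsLocalHom (algebraMap (Y.presheaf.stalk (f x)) (X.presheaf.stalk x)) :=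
       inferInstanceAs (IsLocalHom (f.stalkMap x).hom)
     Module.finrank (IsLocalRing.ResidueField (Y.presheaf.stalk (f x)))
       (IsLocalRing.ResidueField (X.presheaf.stalk x))) = f.residueDegree x := by
  letI := (f.stalkMap x).hom.toAlgebra
  haveI : IsLocalHom (algebraMap (Y.presheaf.stalk (f x)) (X.presheaf.stalk x)) :=
    inferInstanceAs (IsLocalHom (f.stalkMap x).hom)
  have he : (inferInstance : Algebra (IsLocalRing.ResidueField (Y.presheaf.stalk (f x)))
      (IsLocalRing.ResidueField (X.presheaf.stalk x))) = (f.residueFieldMap x).hom.toAlgebra := by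
    refine Algebra.algebra_ext _ _ fun z ↦ ?_
    obtain ⟨z, rfl⟩ := IsLocalRing.residue_surjective z
    rfl
  exact congrArg (fun a : Algebra (IsLocalRing.ResidueField (Y.presheaf.stalk (f x)))
    (IsLocalRing.ResidueField (X.presheaf.stalk x)) => @Module.finrank _ _ _ _ a.toModule) he

theorem length_stalkTo (F : X.Modules) (y : Y) (x : X) (hx : f x = y) :
    (letI := Module.compHom (F.presheaf.stalk x) (stalkTo f y x hx)
    (Module.length (Y.presheaf.stalk y) (F.presheaf.stalk x))).toNat =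
      (Module.length (X.presheaf.stalk x) (F.presheaf.stalk x)).toNat * f.residueDegree x := by
  subst hx
  have e : stalkTo f (f x) x rfl = (f.stalkMap x).hom := by
    rw [stalkTo, TopCat.Presheaf.stalkSpecializes_refl]; rfl
  rw [e]
  letI := (f.stalkMap x).hom.toAlgebra
  letI := Module.compHom (F.presheaf.stalk x) (f.stalkMap x).hom
  haveI : IsScalarTower (Y.presheaf.stalk (f x)) (X.presheaf.stalk x) (F.presheaf.stalk x) :=
    IsScalarTower.of_algebraMap_smul fun _ _ ↦ rfl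
  haveI : IsLocalHom (algebraMap (Y.presheaf.stalk (f x)) (X.presheaf.stalk x)) :=
    inferInstanceAs (IsLocalHom (f.stalkMap x).hom)
  rw [IsLocalRing.length_restrictScalars (Y.presheaf.stalk (f x)) (X.presheaf.stalk x) (F.presheaf.stalk x),
    ENat.toNat_mul, Module.length_eq_rank, ← residueDegree_eq_finrank]
  congr 1

theorem residueDegree_ne_zero_of_delta_eq [LocallyOfFiniteType f] {δX : X → ℤ} {δY : Y → ℤ}
    (hδ : Cyc.DeltaCompat f δX δY) (x : X) (h : δX x = δY (f x)) : f.residueDegree x ≠ 0 := by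
  obtain ⟨n, hn, hx⟩ := hδ x
  letI := (f.residueFieldMap x).hom.toAlgebra
  have hn0 : n = 0 := by omega
  rw [hn0, Nat.cast_zero, trdeg_eq_zero_iff] at hn
  haveI : Algebra.EssFiniteType (Y.residueField (f x)) (X.residueField x) := by
    have h1 : (f.residueFieldMap x).hom.EssFiniteType := by
      refine RingHom.EssFiniteType.of_comp (f := (Y.residue (f x)).hom) ?_
      rw [← CommRingCat.hom_comp, Scheme.residue_residueFieldMap, CommRingCat.hom_comp]
      exact (LocallyOfFiniteType.stalkMap f x).comp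
        (RingHom.FiniteType.essFiniteType (RingHom.FiniteType.of_surjective _ (X.residue_surjective x)))
    exact h1
  haveI : FiniteDimensional (Y.residueField (f x)) (X.residueField x) := by
    obtain ⟨t, ht⟩ := IntermediateField.fg_top_iff.mpr (inferInstance :
      Algebra.EssFiniteType (Y.residueField (f x)) (X.residueField x))
    haveI := IntermediateField.finiteDimensional_adjoin (K := Y.residueField (f x)) (S := (t : Set (X.residueField x)))
      fun z _ ↦ (Algebra.IsAlgebraic.isAlgebraic z).isIntegral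
    rw [ht] at this
    exact LinearEquiv.finiteDimensional IntermediateField.topEquiv.toLinearEquiv
  exact Module.finrank_pos.ne'

theorem length_stalkTo_ne_top [LocallyOfFiniteType f] {δX : X → ℤ} {δY : Y → ℤ} (hδ : Cyc.DeltaCompat f δX δY)
    (F : X.Modules) (y : Y) (x : X) (hx : f x = y) (h : δX x = δY y)
    (hfin : Module.length (X.presheaf.stalk x) (F.presheaf.stalk x) ≠ ⊤) :
    (letI := Module.compHom (F.presheaf.stalk x) (stalkTo f y x hx)
    Module.length (Y.presheaf.stalk y) (F.presheaf.stalk x)) ≠ ⊤ := by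
  subst hx
  have e : stalkTo f (f x) x rfl = (f.stalkMap x).hom := by
    rw [stalkTo, TopCat.Presheaf.stalkSpecializes_refl]; rfl
  rw [e]
  letI := (f.stalkMap x).hom.toAlgebra
  letI := Module.compHom (F.presheaf.stalk x) (f.stalkMap x).hom
  haveI : IsScalarTower (Y.presheaf.stalk (f x)) (X.presheaf.stalk x) (F.presheaf.stalk x) :=
    IsScalarTower.of_algebraMap_smul fun _ _ ↦ rfl
  haveI : IsLocalHom (algebraMap (Y.presheaf.stalk (f x)) (X.presheaf.stalk x)) :=
    inferInstanceAs (IsLocalHom (f.stalkMap x).hom)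
  rw [IsLocalRing.length_restrictScalars (Y.presheaf.stalk (f x)) (X.presheaf.stalk x) (F.presheaf.stalk x),
    Module.length_eq_rank]
  refine WithTop.mul_ne_top hfin (ne_of_lt (Cardinal.toENat_lt_top.mpr ((Cardinal.toNat_ne_zero.mp ?_).2)))
  exact fun h0 ↦ residueDegree_ne_zero_of_delta_eq f hδ x h ((residueDegree_eq_finrank f x).symm.trans h0)

theorem sheafFun_push [IsProper f] [IsLocallyNoetherian X] {δX : X → ℤ} {δY : Y → ℤ}
    (hX : Cyc.IsDimFun X δX) (hδ : Cyc.DeltaCompat f δX δY) (k : ℤ) (F : X.Modules)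
    (hF : Coh.IsCoh F)
    (hdim : ∀ x : X, Nontrivial (F.presheaf.stalk x) → δX x ≤ k) (α : AlgebraicCycle X ℤ)
    (hα : ⇑α = Cyc.sheafFun δX k F) :
    ⇑(AlgebraicCycle.map f δX δY α) = Cyc.sheafFun δY k ((Coh.push f).obj F) := by
  classical
  funext y
  by_cases hy : δY y = k
  swap
  · rw [map_apply, finsum_mem_of_eqOn_zero, Cyc.sheafFun, if_neg hy]
    intro x hx
    simp only [Pi.zero_apply]
    by_cases hxk : δX x = k
    · have e : f x = y := hx
      rw [AlgebraicCycle.mapCoeff, if_neg (fun hh ↦ hy (by rw [← e, ← hh, hxk])), Nat.cast_zero, mul_zero]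
    · rw [hα, Cyc.sheafFun, if_neg hxk, zero_mul]
  let T : Set X := {x | Nontrivial (F.presheaf.stalk x)}
  have hT : IsClosed T := isClosed_nontrivial hF
  have hk : ∀ x ∈ T, f x = y → δX x = k := fun x hx e ↦ le_antisymm (hdim x hx) (by
    have := delta_le' f hδ x; rw [e, hy] at this; exact this)
  have hmax : ∀ x ∈ T, f x = y → ∀ z ∈ T, z ⤳ x → z = x := fun x hx e z hz h ↦ by
    by_contra hne
    have := (hX z x h hne).1
    have := hk x hx e
    have := hdim z hz
    omega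
  have hlen : ∀ x ∈ T, f x = y → Module.length (X.presheaf.stalk x) (F.presheaf.stalk x) ≠ ⊤ := fun x hx e ↦
    length_stalk_ne_top hF x (hmax x hx e)
  have hmem : ∀ x ∈ T, f x = y → α x ≠ 0 := fun x hx e ↦ by
    have : Nontrivial (F.presheaf.stalk x) := hx
    rw [hα, Cyc.sheafFun, if_pos (hk x hx e)]
    exact_mod_cast (ENat.toNat_pos (ne_of_gt Module.length_pos) (hlen x hx e)).ne'
  have hfs : {x | x ∈ T ∧ f x = y}.Finite := (finite_fibre_inter_support f α y).subset fun x hx ↦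
    ⟨hx.2, hmem x hx.1 hx.2⟩
  let s := hfs.toFinset
  have hs : ∀ x, x ∈ s ↔ x ∈ T ∧ f x = y := fun x ↦ hfs.mem_toFinset
  have hW : ∀ x : s, ∃ W : X.Opens, x.1 ∈ W ∧ (W : Set X) ∩ T ⊆ closure {x.1} := fun x ↦
    exists_open_inter_subset_closure T hT x.1 (hmax x.1 ((hs _).mp x.2).1 ((hs _).mp x.2).2)
  choose W hxW hWc using hW
  let C : X → Set X := fun x ↦ ⋃ x' ∈ (s : Set X) \ {x}, closure {x'}
  have hC : ∀ x, IsClosed (C x) := fun x ↦
    (s.finite_toSet.subset Set.diff_subset).isClosed_biUnion fun _ _ ↦ isClosed_closure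
  let W' : X → X.Opens := fun x ↦
    (if h : x ∈ s then W ⟨x, h⟩ else ⊥) ⊓ ⟨(C x)ᶜ, (hC x).isOpen_compl⟩
  have hxW' : ∀ x ∈ s, x ∈ W' x := by
    intro x hx
    refine ⟨by rw [dif_pos hx]; exact hxW ⟨x, hx⟩, ?_⟩
    intro hh
    obtain ⟨x', hx', hxx'⟩ := Set.mem_iUnion₂.mp hh
    exact hx'.2 (hmax x ((hs x).mp hx).1 ((hs x).mp hx).2 x' ((hs x').mp hx'.1).1
      (specializes_iff_mem_closure.mpr hxx'))
  have hdisj : ∀ x ∈ s, ∀ x' ∈ s, x ≠ x' → ∀ z ∈ W' x, z ∈ W' x' → z ∉ T := by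
    intro x hx x' hx' hne z hz hz' hzT
    have h1 := hz.1
    rw [dif_pos hx] at h1
    exact hz'.2 (Set.mem_biUnion ⟨hx, hne⟩ (hWc ⟨x, hx⟩ ⟨h1, hzT⟩))
  have hbij := pushGerm_bijective f f.isClosedMap F T hT (fun z hz ↦ not_nontrivial_iff_subsingleton.mp hz)
    y s hs W' hxW' hdisj
  letI : ∀ x : s, Module (Y.presheaf.stalk y) (F.presheaf.stalk x.1) := fun x ↦
    Module.compHom _ (stalkTo f y x.1 ((hs x.1).mp x.2).2)
  let l : ((Coh.push f).obj F).presheaf.stalk y →ₗ[Y.presheaf.stalk y] ∀ x : s, F.presheaf.stalk x.1 :=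
    { toFun := fun m x ↦ pushGerm f F y x.1 ((hs x.1).mp x.2).2 m
      map_add' := fun a b ↦ funext fun x ↦ map_add _ a b
      map_smul' := fun r m ↦ funext fun x ↦ pushGerm_smul f F y x.1 _ r m }
  rw [map_apply_finset f δX δY α y s (fun x hx ↦ ((hs x).mp hx).2) (fun x hx hne ↦ (hs x).mpr ⟨?_, hx⟩),
    Cyc.sheafFun, if_pos hy, (LinearEquiv.ofBijective l hbij).length_eq,
    Module.length_pi_of_fintype, ENat.toNat_sum, Nat.cast_sum, ← Finset.sum_coe_sort]
  rotate_left
  · intro x _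
    exact length_stalkTo_ne_top f hδ F y x.1 _ ((hk x.1 ((hs _).mp x.2).1 ((hs _).mp x.2).2).trans hy.symm)
      (hlen x.1 ((hs _).mp x.2).1 ((hs _).mp x.2).2)
  · by_contra hxT
    refine hne ?_
    rw [hα, Cyc.sheafFun, Module.length_eq_zero_iff.mpr (not_nontrivial_iff_subsingleton.mp hxT)]
    split_ifs <;> rfl
  refine Finset.sum_congr rfl fun x _ ↦ ?_
  have hxk := hk x.1 ((hs _).mp x.2).1 ((hs _).mp x.2).2
  rw [length_stalkTo f F y x.1, Nat.cast_mul, hα, Cyc.sheafFun, if_pos hxk, AlgebraicCycle.mapCoeff,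
    if_pos]
  rw [hxk, ((hs _).mp x.2).2, hy]

end Groth.Agent.CycLib28
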