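import Mathlib
import Groth.Prelude.Def_Cyc
import Groth.Agent.DimLib.Morphism
import Groth.Agent.CurveLib.ProjLine
import Groth.Agent.NeronLib.ProjLine
import Groth.Agent.Coherent.DevissageIdeal
import Groth.Agent.AlgSpLib.DimFun
import Groth.Agent.EGA43.RectDepthJacobson

/-!
# The graph of a rational function on a curve
-/

universe u

open CategoryTheory CategoryTheory.Limits AlgebraicGeometry IsLocalRing MvPolynomial

namespace Groth.Agent.CycLib28

variable {k : Type u} [Field k]

instance subsingleton_specField : Subsingleton ↥(Spec (CommRingCat.of k)) :=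
  inferInstanceAs (Subsingleton (PrimeSpectrum k))

theorem ptDim_id (z : ↥(Spec (CommRingCat.of k))) : DimLib.ptDim (𝟙 (Spec (CommRingCat.of k))) z = 0 :=
  (DimLib.ptDim_eq_zero_iff _ z).2 (by
    rw [Set.eq_univ_of_forall (s := ({z} : Set ↥(Spec (CommRingCat.of k)))) (fun w => Subsingleton.elim _ _)]
    exact isClosed_univ)

theorem deltaCompat_ptDim {W W' : Scheme.{u}} (g : W' ⟶ W) (w : W ⟶ Spec (CommRingCat.of k))
    (w' : W' ⟶ Spec (CommRingCat.of k)) (e : g ≫ w = w') [LocallyOfFiniteType w'] :
    Cyc.DeltaCompat g (fun x ↦ (DimLib.ptDim w' x : ℤ)) (fun x ↦ (DimLib.ptDim w x : ℤ)) := by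
  subst e
  intro x
  have h := DimLib.trdeg_baseRingHom_lt (g ≫ w) x
  rw [DimLib.baseRingHom_comp] at h
  refine ⟨DimLib.trdegHom (g.residueFieldMap x).hom,
    (Cardinal.cast_toNat_of_lt_aleph0 (DimLib.trdeg_lt_of_comp _ _ h).2).symm, ?_⟩
  simp only
  rw [DimLib.ptDim_comp w g x, Nat.cast_add]

theorem deltaCompat_ptDim_base {W : Scheme.{u}} (w : W ⟶ Spec (CommRingCat.of k)) [LocallyOfFiniteType w] :
    Cyc.DeltaCompat w (fun x ↦ (DimLib.ptDim w x : ℤ)) (fun _ ↦ 0) := by
  intro x
  obtain ⟨n, h1, h2⟩ := deltaCompat_ptDim w (𝟙 _) w (Category.comp_id w) x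
  refine ⟨n, h1, ?_⟩
  simp only [ptDim_id, Nat.cast_zero] at h2
  exact h2

theorem delta_eq_ptDim {W : Scheme.{u}} (w : W ⟶ Spec (CommRingCat.of k)) [LocallyOfFiniteType w]
    {δ : W → ℤ} (hδ : Cyc.DeltaCompat w δ (fun _ ↦ 0)) : δ = fun x ↦ (DimLib.ptDim w x : ℤ) := by
  funext x
  obtain ⟨n, h1, h2⟩ := hδ x
  obtain ⟨m, h3, h4⟩ := deltaCompat_ptDim_base w x
  have e : (n : Cardinal) = m := h1.symm.trans h3
  have e' : n = m := by exact_mod_cast e
  simp only at h2 h4 ⊢
  omega

theorem isSetup_specField (k : Type u) [Field k] :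
    Cyc.IsSetup (Spec (CommRingCat.of k)) (fun _ ↦ 0) := by
  refine ⟨inferInstance, fun s ↦ ?_, fun x y _ hne ↦ absurd (Subsingleton.elim x y) hne⟩
  refine EGA43.RectDepth.isUniversallyCatenary_stalk (fun t ↦ ?_) s
  have : t = genericPoint (Spec (CommRingCat.of k)) := Subsingleton.elim _ _
  subst this
  exact inferInstanceAs (IsRegularLocalRing (Spec (CommRingCat.of k)).functionField)

theorem isDimFun_ptDim {W : Scheme.{u}} (w : W ⟶ Spec (CommRingCat.of k)) [LocallyOfFiniteType w] :
    Cyc.IsDimFun W (fun x ↦ (DimLib.ptDim w x : ℤ)) :=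
  AlgSpLib.isDimFun_of_deltaCompat w (isSetup_specField k) (deltaCompat_ptDim_base w)

theorem eq_of_fromSpec {X : Scheme.{u}} {y η : X} (v : X.residueField y ⟶ X.residueField η)
    (h : Spec.map v ≫ X.fromSpecResidueField y = X.fromSpecResidueField η) :
    y = η ∧ Function.Bijective v ∧
      ∀ (δ : X → ℤ) (a : X.residueField y), Cyc.divFun δ y a = Cyc.divFun δ η (v a) := by
  have hy : y = η := by
    have h1 := congrArg (fun m => m (closedPoint (X.residueField η))) h
    simp only [Scheme.Hom.comp_apply, Scheme.fromSpecResidueField_apply] at h1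
    exact h1
  subst hy
  have hv : v = 𝟙 _ := Spec.map_injective (by rw [← cancel_mono (X.fromSpecResidueField y), h, Spec.map_id, Category.id_comp])
  subst hv
  exact ⟨rfl, Function.bijective_id, fun _ _ ↦ rfl⟩

variable (k)

/-- The polynomial ring of the affine line. -/
noncomputable abbrev lineRing : CommRingCat.{u} := CommRingCat.of (MvPolynomial PUnit.{u + 1} k)

/-- The generic point of the affine line. -/
noncomputable def p₀ : ↥(Spec (lineRing k)) := (⟨⊥, Ideal.isPrime_bot⟩ : PrimeSpectrum (MvPolynomial PUnit.{u + 1} k))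

instance : IsIso ((NeronLib.chart k 0).residueFieldMap (p₀ k)) :=
  DimLib.isIso_residueFieldMap_of_isPreimmersion _ _

/-- The coordinate function of the projective line. -/
noncomputable def coordFun : (CohB1.ProjSpace 1 k).residueField (NeronLib.chart k 0 (p₀ k)) :=
  inv ((NeronLib.chart k 0).residueFieldMap (p₀ k))
    ((Scheme.Spec.residueFieldIso (lineRing k) (p₀ k)).inv
      (algebraMap (lineRing k) ((p₀ k).asIdeal.ResidueField) (X PUnit.unit)))

variable {k} {L : Type u} [Field L] (ρ : k →+* L) (f : L)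

/-- Evaluation at `f`. -/
noncomputable def evalHom : MvPolynomial PUnit.{u + 1} k →+* L := eval₂Hom ρ fun _ ↦ f

theorem evalHom_injective (hf : letI := ρ.toAlgebra; Transcendental k f) : Function.Injective (evalHom ρ f) := by
  letI := ρ.toAlgebra
  have h : AlgebraicIndependent k (fun _ : PUnit.{u + 1} ↦ f) :=
    algebraicIndependent_unique_type_iff.mpr hf
  exact h

theorem closedPoint_evalHom (hf : letI := ρ.toAlgebra; Transcendental k f) :
    Spec.map (CommRingCat.ofHom (evalHom ρ f)) (closedPoint L) = p₀ k := by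
  refine PrimeSpectrum.ext ?_
  change Ideal.comap (evalHom ρ f) (maximalIdeal L) = ⊥
  rw [maximalIdeal_eq_bot, ← RingHom.ker_eq_comap_bot]
  exact (RingHom.injective_iff_ker_eq_bot _).mp (evalHom_injective ρ f hf)

theorem line_residue (v : (CohB1.ProjSpace 1 k).residueField (NeronLib.chart k 0 (p₀ k)) ⟶ CommRingCat.of L)
    (h : Spec.map v ≫ (CohB1.ProjSpace 1 k).fromSpecResidueField _ =
      Spec.map (CommRingCat.ofHom (evalHom ρ f)) ≫ NeronLib.chart k 0) :
    v (coordFun k) = f ∧ (letI := ρ.toAlgebra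
      Set.range v = (IntermediateField.adjoin k ({f} : Set L) : Set L)) := by
  letI := ρ.toAlgebra
  let r := (NeronLib.chart k 0).residueFieldMap (p₀ k)
  let v' := inv r ≫ v
  have hv' : Spec.map v' ≫ (Spec (lineRing k)).fromSpecResidueField (p₀ k) =
      Spec.map (CommRingCat.ofHom (evalHom ρ f)) := by
    rw [← cancel_mono (NeronLib.chart k 0), Category.assoc,
      ← Scheme.Hom.SpecMap_residueFieldMap_fromSpecResidueField, ← Spec.map_comp_assoc, ← h]
    simp [v', r]
  let j := (Scheme.Spec.residueFieldIso (lineRing k) (p₀ k)).inv ≫ v'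
  have hj : CommRingCat.ofHom (algebraMap (lineRing k) ((p₀ k).asIdeal.ResidueField)) ≫ j =
      CommRingCat.ofHom (evalHom ρ f) := by
    apply Spec.map_injective
    simp only [j, Spec.map_comp, Category.assoc]
    rw [Scheme.Spec.map_residueFieldIso_inv_eq_fromSpecResidueField]
    exact hv'
  have hj' : ∀ a, j (algebraMap (lineRing k) ((p₀ k).asIdeal.ResidueField) a) = evalHom ρ f a := fun a ↦
    ConcreteCategory.congr_hom hj a
  refine ⟨?_, Set.Subset.antisymm ?_ ?_⟩
  · refine Eq.trans ?_ ((hj' (X PUnit.unit)).trans (eval₂Hom_X' _ _ _))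
    rfl
  · rintro _ ⟨z, rfl⟩
    have hz : v z = j ((Scheme.Spec.residueFieldIso (lineRing k) (p₀ k)).hom (r z)) := by
      simp [j, v']
    rw [hz]
    generalize (Scheme.Spec.residueFieldIso (lineRing k) (p₀ k)).hom (r z) = q
    obtain ⟨a, b, -, rfl⟩ := IsFractionRing.div_surjective (A := lineRing k ⧸ (p₀ k).asIdeal) q
    obtain ⟨a, rfl⟩ := Ideal.Quotient.mk_surjective a
    obtain ⟨b, rfl⟩ := Ideal.Quotient.mk_surjective b
    rw [Ideal.algebraMap_quotient_residueField_mk, Ideal.algebraMap_quotient_residueField_mk, map_div₀, hj', hj']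
    have hmem : ∀ p : MvPolynomial PUnit.{u + 1} k, evalHom ρ f p ∈ IntermediateField.adjoin k ({f} : Set L) := by
      intro p
      induction p using MvPolynomial.induction_on with
      | C c => rw [evalHom, eval₂Hom_C]; exact IntermediateField.algebraMap_mem _ c
      | add p q hp hq => rw [map_add]; exact add_mem hp hq
      | mul_X p i hp =>
        rw [map_mul]
        refine mul_mem hp ?_
        rw [evalHom, eval₂Hom_X']
        exact IntermediateField.mem_adjoin_simple_self k f
    exact div_mem (hmem a) (hmem b)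
  · intro z hz
    let F : IntermediateField k L := v.hom.fieldRange.toIntermediateField fun c ↦ by
          refine ⟨inv r ((Scheme.Spec.residueFieldIso (lineRing k) (p₀ k)).inv (algebraMap (lineRing k) ((p₀ k).asIdeal.ResidueField) (C c : MvPolynomial PUnit.{u + 1} k))), ?_⟩
          refine Eq.trans ?_ ((hj' (C c)).trans (eval₂Hom_C _ _ _))
          rfl
    have hle : IntermediateField.adjoin k ({f} : Set L) ≤ F :=
      IntermediateField.adjoin_le_iff.mpr (Set.singleton_subset_iff.mpr
        ⟨coordFun k, Eq.trans (by rfl) ((hj' (X PUnit.unit)).trans (eval₂Hom_X' _ _ _))⟩)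
    obtain ⟨a, ha⟩ := hle hz
    exact ⟨a, ha⟩

theorem exists_graph {X P : Scheme.{u}} [IsIntegral X] (c : X ⟶ Spec (CommRingCat.of k)) [IsProper c]
    (π₀ : P ⟶ Spec (CommRingCat.of k)) [IsProper π₀] (m : Spec (X.residueField (genericPoint X)) ⟶ P)
    (hm : m ≫ π₀ = X.fromSpecResidueField (genericPoint X) ≫ c) :
    ∃ (W : Scheme.{u}) (_ : IsIntegral W) (π : W ⟶ X) (q : W ⟶ P) (_ : IsProper π) (_ : IsProper q)
      (v : W.residueField (genericPoint W) ⟶ X.residueField (genericPoint X)),
      π ≫ c = q ≫ π₀ ∧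
      (Spec.map v ≫ W.fromSpecResidueField (genericPoint W)) ≫ π = X.fromSpecResidueField (genericPoint X) ∧
      (Spec.map v ≫ W.fromSpecResidueField (genericPoint W)) ≫ q = m := by
  let g := pullback.lift (X.fromSpecResidueField (genericPoint X)) m hm.symm
  obtain ⟨z, hz⟩ : ∃ z, g (closedPoint _) = z := ⟨_, rfl⟩
  obtain ⟨u, hu⟩ := ValCritLib.exists_residue_factor (K := X.residueField (genericPoint X)) g z hz
  let ι := (AssSch12.clI z).subschemeι
  have hgen : ι (genericPoint (AssSch12.clI z).subscheme) = z := by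
    obtain ⟨w, hw⟩ : z ∈ Set.range ι := by rw [Coherent.range_clι]; exact subset_closure rfl
    refine (Specializes.antisymm ?_ ?_).eq
    · exact ((genericPoint_specializes w).map ι.continuous).trans (specializes_of_eq hw)
    · rw [specializes_iff_mem_closure, ← Coherent.range_clι]
      exact ⟨_, rfl⟩
  haveI := DimLib.isIso_residueFieldMap_of_isPreimmersion ι (genericPoint (AssSch12.clI z).subscheme)
  let v := inv (ι.residueFieldMap (genericPoint (AssSch12.clI z).subscheme)) ≫
    ((pullback c π₀).residueFieldCongr hgen).hom ≫ u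
  have hv : (Spec.map v ≫ (AssSch12.clI z).subscheme.fromSpecResidueField _) ≫ ι = g := by
    rw [Category.assoc, ← Scheme.Hom.SpecMap_residueFieldMap_fromSpecResidueField, ← Spec.map_comp_assoc]
    simp only [v, IsIso.hom_inv_id_assoc, Spec.map_comp, Category.assoc]
    rw [Scheme.residueFieldCongr_fromSpecResidueField]
    exact hu
  refine ⟨(AssSch12.clI z).subscheme, inferInstance, ι ≫ pullback.fst c π₀, ι ≫ pullback.snd c π₀,
    inferInstance, inferInstance, v, by simp [pullback.condition], ?_, ?_⟩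
  · rw [← Category.assoc, hv]
    exact pullback.lift_fst _ _ _
  · rw [← Category.assoc, hv]
    exact pullback.lift_snd _ _ _

end Groth.Agent.CycLib28
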