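import Mathlib
import Groth.Prelude.Def_Cyc
import Groth.Agent.CycLim28.Fibre

/-!
# Flat pullback of cycles: coefficients
-/

universe u

open CategoryTheory AlgebraicGeometry IsLocalRing Groth.Agent.CycLim28 TensorProduct

namespace Groth.Agent.CycLib28

variable {X Y Z : Scheme.{u}} (f : X ⟶ Y) (g : Y ⟶ Z)

/-- length of the local ring of the fibre -/
noncomputable def lenFibre (x : X) : ℕ∞ :=
  Module.length (X.presheaf.stalk x) (X.presheaf.stalk x ⧸
    Ideal.map (f.stalkMap x).hom (maximalIdeal (Y.presheaf.stalk (f x))))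

theorem lenFibre_eq_top {x : X} (hx : ¬ GenInFibre f x) : lenFibre f x = ⊤ := by
  by_contra hne
  set J := Ideal.map (f.stalkMap x).hom (maximalIdeal (Y.presheaf.stalk (f x)))
  have h1 : IsFiniteLength (X.presheaf.stalk x) (X.presheaf.stalk x ⧸ J) :=
    Module.length_ne_top_iff.mp hne
  rw [isFiniteLength_iff_isNoetherian_isArtinian] at h1
  have := h1.2
  have : IsArtinianRing (X.presheaf.stalk x ⧸ J) :=
    isArtinian_of_tower (X.presheaf.stalk x) h1.2
  refine hx fun y hy hyx ↦ ?_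
  obtain ⟨q, rfl⟩ := exists_fromSpecStalk_eq hyx
  have hq := (map_maximalIdeal_le_iff f x q).mpr hy
  let Q : Ideal (X.presheaf.stalk x ⧸ J) := q.asIdeal.map (Ideal.Quotient.mk J)
  have : Q.IsPrime := Ideal.map_isPrime_of_surjective Ideal.Quotient.mk_surjective
    (by rwa [Ideal.mk_ker])
  have hm : Q.IsMaximal := IsArtinianRing.isMaximal_of_isPrime Q
  have hqm : q.asIdeal.IsMaximal := by
    have h2 := Ideal.comap_isMaximal_of_surjective (Ideal.Quotient.mk J) Ideal.Quotient.mk_surjective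
      (K := Q)
    rwa [Ideal.comap_map_of_surjective _ Ideal.Quotient.mk_surjective, ← RingHom.ker_eq_comap_bot,
      Ideal.mk_ker, sup_eq_left.mpr hq] at h2
  have : q = closedPoint _ := PrimeSpectrum.ext (IsLocalRing.eq_maximalIdeal hqm)
  rw [this, Scheme.fromSpecStalk_closedPoint]

theorem pullFun_eq (δX : X → ℤ) (δY : Y → ℤ) (c : ℤ)
    (hc : ∀ x, GenInFibre f x → δX x = δY (f x) + c) (α : Y → ℤ) (x : X) :
    Cyc.pullFun f δX δY c α x = α (f x) * ((lenFibre f x).toNat : ℤ) := by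
  rw [Cyc.pullFun]
  split_ifs with h
  · rfl
  · rw [lenFibre_eq_top f fun hg ↦ h (hc x hg)]
    simp

theorem GenInFibre.of_comp {x : X} (h : GenInFibre (f ≫ g) x) [Flat f] :
    GenInFibre f x ∧ GenInFibre g (f x) := by
  refine ⟨fun y hy hyx ↦ h y (by simp [hy]) hyx, fun w hw hwx ↦ ?_⟩
  obtain ⟨y, hyx, rfl⟩ := exists_specializes_of_flat f hwx
  rw [h y (by simp [hw]) hyx]

theorem GenInFibre.comp {x : X} (hf : GenInFibre f x) (hg : GenInFibre g (f x)) :
    GenInFibre (f ≫ g) x :=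
  fun y hy hyx ↦ hf y (hg (f y) (by simpa using hy) (hyx.map f.continuous)) hyx

theorem lenFibre_comp [Flat f] (x : X) :
    lenFibre (f ≫ g) x = lenFibre g (f x) * lenFibre f x := by
  algebraize [(f.stalkMap x).hom]
  have : Module.Flat (Y.presheaf.stalk (f x)) (X.presheaf.stalk x) := Flat.stalkMap f x
  have : IsLocalHom (algebraMap (Y.presheaf.stalk (f x)) (X.presheaf.stalk x)) :=
    inferInstanceAs (IsLocalHom (f.stalkMap x).hom)
  let J := Ideal.map (g.stalkMap (f x)).hom (maximalIdeal (Z.presheaf.stalk (g (f x))))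
  have key := IsLocalRing.length_baseChange (Y.presheaf.stalk (f x)) (X.presheaf.stalk x)
    (Y.presheaf.stalk (f x) ⧸ J)
  rw [← (Algebra.TensorProduct.quotIdealMapEquivTensorQuot (X.presheaf.stalk x) J).toLinearEquiv.length_eq]
    at key
  have hJ : J.map (algebraMap (Y.presheaf.stalk (f x)) (X.presheaf.stalk x)) =
      Ideal.map ((f ≫ g).stalkMap x).hom (maximalIdeal (Z.presheaf.stalk ((f ≫ g) x))) := by
    rw [Ideal.map_map, Scheme.Hom.stalkMap_comp]
    rfl
  rw [hJ] at key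
  exact key

theorem pullFun_comp [Flat f] (δX : X → ℤ) (δY : Y → ℤ) (δZ : Z → ℤ) (c c' : ℤ)
    (hf : ∀ x, GenInFibre f x → δX x = δY (f x) + c)
    (hg : ∀ y, GenInFibre g y → δY y = δZ (g y) + c') (α : Z → ℤ) :
    (∀ x, GenInFibre (f ≫ g) x → δX x = δZ ((f ≫ g) x) + (c + c')) ∧
      Cyc.pullFun f δX δY c (Cyc.pullFun g δY δZ c' α) = Cyc.pullFun (f ≫ g) δX δZ (c + c') α := by
  have h0 : ∀ x, GenInFibre (f ≫ g) x → δX x = δZ ((f ≫ g) x) + (c + c') := fun x hx ↦ by
    obtain ⟨h1, h2⟩ := GenInFibre.of_comp f g hx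
    rw [hf x h1, hg _ h2]
    simp only [Scheme.Hom.comp_apply]
    ring
  refine ⟨h0, funext fun x ↦ ?_⟩
  rw [pullFun_eq f δX δY c hf, pullFun_eq g δY δZ c' hg, pullFun_eq (f ≫ g) δX δZ _ h0,
    lenFibre_comp, ENat.toNat_mul, Scheme.Hom.comp_apply]
  push_cast
  ring

end Groth.Agent.CycLib28
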