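import Mathlib
import Groth.Prelude.Def_Cyc
import Groth.Agent.CycLib28.Flat
import Groth.Agent.CycLib28.DimFun
import Groth.Agent.FlatMor12.RelDimComp
import Groth.Agent.EGA43.DimFormula.Points

/-!
# Relative dimension and dimension functions
-/

universe u

open CategoryTheory AlgebraicGeometry IsLocalRing Groth.Agent.CycLim28 Groth.Agent

namespace Groth.Agent.CycLib28

variable {X Y Z : Scheme.{u}} (f : X ⟶ Y) (g : Y ⟶ Z)

theorem genInFibre_iff_isFibreMax (x : X) : GenInFibre f x ↔ FlatMor12.IsFibreMax f x :=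
  ⟨fun h w hw hf ↦ (h w hf hw).symm, fun h w hf hw ↦ (h w hw hf).symm⟩

theorem DeltaCompat.eq {δX : X → ℤ} {δY : Y → ℤ} (h : Cyc.DeltaCompat f δX δY) (x : X) :
    δX x = δY (f x) + (DimLib.trdegHom (f.residueFieldMap x).hom : ℤ) := by
  obtain ⟨n, hn, hx⟩ := h x
  rw [hx, DimLib.trdegHom, hn, Cardinal.toNat_natCast]

theorem delta_le {δX : X → ℤ} {δY : Y → ℤ} (h : Cyc.DeltaCompat f δX δY) (x : X) :
    δY (f x) ≤ δX x := by
  rw [DeltaCompat.eq f h x]; omega

theorem delta_of_hasRelDim [LocallyOfFiniteType f] {r : ℕ} (hr : Cyc.HasRelDim f r)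
    {δX : X → ℤ} {δY : Y → ℤ} (h : Cyc.DeltaCompat f δX δY) (x : X) (hx : GenInFibre f x) :
    δX x = δY (f x) + (r : ℤ) := by
  rw [DeltaCompat.eq f h x,
    (FlatMor12.hasRelDim_iff f r).mp hr x ((genInFibre_iff_isFibreMax f x).mp hx)]

theorem hasRelDim_comp [Flat f] [LocallyOfFiniteType f] [LocallyOfFiniteType g] {r s : ℕ}
    (hr : Cyc.HasRelDim f r) (hs : Cyc.HasRelDim g s) : Cyc.HasRelDim (f ≫ g) (r + s) := by
  rw [FlatMor12.hasRelDim_iff]
  intro η hη
  obtain ⟨h1, h2⟩ := GenInFibre.of_comp f g ((genInFibre_iff_isFibreMax _ η).mpr hη)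
  rw [FlatMor12.trdegHom_comp_residueFieldMap,
    (FlatMor12.hasRelDim_iff f r).mp hr η ((genInFibre_iff_isFibreMax _ η).mp h1),
    (FlatMor12.hasRelDim_iff g s).mp hs _ ((genInFibre_iff_isFibreMax _ _).mp h2), add_comm]

/-- the induced function along a morphism locally of finite type is a dimension function -/
theorem isDimFun_of_deltaCompat {S : Scheme.{u}} [IsLocallyNoetherian S] (f : X ⟶ S)
    [LocallyOfFiniteType f] {δ : S → ℤ}
    (hS : ∀ s : S, CAlg.IsUniversallyCatenary (S.presheaf.stalk s)) (hδ : Cyc.IsDimFun S δ)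
    {δX : X → ℤ} (h : Cyc.DeltaCompat f δX δ) : Cyc.IsDimFun X δX := by
  intro a b hab hne
  obtain ⟨P, rfl⟩ := exists_fromSpecStalk_eq hab
  have hf : f (X.fromSpecStalk b P) =
      S.fromSpecStalk (f b) (PrimeSpectrum.comap (f.stalkMap b).hom P) := apply_fromSpecStalk f b P
  have hpf := (EGA43.DimFormula.point_formula f b P).2 (hS (f b))
  have hdim : ringKrullDim (S.presheaf.stalk (f b) ⧸ P.asIdeal.comap (f.stalkMap b).hom) =
      ((δ (f (X.fromSpecStalk b P)) - δ (f b)).toNat : WithBot ℕ∞) := by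
    rw [hf]
    exact dim_quotient hδ (f b) (PrimeSpectrum.comap (f.stalkMap b).hom P)
  rw [hdim, show EGA43.DimFormula.toPt b P = X.fromSpecStalk b P from rfl] at hpf
  have h1 := DeltaCompat.eq f h (X.fromSpecStalk b P)
  have h2 := DeltaCompat.eq f h b
  have h3 := le_of_specializes hδ (hab.map f.continuous)
  have : IsLocallyNoetherian X := LocallyOfFiniteType.isLocallyNoetherian f
  obtain ⟨d, hd⟩ := EGA43.DimFormula.ringKrullDim_quotient_lt_top b P.asIdeal P.2.ne_top
  rw [hd] at hpf
  have hd' : (d : ℤ) = δX (X.fromSpecStalk b P) - δX b := by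
    have h4 : d + DimLib.trdegHom (f.residueFieldMap b).hom =
        (δ (f (X.fromSpecStalk b P)) - δ (f b)).toNat +
          DimLib.trdegHom (f.residueFieldMap (X.fromSpecStalk b P)).hom := by exact_mod_cast hpf
    omega
  have hPne : P ≠ closedPoint _ := fun e ↦ hne (by rw [e, Scheme.fromSpecStalk_closedPoint])
  have hnemax : P.asIdeal ≠ maximalIdeal _ := fun e ↦ hPne (PrimeSpectrum.ext e)
  refine ⟨?_, fun himm ↦ ?_⟩
  · have hpos : d ≠ 0 := fun h0 ↦ by
      have : Ring.KrullDimLE 0 (X.presheaf.stalk b ⧸ P.asIdeal) := by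
        rw [Ring.krullDimLE_iff, hd, h0]
      exact hnemax (IsLocalRing.eq_maximalIdeal (Ideal.Quotient.maximal_of_isField _
        (Ring.KrullDimLE.isField_of_isDomain)))
    omega
  · have hle : d ≤ 1 := by
      have hle' : ringKrullDim (X.presheaf.stalk b ⧸ P.asIdeal) ≤ (1 : ℕ) := by
        rw [ringKrullDim, Order.krullDim_eq_of_orderIso
          (P.asIdeal.primeSpectrumQuotientOrderIsoZeroLocus)]
        refine iSup_le fun s ↦ ?_
        by_contra hh
        push Not at hh
        have h2 : 2 ≤ s.length := by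
          have : 1 < s.length := by exact_mod_cast hh
          omega
        have a1 := s.strictMono (show (⟨0, by omega⟩ : Fin (s.length + 1)) < ⟨1, by omega⟩ from Fin.mk_lt_mk.mpr (by omega))
        have a2 := s.strictMono (show (⟨1, by omega⟩ : Fin (s.length + 1)) < ⟨2, by omega⟩ from Fin.mk_lt_mk.mpr (by omega))
        have b1 : P < (s ⟨1, by omega⟩).1 := lt_of_le_of_lt (s ⟨0, by omega⟩).2 a1
        rcases himm (X.fromSpecStalk b (s ⟨1, by omega⟩).1)
          ((specializes_iff_le b _ _).mpr b1.le) (fromSpecStalk_specializes b _) with e | e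
        · exact b1.ne (fromSpecStalk_injective b e).symm
        · have e' := fromSpecStalk_injective b (e.trans Scheme.fromSpecStalk_closedPoint.symm)
          have b2 : (s ⟨1, by omega⟩).1 < (s ⟨2, by omega⟩).1 := a2
          exact absurd (IsLocalRing.le_maximalIdeal (s ⟨2, by omega⟩).1.2.ne_top)
            ((show maximalIdeal _ < (s ⟨2, by omega⟩).1.asIdeal from by
              rw [e'] at b2; exact b2).not_ge)
      rw [hd] at hle'
      exact_mod_cast hle'
    have hpos : d ≠ 0 := fun h0 ↦ by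
      have : Ring.KrullDimLE 0 (X.presheaf.stalk b ⧸ P.asIdeal) := by
        rw [Ring.krullDimLE_iff, hd, h0]
      exact hnemax (IsLocalRing.eq_maximalIdeal (Ideal.Quotient.maximal_of_isField _
        (Ring.KrullDimLE.isField_of_isDomain)))
    omega

end Groth.Agent.CycLib28
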