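import Mathlib
import Groth.Agent.AlgSpLib.DiscreteFibres
import Groth.Agent.EGA43.FibDepth.Points
import Groth.Agent.CycLib28.RelDim

/-!
# Proper morphisms are finite near fibres of dimension zero
-/

universe u

open CategoryTheory CategoryTheory.Limits AlgebraicGeometry TopologicalSpace Groth.Agent

namespace Groth.Agent.CycLib28

variable {X Y : Scheme.{u}}

theorem quasiFiniteAt_of_trdeg_zero (f : X ⟶ Y) [LocallyOfFiniteType f] (y : Y)
    (h : ∀ x, f x = y → DimLib.trdegHom (f.residueFieldMap x).hom = 0) (x : X) (hx : f x = y) :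
    f.QuasiFiniteAt x := by
  subst hx
  rw [Scheme.Hom.quasiFiniteAt_iff_isOpen_singleton_asFiber]
  have : LocallyOfFiniteType (f.fiberToSpecResidueField (f x)) :=
    inferInstanceAs (LocallyOfFiniteType (pullback.snd f (Y.fromSpecResidueField (f x))))
  have hd : DiscreteTopology ↥(f.fiber (f x)) := AlgSpLib.discreteTopology_of_isClosed_points
    (k := Y.residueField (f x)) (f.fiberToSpecResidueField (f x)) fun z ↦ by
      refine (DimLib.ptDim_eq_zero_iff (k := Y.residueField (f x)) (f.fiberToSpecResidueField (f x)) z).1 ?_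
      rw [EGA43.FibDepth.ptDim_fiber f (f x) z]
      exact h _ ((f.range_fiberι (f x)).le ⟨z, rfl⟩)
  exact isOpen_discrete _

theorem isOpen_singleton_fibre (f : X ⟶ Y) [LocallyOfFiniteType f] (x : X) (w : Y) (e : f x = w)
    (z : ↥(f.fiber w)) (hz : f.fiberι w z = x) (hq : f.QuasiFiniteAt x) : IsOpen ({z} : Set ↥(f.fiber w)) := by
  subst e
  rw [Scheme.Hom.quasiFiniteAt_iff_isOpen_singleton_asFiber] at hq
  rwa [show f.asFiber x = z from (f.fiberι _).isEmbedding.injective ((f.fiberι_asFiber x).trans hz.symm)] at hq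

theorem finite_near_of_trdeg_zero (f : X ⟶ Y) [IsProper f] (y : Y)
    (h : ∀ x, f x = y → DimLib.trdegHom (f.residueFieldMap x).hom = 0) :
    ∃ V : Y.Opens, y ∈ V ∧ IsFinite (f ∣_ V) := by
  let C : Set Y := f '' (f.quasiFiniteLocus : Set X)ᶜ
  have hC : IsClosed C := f.isClosedMap _ f.quasiFiniteLocus.2.isClosed_compl
  let V : Y.Opens := ⟨Cᶜ, hC.isOpen_compl⟩
  have hyV : y ∈ V := by
    rintro ⟨x, hx, hxy⟩
    exact hx (quasiFiniteAt_of_trdeg_zero f y h x hxy)
  have hfib : ∀ w ∈ V, (f ⁻¹' {w}).Finite := by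
    intro w hw
    have hd : DiscreteTopology ↥(f.fiber w) := discreteTopology_iff_isOpen_singleton.mpr fun z ↦ by
      have e : f (f.fiberι w z) = w := (f.range_fiberι w).le ⟨z, rfl⟩
      have hq : f.QuasiFiniteAt (f.fiberι w z) := by
        by_contra hh
        exact hw ⟨_, hh, e⟩
      exact isOpen_singleton_fibre f _ w e z rfl hq
    haveI := isCompact_iff_compactSpace.mp (f.isCompact_preimage_singleton w)
    have : CompactSpace ↥(f.fiber w) := Homeomorph.compactSpace (f.fiberHomeo w).symm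
    have : Finite ↥(f.fiber w) := finite_of_compact_of_discrete
    rw [← f.range_fiberι w]
    exact Set.finite_range _
  refine ⟨V, hyV, ?_⟩
  have : LocallyQuasiFinite (f ∣_ V) := by
    refine LocallyQuasiFinite.of_finite_preimage_singleton (f := f ∣_ V) fun w ↦ ?_
    refine Set.Finite.of_finite_image ((hfib w.1 w.2).subset ?_) (f ⁻¹ᵁ V).ι.injective.injOn
    rintro _ ⟨z, hz, rfl⟩
    have h2 : (f ∣_ V ≫ V.ι) z = ((f ⁻¹ᵁ V).ι ≫ f) z := by rw [morphismRestrict_ι]
    rw [Scheme.Hom.comp_apply, Scheme.Hom.comp_apply, (hz : (f ∣_ V) z = w)] at h2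
    exact h2.symm
  exact (IsFinite.iff_isProper_and_locallyQuasiFinite _).mpr ⟨inferInstance, this⟩

end Groth.Agent.CycLib28
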