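import Mathlib
import Groth.Prelude.Def_Cyc
import Groth.Agent.CycLib28.Push
import Groth.Agent.CycLib28.Flat

/-!
# Degrees of finite flat morphisms and cycles
-/

universe u

open CategoryTheory CategoryTheory.Limits AlgebraicGeometry IsLocalRing

namespace Groth.Agent.CycLib28

theorem length_quot_equiv {A B : Type u} [CommRing A] [CommRing B] (e : A ≃+* B) (I : Ideal A) :
    Module.length A (A ⧸ I) = Module.length B (B ⧸ I.map e.toRingHom) := by
  algebraize [e.toRingHom]
  rw [← Module.length_eq_of_surjective (S := A) (M := B ⧸ I.map e.toRingHom) (R := B) e.surjective]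
  exact (LinearEquiv.ofBijective
    ({ toFun := Ideal.quotientEquiv I (I.map e.toRingHom) e rfl
       map_add' := map_add _
       map_smul' := fun a m => by
         obtain ⟨m, rfl⟩ := Ideal.Quotient.mk_surjective m
         exact congrArg (Ideal.Quotient.mk (I.map e.toRingHom)) (map_mul e a m) } :
      (A ⧸ I) →ₗ[A] B ⧸ I.map e.toRingHom) (Ideal.quotientEquiv I (I.map e.toRingHom) e rfl).bijective).length_eq

section

variable {R S : Type u} [CommRing R] [CommRing S] [Algebra R S] (p : Ideal R) (q : Ideal S) [p.IsPrime]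
  [q.IsPrime] [q.LiesOver p] {Rp Sq : Type u} [CommRing Rp] [CommRing Sq] [Algebra R Rp] [Algebra S Sq]
  [IsLocalization.AtPrime Rp p] [IsLocalization.AtPrime Sq q] [IsLocalRing Rp] [IsLocalRing Sq]
  (φ : Rp →+* Sq) (hφ : ∀ r, φ (algebraMap R Rp r) = algebraMap S Sq (algebraMap R S r))

include p hφ

theorem ramificationIdx_eq_length :
    q.ramificationIdx R = (Module.length Sq (Sq ⧸ (maximalIdeal Rp).map φ)).toNat := by
  rw [Ideal.ramificationIdx_def, ← Ideal.over_def q p, ← IsLocalization.AtPrime.map_eq_maximalIdeal p Rp, Ideal.map_map,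
    length_quot_equiv (IsLocalization.algEquiv q.primeCompl (Localization.AtPrime q) Sq).toRingEquiv,
    Ideal.map_map]
  congr 4
  all_goals
    refine RingHom.ext fun r ↦ ?_
    change IsLocalization.algEquiv q.primeCompl (Localization.AtPrime q) Sq
      (algebraMap R (Localization.AtPrime q) r) = φ (algebraMap R Rp r)
    rw [IsScalarTower.algebraMap_apply R S (Localization.AtPrime q), AlgEquiv.commutes, hφ]

theorem inertiaDeg_eq_finrank [IsLocalHom φ] :
    q.inertiaDeg R =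
      @Module.finrank (ResidueField Rp) (ResidueField Sq) _ _ (ResidueField.map φ).toAlgebra.toModule := by
  let := Localization.AtPrime.algebraOfLiesOver p q
  letI := (ResidueField.map φ).toAlgebra
  rw [Ideal.inertiaDeg_eq p q]
  refine Algebra.finrank_eq_of_equiv_equiv
    (ResidueField.mapEquiv (IsLocalization.algEquiv p.primeCompl (Localization.AtPrime p) Rp).toRingEquiv)
    (ResidueField.mapEquiv (IsLocalization.algEquiv q.primeCompl (Localization.AtPrime q) Sq).toRingEquiv) ?_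
  refine Ideal.Quotient.ringHom_ext (IsLocalization.ringHom_ext p.primeCompl (RingHom.ext fun r ↦ ?_))
  change residue Sq (φ (IsLocalization.algEquiv p.primeCompl (Localization.AtPrime p) Rp
      (algebraMap R (Localization.AtPrime p) r))) =
    residue Sq (IsLocalization.algEquiv q.primeCompl (Localization.AtPrime q) Sq
      (algebraMap (Localization.AtPrime p) (Localization.AtPrime q) (algebraMap R (Localization.AtPrime p) r)))
  rw [AlgEquiv.commutes, hφ, ← IsScalarTower.algebraMap_apply R (Localization.AtPrime p) (Localization.AtPrime q),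
    IsScalarTower.algebraMap_apply R S (Localization.AtPrime q), AlgEquiv.commutes]

end

variable {X Y : Scheme.{u}} (f : X ⟶ Y)

theorem isPullback_app [IsAffineHom f] {U : Y.Opens} (hU : IsAffineOpen U) :
    IsPullback (Spec.map (f.app U)) (hU.preimage f).fromSpec hU.fromSpec f := by
  refine (isPullback_morphismRestrict f U).of_iso (hU.preimage f).isoSpec hU.isoSpec (Iso.refl _) (Iso.refl _) ?_ ?_ ?_ ?_
  · rw [← cancel_mono hU.fromSpec, Category.assoc, Category.assoc, hU.isoSpec_hom_fromSpec,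
      morphismRestrict_ι, Scheme.Hom.app_eq_appLE, IsAffineOpen.SpecMap_appLE_fromSpec f hU (hU.preimage f) le_rfl,
      IsAffineOpen.isoSpec_hom_fromSpec_assoc]
  · simp
  · simp
  · simp

theorem sum_fibre_degree [IsFinite f] [Flat f] (y : Y) :
    ∃ s : Finset X, (∀ x, x ∈ s ↔ f x = y) ∧ (∀ x ∈ s, f.residueDegree x ≠ 0) ∧
      ∑ x ∈ s, (lenFibre f x).toNat * f.residueDegree x = f.finrank y := by
  classical
  obtain ⟨_, ⟨U, hU, rfl⟩, hyU, -⟩ :=
    Y.isBasis_affineOpens.exists_subset_of_mem_open (Set.mem_univ y) isOpen_univ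
  replace hU : IsAffineOpen U := hU
  have hV : IsAffineOpen (f ⁻¹ᵁ U) := hU.preimage f
  letI : Algebra Γ(Y, U) Γ(X, f ⁻¹ᵁ U) := (f.app U).hom.toAlgebra
  have hfin : (f.app U).hom.Finite := IsFinite.finite_app f U hU
  have hflat : (f.app U).hom.Flat := by
    rw [Scheme.Hom.app_eq_appLE]; exact Flat.flat_appLE f hU hV le_rfl
  haveI : Module.Finite Γ(Y, U) Γ(X, f ⁻¹ᵁ U) := hfin
  haveI : Module.Flat Γ(Y, U) Γ(X, f ⁻¹ᵁ U) := hflat
  let P := hU.primeIdealOf ⟨y, hyU⟩
  have hcomp : ∀ z : PrimeSpectrum Γ(X, f ⁻¹ᵁ U),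
      f (hV.fromSpec z) = hU.fromSpec (PrimeSpectrum.comap (f.app U).hom z) := by
    intro z
    have := congrArg (fun m => m z) (isPullback_app f hU).w
    exact this.symm
  haveI : Finite (P.asIdeal.primesOver Γ(X, f ⁻¹ᵁ U)) :=
    Finite.of_equiv _ (PrimeSpectrum.primesOverOrderIsoFiber Γ(Y, U) Γ(X, f ⁻¹ᵁ U) P.asIdeal).symm.toEquiv
  letI := Fintype.ofFinite (P.asIdeal.primesOver Γ(X, f ⁻¹ᵁ U))
  let toX : P.asIdeal.primesOver Γ(X, f ⁻¹ᵁ U) → X := fun q ↦ hV.fromSpec ⟨q.1, q.2.1⟩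
  have hto : Function.Injective toX := fun a b e ↦ Subtype.ext
    (congrArg PrimeSpectrum.asIdeal (hV.fromSpec.isOpenEmbedding.injective e))
  refine ⟨Finset.univ.image toX, fun x ↦ ⟨fun hx ↦ ?_, fun hx ↦ ?_⟩, ?_⟩
  · obtain ⟨q, -, rfl⟩ := Finset.mem_image.mp hx
    rw [hcomp, show PrimeSpectrum.comap (f.app U).hom ⟨q.1, q.2.1⟩ = P from PrimeSpectrum.ext q.2.2.over.symm]
    exact hU.fromSpec_primeIdealOf _
  · have hxV : x ∈ f ⁻¹ᵁ U := show f x ∈ U from hx.symm ▸ hyU
    let Q := hV.primeIdealOf ⟨x, hxV⟩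
    have hQ : PrimeSpectrum.comap (f.app U).hom Q = P := by
      refine hU.fromSpec.isOpenEmbedding.injective ?_
      rw [← hcomp]
      exact ((congrArg f (hV.fromSpec_primeIdealOf _)).trans hx).trans (hU.fromSpec_primeIdealOf _).symm
    refine Finset.mem_image.mpr ⟨⟨Q.asIdeal, Q.isPrime, ⟨(congrArg PrimeSpectrum.asIdeal hQ).symm⟩⟩,
      Finset.mem_univ _, hV.fromSpec_primeIdealOf _⟩
  suffices key : ∀ q, (lenFibre f (toX q)).toNat = q.1.ramificationIdx Γ(Y, U) ∧
      f.residueDegree (toX q) = q.1.inertiaDeg Γ(Y, U) by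
    refine ⟨fun x hx ↦ ?_, ?_⟩
    · obtain ⟨q, -, rfl⟩ := Finset.mem_image.mp hx
      haveI := q.2.1
      rw [(key q).2]
      exact (Ideal.inertiaDeg_pos q.1 Γ(Y, U)).ne'
    rw [Finset.sum_image hto.injOn]
    have hrank : f.finrank y = Module.rankAtStalk Γ(X, f ⁻¹ᵁ U) P := by
      rw [← Scheme.Hom.finrank_SpecMap_algebraMap]
      have h1 := Scheme.Hom.finrank_of_isPullback _ _ f hU.fromSpec (isPullback_app f hU).flip P
      rw [hU.fromSpec_primeIdealOf] at h1
      exact h1.symm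
    rw [hrank, Module.rankAtStalk_eq, ← Ideal.sum_ramification_inertia_eq_finrank_fiber]
    exact Finset.sum_congr rfl fun q _ ↦ by rw [(key q).1, (key q).2]
  intro q
  have hqV : toX q ∈ f ⁻¹ᵁ U := by
    have := Set.mem_range_self (f := hV.fromSpec) (⟨q.1, q.2.1⟩ : PrimeSpectrum Γ(X, f ⁻¹ᵁ U))
    rw [hV.range_fromSpec] at this
    exact this
  have hQ : hV.primeIdealOf ⟨toX q, hqV⟩ = ⟨q.1, q.2.1⟩ :=
    hV.fromSpec.isOpenEmbedding.injective (hV.fromSpec_primeIdealOf _)
  have hfU : f (toX q) ∈ U := hqV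
  have hPy : hU.primeIdealOf ⟨f (toX q), hfU⟩ = P := by
    refine hU.fromSpec.isOpenEmbedding.injective ?_
    refine (hU.fromSpec_primeIdealOf _).trans ((hcomp ⟨q.1, q.2.1⟩).trans ?_)
    refine Eq.trans ?_ rfl
    exact congrArg (fun z => hU.fromSpec z) (show PrimeSpectrum.comap (f.app U).hom ⟨q.1, q.2.1⟩ = P from PrimeSpectrum.ext q.2.2.over.symm)
  letI : Algebra Γ(Y, U) (Y.presheaf.stalk (f (toX q))) := Y.presheaf.algebra_section_stalk ⟨f (toX q), hfU⟩
  letI : Algebra Γ(X, f ⁻¹ᵁ U) (X.presheaf.stalk (toX q)) := X.presheaf.algebra_section_stalk ⟨toX q, hqV⟩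
  haveI : IsLocalization.AtPrime (Y.presheaf.stalk (f (toX q))) P.asIdeal := by
    rw [← hPy]; exact hU.isLocalization_stalk ⟨f (toX q), hfU⟩
  haveI : IsLocalization.AtPrime (X.presheaf.stalk (toX q)) q.1 := by
    have := hV.isLocalization_stalk ⟨toX q, hqV⟩
    rw [hQ] at this
    exact this
  haveI := q.2.1
  haveI : q.1.LiesOver P.asIdeal := q.2.2
  have hφ : ∀ r, (f.stalkMap (toX q)).hom (algebraMap Γ(Y, U) (Y.presheaf.stalk (f (toX q))) r) =
      algebraMap Γ(X, f ⁻¹ᵁ U) (X.presheaf.stalk (toX q)) (algebraMap Γ(Y, U) Γ(X, f ⁻¹ᵁ U) r) := fun r ↦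
    Scheme.Hom.germ_stalkMap_apply f U (toX q) hfU r
  rw [ramificationIdx_eq_length P.asIdeal q.1 _ hφ, inertiaDeg_eq_finrank P.asIdeal q.1 _ hφ]
  exact ⟨rfl, rfl⟩

theorem mapCoeff_of_finite [IsFinite f] {δX : X → ℤ} {δY : Y → ℤ} (hδ : Cyc.DeltaCompat f δX δY) (x : X)
    (hfin : f.residueDegree x ≠ 0) : δX x = δY (f x) ∧ AlgebraicCycle.mapCoeff f δX δY x = f.residueDegree x := by
  have h : δX x = δY (f x) := by
    obtain ⟨n, hn, hx⟩ := hδ x
    letI := (f.residueFieldMap x).hom.toAlgebra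
    haveI : Module.Finite (Y.residueField (f x)) (X.residueField x) := Module.finite_of_finrank_pos (Nat.pos_of_ne_zero hfin)
    rw [trdeg_eq_zero] at hn
    have : n = 0 := by exact_mod_cast hn.symm
    omega
  exact ⟨h, if_pos h⟩

end Groth.Agent.CycLib28
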