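import Mathlib
import Groth.Agent.CycLib28.RelDim
import Groth.Agent.CycLib28.Maximal
import Groth.Agent.DimLib.Maximal

/-!
# Relative dimension of flat morphisms between irreducible schemes
-/

universe u

open CategoryTheory AlgebraicGeometry IsLocalRing Groth.Agent.CycLim28 Groth.Agent

namespace Groth.Agent.CycLib28

variable {X Y : Scheme.{u}}

theorem dim_stalk_irreducible [IrreducibleSpace X] {δ : X → ℤ} (hδ : Cyc.IsDimFun X δ) (x : X) :
    ringKrullDim (X.presheaf.stalk x) = ((δ (genericPoint X) - δ x).toNat : WithBot ℕ∞) := by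
  obtain ⟨P, hP⟩ := exists_fromSpecStalk_eq (genericPoint_specializes x)
  have hle : ∀ Q : PrimeSpectrum (X.presheaf.stalk x), P ≤ Q := fun Q ↦
    (specializes_iff_le x P Q).mp (hP ▸ genericPoint_specializes _)
  have h := dim_quotient hδ x P
  rw [drop, hP] at h
  rw [← h]
  refine le_antisymm ?_ (ringKrullDim_quotient_le _)
  rw [ringKrullDim, ringKrullDim,
    Order.krullDim_eq_of_orderIso (P.asIdeal.primeSpectrumQuotientOrderIsoZeroLocus)]
  exact Order.krullDim_le_of_strictMono (fun Q ↦ ⟨Q, hle Q⟩) fun a b h ↦ h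

theorem height_closedPoint_eq (f : X ⟶ Y) [Flat f] [IsLocallyNoetherian Y] [IsLocallyNoetherian X]
    (x : X) (hx : GenInFibre f x) :
    ringKrullDim (X.presheaf.stalk x) = ringKrullDim (Y.presheaf.stalk (f x)) := by
  algebraize [(f.stalkMap x).hom]
  have : Module.Flat (Y.presheaf.stalk (f x)) (X.presheaf.stalk x) := Flat.stalkMap f x
  have hloc : IsLocalHom (algebraMap (Y.presheaf.stalk (f x)) (X.presheaf.stalk x)) :=
    inferInstanceAs (IsLocalHom (f.stalkMap x).hom)
  have hcomap : (maximalIdeal (X.presheaf.stalk x)).comap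
      (algebraMap (Y.presheaf.stalk (f x)) (X.presheaf.stalk x)) = maximalIdeal _ :=
    ((IsLocalRing.local_hom_TFAE (algebraMap (Y.presheaf.stalk (f x)) (X.presheaf.stalk x))).out 0 4).mp
      hloc
  have : (maximalIdeal (X.presheaf.stalk x)).LiesOver (maximalIdeal (Y.presheaf.stalk (f x))) :=
    ⟨hcomap.symm⟩
  have h := Ideal.height_eq_height_add_of_liesOver_of_hasGoingDown
    (maximalIdeal (Y.presheaf.stalk (f x))) (maximalIdeal (X.presheaf.stalk x))
  set J := Ideal.map (algebraMap (Y.presheaf.stalk (f x)) (X.presheaf.stalk x))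
    (maximalIdeal (Y.presheaf.stalk (f x))) with hJ
  have h0 : ((maximalIdeal (X.presheaf.stalk x)).map (Ideal.Quotient.mk J)).height = 0 := by
    have hJle : J ≤ maximalIdeal _ := by
      rw [hJ, Ideal.map_le_iff_le_comap]
      exact hcomap.ge
    have : ((maximalIdeal (X.presheaf.stalk x)).map (Ideal.Quotient.mk J)).IsPrime :=
      Ideal.map_isPrime_of_surjective Ideal.Quotient.mk_surjective (by rwa [Ideal.mk_ker])
    rw [Ideal.height_eq_zero_iff, minimalPrimes_eq_minimals]
    refine ⟨this, fun Q hQ hQle ↦ ?_⟩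
    have hc : J ≤ Q.comap (Ideal.Quotient.mk J) := fun a ha ↦ by
      simp [Ideal.Quotient.eq_zero_iff_mem.mpr ha]
    haveI : Q.IsPrime := hQ
    have h2 : Q.comap (Ideal.Quotient.mk J) = maximalIdeal _ := congrArg PrimeSpectrum.asIdeal
      (eq_closedPoint_of_genInFibre f hx ⟨_, Ideal.IsPrime.comap (Ideal.Quotient.mk J)⟩ hc)
    rw [← h2, Ideal.map_comap_of_surjective _ Ideal.Quotient.mk_surjective]
  rw [h0, add_zero] at h
  rw [← maximalIdeal_height_eq_ringKrullDim, ← maximalIdeal_height_eq_ringKrullDim, h]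

theorem flat_irreducible (f : X ⟶ Y) [Flat f] [LocallyOfFiniteType f] [IrreducibleSpace X]
    [IrreducibleSpace Y] {δX : X → ℤ} {δY : Y → ℤ} (hY : Cyc.IsSetup Y δY)
    (hδ : Cyc.DeltaCompat f δX δY) :
    0 ≤ δX (genericPoint X) - δY (genericPoint Y) ∧
      Cyc.HasRelDim f (δX (genericPoint X) - δY (genericPoint Y)).toNat ∧
      ∀ x : X, topologicalKrullDim ↥(f.fiber (f x)) =
        ((δX (genericPoint X) - δY (genericPoint Y)).toNat : WithBot ℕ∞) := by
  have := hY.1
  have : IsLocallyNoetherian X := LocallyOfFiniteType.isLocallyNoetherian f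
  have hX := isDimFun_of_deltaCompat f hY.2.1 hY.2.2 hδ
  have key : ∀ x, GenInFibre f x →
      (DimLib.trdegHom (f.residueFieldMap x).hom : ℤ) = δX (genericPoint X) - δY (genericPoint Y) := by
    intro x hx
    have h := height_closedPoint_eq f x hx
    rw [dim_stalk_irreducible hX x, dim_stalk_irreducible hY.2.2 (f x)] at h
    have h' : (δX (genericPoint X) - δX x).toNat = (δY (genericPoint Y) - δY (f x)).toNat := by
      exact_mod_cast h
    have h1 := le_of_specializes hX (genericPoint_specializes x)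
    have h2 := le_of_specializes hY.2.2 (genericPoint_specializes (f x))
    have h3 := DeltaCompat.eq f hδ x
    omega
  obtain ⟨x₀, -, -, hx₀⟩ := exists_genInFibre f (genericPoint X)
  have h0 : 0 ≤ δX (genericPoint X) - δY (genericPoint Y) := by rw [← key x₀ hx₀]; omega
  have hrel : Cyc.HasRelDim f (δX (genericPoint X) - δY (genericPoint Y)).toNat := by
    rw [FlatMor12.hasRelDim_iff]
    intro η hη
    have := key η ((genInFibre_iff_isFibreMax f η).mpr hη)
    omega
  refine ⟨h0, hrel, fun x ↦ ?_⟩
  have : LocallyOfFiniteType (f.fiberToSpecResidueField (f x)) :=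
    inferInstanceAs (LocallyOfFiniteType (Limits.pullback.snd f (Y.fromSpecResidueField (f x))))
  have hall := (DimLib.forall_components_iff (k := Y.residueField (f x)) (f.fiberToSpecResidueField (f x))
    (fun t ↦ t = ((δX (genericPoint X) - δY (genericPoint Y)).toNat : WithBot ℕ∞))).mp (hrel (f x))
  have : LocallyOfFiniteType (f.fiberToSpecResidueField (f x)) :=
    inferInstanceAs (LocallyOfFiniteType (Limits.pullback.snd f (Y.fromSpecResidueField (f x))))
  refine le_antisymm (DimLib.topologicalKrullDim_le_of_forall_maximal (k := Y.residueField (f x)) (f.fiberToSpecResidueField (f x)) _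
    fun η hη ↦ (hall η hη).le) ?_
  obtain ⟨η, -, hη⟩ := DimLib.exists_maximal_specializes (f.asFiber x)
  rw [← hall η hη]
  exact DimLib.ptDim_le_topologicalKrullDim (k := Y.residueField (f x)) (f.fiberToSpecResidueField (f x)) η

end Groth.Agent.CycLib28
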