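import Mathlib
import Groth.Agent.CycLib28.DimFun

/-!
# Dimension functions on Jacobson schemes
-/

universe u

open CategoryTheory AlgebraicGeometry IsLocalRing Groth.Agent.CycLim28 TopologicalSpace

namespace Groth.Agent.CycLib28

variable {X : Scheme.{u}} {δ : X → ℤ}

theorem exists_closed_specialization [JacobsonSpace X] (ξ : X) :
    ∃ z, ξ ⤳ z ∧ IsClosed ({z} : Set X) := by
  have h := nonempty_inter_closedPoints (Z := closure ({ξ} : Set X)) ⟨ξ, subset_closure rfl⟩
    isClosed_closure.isLocallyClosed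
  obtain ⟨z, hz, hz'⟩ := h
  exact ⟨z, specializes_iff_mem_closure.mpr hz, hz'⟩

theorem dim_locQuot (hδ : Cyc.IsDimFun X δ) {z ξ : X} (h : ξ ⤳ z) :
    ringKrullDim (Cyc.LocQuot z ξ h) = ((δ ξ - δ z).toNat : WithBot ℕ∞) := by
  obtain ⟨P, hP⟩ := exists_fromSpecStalk_eq h
  have hker : RingHom.ker (Cyc.specMap z ξ h) = P.asIdeal := by
    subst hP
    have h1 := congrArg PrimeSpectrum.asIdeal (show P = PrimeSpectrum.comap
        (X.presheaf.stalkSpecializes h).hom (closedPoint _) by
      refine fromSpecStalk_injective z ?_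
      have h2 := congrArg (fun g ↦ g (closedPoint (X.presheaf.stalk (X.fromSpecStalk z P))))
        (Scheme.SpecMap_stalkSpecializes_fromSpecStalk h)
      rw [Scheme.Hom.comp_apply, Scheme.fromSpecStalk_closedPoint] at h2
      exact h2.symm)
    rw [h1]
    ext a
    rw [RingHom.mem_ker, PrimeSpectrum.comap_asIdeal, Ideal.mem_comap]
    exact IsLocalRing.residue_eq_zero_iff _
  rw [ringKrullDim_eq_of_ringEquiv (Ideal.quotEquivOfEq hker), dim_quotient hδ z P, drop, hP]

theorem dim_closure [JacobsonSpace X] (hδ : Cyc.IsDimFun X δ)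
    (h0 : ∀ x : X, IsClosed ({x} : Set X) → δ x = 0) (ξ : X) :
    topologicalKrullDim ↥(closure ({ξ} : Set X)) = ((δ ξ).toNat : WithBot ℕ∞) ∧ 0 ≤ δ ξ := by
  have hnn : ∀ x : X, 0 ≤ δ x := fun x ↦ by
    obtain ⟨z, hz, hzc⟩ := exists_closed_specialization x
    rw [← h0 z hzc]
    exact le_of_specializes hδ hz
  refine ⟨?_, hnn ξ⟩
  have : QuasiSober ↥(closure ({ξ} : Set X)) := isClosed_closure.isClosedEmbedding_subtypeVal.quasiSober
  let e : IrreducibleCloseds ↥(closure ({ξ} : Set X)) ≃o ↥(closure ({ξ} : Set X)) :=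
    { (irreducibleSetEquivPoints (α := ↥(closure ({ξ} : Set X)))).toEquiv with
      map_rel_iff' := fun {a b} ↦
        (Topology.IsInducing.subtypeVal.specializes_iff).trans
          (irreducibleSetEquivPoints (α := ↥(closure ({ξ} : Set X)))).map_rel_iff' }
  rw [topologicalKrullDim, Order.krullDim_eq_of_orderIso e]
  have hle : ∀ a b : ↥(closure ({ξ} : Set X)), a ≤ b ↔ b.1 ⤳ a.1 := fun a b ↦ Iff.rfl
  have hlt : ∀ a b : ↥(closure ({ξ} : Set X)), a < b → δ a.1 < δ b.1 := fun a b h ↦
    (hδ b.1 a.1 ((hle a b).mp h.le) fun e ↦ h.ne (Subtype.ext e.symm)).1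
  apply le_antisymm
  · refine iSup_le fun s ↦ ?_
    have : ∀ i : Fin (s.length + 1), (i : ℕ) + δ s.head.1 ≤ δ (s i).1 := by
      intro i
      induction i using Fin.induction with
      | zero => simp [RelSeries.head]
      | succ i ih =>
        have h := hlt _ _ (s.step i)
        simp only [Fin.val_succ, Fin.val_castSucc, Nat.cast_add, Nat.cast_one] at *
        omega
    have h1 := this (Fin.last _)
    have h2 := hnn s.head.1
    have h3 : δ (s (Fin.last _)).1 ≤ δ ξ :=
      le_of_specializes hδ (specializes_iff_mem_closure.mpr (s (Fin.last _)).2)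
    simp only [Fin.val_last] at h1
    exact_mod_cast (show s.length ≤ (δ ξ).toNat by omega)
  · obtain ⟨z, hz, hzc⟩ := exists_closed_specialization ξ
    obtain ⟨P, hP⟩ := exists_fromSpecStalk_eq hz
    obtain ⟨t, ht1, ht2⟩ := exists_series hδ z (drop δ z P).toNat P
      (Int.toNat_of_nonneg (drop_nonneg hδ z P)).symm
    have hmem : ∀ Q, P ≤ Q → X.fromSpecStalk z Q ∈ closure ({ξ} : Set X) := fun Q hQ ↦
      specializes_iff_mem_closure.mp (hP ▸ (specializes_iff_le z P Q).mpr hQ)
    let g : Fin (t.length + 1) → ↥(closure ({ξ} : Set X)) := fun i ↦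
      ⟨X.fromSpecStalk z (t i), hmem _ (by rw [← ht1]; exact t.monotone (Fin.zero_le i))⟩
    let s : LTSeries ↥(closure ({ξ} : Set X)) :=
      { length := t.length
        toFun := fun i ↦ g i.rev
        step := fun i ↦ by
          show g i.castSucc.rev < g i.succ.rev
          rw [Fin.rev_castSucc, Fin.rev_succ]
          have hst : t i.rev.castSucc < t i.rev.succ := t.step i.rev
          refine lt_of_le_not_ge ((hle _ _).mpr ((specializes_iff_le z _ _).mpr hst.le)) fun e ↦ ?_
          exact hst.not_ge ((specializes_iff_le z _ _).mp ((hle _ _).mp e)) }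
    refine le_iSup_of_le s ?_
    rw [show s.length = t.length from rfl, ht2, drop, hP, h0 z hzc, sub_zero]

end Groth.Agent.CycLib28
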