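import Mathlib
import Groth.Prelude.Def_Cyc
import Groth.Agent.CycLib28.Jacobson
import Groth.Agent.Misc15.StalkLoc

/-!
# The order of a rational function along an immediate specialisation
-/

universe u

open CategoryTheory AlgebraicGeometry IsLocalRing Groth.Agent.CycLim28

namespace Groth.Agent.CycLib28

variable {X : Scheme.{u}} {δ : X → ℤ}

theorem specMap_surj {x ξ : X} (h : ξ ⤳ x) (z : X.residueField ξ) :
    ∃ a s : X.presheaf.stalk x, Cyc.specMap x ξ h s ≠ 0 ∧ z * Cyc.specMap x ξ h s = Cyc.specMap x ξ h a := by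
  obtain ⟨w, rfl⟩ := X.residue_surjective ξ z
  algebraize [(X.presheaf.stalkSpecializes h).hom]
  have := Misc15.isLocalization_stalkSpecializes h
  obtain ⟨⟨a, s⟩, has⟩ := IsLocalization.surj ((IsUnit.submonoid (X.presheaf.stalk ξ)).comap
    (X.presheaf.stalkSpecializes h).hom) w
  refine ⟨a, s, ?_, ?_⟩
  · intro h0
    exact (IsLocalRing.residue_ne_zero_iff_isUnit _).mpr s.2 h0
  · change (X.residue ξ).hom w * (X.residue ξ).hom ((X.presheaf.stalkSpecializes h).hom s.1) =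
      (X.residue ξ).hom ((X.presheaf.stalkSpecializes h).hom a)
    rw [← map_mul]
    exact congrArg _ has

theorem isFractionRing_locQuot {x ξ : X} (h : ξ ⤳ x) :
    IsFractionRing (Cyc.LocQuot x ξ h) (X.residueField ξ) := by
  have hinj : Function.Injective (algebraMap (Cyc.LocQuot x ξ h) (X.residueField ξ)) :=
    RingHom.kerLift_injective (Cyc.specMap x ξ h)
  have : (RingHom.ker (Cyc.specMap x ξ h)).IsPrime := RingHom.ker_isPrime _
  have : FaithfulSMul (Cyc.LocQuot x ξ h) (X.residueField ξ) :=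
    (faithfulSMul_iff_algebraMap_injective _ _).mpr hinj
  refine IsFractionRing.of_field (Cyc.LocQuot x ξ h) (X.residueField ξ) fun z ↦ ?_
  obtain ⟨a, s, hs, has⟩ := specMap_surj h z
  exact ⟨Ideal.Quotient.mk _ a, Ideal.Quotient.mk _ s, eq_div_of_mul_eq hs has⟩

variable [IsLocallyNoetherian X]

theorem locQuot_conds (hδ : Cyc.IsDimFun X δ) {x ξ : X} (h : ξ ⤳ x) (hd : δ x + 1 = δ ξ) :
    IsNoetherianRing (Cyc.LocQuot x ξ h) ∧ Ring.KrullDimLE 1 (Cyc.LocQuot x ξ h) ∧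
      Nontrivial (Cyc.LocQuot x ξ h) ∧ IsFractionRing (Cyc.LocQuot x ξ h) (X.residueField ξ) := by
  have : (RingHom.ker (Cyc.specMap x ξ h)).IsPrime := RingHom.ker_isPrime _
  refine ⟨inferInstance, ?_, inferInstance, isFractionRing_locQuot h⟩
  rw [Ring.krullDimLE_iff, dim_locQuot hδ h, show (δ ξ - δ x).toNat = 1 by omega]

/-- `ordAt` as the valuation `Ring.ordFrac` -/
theorem ordAt_eq (hδ : Cyc.IsDimFun X δ) {x ξ : X} (h : ξ ⤳ x) (hd : δ x + 1 = δ ξ) :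
    ∃ v : X.residueField ξ →*₀ WithZero (Multiplicative ℤ), ∀ f,
      Cyc.ordAt x ξ h f = WithZero.recZeroCoe (motive := fun _ => ℤ) 0 (fun z => Multiplicative.toAdd z) (v f) ∧
        (∀ g : X.presheaf.stalk x, IsUnit g → v (Cyc.specMap x ξ h g) = 1) := by
  obtain ⟨h1, h2, h3, h4⟩ := locQuot_conds hδ h hd
  refine ⟨Ring.ordFrac (Cyc.LocQuot x ξ h), fun f ↦ ⟨?_, fun g hg ↦ ?_⟩⟩
  · simp only [Cyc.ordAt, CycAlg.ordFrac]
    rw [dif_pos ⟨h1, h2, h3, h4⟩]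
  · have : (RingHom.ker (Cyc.specMap x ξ h)).IsPrime := RingHom.ker_isPrime _
    have hu : IsUnit (Ideal.Quotient.mk (RingHom.ker (Cyc.specMap x ξ h)) g) := hg.map _
    have e : Cyc.specMap x ξ h g =
        algebraMap (Cyc.LocQuot x ξ h) (X.residueField ξ) (Ideal.Quotient.mk _ g) := rfl
    rw [e, Ring.ordFrac_eq_ord _ hu.ne_zero,
      Ring.ordMonoidWithZeroHom_eq_ord hu.mem_nonZeroDivisors, Ring.ord_of_isUnit hu]
    rfl

theorem ordAt_mul (hδ : Cyc.IsDimFun X δ) {x ξ : X} (h : ξ ⤳ x) (hd : δ x + 1 = δ ξ)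
    {f g : X.residueField ξ} (hf : f ≠ 0) (hg : g ≠ 0) :
    Cyc.ordAt x ξ h (f * g) = Cyc.ordAt x ξ h f + Cyc.ordAt x ξ h g := by
  obtain ⟨v, hv⟩ := ordAt_eq hδ h hd
  rw [(hv (f * g)).1, (hv f).1, (hv g).1, map_mul]
  obtain ⟨a, ha⟩ := WithZero.ne_zero_iff_exists.mp ((map_ne_zero v).mpr hf)
  obtain ⟨b, hb⟩ := WithZero.ne_zero_iff_exists.mp ((map_ne_zero v).mpr hg)
  rw [← ha, ← hb, ← WithZero.coe_mul]
  rfl

theorem ordAt_unit (hδ : Cyc.IsDimFun X δ) {x ξ : X} (h : ξ ⤳ x) (hd : δ x + 1 = δ ξ)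
    (g : X.presheaf.stalk x) (hg : IsUnit g) : Cyc.ordAt x ξ h (Cyc.specMap x ξ h g) = 0 := by
  obtain ⟨v, hv⟩ := ordAt_eq hδ h hd
  rw [(hv _).1, (hv 0).2 g hg]
  rfl

theorem ordAt_one (hδ : Cyc.IsDimFun X δ) {x ξ : X} (h : ξ ⤳ x) (hd : δ x + 1 = δ ξ) :
    Cyc.ordAt x ξ h 1 = 0 := by
  rw [← map_one (Cyc.specMap x ξ h)]
  exact ordAt_unit hδ h hd 1 isUnit_one

theorem ordAt_zpow (hδ : Cyc.IsDimFun X δ) {x ξ : X} (h : ξ ⤳ x) (hd : δ x + 1 = δ ξ)
    {f : X.residueField ξ} (hf : f ≠ 0) (n : ℤ) :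
    Cyc.ordAt x ξ h (f ^ n) = n * Cyc.ordAt x ξ h f := by
  induction n using Int.induction_on with
  | zero => rw [zpow_zero, ordAt_one hδ h hd, zero_mul]
  | succ i ih => rw [zpow_add_one₀ hf, ordAt_mul hδ h hd (zpow_ne_zero _ hf) hf, ih]; ring
  | pred i ih =>
    have e : f ^ (-(i : ℤ) - 1) * f = f ^ (-(i : ℤ)) := by
      rw [← zpow_add_one₀ hf]; congr 1; ring
    have := ordAt_mul hδ h hd (zpow_ne_zero (-(i : ℤ) - 1) hf) hf
    rw [e, ih] at this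
    linarith

end Groth.Agent.CycLib28
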