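import Mathlib
import Groth.Prelude.Def_Cyc
import Groth.Agent.CycLib28.OrdAt
import Groth.Agent.CycLib28.Maximal

/-!
# Divisors of rational functions: finiteness and cycles
-/

universe u

open CategoryTheory AlgebraicGeometry IsLocalRing Groth.Agent.CycLim28 TopologicalSpace

namespace Groth.Agent.CycLib28

variable {X : Scheme.{u}} {δ : X → ℤ}

/-- maximal points of a closed subset of a Noetherian space are finite -/
theorem finite_maximal_of_isClosed {α : Type*} [TopologicalSpace α] [NoetherianSpace α] [QuasiSober α]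
    (T : Set α) (hT : IsClosed T) :
    {x | x ∈ T ∧ ∀ y ∈ T, y ⤳ x → y = x}.Finite := by
  obtain ⟨S, hSf, hSc, hSi, hS⟩ := NoetherianSpace.exists_finite_set_isClosed_irreducible hT
  refine Set.Finite.subset (hSf.dependent_image fun t ht ↦ (hSi t ht).genericPoint) ?_
  rintro x ⟨hx, hmax⟩
  obtain ⟨t, ht, hxt⟩ := hS.le hx
  refine ⟨t, ht, ?_⟩
  have h := (hSi t ht).isGenericPoint_genericPoint (hSc t ht)
  exact hmax _ (hS.ge ⟨t, ht, h.mem⟩) (h.specializes hxt)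

/-- a rational function on the closure of `ξ` is a ratio of sections on an affine neighbourhood -/
theorem exists_ratio {U : X.Opens} (hU : IsAffineOpen U) {ξ : X} (hξ : ξ ∈ U) (f : X.residueField ξ) :
    ∃ a b : Γ(X, U), ξ ∈ X.basicOpen b ∧ f * X.evaluation U ξ hξ b = X.evaluation U ξ hξ a := by
  obtain ⟨z, rfl⟩ := X.residue_surjective ξ f
  letI := TopCat.Presheaf.algebra_section_stalk X.presheaf (⟨ξ, hξ⟩ : U)
  haveI := hU.isLocalization_stalk ⟨ξ, hξ⟩
  obtain ⟨⟨a, b⟩, hab⟩ := IsLocalization.surj ((hU.primeIdealOf ⟨ξ, hξ⟩).asIdeal.primeCompl) z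
  refine ⟨a, b.1, ?_, ?_⟩
  · rw [Scheme.mem_basicOpen _ _ _ hξ]
    exact (IsLocalization.AtPrime.isUnit_to_map_iff (X.presheaf.stalk ξ)
      (hU.primeIdealOf ⟨ξ, hξ⟩).asIdeal b.1).2 b.2
  · change (X.residue ξ).hom z * (X.residue ξ).hom (X.presheaf.germ U ξ hξ b.1) =
      (X.residue ξ).hom (X.presheaf.germ U ξ hξ a)
    rw [← map_mul]
    exact congrArg _ hab

theorem specMap_germ {U : X.Opens} {x ξ : X} (h : ξ ⤳ x) (hx : x ∈ U) (a : Γ(X, U)) :
    Cyc.specMap x ξ h (X.presheaf.germ U x hx a) = X.evaluation U ξ (h.mem_open U.2 hx) a := by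
  change (X.residue ξ).hom ((X.presheaf.stalkSpecializes h).hom (X.presheaf.germ U x hx a)) = _
  rw [TopCat.Presheaf.germ_stalkSpecializes_apply]
  rfl

variable [IsLocallyNoetherian X]

theorem divFun_finite (hδ : Cyc.IsDimFun X δ) (ξ : X) (f : X.residueField ξ) (hf : f ≠ 0)
    {U : X.Opens} (hU : IsAffineOpen U) :
    {x | x ∈ U ∧ Cyc.divFun δ ξ f x ≠ 0}.Finite := by
  by_cases hξ : ξ ∈ U
  swap
  · refine Set.Finite.subset Set.finite_empty fun x ⟨hxU, hx⟩ ↦ hx ?_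
    rw [Cyc.divFun, dif_neg]
    exact fun h ↦ hξ (h.1.mem_open U.2 hxU)
  obtain ⟨a, b, hb, hab⟩ := exists_ratio hU hξ f
  have hbne : X.evaluation U ξ hξ b ≠ 0 := by
    rw [Scheme.evaluation_ne_zero_iff_mem_basicOpen]; exact hb
  have haξ : ξ ∈ X.basicOpen a := by
    rw [← Scheme.evaluation_ne_zero_iff_mem_basicOpen _ _ hξ, ← hab]
    exact mul_ne_zero hf hbne
  have : IsNoetherianRing Γ(X, U) := IsLocallyNoetherian.component_noetherian ⟨U, hU⟩
  have hns : NoetherianSpace (U : Set X) := noetherianSpace_of_isAffineOpen U hU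
  have hqs : QuasiSober (U : Set X) :=
    (U.2.isOpenEmbedding_subtypeVal (X := X)).quasiSober
  let T : Set (U : Set X) := {x | ξ ⤳ x.1 ∧ x.1 ∉ X.basicOpen (a * b)}
  have hT : IsClosed T :=
    ((isClosed_closure (s := ({ξ} : Set X))).preimage continuous_subtype_val |>.inter
      ((X.basicOpen (a * b)).2.isClosed_compl.preimage continuous_subtype_val)) |> fun h ↦ by
        convert h using 1
        ext x
        simp [T, specializes_iff_mem_closure]
  refine ((finite_maximal_of_isClosed T hT).image Subtype.val).subset fun x ⟨hxU, hx⟩ ↦ ?_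
  rw [Cyc.divFun] at hx
  split_ifs at hx with h
  swap
  · exact (hx rfl).elim
  refine ⟨⟨x, hxU⟩, ⟨⟨h.1, fun hab' ↦ hx ?_⟩, fun y hy hyx ↦ ?_⟩, rfl⟩
  · rw [Scheme.basicOpen_mul] at hab'
    have hua : IsUnit (X.presheaf.germ U x hxU a) := (Scheme.mem_basicOpen _ _ _ hxU).1 hab'.1
    have hub : IsUnit (X.presheaf.germ U x hxU b) := (Scheme.mem_basicOpen _ _ _ hxU).1 hab'.2
    have h1 := ordAt_unit hδ h.1 h.2 _ hua
    have h2 := ordAt_unit hδ h.1 h.2 _ hub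
    rw [specMap_germ h.1 hxU] at h1 h2
    rw [← hab, ordAt_mul hδ h.1 h.2 hf hbne, h2, add_zero] at h1
    exact h1
  · refine Subtype.ext ?_
    by_contra hne
    have hyx' : y.1 ⤳ x := hyx.map continuous_subtype_val
    have h1 := (hδ y.1 x hyx' hne).1
    have hyξ : y.1 ≠ ξ := fun e ↦ hy.2 (by
      rw [e, Scheme.basicOpen_mul]
      exact ⟨haξ, hb⟩)
    have h2 := (hδ ξ y.1 hy.1 hyξ.symm).1
    omega

theorem divFun_eq_zero_of_not_specializes {ξ x : X} (f : X.residueField ξ) (h : ¬ ξ ⤳ x) :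
    Cyc.divFun δ ξ f x = 0 := by
  rw [Cyc.divFun, dif_neg fun h' ↦ h h'.1]

theorem divFun_eq_zero_of_delta {ξ x : X} (f : X.residueField ξ) (h : δ x + 1 ≠ δ ξ) :
    Cyc.divFun δ ξ f x = 0 := by
  rw [Cyc.divFun, dif_neg fun h' ↦ h h'.2]

theorem finite_near {ι : Type u} (ξ : ι → X)
    (hloc : ∀ x : X, ∃ U : Set X, IsOpen U ∧ x ∈ U ∧ {i | (closure {ξ i} ∩ U).Nonempty}.Finite)
    {K : Set X} (hK : IsCompact K) : {i | (closure {ξ i} ∩ K).Nonempty}.Finite := by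
  choose U hU hxU hfin using hloc
  obtain ⟨t, ht⟩ := hK.elim_finite_subcover U hU fun x _ ↦ Set.mem_iUnion.mpr ⟨x, hxU x⟩
  refine (t.finite_toSet.biUnion fun x _ ↦ hfin x).subset fun i ⟨y, hy, hyK⟩ ↦ ?_
  obtain ⟨x, hxt, hyx⟩ := Set.mem_iUnion₂.mp (ht hyK)
  exact Set.mem_biUnion hxt ⟨y, hy, hyx⟩

/-- the cycle of a locally finite sum of divisors -/
theorem exists_cycle_sum (hδ : Cyc.IsDimFun X δ) {ι : Type u} (ξ : ι → X)
    (f : (i : ι) → X.residueField (ξ i)) (hf : ∀ i, f i ≠ 0)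
    (hloc : ∀ x : X, ∃ U : Set X, IsOpen U ∧ x ∈ U ∧ {i | (closure {ξ i} ∩ U).Nonempty}.Finite) :
    ∃ D : AlgebraicCycle X ℤ, ∀ x, D x = ∑ᶠ i, Cyc.divFun δ (ξ i) (f i) x := by
  refine ⟨{ toFun := fun x ↦ ∑ᶠ i, Cyc.divFun δ (ξ i) (f i) x
            supportWithinDomain' := by simp
            supportLocallyFiniteWithinDomain' := fun x _ ↦ ?_ }, fun x ↦ rfl⟩
  obtain ⟨_, ⟨V, hV, rfl⟩, hxV, -⟩ :=
    X.isBasis_affineOpens.exists_subset_of_mem_open (Set.mem_univ x) isOpen_univ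
  have hV' : IsAffineOpen V := hV
  refine ⟨V, V.2.mem_nhds hxV, ?_⟩
  refine ((finite_near ξ hloc hV'.isCompact).biUnion fun i _ ↦ divFun_finite hδ (ξ i) (f i) (hf i) hV).subset ?_
  rintro y ⟨hyV, hy⟩
  obtain ⟨i, hi⟩ : ∃ i, Cyc.divFun δ (ξ i) (f i) y ≠ 0 := by
    by_contra! h
    exact hy (finsum_eq_zero_of_forall_eq_zero h)
  refine Set.mem_biUnion (x := i) ⟨y, ?_, hyV⟩ ⟨hyV, hi⟩
  by_contra hcl
  exact hi (divFun_eq_zero_of_not_specializes _ fun h ↦ hcl (specializes_iff_mem_closure.mp h))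

end Groth.Agent.CycLib28
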