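import Mathlib
import Groth.Prelude.Def_Cyc
import Groth.Agent.CycLib28.DivFun

/-!
# Orders and divisors along open immersions
-/

universe u

open CategoryTheory AlgebraicGeometry IsLocalRing Groth.Agent.CycLim28 TopologicalSpace

namespace Groth.Agent.CycLib28

theorem ord_eq_of_surjective {A B : Type u} [CommRing A] [CommRing B] (φ : A →+* B)
    (hφ : Function.Surjective φ) (I : Ideal B) (a : B) (a' : A) (ha : φ a' = a) :
    Module.length B (B ⧸ (I ⊔ Ideal.span {a})) = Module.length A (A ⧸ (I.comap φ ⊔ Ideal.span {a'})) := by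
  letI := φ.toAlgebra
  rw [← Module.length_eq_of_surjective (S := A) (M := B ⧸ (I ⊔ Ideal.span {a})) hφ]
  refine ((LinearEquiv.ofBijective
    (Submodule.mapQ (I.comap φ ⊔ Ideal.span {a'}) (Submodule.restrictScalars A (I ⊔ Ideal.span {a}))
      (Algebra.linearMap A B) ?_) ⟨?_, ?_⟩).trans
    (Submodule.Quotient.restrictScalarsEquiv A (I ⊔ Ideal.span {a}))).length_eq.symm
  · intro x hx
    obtain ⟨y, hy, z, hz, rfl⟩ := Submodule.mem_sup.mp hx
    obtain ⟨c, rfl⟩ := Ideal.mem_span_singleton'.mp hz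
    simp only [Submodule.mem_comap, Algebra.linearMap_apply, RingHom.algebraMap_toAlgebra, map_add, map_mul, ha,
      Submodule.restrictScalars_mem]
    exact Submodule.add_mem_sup hy (Ideal.mul_mem_left _ _ (Ideal.mem_span_singleton_self a))
  · rw [← LinearMap.ker_eq_bot, Submodule.eq_bot_iff]
    rintro ⟨x⟩ hx
    change Submodule.Quotient.mk (Algebra.linearMap A B x) = 0 at hx
    rw [Submodule.Quotient.mk_eq_zero, Submodule.restrictScalars_mem, Submodule.mem_sup] at hx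
    obtain ⟨y, hy, z, hz, hxyz⟩ := hx
    obtain ⟨c, rfl⟩ := Ideal.mem_span_singleton'.mp hz
    obtain ⟨c', rfl⟩ := hφ c
    refine (Submodule.Quotient.mk_eq_zero _).mpr (Submodule.mem_sup.mpr
      ⟨x - c' * a', ?_, c' * a', Ideal.mul_mem_left _ _ (Ideal.mem_span_singleton_self a'), by ring⟩)
    change φ (x - c' * a') ∈ I
    rw [map_sub, map_mul, ha, show φ x = y + φ c' * a from hxyz.symm, add_sub_cancel_right]
    exact hy
  · rintro ⟨b⟩
    obtain ⟨x, rfl⟩ := hφ b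
    exact ⟨Submodule.Quotient.mk x, rfl⟩

variable {X Y : Scheme.{u}}

/-- `ord` on `O_{X,x}/p` as a length over `O_{X,x}` -/
theorem ordAt_formula [IsLocallyNoetherian X] {δ : X → ℤ} (hδ : Cyc.IsDimFun X δ) {x ξ : X} (h : ξ ⤳ x)
    (hd : δ x + 1 = δ ξ) (a : X.presheaf.stalk x) (ha : Cyc.specMap x ξ h a ≠ 0) :
    Cyc.ordAt x ξ h (Cyc.specMap x ξ h a) = ((Module.length (X.presheaf.stalk x)
      (X.presheaf.stalk x ⧸ (RingHom.ker (Cyc.specMap x ξ h) ⊔ Ideal.span {a}))).toNat : ℤ) := by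
  obtain ⟨h1, h2, h3, h4⟩ := locQuot_conds hδ h hd
  have hp : (RingHom.ker (Cyc.specMap x ξ h)).IsPrime := RingHom.ker_isPrime _
  simp only [Cyc.ordAt, CycAlg.ordFrac]
  rw [dif_pos ⟨h1, h2, h3, h4⟩]
  set a₀ : Cyc.LocQuot x ξ h := Ideal.Quotient.mk _ a with ha₀
  have hne : a₀ ≠ 0 := fun h0 ↦ ha (Ideal.Quotient.eq_zero_iff_mem.mp h0)
  have e : Cyc.specMap x ξ h a = algebraMap (Cyc.LocQuot x ξ h) (X.residueField ξ) a₀ := rfl
  rw [e, Ring.ordFrac_eq_ord _ hne,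
    Ring.ordMonoidWithZeroHom_eq_ord (mem_nonZeroDivisors_iff_ne_zero.mpr hne)]
  have hl : Module.length (X.presheaf.stalk x)
      (X.presheaf.stalk x ⧸ (RingHom.ker (Cyc.specMap x ξ h) ⊔ Ideal.span {a})) =
      Ring.ord (Cyc.LocQuot x ξ h) a₀ := by
    rw [Ring.ord, ← bot_sup_eq (Ideal.span {a₀}),
      ord_eq_of_surjective (Ideal.Quotient.mk (RingHom.ker (Cyc.specMap x ξ h))) Ideal.Quotient.mk_surjective
        ⊥ a₀ a rfl, ← RingHom.ker_eq_comap_bot, Ideal.mk_ker]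
  rw [hl]
  rcases ho : Ring.ord (Cyc.LocQuot x ξ h) a₀ with _ | n
  · exact absurd ho (Ring.ord_ne_top (mem_nonZeroDivisors_iff_ne_zero.mpr hne))
  · rfl

theorem residueFieldMap_specMap (f : Y ⟶ X) {x ξ : Y} (h : ξ ⤳ x) (a : X.presheaf.stalk (f x)) :
    (f.residueFieldMap ξ).hom (Cyc.specMap (f x) (f ξ) (h.map f.continuous) a) =
      Cyc.specMap x ξ h ((f.stalkMap x).hom a) := by
  have h1 := congrArg (fun m : X.presheaf.stalk (f ξ) ⟶ Y.residueField ξ ↦
      m ((X.presheaf.stalkSpecializes (h.map f.continuous)).hom a))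
    (Scheme.residue_residueFieldMap f ξ)
  have h2 := Scheme.Hom.stalkSpecializes_stalkMap_apply f ξ x h a
  exact h1.trans (congrArg (Y.residue ξ) h2)

theorem ordAt_openImmersion [IsLocallyNoetherian X] [IsLocallyNoetherian Y] (f : Y ⟶ X) [IsOpenImmersion f]
    {δ : X → ℤ} (hδ : Cyc.IsDimFun X δ) {δY : Y → ℤ} (hδY : Cyc.IsDimFun Y δY) {x ξ : Y} (h : ξ ⤳ x)
    (hd : δ (f x) + 1 = δ (f ξ)) (hd' : δY x + 1 = δY ξ)
    (g : X.residueField (f ξ)) (hg : g ≠ 0) :
    Cyc.ordAt x ξ h ((f.residueFieldMap ξ).hom g) = Cyc.ordAt (f x) (f ξ) (h.map f.continuous) g := by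
  have key : ∀ a : X.presheaf.stalk (f x), Cyc.specMap (f x) (f ξ) (h.map f.continuous) a ≠ 0 →
      Cyc.ordAt x ξ h ((f.residueFieldMap ξ).hom (Cyc.specMap (f x) (f ξ) (h.map f.continuous) a)) =
        Cyc.ordAt (f x) (f ξ) (h.map f.continuous) (Cyc.specMap (f x) (f ξ) (h.map f.continuous) a) := by
    intro a ha
    have hsurj : Function.Surjective (f.stalkMap x).hom :=
      (ConcreteCategory.bijective_of_isIso (f.stalkMap x)).2
    have ha' : Cyc.specMap x ξ h ((f.stalkMap x).hom a) ≠ 0 := by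
      rw [← residueFieldMap_specMap f h]
      exact (map_ne_zero _).mpr ha
    rw [residueFieldMap_specMap f h, ordAt_formula hδY h hd' _ ha', ordAt_formula hδ _ hd _ ha,
      ord_eq_of_surjective (f.stalkMap x).hom hsurj _ _ a rfl]
    have hker : Ideal.comap (f.stalkMap x).hom (RingHom.ker (Cyc.specMap x ξ h)) =
        RingHom.ker (Cyc.specMap (f x) (f ξ) (h.map f.continuous)) := by
      ext c
      rw [Ideal.mem_comap, RingHom.mem_ker, RingHom.mem_ker, ← residueFieldMap_specMap f h, map_eq_zero]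
    rw [hker]
  obtain ⟨a, s, hs, has⟩ := specMap_surj (h.map f.continuous) g
  have ha : Cyc.specMap (f x) (f ξ) (h.map f.continuous) a ≠ 0 := has ▸ mul_ne_zero hg hs
  have h1 := congrArg (fun z ↦ Cyc.ordAt (f x) (f ξ) (h.map f.continuous) z) has
  have h2 := congrArg (fun z ↦ Cyc.ordAt x ξ h ((f.residueFieldMap ξ).hom z)) has
  simp only at h1 h2
  rw [ordAt_mul hδ _ hd hg hs] at h1
  rw [map_mul, ordAt_mul hδY h hd' ((map_ne_zero _).mpr hg) ((map_ne_zero _).mpr hs), key a ha, key s hs,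
    ← h1] at h2
  linarith

theorem isDimFun_comp_openImmersion (f : Y ⟶ X) [IsOpenImmersion f] {δ : X → ℤ} (hδ : Cyc.IsDimFun X δ) :
    Cyc.IsDimFun Y (fun y ↦ δ (f y)) := by
  intro a b hab hne
  refine ⟨(hδ _ _ (hab.map f.continuous) (f.isOpenEmbedding.injective.ne hne)).1, fun himm ↦ ?_⟩
  refine (hδ _ _ (hab.map f.continuous) (f.isOpenEmbedding.injective.ne hne)).2 fun z hz1 hz2 ↦ ?_
  obtain ⟨w, rfl⟩ : z ∈ Set.range f := hz2.mem_open f.opensRange.2 ⟨b, rfl⟩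
  rcases himm w (f.isOpenEmbedding.isInducing.specializes_iff.mp hz1)
    (f.isOpenEmbedding.isInducing.specializes_iff.mp hz2) with e | e
  · exact Or.inl (congrArg f e)
  · exact Or.inr (congrArg f e)

theorem divFun_openImmersion [IsLocallyNoetherian X] (f : Y ⟶ X) [IsOpenImmersion f]
    {δ : X → ℤ} (hδ : Cyc.IsDimFun X δ) (ξ x : Y) (g : X.residueField (f ξ)) (hg : g ≠ 0) :
    Cyc.divFun (fun y ↦ δ (f y)) ξ ((f.residueFieldMap ξ).hom g) x = Cyc.divFun δ (f ξ) g (f x) := by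
  haveI : IsLocallyNoetherian Y := LocallyOfFiniteType.isLocallyNoetherian f
  simp only [Cyc.divFun]
  by_cases h : ξ ⤳ x ∧ δ (f x) + 1 = δ (f ξ)
  · rw [dif_pos h, dif_pos ⟨h.1.map f.continuous, h.2⟩]
    exact ordAt_openImmersion f hδ (isDimFun_comp_openImmersion f hδ) h.1 h.2 h.2 g hg
  · rw [dif_neg h, dif_neg fun h' ↦ h ⟨f.isOpenEmbedding.isInducing.specializes_iff.mp h'.1, h'.2⟩]

theorem exists_ratEquiv_of_restrict [IsLocallyNoetherian X] {δ : X → ℤ} (hδ : Cyc.IsDimFun X δ)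
    (U : X.Opens) (k : ℤ) (α β : AlgebraicCycle X ℤ) (hα : α ∈ Cyc.Zk X δ k) (hβ : β ∈ Cyc.Zk X δ k)
    (αU βU : AlgebraicCycle (↑U : Scheme.{u}) ℤ) (hαU : ∀ u : ↥U, αU u = α (U.ι u))
    (hβU : ∀ u : ↥U, βU u = β (U.ι u)) (h : Cyc.RatEquiv (fun u : ↥U => δ (U.ι u)) k αU βU) :
    ∃ γ : AlgebraicCycle X ℤ, γ ∈ Cyc.Zk X δ k ∧ (∀ x : X, x ∈ U → γ x = 0) ∧
      Cyc.RatEquiv δ k α (β + γ) := by
  classical
  obtain ⟨ι, ξ, f, hξ, hf, hloc, hsum⟩ := h
  haveI : IsLocallyNoetherian (U : Scheme.{u}) := LocallyOfFiniteType.isLocallyNoetherian U.ι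
  have hex : ∀ i, ∃ g : X.residueField (U.ι (ξ i)), (U.ι.residueFieldMap (ξ i)).hom g = f i :=
    fun i ↦ (ConcreteCategory.bijective_of_isIso (U.ι.residueFieldMap (ξ i))).2 (f i)
  choose g hg using hex
  have hg0 : ∀ i, g i ≠ 0 := fun i h0 ↦ hf i (by rw [← hg i, h0, map_zero])
  have hlocX : ∀ x : X, ∃ V : Set X, IsOpen V ∧ x ∈ V ∧
      {i | (closure {U.ι (ξ i)} ∩ V).Nonempty}.Finite := by
    intro x
    obtain ⟨_, ⟨V, hV, rfl⟩, hxV, -⟩ :=
      X.isBasis_affineOpens.exists_subset_of_mem_open (Set.mem_univ x) isOpen_univ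
    have : IsNoetherianRing Γ(X, V) := IsLocallyNoetherian.component_noetherian ⟨V, hV⟩
    have hns : NoetherianSpace (V : Set X) := noetherianSpace_of_isAffineOpen V hV
    refine ⟨V, V.2, hxV, ?_⟩
    have hK : IsCompact (U.ι ⁻¹' (V : Set X)) := by
      rw [U.ι.isOpenEmbedding.isInducing.isCompact_iff, Set.image_preimage_eq_inter_range]
      have hc := NoetherianSpace.isCompact (Subtype.val ⁻¹' Set.range U.ι : Set (V : Set X))
      rw [Topology.IsInducing.subtypeVal.isCompact_iff, Subtype.image_preimage_coe] at hc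
      exact hc
    refine (finite_near (X := (U : Scheme.{u})) ξ hloc hK).subset fun i ⟨y, hy, hyV⟩ ↦ ?_
    exact ⟨ξ i, subset_closure rfl, (specializes_iff_mem_closure.mpr hy).mem_open V.2 hyV⟩
  obtain ⟨D, hD⟩ := exists_cycle_sum hδ (fun i ↦ U.ι (ξ i)) g hg0 hlocX
  have hDU : ∀ u : ↥U, D (U.ι u) = (αU - βU) u := fun u ↦ by
    rw [hD, hsum u]
    refine finsum_congr fun i ↦ ?_
    rw [← hg i]
    exact (divFun_openImmersion U.ι hδ (ξ i) u (g i) (hg0 i)).symm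
  refine ⟨α - β - D, fun x hx ↦ ?_, fun x hx ↦ ?_, ι, fun i ↦ U.ι (ξ i), g, hξ, hg0, hlocX,
    fun x ↦ ?_⟩
  · simp only [Function.locallyFinsuppWithin.coe_sub, Pi.sub_apply, hα x hx, hβ x hx, hD]
    rw [finsum_eq_zero_of_forall_eq_zero fun i ↦ divFun_eq_zero_of_delta _ fun e ↦ hx (by
      have := hξ i
      simp only at this
      omega)]
    simp
  · obtain ⟨u, rfl⟩ : x ∈ Set.range U.ι := by rwa [Scheme.Opens.range_ι]
    simp only [Function.locallyFinsuppWithin.coe_sub, Pi.sub_apply, hDU, hαU, hβU]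
    simp
  · simp only [Function.locallyFinsuppWithin.coe_sub, Function.locallyFinsuppWithin.coe_add, Pi.sub_apply,
      Pi.add_apply, ← hD]
    ring

end Groth.Agent.CycLib28
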