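import Mathlib
import Groth.Prelude.Def_C1
import Groth.Prelude.Def_Pic
import Groth.Agent.CycLib28.OrdRestrict
import Groth.Agent.CycLib28.StalkGen
import Groth.Agent.VarietyLib.Dual
import Groth.Agent.QCohLoc.Basic

/-!
# Orders of rational sections of invertible modules
-/

universe u

open CategoryTheory AlgebraicGeometry IsLocalRing Groth.Agent.CycLim28

namespace Groth.Agent.CycLib28

variable {X : Scheme.{u}}

theorem stalkSpecializes_smul' (M : X.Modules) {ξ x : X} (h : ξ ⤳ x) (r : X.presheaf.stalk x)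
    (m : M.presheaf.stalk x) :
    M.presheaf.stalkSpecializes h (r • m) =
      (X.presheaf.stalkSpecializes h).hom r • M.presheaf.stalkSpecializes h m := by
  obtain ⟨U, hU, a, rfl⟩ := X.presheaf.exists_germ_eq r
  obtain ⟨V, hV, b, rfl⟩ := M.presheaf.exists_germ_eq m
  let W := U ⊓ V
  have hW : x ∈ W := ⟨hU, hV⟩
  rw [← TopCat.Presheaf.germ_res_apply X.presheaf (homOfLE (inf_le_left : W ≤ U)) x hW a,
    ← TopCat.Presheaf.germ_res_apply M.presheaf (homOfLE (inf_le_right : W ≤ V)) x hW b,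
    ← QCohLoc.germ_smul', TopCat.Presheaf.germ_stalkSpecializes_apply,
    TopCat.Presheaf.germ_stalkSpecializes_apply, TopCat.Presheaf.germ_stalkSpecializes_apply,
    QCohLoc.germ_smul']

theorem exists_gen_stalk {L : X.Modules} (hL : PicF.IsInvertible L) (x : X) :
    ∃ g : L.presheaf.stalk x, Function.Bijective (fun r : X.presheaf.stalk x ↦ r • g) ∧
      ∀ (ξ : X) (h : ξ ⤳ x),
        Function.Bijective (fun r : X.presheaf.stalk ξ ↦ r • L.presheaf.stalkSpecializes h g) := by
  obtain ⟨U, hxU, e, he⟩ := PicLib.exists_isGen hL x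
  refine ⟨L.presheaf.germ U x hxU e, VarietyLib.gen_germ_bijective he hxU, fun ξ h ↦ ?_⟩
  rw [TopCat.Presheaf.germ_stalkSpecializes_apply]
  exact VarietyLib.gen_germ_bijective he (h.mem_open U.2 hxU)

/-- any generator of the stalk of an invertible module is free and stays one under generisation -/
theorem gen_bijective {L : X.Modules} (hL : PicF.IsInvertible L) {x : X} {t : L.presheaf.stalk x}
    (ht : Submodule.span (X.presheaf.stalk x) {t} = ⊤) :
    Function.Bijective (fun r : X.presheaf.stalk x ↦ r • t) ∧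
      ∀ (ξ : X) (h : ξ ⤳ x),
        Function.Bijective (fun r : X.presheaf.stalk ξ ↦ r • L.presheaf.stalkSpecializes h t) := by
  obtain ⟨g, hg, hg'⟩ := exists_gen_stalk hL x
  obtain ⟨a, ha⟩ := hg.2 t
  obtain ⟨b, hb⟩ := Submodule.mem_span_singleton.mp (ht.ge (Submodule.mem_top (x := g)))
  have hba : b * a = 1 := hg.1 (by simp only [mul_smul, one_smul]; exact (congrArg (b • ·) ha).trans hb)
  have hu : IsUnit a := IsUnit.of_mul_eq_one_right b hba
  have key : ∀ {R M : Type u} [CommRing R] [AddCommGroup M] [Module R M] (v : M) (w : R), IsUnit w →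
      Function.Bijective (fun r : R ↦ r • v) → Function.Bijective (fun r : R ↦ r • (w • v)) := by
    intro R M _ _ _ v w hw hv
    obtain ⟨w, rfl⟩ := hw
    simp only [smul_smul]
    exact hv.comp w.mulRight.bijective
  refine ⟨ha ▸ key g a hu hg, fun ξ h ↦ ?_⟩
  rw [← ha, stalkSpecializes_smul']
  exact key _ _ (hu.map _) (hg' ξ h)

theorem exists_choose_coeff {L : X.Modules} (hL : PicF.IsInvertible L) (x : X) (m : L.presheaf.stalk x) :
    ∃ (ht : ∃ t : L.presheaf.stalk x, Submodule.span (X.presheaf.stalk x) {t} = ⊤) (f : X.presheaf.stalk x),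
      m = f • ht.choose := by
  obtain ⟨g, hg, -⟩ := exists_gen_stalk hL x
  have ht : ∃ t : L.presheaf.stalk x, Submodule.span (X.presheaf.stalk x) {t} = ⊤ := by
    refine ⟨g, eq_top_iff.mpr fun m _ ↦ ?_⟩
    obtain ⟨r, rfl⟩ := hg.2 m
    exact Submodule.smul_mem _ _ (Submodule.subset_span rfl)
  obtain ⟨f, hf⟩ := (gen_bijective hL ht.choose_spec).1.2 m
  exact ⟨ht, f, hf.symm⟩

/-- the value of a section vanishes iff its coefficient lies in the prime -/
theorem mk_eq_zero_iff {L : X.Modules} (hL : PicF.IsInvertible L) {ξ x : X} (h : ξ ⤳ x)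
    {t : L.presheaf.stalk x} (ht : Submodule.span (X.presheaf.stalk x) {t} = ⊤) (φ : X.presheaf.stalk ξ) :
    (Submodule.Quotient.mk (φ • L.presheaf.stalkSpecializes h t) : Cyc.secFibre L ξ) = 0 ↔
      (X.residue ξ).hom φ = 0 := by
  let e := LinearEquiv.ofBijective
    (LinearMap.toSpanSingleton (X.presheaf.stalk ξ) (L.presheaf.stalk ξ) (L.presheaf.stalkSpecializes h t))
    ((gen_bijective hL ht).2 ξ h)
  rw [Submodule.Quotient.mk_eq_zero]
  have : φ • L.presheaf.stalkSpecializes h t = e φ := rfl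
  rw [this, show (X.residue ξ).hom φ = 0 ↔ φ ∈ maximalIdeal (X.presheaf.stalk ξ) from IsLocalRing.residue_eq_zero_iff φ]
  have hm : (maximalIdeal (X.presheaf.stalk ξ) • (⊤ : Submodule (X.presheaf.stalk ξ) (L.presheaf.stalk ξ))) =
      Submodule.map e.toLinearMap (maximalIdeal (X.presheaf.stalk ξ)) := by
    conv_rhs => rw [← Ideal.mul_top (maximalIdeal _), ← Ideal.smul_eq_mul]
    rw [Submodule.map_smul'', Submodule.map_top, LinearMap.range_eq_top.mpr e.surjective]
  rw [hm]
  exact ⟨fun ⟨ψ, hψ, he⟩ ↦ e.injective he ▸ hψ, fun hφ ↦ ⟨φ, hφ, rfl⟩⟩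

theorem secOrdAt_germ {L : X.Modules} (hL : PicF.IsInvertible L) {ξ x : X} (h : ξ ⤳ x)
    (ht : ∃ t : L.presheaf.stalk x, Submodule.span (X.presheaf.stalk x) {t} = ⊤)
    (s : L.presheaf.obj (Opposite.op ⊤)) (f : X.presheaf.stalk x)
    (hf : (L.presheaf.germ ⊤ x trivial) s = f • ht.choose) :
    (L.presheaf.germ ⊤ ξ trivial) s = (X.presheaf.stalkSpecializes h).hom f • L.presheaf.stalkSpecializes h ht.choose ∧
      Cyc.secOrdAt L ξ x h (Submodule.Quotient.mk ((L.presheaf.germ ⊤ ξ trivial) s)) =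
        Cyc.ordAt x ξ h (Cyc.specMap x ξ h f) := by
  have hs : (L.presheaf.germ ⊤ ξ trivial) s =
      (X.presheaf.stalkSpecializes h).hom f • L.presheaf.stalkSpecializes h ht.choose := by
    rw [← stalkSpecializes_smul', ← hf, TopCat.Presheaf.germ_stalkSpecializes_apply]
  refine ⟨hs, ?_⟩
  unfold Cyc.secOrdAt
  rw [dif_pos ht]
  have hex : ∃ φ : X.presheaf.stalk ξ,
      (Submodule.Quotient.mk ((L.presheaf.germ ⊤ ξ trivial) s) : Cyc.secFibre L ξ) =
        φ • Submodule.Quotient.mk ((L.presheaf.stalkSpecializes h) ht.choose) :=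
    ⟨(X.presheaf.stalkSpecializes h).hom f, by rw [hs, Submodule.Quotient.mk_smul]⟩
  rw [dif_pos hex]
  have hφ := Classical.choose_spec hex
  revert hφ
  generalize Classical.choose hex = c
  intro hφ
  congr 1
  rw [hs, ← Submodule.Quotient.mk_smul, ← sub_eq_zero, ← Submodule.Quotient.mk_sub, ← sub_smul,
    mk_eq_zero_iff hL h ht.choose_spec, map_sub, sub_eq_zero] at hφ
  exact hφ.symm

theorem ker_specMap {x : X} (P : PrimeSpectrum (X.presheaf.stalk x)) (h : X.fromSpecStalk x P ⤳ x) :
    RingHom.ker (Cyc.specMap x (X.fromSpecStalk x P) h) = P.asIdeal := by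
  have e := congrArg PrimeSpectrum.asIdeal (eq_comap_closedPoint x P)
  ext a
  rw [RingHom.mem_ker, e]
  exact IsLocalRing.residue_eq_zero_iff _

theorem ker_specMap_genericPoint [IsIntegral X] (x : X) (h : genericPoint X ⤳ x) :
    RingHom.ker (Cyc.specMap x (genericPoint X) h) = ⊥ := by
  rw [← RingHom.injective_iff_ker_eq_bot]
  exact (show Function.Injective (X.residue (genericPoint X)).hom from
    RingHom.injective (X.residue (genericPoint X)).hom).comp (IsFractionRing.injective (X.presheaf.stalk x) X.functionField)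

end Groth.Agent.CycLib28
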