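import Mathlib
import Groth.Prelude.Def_C1
import Groth.Agent.CycLib28.SecOrd
import Groth.Agent.CycLib28.Support
import Groth.Agent.S1833

/-!
# The zero scheme of a section and the first Chern class
-/

universe u

open CategoryTheory AlgebraicGeometry IsLocalRing Groth.Agent.CycLim28
open scoped Pointwise

namespace Groth.Agent.CycLib28

theorem length_localization {A B : Type u} [CommRing A] [CommRing B] [Algebra A B] (P : Ideal A) [P.IsPrime]
    [IsLocalization P.primeCompl B] :
    Module.length (Localization.AtPrime P) (LocalizedModule P.primeCompl A) = Module.length B B := by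
  let e₁ : LocalizedModule P.primeCompl A ≃ₗ[A] Localization.AtPrime P :=
    IsLocalizedModule.linearEquiv P.primeCompl (LocalizedModule.mkLinearMap P.primeCompl A)
      (Algebra.linearMap A (Localization.AtPrime P))
  rw [(e₁.extendScalarsOfIsLocalization P.primeCompl (Localization.AtPrime P)).length_eq]
  let e : Localization.AtPrime P ≃ₐ[A] B := IsLocalization.algEquiv P.primeCompl _ _
  algebraize [e.toRingEquiv.toRingHom]
  rw [← Module.length_eq_of_surjective (S := Localization.AtPrime P) (M := B) (R := B) e.surjective]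
  exact (LinearEquiv.ofBijective (Algebra.linearMap (Localization.AtPrime P) B) e.bijective).length_eq

variable {X : Scheme.{u}}

theorem length_stalk_fromSpecStalk (x : X) (P : PrimeSpectrum (X.presheaf.stalk x)) :
    Module.length (Localization.AtPrime P.asIdeal) (LocalizedModule P.asIdeal.primeCompl (X.presheaf.stalk x)) =
      Module.length (X.presheaf.stalk (X.fromSpecStalk x P)) (X.presheaf.stalk (X.fromSpecStalk x P)) := by
  algebraize [(X.presheaf.stalkSpecializes (fromSpecStalk_specializes x P)).hom]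
  have h := Misc15.isLocalization_stalkSpecializes (fromSpecStalk_specializes x P)
  have e : (IsUnit.submonoid (X.presheaf.stalk (X.fromSpecStalk x P))).comap
      (X.presheaf.stalkSpecializes (fromSpecStalk_specializes x P)).hom = P.asIdeal.primeCompl := by
    ext a
    have h1 := congrArg PrimeSpectrum.asIdeal (eq_comap_closedPoint x P)
    rw [PrimeSpectrum.comap_asIdeal] at h1
    change IsUnit _ ↔ a ∉ P.asIdeal
    rw [h1, Ideal.mem_comap]
    exact IsLocalRing.notMem_maximalIdeal.symm
  rw [e] at h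
  exact length_localization P.asIdeal

theorem finsum_over_primes (x : X) (g : X → ℤ) (hg : ∀ ξ, g ξ ≠ 0 → ξ ⤳ x) :
    ∑ᶠ ξ, g ξ = ∑ᶠ P : PrimeSpectrum (X.presheaf.stalk x), g (X.fromSpecStalk x P) := by
  refine Eq.trans (Eq.symm ?_) (finsum_mem_range (fromSpecStalk_injective x))
  rw [finsum_mem_def]
  refine finsum_congr fun ξ ↦ ?_
  by_cases hξ : g ξ = 0
  · rw [hξ]; exact Set.indicator_apply_eq_zero.mpr fun _ ↦ hξ
  · obtain ⟨P, rfl⟩ := exists_fromSpecStalk_eq (hg ξ hξ)
    rw [Set.indicator_of_mem (Set.mem_range_self P)]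

theorem subschemeFun_id (δ : X → ℤ) (k : ℤ) (ξ : X) :
    Cyc.subschemeFun δ k (𝟙 X) ξ =
      if δ ξ = k then ((Module.length (X.presheaf.stalk ξ) (X.presheaf.stalk ξ)).toNat : ℤ) else 0 := by
  rw [Cyc.subschemeFun]
  split_ifs with h
  · rw [show {z : X | (𝟙 X : X ⟶ X) z = ξ} = {ξ} from Set.ext fun z ↦ by simp, finsum_mem_singleton]
  · rfl

theorem toNat_finsum {α : Type*} (s : Finset α) (a : α → ℕ∞) (h : ∑ i ∈ s, a i ≠ ⊤) :
    (∑ i ∈ s, a i).toNat = ∑ i ∈ s, (a i).toNat := by
  classical
  induction s using Finset.induction_on with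
  | empty => simp
  | insert i s hi ih =>
    rw [Finset.sum_insert hi] at h ⊢
    rw [Finset.sum_insert hi, ENat.toNat_add (fun e ↦ h (by rw [e, top_add])) (fun e ↦ h (by rw [e, add_top])),
      ih (fun e ↦ h (by rw [e, add_top]))]

theorem zeroSectionFun_eq_c1CapFun {δ : X → ℤ} [IsLocallyNoetherian X] (hδ : Cyc.IsDimFun X δ)
    {L : X.Modules} (hL : PicF.IsInvertible L) (k : ℤ) (hdim : ∀ y : X, δ y ≤ k + 1)
    (s : L.presheaf.obj (Opposite.op ⊤))
    (hZ : ∀ y : X, (L.presheaf.germ ⊤ y trivial) s ∈ maximalIdeal (X.presheaf.stalk y) •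
      (⊤ : Submodule (X.presheaf.stalk y) (L.presheaf.stalk y)) → δ y ≤ k)
    (hreg : ∀ y : X, δ y = k → Function.Injective
      (fun a : X.presheaf.stalk y => a • (L.presheaf.germ ⊤ y trivial) s)) :
    Cyc.zeroSectionFun δ k L s = Cyc.c1CapFun δ L (Cyc.subschemeFun δ (k + 1) (𝟙 X))
      (fun ξ => Submodule.Quotient.mk ((L.presheaf.germ ⊤ ξ trivial) s)) := by
  classical
  funext x
  rw [Cyc.c1CapFun]
  by_cases hx : δ x = k
  swap
  · rw [finsum_eq_zero_of_forall_eq_zero, Cyc.zeroSectionFun, if_neg hx]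
    intro ξ
    rw [subschemeFun_id]
    split_ifs with hξ
    · rw [Cyc.secDivFun, dif_neg (fun h ↦ hx (by omega)), mul_zero]
    · exact zero_mul _
  obtain ⟨ht, f, hf⟩ := exists_choose_coeff hL x ((L.presheaf.germ ⊤ x trivial) s)
  have hinjt := (gen_bijective hL ht.choose_spec).1.1
  rw [Cyc.zeroSectionFun, if_pos hx, dif_pos ht, dif_pos ⟨f, hf⟩,
    show Classical.choose (⟨f, hf⟩ : ∃ f' : X.presheaf.stalk x,
        (L.presheaf.germ ⊤ x trivial) s = f' • ht.choose) = f from
      hinjt ((Classical.choose_spec (⟨f, hf⟩ : ∃ f' : X.presheaf.stalk x,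
          (L.presheaf.germ ⊤ x trivial) s = f' • ht.choose)).symm.trans hf)]
  have hfr : Function.Injective (fun a : X.presheaf.stalk x => f * a) := fun a b hab ↦ hreg x hx (by
    simp only [hf, smul_smul]
    rw [mul_comm a f, mul_comm b f, show f * a = f * b from hab])
  have hδP : ∀ P : PrimeSpectrum (X.presheaf.stalk x), P ≠ closedPoint _ →
      δ (X.fromSpecStalk x P) = k + 1 := fun P hP ↦ by
    have hne : X.fromSpecStalk x P ≠ x := fun e ↦ hP (fromSpecStalk_injective x
      (e.trans (Scheme.fromSpecStalk_closedPoint).symm))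
    have h1 := (hδ _ _ (fromSpecStalk_specializes x P) hne).1
    have h2 := hdim (X.fromSpecStalk x P)
    omega
  have hnot : ∀ P : PrimeSpectrum (X.presheaf.stalk x), P ≠ closedPoint _ → f ∉ P.asIdeal := fun P hP hfP ↦ by
    have h1 := (secOrdAt_germ hL (fromSpecStalk_specializes x P) ht s f hf).1
    have h2 := (mk_eq_zero_iff hL (fromSpecStalk_specializes x P) ht.choose_spec
      ((X.presheaf.stalkSpecializes (fromSpecStalk_specializes x P)).hom f)).mpr (by
        rw [← ker_specMap P (fromSpecStalk_specializes x P)] at hfP; exact hfP)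
    rw [← h1, Submodule.Quotient.mk_eq_zero] at h2
    have := hZ _ h2
    have := hδP P hP
    omega
  have hmin : ∀ P : PrimeSpectrum (X.presheaf.stalk x), P ≠ closedPoint _ →
      P.asIdeal ∈ minimalPrimes (X.presheaf.stalk x) := fun P hP ↦ by
    obtain ⟨q, hq, hqP⟩ := Ideal.exists_minimalPrimes_le (bot_le : ⊥ ≤ P.asIdeal)
    rcases eq_or_lt_of_le hqP with e | hlt
    · exact e ▸ hq
    · exfalso
      have h1 := drop_lt hδ x (show (⟨q, hq.isPrime⟩ : PrimeSpectrum (X.presheaf.stalk x)) < P from hlt)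
      have h2 := hδP P hP
      have h3 := hdim (X.fromSpecStalk x ⟨q, hq.isPrime⟩)
      simp only [drop] at h1
      omega
  have hSfin : {P : PrimeSpectrum (X.presheaf.stalk x) | P ≠ closedPoint _}.Finite :=
    ((Ideal.finite_minimalPrimes_of_isNoetherianRing (X.presheaf.stalk x) ⊥).preimage
      (fun P _ Q _ e ↦ PrimeSpectrum.ext e)).subset fun P hP ↦ hmin P hP
  have hsd1 : Module.supportDim (X.presheaf.stalk x) (X.presheaf.stalk x) ≤ 1 := by
    rw [Module.supportDim_self_eq_ringKrullDim, ringKrullDim, Order.krullDim]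
    refine iSup_le fun σ ↦ ?_
    have h1 := series_le hδ x σ
    have h2 := hdim (X.fromSpecStalk x σ.head)
    simp only [drop] at h1
    exact_mod_cast (show σ.length ≤ 1 by omega)
  have hQsupp : ∀ P ∈ Module.support (X.presheaf.stalk x)
      (X.presheaf.stalk x ⧸ f • (⊤ : Submodule (X.presheaf.stalk x) (X.presheaf.stalk x))),
      P = closedPoint _ := fun P hP ↦ by
    by_contra hne
    rw [Module.mem_support_iff_of_finite] at hP
    refine hnot P hne (hP (Module.mem_annihilator.mpr ?_))
    rintro ⟨a⟩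
    exact (Submodule.Quotient.mk_eq_zero _).mpr ⟨a, trivial, rfl⟩
  have hsd0 : Module.supportDim (X.presheaf.stalk x)
      (X.presheaf.stalk x ⧸ f • (⊤ : Submodule (X.presheaf.stalk x) (X.presheaf.stalk x))) ≤ 0 := by
    have : Subsingleton ↥(Module.support (X.presheaf.stalk x)
      (X.presheaf.stalk x ⧸ f • (⊤ : Submodule (X.presheaf.stalk x) (X.presheaf.stalk x)))) :=
      ⟨fun a b ↦ Subtype.ext ((hQsupp _ a.2).trans (hQsupp _ b.2).symm)⟩
    exact Order.krullDim_nonpos_of_subsingleton
  have hmain := Groth.Agent.S1833.result (X.presheaf.stalk x) (X.presheaf.stalk x) f hsd1 hsd0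
  have hquot : Module.length (X.presheaf.stalk x) (X.presheaf.stalk x ⧸ f • (⊤ : Submodule (X.presheaf.stalk x) (X.presheaf.stalk x))) =
      Module.length (X.presheaf.stalk x) (X.presheaf.stalk x ⧸ Ideal.span {f}) :=
    (Submodule.quotEquivOfEq _ _ (by rw [← Submodule.ideal_span_singleton_smul, Ideal.smul_eq_mul, Ideal.mul_top])).length_eq
  have hker : LinearMap.ker (LinearMap.lsmul (X.presheaf.stalk x) (X.presheaf.stalk x) f) = ⊥ :=
    LinearMap.ker_eq_bot.mpr hfr
  rw [hquot, hker, Module.length_bot, zero_add] at hmain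
  have hne_top : Module.length (X.presheaf.stalk x) (X.presheaf.stalk x ⧸ Ideal.span {f}) ≠ ⊤ := by
    refine length_ne_top_of_annihilator fun q hq ↦ ?_
    by_contra hne
    refine hnot q hne (hq (Module.mem_annihilator.mpr ?_))
    rintro ⟨a⟩
    exact (Submodule.Quotient.mk_eq_zero _).mpr (Ideal.mem_span_singleton'.mpr ⟨a, mul_comm a f⟩)
  let F : Finset (PrimeSpectrum (X.presheaf.stalk x)) := hSfin.toFinset
  rw [finsum_over_primes x (fun ξ ↦ Cyc.subschemeFun δ (k + 1) (𝟙 X) ξ * Cyc.secDivFun δ L ξ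
      (Submodule.Quotient.mk ((L.presheaf.germ ⊤ ξ trivial) s)) x) (fun ξ hξ ↦ by
      by_contra hns
      exact hξ (by rw [Cyc.secDivFun, dif_neg (fun h ↦ hns h.1), mul_zero])),
    finsum_eq_sum_of_support_subset _ (s := F) (fun P hP ↦ by
      simp only [F, Set.Finite.coe_toFinset, Set.mem_setOf_eq]
      intro e
      refine hP ?_
      change Cyc.subschemeFun δ (k + 1) (𝟙 X) (X.fromSpecStalk x P) * _ = 0
      rw [subschemeFun_id, if_neg (by rw [e, Scheme.fromSpecStalk_closedPoint]; omega), zero_mul])]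
  have hsum : (∑ᶠ (p : PrimeSpectrum (X.presheaf.stalk x))
      (_ : p ∈ Module.support (X.presheaf.stalk x) (X.presheaf.stalk x) ∧ p.asIdeal ≠ maximalIdeal (X.presheaf.stalk x)),
      Ring.ord (X.presheaf.stalk x ⧸ p.asIdeal) (Ideal.Quotient.mk p.asIdeal f) *
        Module.length (Localization.AtPrime p.asIdeal) (LocalizedModule p.asIdeal.primeCompl (X.presheaf.stalk x))) =
      ∑ p ∈ F, Ring.ord (X.presheaf.stalk x ⧸ p.asIdeal) (Ideal.Quotient.mk p.asIdeal f) *
        Module.length (Localization.AtPrime p.asIdeal) (LocalizedModule p.asIdeal.primeCompl (X.presheaf.stalk x)) := by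
    refine finsum_cond_eq_sum_of_cond_iff _ fun {p} _ ↦ ?_
    simp only [F, Set.Finite.mem_toFinset, Set.mem_setOf_eq]
    refine ⟨fun h e ↦ h.2 (e ▸ rfl), fun h ↦ ⟨?_, fun e ↦ h (PrimeSpectrum.ext e)⟩⟩
    rw [Module.mem_support_iff_of_finite, Module.annihilator_eq_bot.mpr inferInstance]
    exact bot_le
  rw [hsum] at hmain
  rw [hmain] at hne_top ⊢
  rw [toNat_finsum F _ hne_top, Nat.cast_sum]
  refine Finset.sum_congr rfl fun P hP ↦ ?_
  have hP' : P ≠ closedPoint _ := by simpa [F] using hP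
  have hd : δ x + 1 = δ (X.fromSpecStalk x P) := by rw [hδP P hP', hx]
  have hsp : Cyc.specMap x (X.fromSpecStalk x P) (fromSpecStalk_specializes x P) f ≠ 0 := fun h0 ↦
    hnot P hP' (by rw [← ker_specMap P (fromSpecStalk_specializes x P)]; exact h0)
  rw [subschemeFun_id, if_pos (hδP P hP'), Cyc.secDivFun, dif_pos ⟨fromSpecStalk_specializes x P, hd⟩,
    (secOrdAt_germ hL (fromSpecStalk_specializes x P) ht s f hf).2,
    ordAt_formula hδ (fromSpecStalk_specializes x P) hd f hsp, ker_specMap,
    ← length_stalk_fromSpecStalk, ← Nat.cast_mul, ← ENat.toNat_mul, mul_comm]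
  congr 3
  rw [Ring.ord, ← bot_sup_eq (Ideal.span {Ideal.Quotient.mk P.asIdeal f}),
    ord_eq_of_surjective (Ideal.Quotient.mk P.asIdeal) Ideal.Quotient.mk_surjective ⊥ _ f rfl,
    ← RingHom.ker_eq_comap_bot, Ideal.mk_ker]

end Groth.Agent.CycLib28
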