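import Mathlib
import Groth.Prelude.Def_Cyc
import Groth.Agent.CycLib28.FlatDim
import Groth.Agent.CycLib28.ZeroSec
import Groth.Agent.CycLib28.FiniteDeg

/-!
# Flat pullback of principal divisors
-/

universe u

open CategoryTheory AlgebraicGeometry IsLocalRing Groth.Agent.CycLim28
open scoped Pointwise TensorProduct

namespace Groth.Agent.CycLib28

variable {X Y : Scheme.{u}}

theorem length_localized_quotient {A B : Type u} [CommRing A] [CommRing B] [Algebra A B] (P : Ideal A) [P.IsPrime]
    [IsLocalization P.primeCompl B] (J : Ideal A) :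
    Module.length (Localization.AtPrime P) (LocalizedModule P.primeCompl (A ⧸ J)) =
      Module.length B (B ⧸ J.map (algebraMap A B)) := by
  rw [(LocalizedModule.equivTensorProduct P.primeCompl (A ⧸ J)).length_eq,
    ← (Algebra.TensorProduct.quotIdealMapEquivTensorQuot (Localization.AtPrime P) J).toLinearEquiv.length_eq,
    length_quot_equiv (IsLocalization.algEquiv P.primeCompl (Localization.AtPrime P) B).toRingEquiv,
    Ideal.map_map]
  congr 4
  all_goals exact RingHom.ext fun r ↦ (IsLocalization.algEquiv P.primeCompl (Localization.AtPrime P) B).commutes r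

theorem isLocalization_fromSpecStalk (x : X) (P : PrimeSpectrum (X.presheaf.stalk x)) :
    letI := (X.presheaf.stalkSpecializes (fromSpecStalk_specializes x P)).hom.toAlgebra
    IsLocalization P.asIdeal.primeCompl (X.presheaf.stalk (X.fromSpecStalk x P)) := by
  letI := (X.presheaf.stalkSpecializes (fromSpecStalk_specializes x P)).hom.toAlgebra
  have h := Misc15.isLocalization_stalkSpecializes (fromSpecStalk_specializes x P)
  have e : (IsUnit.submonoid (X.presheaf.stalk (X.fromSpecStalk x P))).comap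
      (X.presheaf.stalkSpecializes (fromSpecStalk_specializes x P)).hom = P.asIdeal.primeCompl := by
    ext a
    have h1 := congrArg PrimeSpectrum.asIdeal (eq_comap_closedPoint x P)
    rw [PrimeSpectrum.comap_asIdeal] at h1
    change IsUnit _ ↔ a ∉ P.asIdeal
    rw [h1, Ideal.mem_comap]
    exact IsLocalRing.notMem_maximalIdeal.symm
  rwa [e] at h

theorem map_ker_specMap_eq {x : X} (P : PrimeSpectrum (X.presheaf.stalk x))
    (h : X.fromSpecStalk x P ⤳ x) :
    (RingHom.ker (Cyc.specMap x (X.fromSpecStalk x P) h)).map (X.presheaf.stalkSpecializes h).hom =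
      maximalIdeal (X.presheaf.stalk (X.fromSpecStalk x P)) := by
  letI := (X.presheaf.stalkSpecializes h).hom.toAlgebra
  haveI := isLocalization_fromSpecStalk x P
  rw [ker_specMap P h]
  exact IsLocalization.AtPrime.map_eq_maximalIdeal P.asIdeal (X.presheaf.stalk (X.fromSpecStalk x P))

theorem map_ker_specMap {x ξ : X} (h : ξ ⤳ x) :
    (RingHom.ker (Cyc.specMap x ξ h)).map (X.presheaf.stalkSpecializes h).hom =
      maximalIdeal (X.presheaf.stalk ξ) := by
  obtain ⟨P, rfl⟩ := exists_fromSpecStalk_eq h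
  exact map_ker_specMap_eq P h

theorem specMap_residueFieldCongr {y η η' : Y} (e : η' = η) (h : η ⤳ y) (a : Y.presheaf.stalk y) :
    (Y.residueFieldCongr e.symm).hom (Cyc.specMap y η h a) = Cyc.specMap y η' (e.symm ▸ h) a := by
  subst e
  simp

theorem map_map_ker_specMap (f : X ⟶ Y) {x z : X} {η : Y} (e : f z = η) (h : η ⤳ f x) (hsp : z ⤳ x) :
    ((RingHom.ker (Cyc.specMap (f x) η h)).map (f.stalkMap x).hom).map (X.presheaf.stalkSpecializes hsp).hom =
      (maximalIdeal (Y.presheaf.stalk (f z))).map (f.stalkMap z).hom := by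
  subst e
  rw [← map_ker_specMap h, Ideal.map_map, Ideal.map_map]
  congr 1
  exact RingHom.ext fun c ↦ (Scheme.Hom.stalkSpecializes_stalkMap_apply f z x hsp c).symm

theorem mul_left_injective_flat (f : X ⟶ Y) [Flat f] (x : X) (p : Ideal (Y.presheaf.stalk (f x))) [p.IsPrime]
    (a : Y.presheaf.stalk (f x)) (ha : a ∉ p) :
    Function.Injective fun m : X.presheaf.stalk x ⧸ p.map (f.stalkMap x).hom ↦ (f.stalkMap x).hom a • m := by
  algebraize [(f.stalkMap x).hom]
  have : Module.Flat (Y.presheaf.stalk (f x)) (X.presheaf.stalk x) := Flat.stalkMap f x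
  have hreg : IsSMulRegular (Y.presheaf.stalk (f x) ⧸ p) a := by
    intro m m' hmm
    obtain ⟨m, rfl⟩ := Ideal.Quotient.mk_surjective m
    obtain ⟨m', rfl⟩ := Ideal.Quotient.mk_surjective m'
    refine Ideal.Quotient.eq.mpr ((‹p.IsPrime›.mem_or_mem ?_).resolve_left ha)
    rw [mul_sub]
    exact Ideal.Quotient.eq.mp hmm
  have hT := Module.Flat.lTensor_preserves_injective_linearMap (M := X.presheaf.stalk x)
    (LinearMap.lsmul (Y.presheaf.stalk (f x)) (Y.presheaf.stalk (f x) ⧸ p) a) hreg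
  intro m m' hmm
  let e := Algebra.TensorProduct.quotIdealMapEquivTensorQuot (X.presheaf.stalk x) p
  refine e.injective (hT ?_)
  have key : ∀ z, LinearMap.lTensor (X.presheaf.stalk x)
      (LinearMap.lsmul (Y.presheaf.stalk (f x)) (Y.presheaf.stalk (f x) ⧸ p) a) z =
      (algebraMap (Y.presheaf.stalk (f x)) (X.presheaf.stalk x) a) • z := by
    intro z
    rw [algebraMap_smul]
    induction z using TensorProduct.induction_on with
    | zero => simp
    | tmul b c => simp
    | add b c hb hc => rw [map_add, hb, hc, smul_add]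
  rw [key, key, ← map_smul e, ← map_smul e]
  exact congrArg e hmm

theorem length_quot_quot {A : Type u} [CommRing A] (I : Ideal A) (b : A) :
    Module.length A ((A ⧸ I) ⧸ b • (⊤ : Submodule A (A ⧸ I))) =
      Module.length A (A ⧸ (I ⊔ Ideal.span {b})) := by
  refine ((Submodule.quotEquivOfEq _ ((I ⊔ Ideal.span {b} : Submodule A A).map (Submodule.mkQ I)) ?_).trans
    (Submodule.quotientQuotientEquivQuotient I (I ⊔ Ideal.span {b}) le_sup_left)).length_eq
  refine le_antisymm ?_ ?_
  · intro z hz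
    obtain ⟨w, -, rfl⟩ := Submodule.mem_smul_pointwise_iff_exists _ _ _ |>.mp hz
    obtain ⟨c, rfl⟩ := Submodule.mkQ_surjective I w
    exact ⟨b • c, Submodule.mem_sup_right (Ideal.mem_span_singleton'.mpr ⟨c, mul_comm c b⟩), map_smul _ _ _⟩
  · rintro z ⟨w, hw, rfl⟩
    obtain ⟨i, hi, j, hj, rfl⟩ := Submodule.mem_sup.mp hw
    obtain ⟨c, rfl⟩ := Ideal.mem_span_singleton'.mp hj
    refine Submodule.mem_smul_pointwise_iff_exists _ _ _ |>.mpr ⟨Submodule.mkQ I c, trivial, ?_⟩
    rw [map_add, show Submodule.mkQ I i = 0 from (Submodule.Quotient.mk_eq_zero I).mpr hi, zero_add,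
      ← map_smul, smul_eq_mul, mul_comm]

theorem length_flat_quotient (f : X ⟶ Y) [Flat f] (x : X) (p : Ideal (Y.presheaf.stalk (f x)))
    (a : Y.presheaf.stalk (f x)) :
    Module.length (X.presheaf.stalk x)
      ((X.presheaf.stalk x ⧸ p.map (f.stalkMap x).hom) ⧸
        (f.stalkMap x).hom a • (⊤ : Submodule (X.presheaf.stalk x) (X.presheaf.stalk x ⧸ p.map (f.stalkMap x).hom))) =
      Module.length (Y.presheaf.stalk (f x)) (Y.presheaf.stalk (f x) ⧸ (p ⊔ Ideal.span {a})) * lenFibre f x := by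
  algebraize [(f.stalkMap x).hom]
  have : Module.Flat (Y.presheaf.stalk (f x)) (X.presheaf.stalk x) := Flat.stalkMap f x
  have : IsLocalHom (algebraMap (Y.presheaf.stalk (f x)) (X.presheaf.stalk x)) :=
    inferInstanceAs (IsLocalHom (f.stalkMap x).hom)
  refine Eq.trans ?_ (IsLocalRing.length_baseChange (Y.presheaf.stalk (f x)) (X.presheaf.stalk x)
    (Y.presheaf.stalk (f x) ⧸ (p ⊔ Ideal.span {a})))
  refine Eq.trans ?_ (Algebra.TensorProduct.quotIdealMapEquivTensorQuot (X.presheaf.stalk x)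
    (p ⊔ Ideal.span {a})).toLinearEquiv.length_eq
  rw [Ideal.map_sup, Ideal.map_span, Set.image_singleton]
  exact length_quot_quot _ _

theorem ordAt_length [IsLocallyNoetherian Y] {δ : Y → ℤ} (hδ : Cyc.IsDimFun Y δ) {y η : Y} (h : η ⤳ y)
    (hd : δ y + 1 = δ η) (a : Y.presheaf.stalk y) (ha : Cyc.specMap y η h a ≠ 0) :
    Ring.ord (Y.presheaf.stalk y ⧸ RingHom.ker (Cyc.specMap y η h))
        (Ideal.Quotient.mk (RingHom.ker (Cyc.specMap y η h)) a) =
      Module.length (Y.presheaf.stalk y) (Y.presheaf.stalk y ⧸ (RingHom.ker (Cyc.specMap y η h) ⊔ Ideal.span {a})) := by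
  rw [Ring.ord, ← bot_sup_eq (Ideal.span {Ideal.Quotient.mk (RingHom.ker (Cyc.specMap y η h)) a}),
    ord_eq_of_surjective (Ideal.Quotient.mk _) Ideal.Quotient.mk_surjective ⊥ _ a rfl,
    ← RingHom.ker_eq_comap_bot, Ideal.mk_ker]

/-- flat pullback of the divisor of a rational function on the closure of `η` -/
theorem pullFun_divFun (f : X ⟶ Y) [Flat f] [IsLocallyNoetherian X] [IsLocallyNoetherian Y] {δX : X → ℤ}
    {δY : Y → ℤ} (hX : Cyc.IsDimFun X δX) (hY : Cyc.IsDimFun Y δY) (r : ℤ)
    (hc : ∀ x, GenInFibre f x → δX x = δY (f x) + r) (η : Y) (g : Y.residueField η) (hg : g ≠ 0) (x : X) :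
    Cyc.pullFun f δX δY r (Cyc.divFun δY η g) x =
      ∑ᶠ ξ : {ξ : X // GenInFibre f ξ ∧ f ξ = η}, ((lenFibre f ξ.1).toNat : ℤ) *
        Cyc.divFun δX ξ.1 (f.residueFieldMap ξ.1 ((Y.residueFieldCongr ξ.2.2.symm).hom g)) x := by
  classical
  rw [pullFun_eq f δX δY r hc]
  have hbound : ∀ z, δX z ≤ δY (f z) + r ∧ (δX z = δY (f z) + r → GenInFibre f z) := fun z ↦ by
    obtain ⟨w, hwz, hfw, hw⟩ := exists_genInFibre f z
    have h1 := hc w hw
    rw [hfw] at h1
    have h2 := le_of_specializes hX hwz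
    refine ⟨by omega, fun h3 ↦ ?_⟩
    rwa [← eq_of_specializes_of_le hX hwz (by omega)]
  by_cases hx : δX x + 1 = δY η + r
  swap
  · rw [finsum_eq_zero_of_forall_eq_zero]
    · by_cases hy : η ⤳ f x ∧ δY (f x) + 1 = δY η
      · by_cases hgx : GenInFibre f x
        · exact absurd (by have := hc x hgx; omega) hx
        · rw [lenFibre_eq_top f hgx]; simp
      · rw [Cyc.divFun, dif_neg hy, zero_mul]
    · intro ξ
      rw [divFun_eq_zero_of_delta, mul_zero]
      have := hc ξ.1 ξ.2.1
      rw [ξ.2.2] at this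
      omega
  by_cases hηy : η ⤳ f x
  swap
  · rw [divFun_eq_zero_of_not_specializes _ hηy, zero_mul, finsum_eq_zero_of_forall_eq_zero]
    intro ξ
    rw [divFun_eq_zero_of_not_specializes, mul_zero]
    exact fun h ↦ hηy (ξ.2.2 ▸ h.map f.continuous)
  have hdξ : ∀ ξ : {ξ : X // GenInFibre f ξ ∧ f ξ = η}, δX x + 1 = δX ξ.1 := fun ξ ↦ by
    have := hc ξ.1 ξ.2.1
    rw [ξ.2.2] at this
    omega
  have hyk : δY (f x) + 1 = δY η ∨ f x = η := by
    rcases eq_or_ne (f x) η with h | h
    · exact .inr h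
    · have := (hY η (f x) hηy h.symm).1
      have := (hbound x).1
      omega
  -- the identity for elements of the local ring
  suffices key : ∀ a : Y.presheaf.stalk (f x), Cyc.specMap (f x) η hηy a ≠ 0 →
      Cyc.divFun δY η (Cyc.specMap (f x) η hηy a) (f x) * ((lenFibre f x).toNat : ℤ) =
        ∑ᶠ ξ : {ξ : X // GenInFibre f ξ ∧ f ξ = η}, ((lenFibre f ξ.1).toNat : ℤ) *
          Cyc.divFun δX ξ.1 (f.residueFieldMap ξ.1
            ((Y.residueFieldCongr ξ.2.2.symm).hom (Cyc.specMap (f x) η hηy a))) x by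
    obtain ⟨a, s, hs, has⟩ := specMap_surj hηy g
    have ha : Cyc.specMap (f x) η hηy a ≠ 0 := has ▸ mul_ne_zero hg hs
    have hgY : Cyc.divFun δY η g (f x) = Cyc.divFun δY η (Cyc.specMap (f x) η hηy a) (f x) -
        Cyc.divFun δY η (Cyc.specMap (f x) η hηy s) (f x) := by
      simp only [Cyc.divFun]
      split_ifs with h
      · rw [← has, ordAt_mul hY h.1 h.2 hg hs]; ring
      · simp
    have hfin : ∀ b, (Function.support fun ξ : {ξ : X // GenInFibre f ξ ∧ f ξ = η} ↦
        ((lenFibre f ξ.1).toNat : ℤ) * Cyc.divFun δX ξ.1 (f.residueFieldMap ξ.1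
          ((Y.residueFieldCongr ξ.2.2.symm).hom b)) x).Finite := by
      intro b
      have hmin : {q : PrimeSpectrum (X.presheaf.stalk x) | ∃ ξ : {ξ : X // GenInFibre f ξ ∧ f ξ = η},
          X.fromSpecStalk x q = ξ.1}.Finite := by
        refine ((Ideal.finite_minimalPrimes_of_isNoetherianRing (X.presheaf.stalk x)
          ((RingHom.ker (Cyc.specMap (f x) η hηy)).map (f.stalkMap x).hom)).preimage
          (fun P _ Q _ e ↦ PrimeSpectrum.ext e)).subset ?_
        rintro q ⟨ξ, hq⟩
        have hpq : (RingHom.ker (Cyc.specMap (f x) η hηy)).map (f.stalkMap x).hom ≤ q.asIdeal := by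
          rw [Ideal.map_le_iff_le_comap]
          intro c hc0
          rw [Ideal.mem_comap, ← ker_specMap q (fromSpecStalk_specializes x q), RingHom.mem_ker,
            ← residueFieldMap_specMap]
          have e : f (X.fromSpecStalk x q) = η := hq ▸ ξ.2.2
          rw [← specMap_residueFieldCongr e hηy c, RingHom.mem_ker.mp hc0, map_zero, map_zero]
        obtain ⟨P, hP, hPq⟩ := Ideal.exists_minimalPrimes_le hpq
        change q.asIdeal ∈ ((RingHom.ker (Cyc.specMap (f x) η hηy)).map (f.stalkMap x).hom).minimalPrimes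
        let P' : PrimeSpectrum (X.presheaf.stalk x) := ⟨P, hP.isPrime⟩
        have hs' : X.fromSpecStalk x P' ⤳ X.fromSpecStalk x q := (specializes_iff_le x P' q).mpr hPq
        have hfP : f (X.fromSpecStalk x P') = η := by
          refine eq_of_specializes_of_le hY ?_ ?_ |>.symm
          · obtain ⟨P₀, hP₀⟩ := exists_fromSpecStalk_eq hηy
            rw [← hP₀, apply_fromSpecStalk, specializes_iff_le]
            change P₀.asIdeal ≤ _
            rw [PrimeSpectrum.comap_asIdeal, ← Ideal.map_le_iff_le_comap]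
            subst hP₀
            rw [← ker_specMap P₀ hηy]
            exact hP.1.2
          · have := hs'.map f.continuous
            rw [hq, ξ.2.2] at this
            exact le_of_specializes hY this
        have : X.fromSpecStalk x P' = X.fromSpecStalk x q := by
          rw [hq]; exact ξ.2.1 _ (by rw [hfP, ξ.2.2]) (hq ▸ hs')
        rw [← fromSpecStalk_injective x this]
        exact hP
      refine ((hmin.image (X.fromSpecStalk x)).preimage Subtype.val_injective.injOn).subset fun ξ hξ ↦ ?_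
      by_contra hh
      refine hξ ?_
      change _ * _ = 0
      rw [divFun_eq_zero_of_not_specializes, mul_zero]
      intro hsp
      obtain ⟨q, hq⟩ := exists_fromSpecStalk_eq hsp
      exact hh ⟨q, ⟨ξ, hq⟩, hq⟩
    rw [hgY, sub_mul, key a ha, key s hs, ← finsum_sub_distrib (hfin _) (hfin _)]
    refine finsum_congr fun ξ ↦ ?_
    rw [← mul_sub]
    congr 1
    simp only [Cyc.divFun]
    split_ifs with h
    · rw [← has, map_mul, map_mul, ordAt_mul hX h.1 h.2 ?_ ?_]
      · ring
      · exact (map_ne_zero _).mpr ((map_ne_zero _).mpr hg)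
      · exact (map_ne_zero _).mpr ((map_ne_zero _).mpr hs)
    · simp
  intro a ha
  have hterm : ∀ (ξ : {ξ : X // GenInFibre f ξ ∧ f ξ = η}) (hsp : ξ.1 ⤳ x),
      (f.residueFieldMap ξ.1) ((Y.residueFieldCongr ξ.2.2.symm).hom (Cyc.specMap (f x) η hηy a)) =
        Cyc.specMap x ξ.1 hsp ((f.stalkMap x).hom a) := fun ξ hsp ↦ by
    rw [specMap_residueFieldCongr ξ.2.2 hηy a]
    exact residueFieldMap_specMap f hsp a
  rcases hyk with hy | hy
  swap
  · have hu : IsUnit a := by
      refine IsLocalRing.notMem_maximalIdeal.mp fun hm ↦ ha ?_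
      have hk := map_ker_specMap hηy
      subst hy
      have : Cyc.specMap (f x) (f x) hηy a = (Y.residue (f x)).hom a := by
        change (Y.residue (f x)).hom ((Y.presheaf.stalkSpecializes hηy).hom a) = _
        rw [show (Y.presheaf.stalkSpecializes hηy) = 𝟙 _ from TopCat.Presheaf.stalkSpecializes_refl _ _]
        rfl
      rw [this]
      exact (IsLocalRing.residue_eq_zero_iff a).mpr hm
    rw [Cyc.divFun, dif_neg (fun h ↦ by rw [hy] at h; omega), zero_mul, finsum_eq_zero_of_forall_eq_zero]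
    intro ξ
    rw [Cyc.divFun]
    split_ifs with h
    · rw [hterm ξ h.1, ordAt_unit hX h.1 h.2 _ (hu.map _), mul_zero]
    · exact mul_zero _
  set p : Ideal (Y.presheaf.stalk (f x)) := RingHom.ker (Cyc.specMap (f x) η hηy) with hp
  have hpp : p.IsPrime := RingHom.ker_isPrime _
  set J : Ideal (X.presheaf.stalk x) := p.map (f.stalkMap x).hom with hJ
  set b := (f.stalkMap x).hom a with hb
  have hxG : GenInFibre f x := (hbound x).2 (by omega)
  have hJle : ∀ P : PrimeSpectrum (X.presheaf.stalk x), J ≤ P.asIdeal → η ⤳ f (X.fromSpecStalk x P) := by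
    intro P hP
    obtain ⟨P₀, hP₀⟩ := exists_fromSpecStalk_eq hηy
    rw [← hP₀, apply_fromSpecStalk, specializes_iff_le]
    change P₀.asIdeal ≤ _
    rw [PrimeSpectrum.comap_asIdeal, ← Ideal.map_le_iff_le_comap]
    subst hP₀
    rwa [← ker_specMap P₀ hηy]
  have hne_x : ∀ P : PrimeSpectrum (X.presheaf.stalk x), J ≤ P.asIdeal → P ≠ closedPoint _ →
      GenInFibre f (X.fromSpecStalk x P) ∧ f (X.fromSpecStalk x P) = η := by
    intro P hP hne
    have hnx : X.fromSpecStalk x P ≠ x := fun e ↦ hne (fromSpecStalk_injective x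
      (e.trans (Scheme.fromSpecStalk_closedPoint).symm))
    have h1 := (hX _ _ (fromSpecStalk_specializes x P) hnx).1
    have h2 := hbound (X.fromSpecStalk x P)
    have h3 := le_of_specializes hY (hJle P hP)
    have h4 := eq_of_specializes_of_le hY (hJle P hP) (by omega)
    exact ⟨h2.2 (by rw [← h4] at h2 ⊢; omega), h4.symm⟩
  have hbnot : ∀ P : PrimeSpectrum (X.presheaf.stalk x), J ≤ P.asIdeal → P ≠ closedPoint _ → b ∉ P.asIdeal := by
    intro P hP hne hbP
    obtain ⟨-, e⟩ := hne_x P hP hne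
    rw [← ker_specMap P (fromSpecStalk_specializes x P), RingHom.mem_ker, hb, ← residueFieldMap_specMap,
      map_eq_zero, ← specMap_residueFieldCongr e hηy a, map_eq_zero] at hbP
    exact ha hbP
  have hsupp : ∀ P : PrimeSpectrum (X.presheaf.stalk x),
      P ∈ Module.support (X.presheaf.stalk x) (X.presheaf.stalk x ⧸ J) ↔ J ≤ P.asIdeal := fun P ↦ by
    rw [Module.mem_support_iff_of_finite, Ideal.annihilator_quotient]
  have hsd1 : Module.supportDim (X.presheaf.stalk x) (X.presheaf.stalk x ⧸ J) ≤ 1 := by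
    rw [Module.supportDim, Order.krullDim]
    refine iSup_le fun σ ↦ ?_
    have h1 := series_le hX x (σ.map Subtype.val fun _ _ h ↦ h)
    have h2 := hJle σ.head.1 ((hsupp _).mp σ.head.2)
    have h3 := (hbound (X.fromSpecStalk x σ.head.1)).1
    have h4 := le_of_specializes hY h2
    simp only [drop, LTSeries.head_map, LTSeries.map_length] at h1
    exact_mod_cast (show σ.length ≤ 1 by omega)
  have hQ : ∀ P ∈ Module.support (X.presheaf.stalk x) ((X.presheaf.stalk x ⧸ J) ⧸
      b • (⊤ : Submodule (X.presheaf.stalk x) (X.presheaf.stalk x ⧸ J))), P = closedPoint _ := fun P hP ↦ by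
    rw [← Submodule.ideal_span_singleton_smul, Module.support_quotient] at hP
    by_contra hne
    exact hbnot P ((hsupp P).mp hP.1) hne ((Ideal.span_singleton_le_iff_mem _).mp hP.2)
  have hsd0 : Module.supportDim (X.presheaf.stalk x) ((X.presheaf.stalk x ⧸ J) ⧸
      b • (⊤ : Submodule (X.presheaf.stalk x) (X.presheaf.stalk x ⧸ J))) ≤ 0 := by
    have : Subsingleton ↥(Module.support (X.presheaf.stalk x) ((X.presheaf.stalk x ⧸ J) ⧸
        b • (⊤ : Submodule (X.presheaf.stalk x) (X.presheaf.stalk x ⧸ J)))) :=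
      ⟨fun c d ↦ Subtype.ext ((hQ _ c.2).trans (hQ _ d.2).symm)⟩
    exact Order.krullDim_nonpos_of_subsingleton
  have hmain := Groth.Agent.S1833.result (X.presheaf.stalk x) (X.presheaf.stalk x ⧸ J) b hsd1 hsd0
  have hpa : a ∉ p := fun h ↦ ha h
  have hker : LinearMap.ker (LinearMap.lsmul (X.presheaf.stalk x) (X.presheaf.stalk x ⧸ J) b) = ⊥ :=
    LinearMap.ker_eq_bot.mpr (mul_left_injective_flat f x p a hpa)
  rw [hker, Module.length_bot, zero_add, length_flat_quotient f x p a,
    ← ordAt_length hY hηy hy a ha] at hmain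
  have hne_top : Module.length (X.presheaf.stalk x) ((X.presheaf.stalk x ⧸ J) ⧸
      b • (⊤ : Submodule (X.presheaf.stalk x) (X.presheaf.stalk x ⧸ J))) ≠ ⊤ :=
    length_ne_top_of_annihilator fun q hq ↦ hQ q (by rwa [Module.mem_support_iff_of_finite])
  rw [length_flat_quotient f x p a, ← ordAt_length hY hηy hy a ha] at hne_top
  have hmin : ∀ P : PrimeSpectrum (X.presheaf.stalk x), J ≤ P.asIdeal → P ≠ closedPoint _ →
      P.asIdeal ∈ J.minimalPrimes := fun P hP hne ↦ by
    obtain ⟨q, hq, hqP⟩ := Ideal.exists_minimalPrimes_le hP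
    rcases eq_or_lt_of_le hqP with e | hlt
    · exact e ▸ hq
    · exfalso
      let Q : PrimeSpectrum (X.presheaf.stalk x) := ⟨q, hq.isPrime⟩
      have h1 := drop_lt hX x (show Q < P from hlt)
      obtain ⟨h2, h3⟩ := hne_x P hP hne
      have h4 := hc _ h2
      have h5 := (hbound (X.fromSpecStalk x Q)).1
      have h6 := le_of_specializes hY (hJle Q hq.1.2)
      rw [h3] at h4
      simp only [drop] at h1
      omega
  have hSfin : {P : PrimeSpectrum (X.presheaf.stalk x) | J ≤ P.asIdeal ∧ P ≠ closedPoint _}.Finite :=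
    ((Ideal.finite_minimalPrimes_of_isNoetherianRing (X.presheaf.stalk x) J).preimage
      (fun P _ Q _ e ↦ PrimeSpectrum.ext e)).subset fun P hP ↦ hmin P hP.1 hP.2
  let F : Finset (PrimeSpectrum (X.presheaf.stalk x)) := hSfin.toFinset
  have hFmem : ∀ P, P ∈ F ↔ J ≤ P.asIdeal ∧ P ≠ closedPoint _ := fun P ↦ hSfin.mem_toFinset
  rw [finsum_cond_eq_sum_of_cond_iff (t := F) _ (fun {P} _ ↦ by
    rw [hFmem, hsupp]
    exact ⟨fun h ↦ ⟨h.1, fun e ↦ h.2 (e ▸ rfl)⟩, fun h ↦ ⟨h.1, fun e ↦ h.2 (PrimeSpectrum.ext e)⟩⟩)] at hmain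
  let ξs : F → {ξ : X // GenInFibre f ξ ∧ f ξ = η} := fun P ↦
    ⟨X.fromSpecStalk x P.1, hne_x P.1 ((hFmem _).mp P.2).1 ((hFmem _).mp P.2).2⟩
  have hξinj : Function.Injective ξs := fun P Q e ↦
    Subtype.ext (fromSpecStalk_injective x (show X.fromSpecStalk x P.1 = X.fromSpecStalk x Q.1 from congrArg (fun z : {ξ : X // GenInFibre f ξ ∧ f ξ = η} => z.1) e))
  rw [finsum_eq_sum_of_support_subset _ (s := Finset.univ.map ⟨ξs, hξinj⟩) (fun ξ hξ ↦ ?_), Finset.sum_map,
    Cyc.divFun, dif_pos ⟨hηy, hy⟩, ordAt_formula hY hηy hy a ha, ← ordAt_length hY hηy hy a ha, ← Nat.cast_mul,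
    ← ENat.toNat_mul, hmain, toNat_finsum F _ (hmain ▸ hne_top), Nat.cast_sum, ← Finset.sum_coe_sort F]
  · refine Finset.sum_congr rfl fun P _ ↦ ?_
    change _ = ((lenFibre f (X.fromSpecStalk x P.1)).toNat : ℤ) * Cyc.divFun δX (X.fromSpecStalk x P.1) _ x
    have hsp := fromSpecStalk_specializes x P.1
    have hd : δX x + 1 = δX (X.fromSpecStalk x P.1) := hdξ (ξs P)
    have hbne : Cyc.specMap x (X.fromSpecStalk x P.1) hsp b ≠ 0 := fun h0 ↦
      hbnot P.1 ((hFmem _).mp P.2).1 ((hFmem _).mp P.2).2 (by rw [← ker_specMap P.1 hsp]; exact h0)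
    rw [Cyc.divFun, dif_pos ⟨hsp, hd⟩]
    erw [hterm (ξs P) hsp]
    rw [ordAt_formula hX hsp hd b hbne,
      ← ordAt_length hX hsp hd b hbne, ← Nat.cast_mul, ← ENat.toNat_mul, mul_comm]
    congr 2
    letI := (X.presheaf.stalkSpecializes hsp).hom.toAlgebra
    haveI := isLocalization_fromSpecStalk x P.1
    rw [length_localized_quotient (B := X.presheaf.stalk (X.fromSpecStalk x P.1)) P.1.asIdeal J,
      ker_specMap P.1 hsp]
    congr 1
    have hJ' : J.map (X.presheaf.stalkSpecializes hsp).hom =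
        (maximalIdeal (Y.presheaf.stalk (f (X.fromSpecStalk x P.1)))).map (f.stalkMap (X.fromSpecStalk x P.1)).hom := by
      exact map_map_ker_specMap f (ξs P).2.2 hηy hsp
    rw [RingHom.algebraMap_toAlgebra, hJ']
    rfl
  · by_contra hh
    refine hξ ?_
    change _ * _ = 0
    rw [divFun_eq_zero_of_not_specializes, mul_zero]
    intro hsp
    obtain ⟨q, hq⟩ := exists_fromSpecStalk_eq hsp
    have hJq : J ≤ q.asIdeal := by
      rw [hJ, Ideal.map_le_iff_le_comap]
      intro c hc0
      rw [Ideal.mem_comap, ← ker_specMap q (fromSpecStalk_specializes x q), RingHom.mem_ker,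
        ← residueFieldMap_specMap]
      have e : f (X.fromSpecStalk x q) = η := hq ▸ ξ.2.2
      rw [← specMap_residueFieldCongr e hηy c, RingHom.mem_ker.mp hc0, map_zero, map_zero]
    have hqne : q ≠ closedPoint _ := fun e ↦ by
      have := hdξ ξ
      rw [← hq, e, Scheme.fromSpecStalk_closedPoint] at this
      omega
    exact hh (Finset.mem_coe.mpr (Finset.mem_map.mpr ⟨⟨q, (hFmem q).mpr ⟨hJq, hqne⟩⟩, Finset.mem_univ _,
      Subtype.ext hq⟩))

end Groth.Agent.CycLib28
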