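import Mathlib
import Groth.Prelude.Def_Cyc
import Groth.Agent.CAlgSmall.ClopenSplit
import Groth.Agent.S14503

/-!
# The order of a norm as a sum over a semilocal extension
-/

universe u

open IsLocalRing

namespace Groth.Agent.CycLib28

theorem finite_maximalSpectrum (A B : Type u) [CommRing A] [IsLocalRing A] [CommRing B] [Algebra A B]
    [Module.Finite A B] :
    Finite (MaximalSpectrum B) ∧
      ∀ n : MaximalSpectrum B, n.asIdeal.comap (algebraMap A B) = maximalIdeal A := by
  have hover : ∀ n : MaximalSpectrum B, n.asIdeal.comap (algebraMap A B) = maximalIdeal A := fun n ↦ by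
    haveI := n.isMaximal
    exact IsLocalRing.eq_maximalIdeal (Ideal.isMaximal_comap_of_isIntegral_of_isMaximal n.asIdeal)
  refine ⟨?_, hover⟩
  haveI : Finite ((maximalIdeal A).primesOver B) :=
    Finite.of_equiv _ (PrimeSpectrum.primesOverOrderIsoFiber A B (maximalIdeal A)).symm.toEquiv
  refine Finite.of_injective (fun n : MaximalSpectrum B ↦
    (⟨n.asIdeal, n.isMaximal.isPrime, ⟨(hover n).symm⟩⟩ : (maximalIdeal A).primesOver B)) fun a b e ↦
    MaximalSpectrum.ext (congrArg Subtype.val e)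

theorem ordFrac_norm_eq_sum (A : Type u) [CommRing A] [IsDomain A] [IsNoetherianRing A] [IsLocalRing A]
    (hA : ringKrullDim A = 1) (B : Type u) [CommRing B] [IsDomain B] [Algebra A B]
    (hinj : Function.Injective (algebraMap A B)) [Module.Finite A B] (K L : Type u) [Field K] [Field L]
    [Algebra A K] [IsFractionRing A K] [Algebra B L] [IsFractionRing B L] [Algebra K L] [Algebra A L]
    [IsScalarTower A B L] [IsScalarTower A K L] [FiniteDimensional K L] (r : B) (hr : r ≠ 0)
    [Fintype (MaximalSpectrum B)] :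
    CycAlg.ordFrac A K (Algebra.norm K (algebraMap B L r)) = ∑ n : MaximalSpectrum B,
      ((Module.finrank (A ⧸ n.asIdeal.comap (algebraMap A B)) (B ⧸ n.asIdeal) : ℤ) *
        ((CAlgSmall.lenAt n.asIdeal (B ⧸ Ideal.span {r})).toNat : ℤ)) := by
  obtain ⟨hlt, heq⟩ := S14503.result A hA B hinj K L r hr
  have hM : IsFiniteLength B (B ⧸ Ideal.span {r}) := by
    have h := Module.length_ne_top_iff.1 hlt.ne
    rw [isFiniteLength_iff_isNoetherian_isArtinian] at h ⊢
    exact h.imp (isNoetherian_of_tower A) (isArtinian_of_tower A)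
  have hfin : ∀ n : MaximalSpectrum B,
      Module.Finite (A ⧸ n.asIdeal.comap (algebraMap A B)) (B ⧸ n.asIdeal) := fun n ↦
    Module.Finite.of_restrictScalars_finite A _ _
  have hsum := CAlgSmall.length_eq_sum_semilocal (A := A) (finite_maximalSpectrum A B).2
    (B ⧸ Ideal.span {r}) hfin hM
  rw [finsum_eq_sum_of_fintype] at hsum
  have hne : ∀ n ∈ (Finset.univ : Finset (MaximalSpectrum B)),
      (Module.finrank (A ⧸ n.asIdeal.comap (algebraMap A B)) (B ⧸ n.asIdeal) : ℕ∞) *
        CAlgSmall.lenAt n.asIdeal (B ⧸ Ideal.span {r}) ≠ ⊤ := by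
    intro n hn htop
    refine hlt.ne ?_
    rw [hsum, ← top_le_iff, ← htop]
    exact Finset.single_le_sum_of_canonicallyOrdered (f := fun n : MaximalSpectrum B ↦ (Module.finrank (A ⧸ n.asIdeal.comap (algebraMap A B)) (B ⧸ n.asIdeal) : ℕ∞) * CAlgSmall.lenAt n.asIdeal (B ⧸ Ideal.span {r})) hn
  rw [← heq, hsum, ENat.toNat_sum hne, Nat.cast_sum]
  refine Finset.sum_congr rfl fun n _ ↦ ?_
  rw [ENat.toNat_mul, ENat.toNat_coe, Nat.cast_mul]

end Groth.Agent.CycLib28
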