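import Mathlib
import Groth.Prelude.Def_Cyc
import Groth.Agent.CycLib28.NormAlg
import Groth.Agent.CycLib28.FiniteNear
import Groth.Agent.CycLib28.OrdRestrict
import Groth.Agent.CycLib28.SecOrd
import Groth.Agent.CycLib28.FlatDiv
import Groth.Agent.CycLib28.Push
import Groth.Agent.CycLib28.PushFinite

/-!
# Proper pushforward of principal divisors: the generically finite case
-/

universe u

open CategoryTheory AlgebraicGeometry IsLocalRing TopologicalSpace Groth.Agent.CycLim28

namespace Groth.Agent.CycLib28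

section Algebra

theorem map_comap' {S B : Type u} [CommRing S] [CommRing B] [Algebra S B] (M : Submonoid S) [IsLocalization M B]
    (J : Ideal B) : (J.comap (algebraMap S B)).map (algebraMap S B) = J :=
  IsLocalization.map_comap M B J

variable {S B : Type u} [CommRing S] [CommRing B] [Algebra S B] (M : Submonoid S) [IsLocalization M B]

include M in
theorem quotEquivOfFraction (n : Ideal B) [n.IsMaximal] {l : Type u} [Field l] (ρ : S →+* l)
    (hker : n.comap (algebraMap S B) = RingHom.ker ρ)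
    (hsurj : ∀ z : l, ∃ a b : S, ρ b ≠ 0 ∧ z * ρ b = ρ a) :
    ∃ e : (B ⧸ n) ≃+* l, ∀ s : S, e (Ideal.Quotient.mk n (algebraMap S B s)) = ρ s := by
  have hM : ∀ y : M, IsUnit (ρ y) := fun y ↦ isUnit_iff_ne_zero.mpr fun h ↦ by
    have h1 : (y : S) ∈ n.comap (algebraMap S B) := hker ▸ RingHom.mem_ker.mpr h
    exact ‹n.IsMaximal›.ne_top (n.eq_top_of_isUnit_mem h1 (IsLocalization.map_units B y))
  let g : B →+* l := IsLocalization.lift hM
  have hg : ∀ s, g (algebraMap S B s) = ρ s := IsLocalization.lift_eq hM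
  have hkg : RingHom.ker g = n := by
    rw [← map_comap' M (RingHom.ker g), ← map_comap' M n, hker]
    congr 1
    ext s
    simp only [Ideal.mem_comap, RingHom.mem_ker, hg]
  have hgs : Function.Surjective g := by
    intro z
    obtain ⟨a, b, hb, hab⟩ := hsurj z
    have hbn : algebraMap S B b ∉ n := fun h ↦ hb (by
      have : b ∈ n.comap (algebraMap S B) := h
      rw [hker] at this; exact this)
    obtain ⟨c, i, hi, hci⟩ := Ideal.IsMaximal.exists_inv ‹_› hbn
    have h1 := congrArg g hci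
    rw [map_add, map_one, map_mul, hg, show g i = 0 from (RingHom.mem_ker (f := g)).mp (hkg.symm ▸ hi), add_zero] at h1
    refine ⟨algebraMap S B a * c, ?_⟩
    rw [map_mul, hg, ← hab, mul_assoc, mul_comm (ρ b), h1, mul_one]
  exact ⟨(Ideal.quotEquivOfEq hkg.symm).trans (RingHom.quotientKerEquivOfSurjective hgs), hg⟩

theorem finrank_quot_of_fraction {R A : Type u} [CommRing R] [CommRing A] [Algebra R A] (N : Submonoid R)
    [IsLocalization N A] [Algebra A B] (φ : R →+* S)
    (hφ : ∀ r, algebraMap A B (algebraMap R A r) = algebraMap S B (φ r))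
    (n : Ideal B) [n.IsMaximal] [(n.comap (algebraMap A B)).IsMaximal]
    {k l : Type u} [Field k] [Field l] (π : R →+* k) (ρ : S →+* l) (ι : k →+* l)
    (hι : ∀ r, ι (π r) = ρ (φ r))
    (hker : n.comap (algebraMap S B) = RingHom.ker ρ)
    (hkerA : (n.comap (algebraMap A B)).comap (algebraMap R A) = RingHom.ker π)
    (hsurj : ∀ z : l, ∃ a b : S, ρ b ≠ 0 ∧ z * ρ b = ρ a)
    (hsurjA : ∀ z : k, ∃ a b : R, π b ≠ 0 ∧ z * π b = π a)
    [IsLocalization M B] :
    Module.finrank (A ⧸ n.comap (algebraMap A B)) (B ⧸ n) =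
      @Module.finrank k l _ _ ι.toAlgebra.toModule := by
  letI := ι.toAlgebra
  obtain ⟨j, hj⟩ := quotEquivOfFraction M n ρ hker hsurj
  obtain ⟨i, hi⟩ := quotEquivOfFraction N (n.comap (algebraMap A B)) π hkerA hsurjA
  refine Algebra.finrank_eq_of_equiv_equiv i j (Ideal.Quotient.ringHom_ext
    (IsLocalization.ringHom_ext N (RingHom.ext fun r ↦ ?_)))
  change ι (i (Ideal.Quotient.mk _ (algebraMap R A r))) =
    j (Ideal.Quotient.mk n (algebraMap A B (algebraMap R A r)))
  rw [hi, hι, hφ, hj]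

include M in
theorem lenAt_quot_span (n : Ideal B) [n.IsMaximal] {O : Type u} [CommRing O] [Algebra S O]
    (q : Ideal S) [q.IsPrime] (hq : n.comap (algebraMap S B) = q) [IsLocalization.AtPrime O q] (r : S) :
    CAlgSmall.lenAt n (B ⧸ Ideal.span {algebraMap S B r}) =
      Module.length O (O ⧸ Ideal.span {algebraMap S O r}) := by
  subst hq
  haveI : IsLocalization.AtPrime (Localization.AtPrime n) (n.comap (algebraMap S B)) :=
    IsLocalization.isLocalization_isLocalization_atPrime_isLocalization M _ _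
  change Module.length (Localization.AtPrime n) (LocalizedModule n.primeCompl _) = _
  rw [length_localized_quotient (B := Localization.AtPrime n) n,
    length_quot_equiv
      (IsLocalization.algEquiv (n.comap (algebraMap S B)).primeCompl (Localization.AtPrime n) O).toRingEquiv]
  congr 2
  all_goals
    rw [Ideal.map_span, Set.image_singleton, Ideal.map_span, Set.image_singleton,
      ← IsScalarTower.algebraMap_apply]
    congr 2
    exact (IsLocalization.algEquiv (n.comap (algebraMap S B)).primeCompl (Localization.AtPrime n) O).commutes r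

end Algebra

variable {X Y : Scheme.{u}}

theorem ker_evaluation {U : X.Opens} (hU : IsAffineOpen U) (x : X) (hx : x ∈ U) :
    RingHom.ker (X.evaluation U x hx).hom = (hU.primeIdealOf ⟨x, hx⟩).asIdeal := by
  letI := TopCat.Presheaf.algebra_section_stalk X.presheaf (⟨x, hx⟩ : U)
  haveI := hU.isLocalization_stalk ⟨x, hx⟩
  ext a
  have h1 : IsUnit (algebraMap Γ(X, U) (X.presheaf.stalk x) a) ↔ a ∈ (hU.primeIdealOf ⟨x, hx⟩).asIdeal.primeCompl :=
    IsLocalization.AtPrime.isUnit_to_map_iff (X.presheaf.stalk x) (hU.primeIdealOf ⟨x, hx⟩).asIdeal a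
  rw [RingHom.mem_ker, Scheme.evaluation_eq_zero_iff_notMem_basicOpen, Scheme.mem_basicOpen _ _ _ hx]
  exact (not_congr h1).trans not_not

theorem ker_specMap_of_eq [IsIntegral X] {x ξ : X} (e : ξ = genericPoint X) (h : ξ ⤳ x) :
    RingHom.ker (Cyc.specMap x ξ h) = ⊥ := by
  subst e
  exact ker_specMap_genericPoint x h

theorem finite_app_congr (p : X ⟶ Y) {U U' : Y.Opens} (e : U' = U) (h : (p.app U').hom.Finite) :
    (p.app U).hom.Finite := e ▸ h

theorem exists_affine_finite (p : X ⟶ Y) [IsProper p] (y : Y)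
    (h : ∀ x, p x = y → DimLib.trdegHom (p.residueFieldMap x).hom = 0) :
    ∃ U : Y.Opens, IsAffineOpen U ∧ y ∈ U ∧ IsAffineOpen (p ⁻¹ᵁ U) ∧ (p.app U).hom.Finite := by
  obtain ⟨V, hyV, hfin⟩ := finite_near_of_trdeg_zero p y h
  obtain ⟨_, ⟨U, hU, rfl⟩, hyU, hUV⟩ := Y.isBasis_affineOpens.exists_subset_of_mem_open hyV V.2
  replace hU : IsAffineOpen U := hU
  have e : V.ι ''ᵁ (V.ι ⁻¹ᵁ U) = U := by
    rw [Scheme.Hom.image_preimage_eq_opensRange_inf, Scheme.Opens.opensRange_ι, inf_eq_right.mpr (show (⟨_, U.2⟩ : Y.Opens) ≤ V from hUV)]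
  have hW : IsAffineOpen (V.ι ⁻¹ᵁ U) := by
    rw [← (V.ι).isAffineOpen_iff_of_isOpenImmersion, e]
    exact hU
  refine ⟨U, hU, hyU, ?_, ?_⟩
  · rw [← e, ← image_morphismRestrict_preimage]
    exact (hW.preimage (p ∣_ V)).image_of_isOpenImmersion _
  · refine finite_app_congr p e ?_
    have h1 := IsFinite.finite_app (p ∣_ V) (V.ι ⁻¹ᵁ U) hW
    rw [morphismRestrict_app] at h1
    exact (RingHom.finite_respectsIso.cancel_right_isIso _ _).mp h1

theorem exists_fibre_norm_section [IsIntegral X] [IsIntegral Y] [IsLocallyNoetherian X] [IsLocallyNoetherian Y]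
    {δX : X → ℤ} {δY : Y → ℤ} (hX : Cyc.IsDimFun X δX) (hY : Cyc.IsDimFun Y δY) (p : X ⟶ Y) [IsProper p]
    (hδ : Cyc.DeltaCompat p δX δY) (hn : δX (genericPoint X) = δY (p (genericPoint X)))
    (hdom : p (genericPoint X) = genericPoint Y) {y : Y} (hy : p (genericPoint X) ⤳ y)
    (hd : δY y + 1 = δY (p (genericPoint X))) (hfib : ∀ x, p x = y → δX x + 1 = δX (genericPoint X))
    {U : Y.Opens} (hU : IsAffineOpen U) (hyU : y ∈ U) (hV : IsAffineOpen (p ⁻¹ᵁ U))
    (hfin : (p.app U).hom.Finite) :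
    ∃ s : Finset X, (∀ x, x ∈ s ↔ p x = y) ∧
      ∀ r : Γ(X, p ⁻¹ᵁ U),
        X.evaluation (p ⁻¹ᵁ U) (genericPoint X) (hy.mem_open U.2 hyU) r ≠ 0 →
        Cyc.ordAt y (p (genericPoint X)) hy
          (Cyc.normGen p (genericPoint X) (X.evaluation (p ⁻¹ᵁ U) (genericPoint X) (hy.mem_open U.2 hyU) r)) =
        ∑ x ∈ s, Cyc.ordAt x (genericPoint X) (genericPoint_specializes x)
          (X.evaluation (p ⁻¹ᵁ U) (genericPoint X) (hy.mem_open U.2 hyU) r) * (p.residueDegree x : ℤ) := by
  classical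
  let η := genericPoint X
  have hηU : η ∈ p ⁻¹ᵁ U := hy.mem_open U.2 hyU
  haveI : Nonempty (p ⁻¹ᵁ U : X.Opens) := ⟨⟨η, hηU⟩⟩
  haveI : IsDomain Γ(X, p ⁻¹ᵁ U) := IsIntegral.component_integral _
  -- the base local ring
  letI : Algebra Γ(Y, U) (Y.presheaf.stalk y) := Y.presheaf.algebra_section_stalk ⟨y, hyU⟩
  let P := (hU.primeIdealOf ⟨y, hyU⟩).asIdeal
  haveI : IsLocalization.AtPrime (Y.presheaf.stalk y) P := hU.isLocalization_stalk ⟨y, hyU⟩
  have hker := ker_specMap_of_eq hdom hy
  haveI : (RingHom.ker (Cyc.specMap y (p η) hy)).IsPrime := RingHom.ker_isPrime _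
  haveI : IsLocalization.AtPrime (Cyc.LocQuot y (p η) hy) P :=
    IsLocalization.isLocalization_of_algEquiv P.primeCompl
      ((Ideal.quotientEquivAlgOfEq Γ(Y, U) hker).trans (AlgEquiv.quotientBot Γ(Y, U) (Y.presheaf.stalk y))).symm
  haveI : IsLocalRing (Cyc.LocQuot y (p η) hy) := IsLocalization.AtPrime.isLocalRing _ P
  obtain ⟨hA1, hA2, -, hA4⟩ := locQuot_conds hY hy hd
  haveI := hA1
  haveI := hA4
  have hAdim : ringKrullDim (Cyc.LocQuot y (p η) hy) = 1 := by
    rw [dim_locQuot hY hy, show (δY (p η) - δY y).toNat = 1 by simp only [η]; omega]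
    rfl
  -- the semilocal ring upstairs
  letI : Algebra Γ(Y, U) Γ(X, p ⁻¹ᵁ U) := (p.app U).hom.toAlgebra
  haveI : Module.Finite Γ(Y, U) Γ(X, p ⁻¹ᵁ U) := hfin
  let M := Algebra.algebraMapSubmonoid Γ(X, p ⁻¹ᵁ U) P.primeCompl
  letI : Algebra (Cyc.LocQuot y (p η) hy) (Localization M) :=
    localizationAlgebra P.primeCompl Γ(X, p ⁻¹ᵁ U)
  haveI : IsScalarTower Γ(Y, U) (Cyc.LocQuot y (p η) hy) (Localization M) :=
    isScalarTower_localizationAlgebra _ _
  haveI : Module.Finite (Cyc.LocQuot y (p η) hy) (Localization M) :=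
    Module.Finite.of_isLocalization Γ(Y, U) Γ(X, p ⁻¹ᵁ U) P.primeCompl
  let ev := (X.evaluation (p ⁻¹ᵁ U) η hηU).hom
  have hev0 : Function.Injective ev := by
    refine (injective_iff_map_eq_zero _).mpr fun a ha ↦ ?_
    have h1 : η ∉ X.basicOpen a := (Scheme.evaluation_eq_zero_iff_notMem_basicOpen _ _ hηU _).mp ha
    refine (basicOpen_eq_bot_iff a).mp ?_
    by_contra hne
    exact h1 ((genericPoint_spec X).mem_open_set_iff (X.basicOpen a).2 |>.mpr
      (by rw [Set.univ_inter]; exact (X.basicOpen a).ne_bot_iff_nonempty.mp hne))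
  have hMne : M ≤ nonZeroDivisors Γ(X, p ⁻¹ᵁ U) := by
    rintro _ ⟨c, hc, rfl⟩
    refine mem_nonZeroDivisors_iff_ne_zero.mpr fun h0 ↦ ?_
    have h1 : ev (p.app U c) = 0 := by
      rw [show p.app U c = algebraMap Γ(Y, U) Γ(X, p ⁻¹ᵁ U) c from rfl, h0, map_zero]
    have h2 : (p.residueFieldMap η).hom (Y.evaluation U (p η) hηU c) = 0 :=
      (Scheme.evaluation_naturality_apply p η hηU c).trans h1
    have h3 : p η ∉ Y.basicOpen c := (Scheme.evaluation_eq_zero_iff_notMem_basicOpen _ _ _ _).mp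
      ((map_eq_zero_iff _ (RingHom.injective _)).mp h2)
    refine h3 (hy.mem_open (Y.basicOpen c).2 ?_)
    rw [SetLike.mem_coe, Scheme.mem_basicOpen _ _ _ hyU]
    exact (IsLocalization.AtPrime.isUnit_to_map_iff (Y.presheaf.stalk y) P c).mpr hc
  have hu : ∀ m : M, IsUnit (ev m) := fun m ↦ isUnit_iff_ne_zero.mpr fun h0 ↦
    nonZeroDivisors.ne_zero (hMne m.2) (hev0 (h0.trans (map_zero ev).symm))
  haveI : IsDomain (Localization M) := IsLocalization.isDomain_localization hMne
  letI : Algebra (Localization M) (X.residueField η) := (IsLocalization.lift hu).toAlgebra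
  letI : Algebra Γ(X, p ⁻¹ᵁ U) (X.residueField η) := ev.toAlgebra
  haveI : IsScalarTower Γ(X, p ⁻¹ᵁ U) (Localization M) (X.residueField η) :=
    IsScalarTower.of_algebraMap_eq fun a ↦ (IsLocalization.lift_eq hu a).symm
  haveI : FaithfulSMul Γ(X, p ⁻¹ᵁ U) (X.residueField η) :=
    (faithfulSMul_iff_algebraMap_injective _ _).mpr hev0
  haveI : IsFractionRing Γ(X, p ⁻¹ᵁ U) (X.residueField η) :=
    IsFractionRing.of_field _ _ fun z ↦ by
      obtain ⟨a, b, hb, hab⟩ := exists_ratio hV hηU z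
      exact ⟨a, b, eq_div_of_mul_eq ((Scheme.evaluation_ne_zero_iff_mem_basicOpen _ _ _ _).mpr hb) hab⟩
  haveI : IsFractionRing (Localization M) (X.residueField η) :=
    IsFractionRing.isFractionRing_of_isLocalization M _ _ hMne
  letI : Algebra (Y.residueField (p η)) (X.residueField η) := (p.residueFieldMap η).hom.toAlgebra
  haveI : FiniteDimensional (Y.residueField (p η)) (X.residueField η) :=
    Module.finite_of_finrank_pos (Nat.pos_of_ne_zero (residueDegree_ne_zero_of_delta_eq p hδ η hn))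
  letI : Algebra (Cyc.LocQuot y (p η) hy) (X.residueField η) :=
    ((algebraMap (Y.residueField (p η)) (X.residueField η)).comp
      (algebraMap (Cyc.LocQuot y (p η) hy) (Y.residueField (p η)))).toAlgebra
  haveI : IsScalarTower (Cyc.LocQuot y (p η) hy) (Y.residueField (p η)) (X.residueField η) :=
    IsScalarTower.of_algebraMap_eq fun _ ↦ rfl
  haveI : IsScalarTower (Cyc.LocQuot y (p η) hy) (Localization M) (X.residueField η) := by
    refine IsScalarTower.of_algebraMap_eq' (IsLocalization.ringHom_ext P.primeCompl (RingHom.ext fun c ↦ ?_))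
    change _ = algebraMap (Localization M) (X.residueField η)
      (algebraMap (Cyc.LocQuot y (p η) hy) (Localization M) (algebraMap Γ(Y, U) _ c))
    rw [← IsScalarTower.algebraMap_apply Γ(Y, U) (Cyc.LocQuot y (p η) hy) (Localization M),
      IsScalarTower.algebraMap_apply Γ(Y, U) Γ(X, p ⁻¹ᵁ U) (Localization M),
      ← IsScalarTower.algebraMap_apply Γ(X, p ⁻¹ᵁ U) (Localization M) (X.residueField η)]
    change (p.residueFieldMap η).hom (Cyc.specMap y (p η) hy (Y.presheaf.germ U y hyU c)) = ev (p.app U c)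
    rw [specMap_germ hy hyU]
    exact Scheme.evaluation_naturality_apply p η hηU c
  have hinj : Function.Injective (algebraMap (Cyc.LocQuot y (p η) hy) (Localization M)) := by
    have h1 : Function.Injective (algebraMap (Cyc.LocQuot y (p η) hy) (X.residueField η)) :=
      (algebraMap (Y.residueField (p η)) (X.residueField η)).injective.comp
        (IsFractionRing.injective (Cyc.LocQuot y (p η) hy) (Y.residueField (p η)))
    rw [IsScalarTower.algebraMap_eq _ (Localization M), RingHom.coe_comp] at h1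
    exact Function.Injective.of_comp h1
  obtain ⟨hfinm, hover⟩ := finite_maximalSpectrum (Cyc.LocQuot y (p η) hy) (Localization M)
  letI := Fintype.ofFinite (MaximalSpectrum (Localization M))
  -- the points over y
  let toX : MaximalSpectrum (Localization M) → X := fun n ↦
    hV.fromSpec ⟨n.asIdeal.comap (algebraMap Γ(X, p ⁻¹ᵁ U) (Localization M)),
      n.isMaximal.isPrime.comap _⟩
  have hcomp : ∀ z : PrimeSpectrum Γ(X, p ⁻¹ᵁ U),
      p (hV.fromSpec z) = hU.fromSpec (PrimeSpectrum.comap (p.app U).hom z) := fun z ↦ by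
    rw [Scheme.Hom.app_eq_appLE]
    exact (congrArg (fun m => m z) (IsAffineOpen.SpecMap_appLE_fromSpec p hU hV le_rfl)).symm
  have hPn : ∀ n : MaximalSpectrum (Localization M),
      (n.asIdeal.comap (algebraMap (Cyc.LocQuot y (p η) hy) (Localization M))).comap
        (algebraMap Γ(Y, U) (Cyc.LocQuot y (p η) hy)) = P := fun n ↦ by
    rw [hover n]
    exact IsLocalization.AtPrime.comap_maximalIdeal _ P
  have hPn' : ∀ n : MaximalSpectrum (Localization M),
      (n.asIdeal.comap (algebraMap Γ(X, p ⁻¹ᵁ U) (Localization M))).comap (p.app U).hom = P := fun n ↦ by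
    rw [← hPn n]
    ext c
    simp only [Ideal.mem_comap]
    rw [← IsScalarTower.algebraMap_apply Γ(Y, U) (Cyc.LocQuot y (p η) hy) (Localization M),
      IsScalarTower.algebraMap_apply Γ(Y, U) Γ(X, p ⁻¹ᵁ U) (Localization M)]
    rfl
  have hto : ∀ n, p (toX n) = y := fun n ↦ by
    refine (hcomp _).trans ((congrArg hU.fromSpec (?_ : _ = hU.primeIdealOf ⟨y, hyU⟩)).trans
      (hU.fromSpec_primeIdealOf _))
    exact PrimeSpectrum.ext (hPn' n)
  have htoinj : Function.Injective toX := by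
    intro a b e
    have e1 : a.asIdeal.comap (algebraMap Γ(X, p ⁻¹ᵁ U) (Localization M)) = b.asIdeal.comap (algebraMap _ _) :=
      congrArg PrimeSpectrum.asIdeal (hV.fromSpec.isOpenEmbedding.injective e)
    refine MaximalSpectrum.ext ?_
    rw [← map_comap' M a.asIdeal, e1, map_comap' M]
  have hsur : ∀ x, p x = y → ∃ n, toX n = x := by
    intro x hx
    have hxV : x ∈ p ⁻¹ᵁ U := show p x ∈ U from hx.symm ▸ hyU
    let Q := hV.primeIdealOf ⟨x, hxV⟩
    have hQ : PrimeSpectrum.comap (p.app U).hom Q = hU.primeIdealOf ⟨y, hyU⟩ := by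
      refine hU.fromSpec.isOpenEmbedding.injective ?_
      rw [← hcomp]
      exact ((congrArg p (hV.fromSpec_primeIdealOf _)).trans hx).trans (hU.fromSpec_primeIdealOf _).symm
    have hdisj : Disjoint (M : Set Γ(X, p ⁻¹ᵁ U)) Q.asIdeal := by
      rw [Set.disjoint_left]
      rintro _ ⟨c, hc, rfl⟩ hcQ
      have h1 : c ∈ (PrimeSpectrum.comap (p.app U).hom Q).asIdeal := hcQ
      rw [hQ] at h1
      exact hc h1
    have hp := IsLocalization.isPrime_of_isPrime_disjoint M (Localization M) Q.asIdeal Q.isPrime hdisj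
    have hc := IsLocalization.under_map_of_isPrime_disjoint M (Localization M) Q.isPrime hdisj
    have hm : (Q.asIdeal.map (algebraMap Γ(X, p ⁻¹ᵁ U) (Localization M))).IsMaximal := by
      refine Ideal.isMaximal_of_isIntegral_of_isMaximal_comap (R := Cyc.LocQuot y (p η) hy) _ ?_
      haveI := hp
      have e : (Q.asIdeal.map (algebraMap Γ(X, p ⁻¹ᵁ U) (Localization M))).comap
          (algebraMap (Cyc.LocQuot y (p η) hy) (Localization M)) = maximalIdeal _ := by
        rw [← map_comap' P.primeCompl (Ideal.comap _ _),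
          ← IsLocalization.AtPrime.map_eq_maximalIdeal P]
        congr 1
        ext c
        simp only [Ideal.mem_comap]
        rw [← IsScalarTower.algebraMap_apply Γ(Y, U) (Cyc.LocQuot y (p η) hy) (Localization M),
          IsScalarTower.algebraMap_apply Γ(Y, U) Γ(X, p ⁻¹ᵁ U) (Localization M), ← Ideal.mem_comap,
          show Ideal.comap _ _ = Q.asIdeal from hc]
        exact SetLike.ext_iff.mp (congrArg PrimeSpectrum.asIdeal hQ) c
      rw [e]
      exact maximalIdeal.isMaximal _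
    refine ⟨⟨_, hm⟩, (congrArg hV.fromSpec (PrimeSpectrum.ext ?_)).trans (hV.fromSpec_primeIdealOf ⟨x, hxV⟩)⟩
    exact hc
  refine ⟨Finset.univ.image toX, fun x ↦ ⟨fun hx ↦ ?_, fun hx ↦ ?_⟩, fun r hr ↦ ?_⟩
  · obtain ⟨n, -, rfl⟩ := Finset.mem_image.mp hx
    exact hto n
  · obtain ⟨n, hn'⟩ := hsur x hx
    exact Finset.mem_image.mpr ⟨n, Finset.mem_univ _, hn'⟩
  have hr0 : algebraMap Γ(X, p ⁻¹ᵁ U) (Localization M) r ≠ 0 := by
    intro h0
    apply hr
    change algebraMap Γ(X, p ⁻¹ᵁ U) (X.residueField η) r = 0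
    rw [IsScalarTower.algebraMap_apply Γ(X, p ⁻¹ᵁ U) (Localization M) (X.residueField η), h0, map_zero]
  have key := ordFrac_norm_eq_sum (Cyc.LocQuot y (p η) hy) hAdim (Localization M) hinj
    (Y.residueField (p η)) (X.residueField η) (algebraMap Γ(X, p ⁻¹ᵁ U) (Localization M) r) hr0
  rw [← IsScalarTower.algebraMap_apply Γ(X, p ⁻¹ᵁ U) (Localization M) (X.residueField η)] at key
  rw [Finset.sum_image htoinj.injOn]
  refine key.trans (Finset.sum_congr rfl fun n _ ↦ ?_)
  haveI := n.isMaximal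
  haveI : (n.asIdeal.comap (algebraMap Γ(X, p ⁻¹ᵁ U) (Localization M))).IsPrime := n.isMaximal.isPrime.comap _
  haveI : (n.asIdeal.comap (algebraMap (Cyc.LocQuot y (p η) hy) (Localization M))).IsMaximal :=
    (hover n).symm ▸ maximalIdeal.isMaximal _
  have hqV : toX n ∈ p ⁻¹ᵁ U := show p (toX n) ∈ U from (hto n).symm ▸ hyU
  have hQ : (hV.primeIdealOf ⟨toX n, hqV⟩).asIdeal =
      n.asIdeal.comap (algebraMap Γ(X, p ⁻¹ᵁ U) (Localization M)) :=
    congrArg PrimeSpectrum.asIdeal (hV.fromSpec.isOpenEmbedding.injective (hV.fromSpec_primeIdealOf _))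
  letI : Algebra Γ(X, p ⁻¹ᵁ U) (X.presheaf.stalk (toX n)) := X.presheaf.algebra_section_stalk ⟨toX n, hqV⟩
  haveI : IsLocalization.AtPrime (X.presheaf.stalk (toX n))
      (n.asIdeal.comap (algebraMap Γ(X, p ⁻¹ᵁ U) (Localization M))) := by
    have := hV.isLocalization_stalk ⟨toX n, hqV⟩
    simp only [hQ] at this
    exact this
  have hpx : p (toX n) ∈ U := hqV
  have hP' : (hU.primeIdealOf ⟨p (toX n), hpx⟩).asIdeal = P := by
    simp only [hto n]
    rfl
  have hsurjX : ∀ z : X.residueField (toX n), ∃ a b : Γ(X, p ⁻¹ᵁ U),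
      X.evaluation _ (toX n) hqV b ≠ 0 ∧ z * X.evaluation _ _ hqV b = X.evaluation _ _ hqV a := fun z ↦ by
    obtain ⟨a, b, hb, hab⟩ := exists_ratio hV hqV z
    exact ⟨a, b, (Scheme.evaluation_ne_zero_iff_mem_basicOpen _ _ _ _).mpr hb, hab⟩
  have hsurjY : ∀ z : Y.residueField (p (toX n)), ∃ a b : Γ(Y, U),
      Y.evaluation _ _ hpx b ≠ 0 ∧ z * Y.evaluation _ _ hpx b = Y.evaluation _ _ hpx a := fun z ↦ by
    obtain ⟨a, b, hb, hab⟩ := exists_ratio hU hpx z
    exact ⟨a, b, (Scheme.evaluation_ne_zero_iff_mem_basicOpen _ _ _ _).mpr hb, hab⟩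
  have hdeg : Module.finrank
      (Cyc.LocQuot y (p η) hy ⧸ n.asIdeal.comap (algebraMap (Cyc.LocQuot y (p η) hy) (Localization M)))
      (Localization M ⧸ n.asIdeal) = p.residueDegree (toX n) :=
    finrank_quot_of_fraction M P.primeCompl (p.app U).hom
      (fun c ↦ (IsScalarTower.algebraMap_apply Γ(Y, U) (Cyc.LocQuot y (p η) hy) (Localization M) c).symm.trans
        (IsScalarTower.algebraMap_apply Γ(Y, U) Γ(X, p ⁻¹ᵁ U) (Localization M) c))
      n.asIdeal (Y.evaluation U (p (toX n)) hpx).hom (X.evaluation (p ⁻¹ᵁ U) (toX n) hqV).hom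
      (p.residueFieldMap (toX n)).hom (fun c ↦ Scheme.evaluation_naturality_apply p (toX n) hpx c)
      (by rw [ker_evaluation hV, hQ]) (by rw [ker_evaluation hU, hP']; exact hPn n) hsurjX hsurjY
  have hd' : δX (toX n) + 1 = δX η := hfib _ (hto n)
  have hlen := lenAt_quot_span M n.asIdeal (O := X.presheaf.stalk (toX n)) _ rfl r
  have hgerm := specMap_germ (genericPoint_specializes (toX n)) hqV r
  rw [hdeg, hlen, mul_comm]
  congr 1
  rw [← hgerm, ordAt_formula hX _ hd' _ (by rw [hgerm]; exact hr), ker_specMap_genericPoint, bot_sup_eq]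
  rfl

theorem normGen_mul (p : X ⟶ Y) (x : X) (a b : X.residueField x) :
    Cyc.normGen p x (a * b) = Cyc.normGen p x a * Cyc.normGen p x b := map_mul _ _ _


theorem normGen_ne_zero (p : X ⟶ Y) (x : X) (hfin : p.residueDegree x ≠ 0) {a : X.residueField x} (ha : a ≠ 0) :
    Cyc.normGen p x a ≠ 0 := by
  letI := (p.residueFieldMap x).hom.toAlgebra
  haveI : FiniteDimensional (Y.residueField (p x)) (X.residueField x) :=
    Module.finite_of_finrank_pos (Nat.pos_of_ne_zero hfin)
  exact Algebra.norm_ne_zero_iff.mpr ha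

theorem trdegHom_eq_zero {δX : X → ℤ} {δY : Y → ℤ} (p : X ⟶ Y) (hδ : Cyc.DeltaCompat p δX δY) (x : X)
    (h : δX x = δY (p x)) : DimLib.trdegHom (p.residueFieldMap x).hom = 0 := by
  obtain ⟨n, hn, hx⟩ := hδ x
  have hn0 : n = 0 := by omega
  rw [DimLib.trdegHom, hn, hn0, Nat.cast_zero, map_zero]

/-- `p_* div f = div (Nm f)` at one point. -/
theorem pushDiv_coeff [IsIntegral X] [IsIntegral Y] [IsLocallyNoetherian X] [IsLocallyNoetherian Y]
    {δX : X → ℤ} {δY : Y → ℤ} (hX : Cyc.IsDimFun X δX) (hY : Cyc.IsDimFun Y δY) (p : X ⟶ Y) [IsProper p]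
    (hδ : Cyc.DeltaCompat p δX δY) (hn : δX (genericPoint X) = δY (p (genericPoint X)))
    (hdom : p (genericPoint X) = genericPoint Y)
    (f : X.residueField (genericPoint X)) (hf : f ≠ 0) (α : AlgebraicCycle X ℤ)
    (hα : ⇑α = Cyc.divFun δX (genericPoint X) f) (y : Y) :
    AlgebraicCycle.map p δX δY α y =
      Cyc.divFun δY (p (genericPoint X)) (Cyc.normGen p (genericPoint X) f) y := by
  classical
  have hy : p (genericPoint X) ⤳ y := hdom.symm ▸ genericPoint_specializes y
  by_cases hd : δY y + 1 = δY (p (genericPoint X))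
  swap
  · rw [Cyc.divFun, dif_neg (fun h ↦ hd h.2), map_apply]
    refine finsum_mem_of_eqOn_zero fun x hx ↦ ?_
    have hx' : p x = y := hx
    simp only [Pi.zero_apply, hα, Cyc.divFun, AlgebraicCycle.mapCoeff]
    split_ifs with h1 h2
    · exfalso
      rw [hx'] at h2
      omega
    all_goals simp
  have hfib : ∀ x, p x = y → δX x + 1 = δX (genericPoint X) := by
    intro x hx
    have h1 := delta_le' p hδ x
    have hne : genericPoint X ≠ x := fun e ↦ by
      have h2 : δY (p (genericPoint X)) = δY y := congrArg δY ((congrArg p e).trans hx)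
      omega
    have h3 := (hX _ x (genericPoint_specializes x) hne).1
    rw [hx] at h1
    omega
  have hdeg : ∀ x, p x = y → δX x = δY (p x) := fun x hx ↦ by
    have := hfib x hx
    rw [hx]
    omega
  obtain ⟨U, hU, hyU, hV, hfin⟩ :=
    exists_affine_finite p y fun x hx ↦ trdegHom_eq_zero p hδ x (hdeg x hx)
  obtain ⟨s, hs, key⟩ := exists_fibre_norm_section hX hY p hδ hn hdom hy hd hfib hU hyU hV hfin
  obtain ⟨a, b, hb, hab⟩ := exists_ratio hV (hy.mem_open U.2 hyU : genericPoint X ∈ p ⁻¹ᵁ U) f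
  have hb0 : X.evaluation (p ⁻¹ᵁ U) (genericPoint X) (hy.mem_open U.2 hyU) b ≠ 0 :=
    (Scheme.evaluation_ne_zero_iff_mem_basicOpen _ _ _ _).mpr hb
  have ha0 : X.evaluation (p ⁻¹ᵁ U) (genericPoint X) (hy.mem_open U.2 hyU) a ≠ 0 := hab ▸ mul_ne_zero hf hb0
  have hres := residueDegree_ne_zero_of_delta_eq p hδ _ hn
  have hka := key a ha0
  have hsum : ∀ x ∈ s,
      Cyc.ordAt x (genericPoint X) (genericPoint_specializes x)
          (f * X.evaluation (p ⁻¹ᵁ U) (genericPoint X) (hy.mem_open U.2 hyU) b) * (p.residueDegree x : ℤ) =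
        Cyc.ordAt x (genericPoint X) (genericPoint_specializes x) f * (p.residueDegree x : ℤ) +
        Cyc.ordAt x (genericPoint X) (genericPoint_specializes x)
          (X.evaluation (p ⁻¹ᵁ U) (genericPoint X) (hy.mem_open U.2 hyU) b) * (p.residueDegree x : ℤ) :=
    fun x hx ↦ by rw [ordAt_mul hX (genericPoint_specializes x) (hfib x ((hs x).mp hx)) hf hb0, add_mul]
  rw [← hab, normGen_mul, ordAt_mul hY hy hd (normGen_ne_zero p _ hres hf) (normGen_ne_zero p _ hres hb0),
    key b hb0, Finset.sum_congr rfl hsum, Finset.sum_add_distrib, add_left_inj] at hka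
  rw [Cyc.divFun, dif_pos ⟨hy, hd⟩, hka,
    map_apply_finset p δX δY α y s (fun x hx ↦ (hs x).mp hx) fun x h1 _ ↦ (hs x).mpr h1]
  refine Finset.sum_congr rfl fun x hx ↦ ?_
  have hx' := (hs x).mp hx
  rw [hα, Cyc.divFun, dif_pos ⟨genericPoint_specializes x, hfib x hx'⟩, AlgebraicCycle.mapCoeff,
    if_pos (hdeg x hx')]

end Groth.Agent.CycLib28
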