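import Mathlib
import Groth.Agent.CycLib28.Graph
import Groth.Agent.CycLib28.PushDiv

/-!
# The degree of a principal divisor on a proper curve
-/

universe u

open CategoryTheory CategoryTheory.Limits AlgebraicGeometry IsLocalRing Groth.Agent.CycLim28

namespace Groth.Agent.CycLib28

variable {X Y : Scheme.{u}}

theorem map_apply_add (p : X ⟶ Y) [QuasiCompact p] (δX : X → ℤ) (δY : Y → ℤ) (α β γ : AlgebraicCycle X ℤ)
    (h : ∀ x, γ x = α x + β x) (y : Y) :
    AlgebraicCycle.map p δX δY γ y = AlgebraicCycle.map p δX δY α y + AlgebraicCycle.map p δX δY β y := by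
  classical
  let s := ((finite_fibre_inter_support p α y).union (finite_fibre_inter_support p β y)).toFinset
  have hs : ∀ x ∈ s, p x = y := fun x hx ↦ by
    simp only [s, Set.Finite.mem_toFinset, Set.mem_union, Set.mem_inter_iff, Set.mem_preimage,
      Set.mem_singleton_iff] at hx
    tauto
  have hmem : ∀ x, p x = y → (α x ≠ 0 ∨ β x ≠ 0) → x ∈ s := fun x h1 h2 ↦ by
    simp only [s, Set.Finite.mem_toFinset, Set.mem_union, Set.mem_inter_iff, Set.mem_preimage,
      Set.mem_singleton_iff, Function.mem_support]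
    tauto
  rw [map_apply_finset p δX δY γ y s hs (fun x h1 h2 ↦ hmem x h1 (by rw [h] at h2; omega)),
    map_apply_finset p δX δY α y s hs (fun x h1 h2 ↦ hmem x h1 (.inl h2)),
    map_apply_finset p δX δY β y s hs (fun x h1 h2 ↦ hmem x h1 (.inr h2)), ← Finset.sum_add_distrib]
  exact Finset.sum_congr rfl fun x _ ↦ by rw [h, add_mul]

theorem map_apply_mul (p : X ⟶ Y) [QuasiCompact p] (δX : X → ℤ) (δY : Y → ℤ) (α γ : AlgebraicCycle X ℤ)
    (n : ℤ) (h : ∀ x, γ x = n * α x) (y : Y) :
    AlgebraicCycle.map p δX δY γ y = n * AlgebraicCycle.map p δX δY α y := by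
  classical
  let s := (finite_fibre_inter_support p α y).toFinset
  have hs : ∀ x ∈ s, p x = y := fun x hx ↦ by
    simp only [s, Set.Finite.mem_toFinset, Set.mem_inter_iff, Set.mem_preimage, Set.mem_singleton_iff] at hx
    tauto
  have hmem : ∀ x, p x = y → α x ≠ 0 → x ∈ s := fun x h1 h2 ↦ by simp [s, h1, h2]
  rw [map_apply_finset p δX δY γ y s hs (fun x h1 h2 ↦ hmem x h1 fun h0 ↦ h2 (by rw [h, h0, mul_zero])),
    map_apply_finset p δX δY α y s hs hmem, Finset.mul_sum]
  exact Finset.sum_congr rfl fun x _ ↦ by rw [h, mul_assoc]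

theorem map_congr_hom {p p' : X ⟶ Y} (e : p = p') [QuasiCompact p] [QuasiCompact p'] (δX : X → ℤ) (δY : Y → ℤ)
    (α : AlgebraicCycle X ℤ) : AlgebraicCycle.map p δX δY α = AlgebraicCycle.map p' δX δY α := by
  subst e; rfl

theorem exists_divCycle [IsLocallyNoetherian X] {δ : X → ℤ} (hδ : Cyc.IsDimFun X δ) (ξ : X)
    (f : X.residueField ξ) (hf : f ≠ 0) :
    ∃ D : AlgebraicCycle X ℤ, ⇑D = Cyc.divFun δ ξ f := by
  obtain ⟨D, hD⟩ := exists_cycle_sum hδ (fun _ : PUnit.{u + 1} ↦ ξ) (fun _ ↦ f) (fun _ ↦ hf)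
    (fun x ↦ ⟨Set.univ, isOpen_univ, trivial, Set.toFinite _⟩)
  exact ⟨D, funext fun x ↦ by rw [hD, finsum_unique]⟩

theorem divFun_congr {δ : X → ℤ} {ξ ξ' : X} (e : ξ' = ξ) (f : X.residueField ξ) (x : X) :
    Cyc.divFun δ ξ' ((X.residueFieldCongr e).inv f) x = Cyc.divFun δ ξ f x := by
  subst e; simp

theorem divFun_mul [IsLocallyNoetherian X] {δ : X → ℤ} (hδ : Cyc.IsDimFun X δ) {ξ : X}
    {f g : X.residueField ξ} (hf : f ≠ 0) (hg : g ≠ 0) (x : X) :
    Cyc.divFun δ ξ (f * g) x = Cyc.divFun δ ξ f x + Cyc.divFun δ ξ g x := by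
  simp only [Cyc.divFun]
  split_ifs with h
  · exact ordAt_mul hδ h.1 h.2 hf hg
  · rfl

theorem divFun_pow [IsLocallyNoetherian X] {δ : X → ℤ} (hδ : Cyc.IsDimFun X δ) {ξ : X}
    {f : X.residueField ξ} (hf : f ≠ 0) (n : ℕ) (x : X) :
    Cyc.divFun δ ξ (f ^ n) x = n * Cyc.divFun δ ξ f x := by
  induction n with
  | zero =>
    simp only [Cyc.divFun, pow_zero, Nat.cast_zero, zero_mul]
    split_ifs with h
    · exact ordAt_one hδ h.1 h.2
    · rfl
  | succ n ih => rw [pow_succ, divFun_mul hδ (pow_ne_zero n hf) hf, ih]; push_cast; ring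

variable {k : Type u} [Field k]

theorem genericPoint_projLine [IsIntegral (CohB1.ProjSpace 1 k)] :
    NeronLib.chart k 0 (p₀ k) = genericPoint (CohB1.ProjSpace 1 k) := by
  rw [← genericPoint_eq_of_isOpenImmersion (NeronLib.chart k 0)]
  congr 1
  exact (genericPoint_eq_bot_of_affine (lineRing k)).symm

theorem deg_div_transcendental [IsIntegral X] (c : X ⟶ Spec (CommRingCat.of k)) [IsProper c]
    (hη : DimLib.ptDim c (genericPoint X) = 1) (f : X.residueField (genericPoint X))
    (hf : letI := (DimLib.baseRingHom c (genericPoint X)).toAlgebra; Transcendental k f)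
    (α : AlgebraicCycle X ℤ) (hα : ⇑α = Cyc.divFun (fun x ↦ (DimLib.ptDim c x : ℤ)) (genericPoint X) f)
    [IsProper (CohB1.ProjSpace.toSpec 1 k)]
    (D : AlgebraicCycle (CohB1.ProjSpace 1 k) ℤ)
    (hD : ⇑D = Cyc.divFun (fun x ↦ (DimLib.ptDim (CohB1.ProjSpace.toSpec 1 k) x : ℤ))
      (NeronLib.chart k 0 (p₀ k)) (coordFun k)) (pt : Spec (CommRingCat.of k)) :
    AlgebraicCycle.map c (fun x ↦ (DimLib.ptDim c x : ℤ)) (fun _ ↦ (0 : ℤ)) α pt =
      (letI := (DimLib.baseRingHom c (genericPoint X)).toAlgebra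
      (Module.finrank (IntermediateField.adjoin k ({f} : Set (X.residueField (genericPoint X))))
        (X.residueField (genericPoint X)) : ℤ)) *
      AlgebraicCycle.map (CohB1.ProjSpace.toSpec 1 k) (fun x ↦ (DimLib.ptDim (CohB1.ProjSpace.toSpec 1 k) x : ℤ))
        (fun _ ↦ (0 : ℤ)) D pt := by
  classical
  letI := (DimLib.baseRingHom c (genericPoint X)).toAlgebra
  haveI := CurveLib.isIntegral_projSpace k 1
  haveI : IsLocallyNoetherian X := LocallyOfFiniteType.isLocallyNoetherian c
  haveI : IsLocallyNoetherian (CohB1.ProjSpace 1 k) :=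
    LocallyOfFiniteType.isLocallyNoetherian (CohB1.ProjSpace.toSpec 1 k)
  set π₀ := CohB1.ProjSpace.toSpec 1 k
  set ρ := DimLib.baseRingHom c (genericPoint X)
  let m : Spec (X.residueField (genericPoint X)) ⟶ CohB1.ProjSpace 1 k :=
    Spec.map (CommRingCat.ofHom (evalHom ρ f)) ≫ NeronLib.chart k 0
  have hm : m ≫ π₀ = X.fromSpecResidueField (genericPoint X) ≫ c := by
    rw [← DimLib.specMap_baseRingHom, Category.assoc, NeronLib.chart_toSpec, NeronLib.lineMap, ← Spec.map_comp]
    congr 1
    exact CommRingCat.hom_ext (RingHom.ext fun a ↦ MvPolynomial.eval₂Hom_C ρ _ a)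
  obtain ⟨W, hW, π, q, hπp, hqp, v, hcomm, hπ, hq⟩ := exists_graph c π₀ m hm
  haveI := hW
  haveI := hπp
  haveI := hqp
  haveI : IsLocallyNoetherian W := LocallyOfFiniteType.isLocallyNoetherian (π ≫ c)
  -- the projection to `X`
  obtain ⟨hπη, hv'bij, hv'div⟩ := eq_of_fromSpec (π.residueFieldMap (genericPoint W) ≫ v) (by
    rw [Spec.map_comp, Category.assoc, Scheme.Hom.SpecMap_residueFieldMap_fromSpecResidueField, ← Category.assoc]
    exact hπ)
  have hvbij : Function.Bijective v := by
    refine ⟨v.hom.injective, ?_⟩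
    intro z
    obtain ⟨a, ha⟩ := hv'bij.2 z
    exact ⟨_, ha⟩
  have hπbij : Function.Bijective (π.residueFieldMap (genericPoint W)).hom :=
    (Function.Bijective.of_comp_iff' hvbij _).mp hv'bij
  haveI : IsIso (π.residueFieldMap (genericPoint W)) := (ConcreteCategory.isIso_iff_bijective _).mpr hπbij
  have hWη : DimLib.ptDim (π ≫ c) (genericPoint W) = 1 := by rw [DimLib.ptDim_of_isIso, hπη, hη]
  have hπdeg : π.residueDegree (genericPoint W) = 1 := by
    letI := (π.residueFieldMap (genericPoint W)).hom.toAlgebra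
    let e : X.residueField (π (genericPoint W)) ≃ₐ[X.residueField (π (genericPoint W))] W.residueField (genericPoint W) :=
      AlgEquiv.ofBijective (Algebra.ofId _ _) hπbij
    change Module.finrank (X.residueField (π (genericPoint W))) (W.residueField (genericPoint W)) = 1
    rw [← e.toLinearEquiv.finrank_eq, Module.finrank_self]
  -- the projection to the line
  have hqη : q (genericPoint W) = NeronLib.chart k 0 (p₀ k) := by
    have h1 := congrArg (fun g => g (closedPoint (X.residueField (genericPoint X)))) hq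
    simp only [Scheme.Hom.comp_apply, Scheme.fromSpecResidueField_apply, m] at h1
    exact h1.trans (congrArg (NeronLib.chart k 0) (closedPoint_evalHom ρ f hf))
  let vq := ((CohB1.ProjSpace 1 k).residueFieldCongr hqη).inv ≫ q.residueFieldMap (genericPoint W) ≫ v
  obtain ⟨hvqf, hvqr⟩ := line_residue ρ f vq (by
    simp only [vq, Spec.map_comp, Category.assoc]
    rw [Scheme.residueFieldCongr_inv, Scheme.residueFieldCongr_fromSpecResidueField,
      Scheme.Hom.SpecMap_residueFieldMap_fromSpecResidueField, ← Category.assoc]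
    exact hq)
  set t := ((CohB1.ProjSpace 1 k).residueFieldCongr hqη).inv (coordFun k) with ht
  set fW := q.residueFieldMap (genericPoint W) t with hfW
  have hvf : v fW = f := hvqf
  obtain ⟨fX, hfX⟩ := hπbij.2 fW
  have hfX' : (π.residueFieldMap (genericPoint W) ≫ v) fX = f := (congrArg v hfX).trans hvf
  have hf0 : f ≠ 0 := fun h ↦ (h ▸ hf) isAlgebraic_zero
  have hfW0 : fW ≠ 0 := fun h ↦ hf0 (by rw [← hvf, h, map_zero])
  have ht0 : t ≠ 0 := fun h ↦ hfW0 (by rw [hfW, h, map_zero])
  have hcf0 : coordFun k ≠ 0 := fun h ↦ ht0 (by rw [ht, h, map_zero])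
  have hδW := isDimFun_ptDim (π ≫ c)
  have hcπ := deltaCompat_ptDim π c (π ≫ c) rfl
  have hcq := deltaCompat_ptDim q π₀ (π ≫ c) hcomm.symm
  obtain ⟨αW, hαW⟩ := exists_divCycle hδW (genericPoint W) fW hfW0
  have hpushπ : ∀ x, AlgebraicCycle.map π (fun x ↦ (DimLib.ptDim (π ≫ c) x : ℤ))
      (fun x ↦ (DimLib.ptDim c x : ℤ)) αW x = α x := by
    intro x
    rw [pushDiv_coeff hδW (isDimFun_ptDim c) π hcπ (by simp only [hWη, hπη, hη]) hπη fW hfW0 αW hαW x, hα]
    have hN : Cyc.normGen π (genericPoint W) fW = fX := by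
      letI := (π.residueFieldMap (genericPoint W)).hom.toAlgebra
      change Algebra.norm (X.residueField (π (genericPoint W))) fW = fX
      rw [← hfX, show (π.residueFieldMap (genericPoint W)).hom fX = algebraMap _ (W.residueField (genericPoint W)) fX from rfl,
        Algebra.norm_algebraMap, show Module.finrank _ _ = 1 from hπdeg, pow_one]
    rw [hN, hv'div _ fX, hfX']
  have hqdeg : q.residueDegree (genericPoint W) = Module.finrank
      (IntermediateField.adjoin k ({f} : Set (X.residueField (genericPoint X)))) (X.residueField (genericPoint X)) := by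
    letI := (q.residueFieldMap (genericPoint W)).hom.toAlgebra
    have hrange : ∀ z, (q.residueFieldMap (genericPoint W) ≫ v) z ∈
        IntermediateField.adjoin k ({f} : Set (X.residueField (genericPoint X))) := fun z ↦ by
      rw [← SetLike.mem_coe, ← hvqr]
      refine ⟨((CohB1.ProjSpace 1 k).residueFieldCongr hqη).hom z, ?_⟩
      exact congrArg (q.residueFieldMap (genericPoint W) ≫ v) (Iso.hom_inv_id_apply _ z)
    let i₀ := (q.residueFieldMap (genericPoint W) ≫ v).hom.codRestrict
      (IntermediateField.adjoin k ({f} : Set (X.residueField (genericPoint X)))) hrange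
    have hi : Function.Bijective i₀ := by
      refine ⟨RingHom.injective _, fun ⟨z, hz⟩ ↦ ?_⟩
      rw [← SetLike.mem_coe, ← hvqr] at hz
      obtain ⟨a, rfl⟩ := hz
      exact ⟨((CohB1.ProjSpace 1 k).residueFieldCongr hqη).inv a, Subtype.ext rfl⟩
    exact Algebra.finrank_eq_of_equiv_equiv (RingEquiv.ofBijective i₀ hi) (RingEquiv.ofBijective v.hom hvbij)
      (RingHom.ext fun _ ↦ rfl)
  have hPη : DimLib.ptDim π₀ (q (genericPoint W)) = 1 := by
    rw [hqη, genericPoint_projLine]
    have h1 := DimLib.topologicalKrullDim_eq_ptDim_genericPoint π₀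
    rw [DimLib.PN.topologicalKrullDim_projSpace 1 k] at h1
    exact_mod_cast h1.symm
  have hpushq : ∀ y, AlgebraicCycle.map q (fun x ↦ (DimLib.ptDim (π ≫ c) x : ℤ))
      (fun x ↦ (DimLib.ptDim π₀ x : ℤ)) αW y = (q.residueDegree (genericPoint W) : ℤ) * D y := by
    intro y
    rw [pushDiv_coeff hδW (isDimFun_ptDim π₀) q hcq (by simp only [hWη, hPη]) (hqη.trans genericPoint_projLine)
      fW hfW0 αW hαW y, hD]
    have hN : Cyc.normGen q (genericPoint W) fW = t ^ q.residueDegree (genericPoint W) := by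
      letI := (q.residueFieldMap (genericPoint W)).hom.toAlgebra
      exact Algebra.norm_algebraMap t
    rw [hN, divFun_pow (isDimFun_ptDim π₀) ht0, ht, divFun_congr]
  have hα' : AlgebraicCycle.map π (fun x ↦ (DimLib.ptDim (π ≫ c) x : ℤ)) (fun x ↦ (DimLib.ptDim c x : ℤ)) αW = α :=
    Function.locallyFinsuppWithin.ext fun x ↦ hpushπ x
  rw [← hα', map_map π c hcπ (deltaCompat_ptDim_base c), map_congr_hom hcomm,
    ← map_map q π₀ hcq (deltaCompat_ptDim_base π₀), ← hqdeg]
  exact map_apply_mul π₀ _ _ D _ _ hpushq pt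

/-- the degree of a principal divisor on a proper integral curve is zero -/
theorem map_divFun_eq_zero_curve [IsIntegral X] (c : X ⟶ Spec (CommRingCat.of k)) [IsProper c]
    {δ : X → ℤ} (hδ : Cyc.DeltaCompat c δ (fun _ ↦ 0)) (hη : δ (genericPoint X) = 1)
    (f : X.residueField (genericPoint X)) (hf : f ≠ 0) (α : AlgebraicCycle X ℤ)
    (hα : ⇑α = Cyc.divFun δ (genericPoint X) f) (pt : Spec (CommRingCat.of k)) :
    AlgebraicCycle.map c δ (fun _ ↦ (0 : ℤ)) α pt = 0 := by
  classical
  have e := delta_eq_ptDim c hδ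
  subst e
  have hη' : DimLib.ptDim c (genericPoint X) = 1 := by simpa using hη
  haveI : IsLocallyNoetherian X := LocallyOfFiniteType.isLocallyNoetherian c
  haveI := CurveLib.isProper_projSpace k 1
  haveI : IsLocallyNoetherian (CohB1.ProjSpace 1 k) :=
    LocallyOfFiniteType.isLocallyNoetherian (CohB1.ProjSpace.toSpec 1 k)
  letI := (DimLib.baseRingHom c (genericPoint X)).toAlgebra
  have hdim := isDimFun_ptDim c
  obtain ⟨g, hg⟩ : ∃ g : X.residueField (genericPoint X), Transcendental k g := by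
    by_contra! h
    haveI : Algebra.IsAlgebraic k (X.residueField (genericPoint X)) := ⟨fun z ↦ not_not.mp (h z)⟩
    have h0 : Algebra.trdeg k (X.residueField (genericPoint X)) = 0 := trdeg_eq_zero
    change (Algebra.trdeg k (X.residueField (genericPoint X))).toNat = 1 at hη'
    rw [h0, map_zero] at hη'
    exact zero_ne_one hη'
  -- the coordinate divisor on the line
  obtain ⟨D, hD⟩ : ∃ D : AlgebraicCycle (CohB1.ProjSpace 1 k) ℤ,
      ⇑D = Cyc.divFun (fun x ↦ (DimLib.ptDim (CohB1.ProjSpace.toSpec 1 k) x : ℤ))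
        (NeronLib.chart k 0 (p₀ k)) (coordFun k) := by
    refine exists_divCycle (isDimFun_ptDim _) _ _ ?_
    intro h0
    have h1 : (Scheme.Spec.residueFieldIso (lineRing k) (p₀ k)).inv
      (algebraMap (lineRing k) ((p₀ k).asIdeal.ResidueField) (MvPolynomial.X PUnit.unit)) = 0 := by
      apply (ConcreteCategory.bijective_of_isIso (inv ((NeronLib.chart k 0).residueFieldMap (p₀ k)))).1
      rw [map_zero]
      exact h0
    rw [map_eq_zero_iff _ (ConcreteCategory.bijective_of_isIso _).1, Ideal.algebraMap_residueField_eq_zero] at h1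
    exact MvPolynomial.X_ne_zero PUnit.unit h1
  let tot : X.residueField (genericPoint X) → ℤ := fun z ↦ if hz : z ≠ 0 then
    AlgebraicCycle.map c (fun x ↦ (DimLib.ptDim c x : ℤ)) (fun _ ↦ (0 : ℤ))
      (exists_divCycle hdim (genericPoint X) z hz).choose pt else 0
  have htot : ∀ z, z ≠ 0 → ∀ β : AlgebraicCycle X ℤ,
      ⇑β = Cyc.divFun (fun x ↦ (DimLib.ptDim c x : ℤ)) (genericPoint X) z →
      AlgebraicCycle.map c (fun x ↦ (DimLib.ptDim c x : ℤ)) (fun _ ↦ (0 : ℤ)) β pt = tot z := by
    intro z hz β hβ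
    have : β = (exists_divCycle hdim (genericPoint X) z hz).choose := Function.locallyFinsuppWithin.ext fun x ↦ by
      rw [hβ, (exists_divCycle hdim (genericPoint X) z hz).choose_spec]
    simp only [tot, dif_pos hz, this]
  have hadd : ∀ z z', z ≠ 0 → z' ≠ 0 → tot (z * z') = tot z + tot z' := by
    intro z z' hz hz'
    obtain ⟨a, ha⟩ := exists_divCycle hdim (genericPoint X) z hz
    obtain ⟨b, hb⟩ := exists_divCycle hdim (genericPoint X) z' hz'
    obtain ⟨w, hw⟩ := exists_divCycle hdim (genericPoint X) _ (mul_ne_zero hz hz')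
    rw [← htot _ (mul_ne_zero hz hz') w hw, ← htot z hz a ha, ← htot z' hz' b hb]
    exact map_apply_add c _ _ a b w (fun x ↦ by rw [hw, ha, hb]; exact divFun_mul hdim hz hz' x) pt
  have h1 : tot 1 = 0 := by
    have := hadd 1 1 one_ne_zero one_ne_zero
    rw [one_mul] at this
    omega
  have htr : ∀ z : X.residueField (genericPoint X), Transcendental k z → tot z = 0 := by
    intro z hz
    have hz0 : z ≠ 0 := fun h ↦ (h ▸ hz) isAlgebraic_zero
    have hzi : Transcendental k z⁻¹ := fun h ↦ hz (by simpa using h.inv)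
    obtain ⟨a, ha⟩ := exists_divCycle hdim (genericPoint X) z hz0
    obtain ⟨b, hb⟩ := exists_divCycle hdim (genericPoint X) z⁻¹ (inv_ne_zero hz0)
    have e1 := (htot z hz0 a ha).symm.trans (deg_div_transcendental c hη' z hz a ha D hD pt)
    have e2 := (htot _ (inv_ne_zero hz0) b hb).symm.trans (deg_div_transcendental c hη' z⁻¹ hzi b hb D hD pt)
    have hFF : IntermediateField.adjoin k ({z⁻¹} : Set (X.residueField (genericPoint X))) =
        IntermediateField.adjoin k {z} := by
      refine le_antisymm ?_ ?_ <;> rw [IntermediateField.adjoin_simple_le_iff]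
      · exact inv_mem (IntermediateField.mem_adjoin_simple_self k z)
      · simpa using inv_mem (IntermediateField.mem_adjoin_simple_self k z⁻¹)
    rw [hFF, ← e1] at e2
    have h3 := hadd z z⁻¹ hz0 (inv_ne_zero hz0)
    rw [mul_inv_cancel₀ hz0, h1, e2] at h3
    omega
  rw [htot f hf α hα]
  by_cases hfa : Transcendental k f
  · exact htr f hfa
  · have hg0 : g ≠ 0 := fun h ↦ (h ▸ hg) isAlgebraic_zero
    have hfg : Transcendental k (f * g) := fun h ↦ hg (by
      have h2 := (not_not.mp hfa).inv.mul h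
      rwa [inv_mul_cancel_left₀ hf] at h2)
    have := hadd f g hf hg0
    rw [htr _ hfg, htr _ hg] at this
    omega

end Groth.Agent.CycLib28
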