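import Mathlib
import Groth.Agent.CycLib28.DegZero
import Groth.Agent.Props12.Stalks

/-!
# Proper pushforward of principal divisors: the case of dropping dimension
-/

universe u

open CategoryTheory CategoryTheory.Limits AlgebraicGeometry IsLocalRing Groth.Agent.CycLim28

namespace Groth.Agent.CycLib28

variable {X Y : Scheme.{u}}

theorem ordAt_preimmersion [IsLocallyNoetherian X] [IsLocallyNoetherian Y] (f : Y ⟶ X) [IsPreimmersion f]
    {δ : X → ℤ} (hδ : Cyc.IsDimFun X δ) {δY : Y → ℤ} (hδY : Cyc.IsDimFun Y δY) {x ξ : Y} (h : ξ ⤳ x)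
    (hd : δ (f x) + 1 = δ (f ξ)) (hd' : δY x + 1 = δY ξ)
    (g : X.residueField (f ξ)) (hg : g ≠ 0) :
    Cyc.ordAt x ξ h ((f.residueFieldMap ξ).hom g) = Cyc.ordAt (f x) (f ξ) (h.map f.continuous) g := by
  have key : ∀ a : X.presheaf.stalk (f x), Cyc.specMap (f x) (f ξ) (h.map f.continuous) a ≠ 0 →
      Cyc.ordAt x ξ h ((f.residueFieldMap ξ).hom (Cyc.specMap (f x) (f ξ) (h.map f.continuous) a)) =
        Cyc.ordAt (f x) (f ξ) (h.map f.continuous) (Cyc.specMap (f x) (f ξ) (h.map f.continuous) a) := by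
    intro a ha
    have hsurj : Function.Surjective (f.stalkMap x).hom := f.stalkMap_surjective x
    have ha' : Cyc.specMap x ξ h ((f.stalkMap x).hom a) ≠ 0 := by
      rw [← residueFieldMap_specMap f h]
      exact (map_ne_zero _).mpr ha
    rw [residueFieldMap_specMap f h, ordAt_formula hδY h hd' _ ha', ordAt_formula hδ _ hd _ ha,
      ord_eq_of_surjective (f.stalkMap x).hom hsurj _ _ a rfl]
    have hker : Ideal.comap (f.stalkMap x).hom (RingHom.ker (Cyc.specMap x ξ h)) =
        RingHom.ker (Cyc.specMap (f x) (f ξ) (h.map f.continuous)) := by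
      ext c
      rw [Ideal.mem_comap, RingHom.mem_ker, RingHom.mem_ker, ← residueFieldMap_specMap f h, map_eq_zero]
    rw [hker]
  obtain ⟨a, s, hs, has⟩ := specMap_surj (h.map f.continuous) g
  have ha : Cyc.specMap (f x) (f ξ) (h.map f.continuous) a ≠ 0 := has ▸ mul_ne_zero hg hs
  have h1 := congrArg (fun z ↦ Cyc.ordAt (f x) (f ξ) (h.map f.continuous) z) has
  have h2 := congrArg (fun z ↦ Cyc.ordAt x ξ h ((f.residueFieldMap ξ).hom z)) has
  simp only at h1 h2
  rw [ordAt_mul hδ _ hd hg hs] at h1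
  rw [map_mul, ordAt_mul hδY h hd' ((map_ne_zero _).mpr hg) ((map_ne_zero _).mpr hs), key a ha, key s hs,
    ← h1] at h2
  linarith

/-- divisors restrict along a preimmersion shifting the dimension functions by a constant -/
theorem divFun_preimmersion [IsLocallyNoetherian X] [IsLocallyNoetherian Y] (f : Y ⟶ X) [IsPreimmersion f]
    {δ : X → ℤ} (hδ : Cyc.IsDimFun X δ) {δY : Y → ℤ} (hδY : Cyc.IsDimFun Y δY) (c : ℤ)
    (hc : ∀ y, δ (f y) = δY y + c) (ξ x : Y) (g : X.residueField (f ξ)) (hg : g ≠ 0) :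
    Cyc.divFun δY ξ ((f.residueFieldMap ξ).hom g) x = Cyc.divFun δ (f ξ) g (f x) := by
  simp only [Cyc.divFun]
  by_cases h : ξ ⤳ x ∧ δY x + 1 = δY ξ
  · have h' : δ (f x) + 1 = δ (f ξ) := by rw [hc, hc]; omega
    rw [dif_pos h, dif_pos ⟨h.1.map f.continuous, h'⟩]
    exact ordAt_preimmersion f hδ hδY h.1 h' h.2 g hg
  · rw [dif_neg h, dif_neg fun h' ↦ h ⟨f.isEmbedding.isInducing.specializes_iff.mp h'.1, by
      have := h'.2
      rw [hc, hc] at this
      omega⟩]

theorem residueDegree_preimmersion (f : Y ⟶ X) [IsPreimmersion f] (y : Y) : f.residueDegree y = 1 := by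
  haveI := DimLib.isIso_residueFieldMap_of_isPreimmersion f y
  letI := (f.residueFieldMap y).hom.toAlgebra
  let e : X.residueField (f y) ≃ₐ[X.residueField (f y)] Y.residueField y :=
    AlgEquiv.ofBijective (Algebra.ofId _ _) (ConcreteCategory.bijective_of_isIso (f.residueFieldMap y))
  change Module.finrank (X.residueField (f y)) (Y.residueField y) = 1
  rw [← e.toLinearEquiv.finrank_eq, Module.finrank_self]

theorem isIntegral_genericFibre [IsIntegral X] (p : X ⟶ Y) [IsIntegral Y] {w : Y} (hw : w = genericPoint Y)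
    (hdom : p (genericPoint X) = w) :
    IsIntegral (p.fiber w) ∧
      ∀ g : ↥(p.fiber w), (∀ t, g ⤳ t) → p.fiberι w g = genericPoint X := by
  obtain ⟨z, hz⟩ : genericPoint X ∈ Set.range (p.fiberι w) := (p.range_fiberι w).ge hdom
  have hzs : ∀ t, z ⤳ t := fun t ↦
    (p.fiberι w).isEmbedding.isInducing.specializes_iff.mp (hz.symm ▸ genericPoint_specializes _)
  have hcl : closure {z} = (Set.univ : Set ↥(p.fiber w)) :=
    Set.eq_univ_of_forall fun t ↦ specializes_iff_mem_closure.mp (hzs t)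
  haveI : IrreducibleSpace ↥(p.fiber w) := by
    rw [irreducibleSpace_def, Set.top_eq_univ, ← hcl]; exact isIrreducible_singleton.closure
  haveI : ∀ t, _root_.IsReduced ((p.fiber w).presheaf.stalk t) := by
    intro t
    obtain ⟨hsurj, hker⟩ := Props12.stalkMap_fiberι p w t
    have hbot : maximalIdeal (Y.presheaf.stalk (p (p.fiberι w t))) = ⊥ := by
      have h1 : p (p.fiberι w t) = genericPoint Y := ((p.range_fiberι w).le ⟨t, rfl⟩).trans hw
      exact maximalIdeal_eq_bot_of_eq h1
    have hinj : Function.Injective ((p.fiberι w).stalkMap t).hom := by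
      rw [RingHom.injective_iff_ker_eq_bot, hker, hbot, Ideal.map_bot]
    exact isReduced_of_injective (RingEquiv.ofBijective _ ⟨hinj, hsurj⟩).symm.toRingHom
      (RingEquiv.injective _)
  haveI : IsReduced (p.fiber w) := isReduced_of_isReduced_stalk _
  haveI := isIntegral_of_irreducibleSpace_of_isReduced (p.fiber w)
  refine ⟨inferInstance, fun g hg ↦ ?_⟩
  rw [(Specializes.antisymm (hg z) (hzs g)).eq, hz]

where
  maximalIdeal_eq_bot_of_eq {Y : Scheme.{u}} [IsIntegral Y] {y : Y} (h : y = genericPoint Y) :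
      maximalIdeal (Y.presheaf.stalk y) = ⊥ := by
    subst h
    exact maximalIdeal_eq_bot (R := Y.functionField)

/-- `p_* div f = 0` when the dimension drops -/
theorem pushDiv_zero [IsIntegral X] [IsIntegral Y] [IsLocallyNoetherian X] [IsLocallyNoetherian Y]
    {δX : X → ℤ} {δY : Y → ℤ} (hX : Cyc.IsDimFun X δX) (hY : Cyc.IsDimFun Y δY) (p : X ⟶ Y) [IsProper p]
    (hδ : Cyc.DeltaCompat p δX δY) (hn : δX (genericPoint X) ≠ δY (p (genericPoint X)))
    (hdom : p (genericPoint X) = genericPoint Y)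
    (f : X.residueField (genericPoint X)) (hf : f ≠ 0) (α : AlgebraicCycle X ℤ)
    (hα : ⇑α = Cyc.divFun δX (genericPoint X) f) (y : Y) :
    AlgebraicCycle.map p δX δY α y = 0 := by
  classical
  let w := p (genericPoint X)
  have hle : δY w ≤ δX (genericPoint X) := delta_le' p hδ _
  by_cases hy : y = w ∧ δX (genericPoint X) = δY w + 1
  swap
  · rw [map_apply]
    refine finsum_mem_of_eqOn_zero fun x hx ↦ ?_
    have hx' : p x = y := hx
    simp only [Pi.zero_apply, hα, Cyc.divFun, AlgebraicCycle.mapCoeff]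
    split_ifs with h1 h2
    · exfalso
      rw [hx'] at h2
      by_cases e : y = w
      · exact hy ⟨e, by rw [e] at h2; omega⟩
      · have := (hY w y (by simp only [w, hdom]; exact genericPoint_specializes y) fun e' ↦ e e'.symm).1
        simp only [w] at this hle
        omega
    all_goals simp
  obtain ⟨rfl, hd⟩ := hy
  obtain ⟨hF, hgen'⟩ := isIntegral_genericFibre p (w := w) hdom rfl
  haveI := hF
  have hgen := hgen' (genericPoint (p.fiber w)) genericPoint_specializes
  let c : p.fiber w ⟶ Spec (CommRingCat.of (Y.residueField w)) := p.fiberToSpecResidueField w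
  let ι := p.fiberι w
  haveI : IsProper c := inferInstanceAs (IsProper (pullback.snd p (Y.fromSpecResidueField w)))
  haveI : LocallyOfFiniteType c := (inferInstance : IsProper c).toLocallyOfFiniteType
  haveI : IsPreimmersion ι := inferInstanceAs (IsPreimmersion (p.fiberι w))
  haveI : IsLocallyNoetherian (p.fiber w) := LocallyOfFiniteType.isLocallyNoetherian c
  have hpι : ∀ z, p (ι z) = w := fun z ↦ (p.range_fiberι w).le ⟨z, rfl⟩
  have hshift : ∀ z, δX (ι z) = (DimLib.ptDim (k := Y.residueField w) c z : ℤ) + δY w := by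
    intro z
    obtain ⟨n, hn1, hn2⟩ := hδ (ι z)
    rw [hn2, hpι z, EGA43.FibDepth.ptDim_fiber p w z, DimLib.trdegHom, hn1, Cardinal.toNat_natCast]
    ring
  obtain ⟨g, hg⟩ : ∃ g : X.residueField (ι (genericPoint (p.fiber w))), g = (X.residueFieldCongr hgen).inv f :=
    ⟨_, rfl⟩
  have hg0 : g ≠ 0 := fun h ↦ hf ((map_eq_zero (X.residueFieldCongr hgen).inv.hom).mp (hg.symm.trans h))
  have hdiv : ∀ z, Cyc.divFun (fun z ↦ (DimLib.ptDim (k := Y.residueField w) c z : ℤ)) (genericPoint (p.fiber w))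
      ((ι.residueFieldMap _).hom g) z = α (ι z) := by
    intro z
    rw [divFun_preimmersion ι hX (isDimFun_ptDim c) (δY w) hshift _ _ g hg0, hα, hg]
    exact divFun_congr hgen f _
  obtain ⟨αF, hαF⟩ := exists_divCycle (isDimFun_ptDim c) (genericPoint (p.fiber w))
    ((ι.residueFieldMap _).hom g) ((map_ne_zero _).mpr hg0)
  obtain ⟨pt, hpt⟩ : ∃ pt : Spec (CommRingCat.of (Y.residueField w)), pt = c (genericPoint _) := ⟨_, rfl⟩
  have hz := map_divFun_eq_zero_curve c (deltaCompat_ptDim_base c)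
    (by have := hshift (genericPoint (p.fiber w)); rw [show ι _ = _ from hgen] at this; simp only [w] at this hd ⊢; omega)
    _ ((map_ne_zero _).mpr hg0) αF hαF pt
  let s := (finite_fibre_inter_support p α w).toFinset
  have hs : ∀ x, x ∈ s ↔ p x = w ∧ α x ≠ 0 := fun x ↦ by simp [s]
  let s' := s.preimage ι ι.isEmbedding.injective.injOn
  rw [map_apply_finset c _ _ αF pt s' (fun z _ ↦ Subsingleton.elim _ _) (fun z _ h2 ↦ by
    rw [Finset.mem_preimage, hs]
    exact ⟨hpι z, by rw [← hdiv z, ← hαF]; exact h2⟩)] at hz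
  rw [map_apply_finset p δX δY α w s (fun x hx ↦ ((hs x).mp hx).1) (fun x h1 h2 ↦ (hs x).mpr ⟨h1, h2⟩)]
  refine Eq.trans ?_ hz
  rw [← Finset.sum_preimage ι s ι.isEmbedding.injective.injOn _
    (fun x hx hx' ↦ absurd ((p.range_fiberι w).ge ((hs x).mp hx).1) hx')]
  refine Finset.sum_congr rfl fun z _ ↦ ?_
  rw [hαF, hdiv z]
  congr 2
  simp only [AlgebraicCycle.mapCoeff]
  rw [show δY (p (ι z)) = δY w by rw [hpι], hshift z]
  have hdeg : p.residueDegree (ι z) = c.residueDegree z := by
    have h1 := residueDegree_comp ι p z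
    have h2 := residueDegree_comp c (Y.fromSpecResidueField w) z
    rw [residueDegree_preimmersion ι z, mul_one] at h1
    rw [residueDegree_preimmersion (Y.fromSpecResidueField w), one_mul] at h2
    have e : (ι ≫ p) = c ≫ Y.fromSpecResidueField w := p.fiber_fac w
    rw [← h1, ← h2, e]
  rw [hdeg]
  exact if_congr (by omega) rfl rfl

end Groth.Agent.CycLib28
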