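import Groth.Agent.S15821
import Groth.Agent.TorB16.Balance
import Groth.Agent.CAlgH.KoszulEuler.Samuel
import Groth.Prelude.Def_IntMult
import Mathlib

/-!
# Tor against the quotient by a weakly regular sequence is Koszul homology
-/

set_option autoImplicit false
set_option backward.isDefEq.respectTransparency false
set_option backward.defeqAttrib.useBackward true

universe u

open CategoryTheory CategoryTheory.Limits ComplexShape

namespace Groth.Agent.CycLib28

variable {A : Type u} [CommRing A]

theorem projective_koszul (l : List A) (i : ℤ) : Projective ((Koszul.koszul A l).X i) := by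
  rw [Groth.Agent.CommAlg6.KoszulFree.koszul_eq l]
  haveI := (Groth.Agent.CommAlg6.KoszulFree.free_finite_X l i).1
  exact ModuleCat.projective_of_free (Module.Free.chooseBasis A _)

theorem isZero_koszul_pos (l : List A) (i : ℤ) (hi : 0 < i) : IsZero ((Koszul.koszul A l).X i) := by
  rw [Groth.Agent.CommAlg6.KoszulFree.koszul_eq l]
  haveI := Groth.Agent.Misc15.Koszul.subsingleton_X (ModuleCat.of A A) l i (by omega)
  exact ModuleCat.isZero_of_subsingleton _

theorem exists_koszul_resolution (l : List A) (hl : RingTheory.Sequence.IsWeaklyRegular A l) :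
    ∃ P : ProjectiveResolution (ModuleCat.of A (A ⧸ Ideal.ofList l)),
      P.complex = (Koszul.koszul A l).restriction (embeddingUpIntLE 0) := by
  obtain ⟨hex, ⟨e₀⟩⟩ := Groth.Agent.S15821.result A l hl
  set K := Koszul.koszul A l
  have hd : K.d 0 1 = 0 := (isZero_koszul_pos l 1 (by omega)).eq_of_tgt _ _
  let φ : K.X 0 ⟶ ModuleCat.of A (A ⧸ Ideal.ofList l) :=
    K.pOpcycles 0 ≫ (K.isoHomologyι 0 1 (by simp) hd).inv ≫ e₀.hom
  have hz : K.d (-1) 0 ≫ φ = 0 := by simp [φ]
  have hφ : (ShortComplex.mk (K.d (-1) 0) φ hz).Exact ∧ Epi φ := by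
    refine ⟨ShortComplex.exact_of_g_is_cokernel _ ?_, by dsimp [φ]; infer_instance⟩
    exact IsColimit.ofIsoColimit (K.opcyclesIsCokernel (-1) 0 (by simp))
      (Cofork.ext ((K.isoHomologyι 0 1 (by simp) hd).symm ≪≫ e₀) (by simp [φ]))
  let Q := K.restriction (embeddingUpIntLE 0)
  let ψ : Q.X 0 ⟶ ModuleCat.of A (A ⧸ Ideal.ofList l) :=
    (K.restrictionXIso (embeddingUpIntLE 0) (i := 0) (i' := 0) rfl).hom ≫ φ
  have hψ : Q.d 1 0 ≫ ψ = 0 := by
    simp only [Q, ψ, HomologicalComplex.restriction_d_eq K (embeddingUpIntLE 0) (i := 1) (j := 0) (i' := -1) (j' := 0) rfl rfl,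
      Category.assoc, Iso.inv_hom_id_assoc, hz, comp_zero]
  refine ⟨{ complex := Q
            projective := fun n => projective_koszul l _
            π := (ChainComplex.toSingle₀Equiv _ _).symm ⟨ψ, hψ⟩
            quasiIso := ⟨fun n => ?_⟩ }, rfl⟩
  cases n with
  | zero =>
    rw [ChainComplex.quasiIsoAt₀_iff, ShortComplex.quasiIso_iff_of_zeros']
    · refine (ShortComplex.exact_and_epi_g_iff_of_iso ?_).2 hφ
      refine ShortComplex.isoMk (K.restrictionXIso (embeddingUpIntLE 0) (i := 1) (i' := -1) rfl)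
        (K.restrictionXIso (embeddingUpIntLE 0) (i := 0) (i' := 0) rfl) (Iso.refl _) ?_ ?_
      · dsimp [Q]
        simp [HomologicalComplex.restrictionXIso]
      · dsimp [ψ]
        simp
    all_goals first | rfl | simp [Q]
  | succ n =>
    rw [quasiIsoAt_iff_exactAt']
    · rw [HomologicalComplex.exactAt_iff_isZero_homology]
      refine IsZero.of_iso ?_ (K.restrictionHomologyIso (embeddingUpIntLE 0) (n + 2) (n + 1) n (by simp) (by simp)
        (i' := -((n : ℤ) + 2)) (j' := -((n : ℤ) + 1)) (k' := -(n : ℤ)) (by simp <;> omega) (by simp <;> omega) (by simp)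
        (by simp <;> omega) (by simp))
      exact hex _ (by omega)
    · exact ChainComplex.exactAt_succ_single_obj _ _

theorem length_tor (l : List A) (hl : RingTheory.Sequence.IsWeaklyRegular A l) (M : ModuleCat.{u} A) (n : ℕ) :
    Module.length A (DRing.Tor A n (A ⧸ Ideal.ofList l) M) =
      Module.length A (CAlgH.KoszulEuler.KH M l (-(n : ℤ))) := by
  obtain ⟨P, hP⟩ := exists_koszul_resolution l hl
  obtain ⟨e⟩ := Groth.Agent.TorB16.balance P n M
  rw [← CAlgH.KoszulEuler.length_tensor_homology]
  refine e.length_eq.trans ?_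
  unfold Groth.Agent.TorB16.tC
  rw [hP]
  let T := DRing.tensorCx (Koszul.koszul A l) M
  have hz : ∀ i : ℤ, 0 < i → IsZero (T.X i) := fun i hi =>
    (MonoidalCategory.tensorRight M).map_isZero (isZero_koszul_pos l i hi)
  change Module.length A ((T.restriction (embeddingUpIntLE 0)).homology n) = _
  rcases n with _ | n
  · haveI : QuasiIsoAt (𝟙 (T.restriction (embeddingUpIntLE 0))) 0 := inferInstance
    refine LinearEquiv.length_eq (Iso.toLinearEquiv ?_)
    exact ((T.restriction (embeddingUpIntLE 0)).isoHomologyι 0 _ rfl (by simp)) ≪≫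
      T.restrictionOpcyclesIso (embeddingUpIntLE 0) 1 0 (by simp) (i' := -1) (j' := 0) rfl rfl (by simp) ≪≫
      (T.isoHomologyι 0 1 (by simp) ((hz 1 (by omega)).eq_of_tgt _ _)).symm
  · refine LinearEquiv.length_eq (Iso.toLinearEquiv ?_)
    exact T.restrictionHomologyIso (embeddingUpIntLE 0) (n + 2) (n + 1) n (by simp) (by simp)
      (i' := -((n : ℤ) + 2)) (j' := -((n + 1 : ℕ) : ℤ)) (k' := -(n : ℤ)) (by simp <;> omega) (by simp) (by simp)
      (by simp <;> omega) (by simp)

/-- the alternating sum of lengths of Tor is the Koszul Euler characteristic -/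
theorem chi_tor (l : List A) (hl : RingTheory.Sequence.IsWeaklyRegular A l) (M : ModuleCat.{u} A) :
    IntMult.chi A (A ⧸ Ideal.ofList l) M = CAlgH.KoszulEuler.chi M l := by
  rw [← CAlgH.KoszulEuler.finsum_tensor_eq_chi]
  unfold IntMult.chi
  refine finsum_mem_univ (f := fun i : ℕ => _) |>.symm.trans ?_
  symm
  rw [← finsum_mem_univ]
  let g : ℕ → ℤ := fun n => -(n : ℤ)
  have hg : Function.Injective g := fun a b h => by simpa [g] using h
  rw [← finsum_mem_inter_support, ← finsum_mem_inter_support (s := Set.univ) (f := fun i : ℕ => _)]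
  refine (finsum_mem_eq_of_bijOn g ⟨?_, hg.injOn, ?_⟩ ?_).symm
  · intro n hn
    simpa [length_tor l hl M, g, CAlgH.KoszulEuler.length_tensor_homology] using hn
  · intro i hi
    have hi' : ¬ l.length < i.natAbs ∧ i ≤ 0 := by
      refine ⟨fun h => ?_, not_lt.mp fun h => ?_⟩
      · haveI := CAlgH.KoszulEuler.subsingleton_KH M l h
        simp [CAlgH.KoszulEuler.length_tensor_homology, Module.length_eq_zero] at hi
      · have hz : IsZero ((DRing.tensorCx (Koszul.koszul A l) M).X i) :=
          (MonoidalCategory.tensorRight M).map_isZero (isZero_koszul_pos l i h)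
        haveI := ModuleCat.subsingleton_of_isZero
          (HomologicalComplex.ExactAt.isZero_homology
            ((HomologicalComplex.exactAt_iff (DRing.tensorCx (Koszul.koszul A l) M) i).2 (ShortComplex.exact_of_isZero_X₂ _ hz)))
        simp [Module.length_eq_zero] at hi
    obtain ⟨n, rfl⟩ : ∃ n : ℕ, i = -(n : ℤ) := ⟨(-i).toNat, by omega⟩
    exact ⟨n, by simpa [length_tor l hl M, g, CAlgH.KoszulEuler.length_tensor_homology] using hi, rfl⟩
  · intro n _
    rw [length_tor l hl M, ← CAlgH.KoszulEuler.length_tensor_homology]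
    simp [g, Int.negOnePow_neg, Int.negOnePow_def]

end Groth.Agent.CycLib28
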