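import Mathlib
import Groth.Prelude.Def_IntMult
import Groth.Agent.HilbertBurch29.Spread
import Groth.Agent.VarietyLib.SmoothStalk
import Groth.Agent.EGA43.RectDepthJacobson
import Groth.Agent.CycAlgLib.RLen

/-!
# The local ring at a component of a proper intersection
-/

set_option autoImplicit false
set_option backward.isDefEq.respectTransparency false

universe u

open CategoryTheory AlgebraicGeometry IsLocalRing TopologicalSpace
open Groth.Agent.EGA43.DimFormula

namespace Groth.Agent.CycLib28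

variable {X : Scheme.{u}}

/-- the stalk of an ideal sheaf is the kernel of the stalk map of its subscheme -/
theorem stalkIdeal_eq_ker (I : X.IdealSheafData) (y : I.subscheme) :
    IntMult.stalkIdeal I (I.subschemeι y) = RingHom.ker (I.subschemeι.stalkMap y).hom := by
  have h : ∀ (U : X.affineOpens) (hU : I.subschemeι y ∈ (U : X.Opens)),
      (I.ideal U).map (X.presheaf.germ U (I.subschemeι y) hU).hom = RingHom.ker (I.subschemeι.stalkMap y).hom := by
    intro U hU
    rw [Groth.Agent.HilbertBurch29.ker_stalkMap_eq I.subschemeι y U hU, I.ker_subschemeι]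
  refine le_antisymm (iSup₂_le fun U hU => (h U hU).le) ?_
  obtain ⟨U, hU, hyU, -⟩ := exists_isAffineOpen_mem_and_subset (x := I.subschemeι y) (U := ⊤) (Set.mem_univ _)
  exact (h ⟨U, hU⟩ hyU).ge.trans (le_iSup₂ (f := fun (U : X.affineOpens) (hU : I.subschemeι y ∈ (U : X.Opens)) =>
    (I.ideal U).map (X.presheaf.germ U (I.subschemeι y) hU).hom) ⟨U, hU⟩ hyU)

theorem stalkIdeal_quot_equiv (I : X.IdealSheafData) (y : I.subscheme) :
    Nonempty ((X.presheaf.stalk (I.subschemeι y) ⧸ IntMult.stalkIdeal I (I.subschemeι y)) ≃+*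
      I.subscheme.presheaf.stalk y) :=
  ⟨(Ideal.quotEquivOfEq (stalkIdeal_eq_ker I y)).trans
    (RingHom.quotientKerEquivOfSurjective (I.subschemeι.stalkMap_surjective y))⟩

theorem stalkIdeal_le_maximal (I : X.IdealSheafData) {ξ : X} (h : ξ ∈ I.support) :
    IntMult.stalkIdeal I ξ ≤ maximalIdeal (X.presheaf.stalk ξ) := by
  obtain ⟨y, rfl⟩ := I.range_subschemeι.ge h
  rw [stalkIdeal_eq_ker]
  exact IsLocalRing.le_maximalIdeal (RingHom.ker_ne_top _)

theorem isDomain_quot (I : X.IdealSheafData) [IsIntegral I.subscheme] {ξ : X} (h : ξ ∈ I.support) :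
    IsDomain (X.presheaf.stalk ξ ⧸ IntMult.stalkIdeal I ξ) := by
  obtain ⟨y, rfl⟩ := I.range_subschemeι.ge h
  obtain ⟨e⟩ := stalkIdeal_quot_equiv I y
  exact MulEquiv.isDomain _ e.toMulEquiv

theorem fromSpecStalk_mem (I : X.IdealSheafData) {ξ : X} (h : ξ ∈ I.support)
    (p : PrimeSpectrum (X.presheaf.stalk ξ)) (hp : IntMult.stalkIdeal I ξ ≤ p.asIdeal) :
    X.fromSpecStalk ξ p ∈ I.support := by
  obtain ⟨y, rfl⟩ := I.range_subschemeι.ge h
  rw [stalkIdeal_eq_ker] at hp
  obtain ⟨q, hq⟩ : ∃ q, PrimeSpectrum.comap (I.subschemeι.stalkMap y).hom q = p := by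
    rw [← Set.mem_range, _root_.range_comap_of_surjective _ _ (I.subschemeι.stalkMap_surjective y)]
    exact hp
  rw [← hq]
  refine I.range_subschemeι.le ⟨I.subscheme.fromSpecStalk y q, ?_⟩
  rw [← Scheme.Hom.comp_apply, ← Scheme.SpecMap_stalkMap_fromSpecStalk]
  rfl

theorem finite_length_quot_sup [IsLocallyNoetherian X] (I J : X.IdealSheafData) {ξ : X} (hI : ξ ∈ I.support)
    (hJ : ξ ∈ J.support) (hmax : ∀ ξ' : X, ξ' ∈ I.support → ξ' ∈ J.support → ξ' ⤳ ξ → ξ' = ξ) :
    IsFiniteLength (X.presheaf.stalk ξ)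
      (X.presheaf.stalk ξ ⧸ (IntMult.stalkIdeal I ξ ⊔ IntMult.stalkIdeal J ξ)) := by
  rw [← Module.length_ne_top_iff]
  refine (Groth.Agent.CycAlgLib.length_lt_top_of_support_subset fun p hp => ?_).ne
  rw [Module.support_eq_zeroLocus, Ideal.annihilator_quotient, PrimeSpectrum.mem_zeroLocus] at hp
  have h := hmax _ (fromSpecStalk_mem I hI p (le_sup_left.trans hp)) (fromSpecStalk_mem J hJ p (le_sup_right.trans hp))
    (Scheme.range_fromSpecStalk.le ⟨p, rfl⟩)
  rw [Set.mem_singleton_iff]
  refine (X.fromSpecStalk ξ).isEmbedding.injective (h.trans ?_)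
  exact Scheme.fromSpecStalk_closedPoint.symm

theorem dim_stalk_add_closure {K : Type u} [Field K] {Z : Scheme.{u}} [IsIntegral Z]
    (p : Z ⟶ Spec (CommRingCat.of K)) [LocallyOfFiniteType p] (z : Z) :
    topologicalKrullDim Z = topologicalKrullDim ↥(closure ({z} : Set Z)) + ringKrullDim (Z.presheaf.stalk z) := by
  have h2 := Groth.Agent.EGA43.RectDepth.isUniversallyCatenary_stalk (S := Spec (CommRingCat.of K))
    (fun s => Groth.Agent.VarietyLib.isRegularLocalRing_stalk_of_smooth K _ (𝟙 _) s)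
  have h3 : ∀ S' ∈ irreducibleComponents (Spec (CommRingCat.of K) : Type u), ∀ s ∈ S', IsClosed ({s} : Set _) →
      topologicalKrullDim (↥S' : Type u) = topologicalKrullDim ↥{t : Spec (CommRingCat.of K) | t ∈ S' ∧ t ⤳ s} := by
    intro S' _ s hs _
    have : {t : Spec (CommRingCat.of K) | t ∈ S' ∧ t ⤳ s} = S' := by
      ext t
      exact ⟨fun h => h.1, fun h => ⟨h, (Subsingleton.elim s t) ▸ specializes_rfl⟩⟩
    rw [this]
  obtain ⟨e1, e2, -⟩ := localDim_formula h2 h3 p z
  rw [← e1, e2]
  have huniv : irreducibleComponents Z = {(Set.univ : Set Z)} := irreducibleComponents_eq_singleton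
  rw [← (IsHomeomorph.topologicalKrullDim_eq _ (Homeomorph.Set.univ Z).isHomeomorph)]
  refine le_antisymm (le_iSup₂_of_le (Set.univ : Set Z) ⟨huniv ▸ rfl, trivial⟩ le_rfl) (iSup₂_le ?_)
  rintro C ⟨hC, -⟩
  rw [huniv, Set.mem_singleton_iff] at hC
  subst hC
  rfl

theorem dim_quot_add_closure {K : Type u} [Field K] (f : X ⟶ Spec (CommRingCat.of K)) [LocallyOfFiniteType f]
    (I : X.IdealSheafData) [IsIntegral I.subscheme] {ξ : X} (h : ξ ∈ I.support) :
    topologicalKrullDim I.support = topologicalKrullDim ↥(closure ({ξ} : Set X)) +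
      ringKrullDim (X.presheaf.stalk ξ ⧸ IntMult.stalkIdeal I ξ) := by
  obtain ⟨y, rfl⟩ := I.range_subschemeι.ge h
  obtain ⟨e⟩ := stalkIdeal_quot_equiv I y
  rw [ringKrullDim_eq_of_ringEquiv e,
    show topologicalKrullDim I.support = topologicalKrullDim I.subscheme from
      topologicalKrullDim_eq_of_range I.subschemeι I.subschemeι.isEmbedding _ I.range_subschemeι,
    dim_stalk_add_closure (I.subschemeι ≫ f) y]
  congr 1
  refine (topologicalKrullDim_eq_of_range (fun t : closure ({y} : Set I.subscheme) => I.subschemeι t.1)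
    (I.subschemeι.isEmbedding.comp Topology.IsEmbedding.subtypeVal) _ ?_).symm
  rw [Set.range_comp' I.subschemeι Subtype.val, Subtype.range_coe, ← Set.image_singleton,
    I.subschemeι.isClosedEmbedding.closure_image_eq]

theorem exists_nat_of_add_eq {a b : WithBot ℕ∞} {n : ℕ} (h : (n : WithBot ℕ∞) = a + b) :
    ∃ i j : ℕ, a = i ∧ b = j ∧ i + j = n := by
  induction a with
  | bot => simp at h
  | coe a =>
    induction b with
    | bot => simp at h
    | coe b =>
      rw [← WithBot.coe_add] at h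
      have h' : (n : ℕ∞) = a + b := WithBot.coe_injective h
      have ha : a ≠ ⊤ := fun e => by simp [e] at h'
      have hb : b ≠ ⊤ := fun e => by simp [e] at h'
      obtain ⟨i, rfl⟩ := ENat.ne_top_iff_exists.mp ha
      obtain ⟨j, rfl⟩ := ENat.ne_top_iff_exists.mp hb
      exact ⟨i, j, rfl, rfl, by exact_mod_cast h'.symm⟩

/-- in a proper intersection the local dimensions add up to at least the dimension of the ambient ring -/
theorem exists_dims {K : Type u} [Field K] (f : X ⟶ Spec (CommRingCat.of K)) [LocallyOfFiniteType f] [IsIntegral X]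
    (IV IW : X.IdealSheafData) [IsIntegral IV.subscheme] [IsIntegral IW.subscheme] {n r s : ℕ}
    (hn : topologicalKrullDim X = n) (hr : topologicalKrullDim IV.support = r)
    (hs : topologicalKrullDim IW.support = s)
    (hprop : IntMult.ProperInt (IV.support : Set X) (IW.support : Set X) n r s) {ξ : X} (hV : ξ ∈ IV.support)
    (hW : ξ ∈ IW.support) :
    ∃ a v w : ℕ, ringKrullDim (X.presheaf.stalk ξ) = a ∧
      ringKrullDim (X.presheaf.stalk ξ ⧸ IntMult.stalkIdeal IV ξ) = v ∧
      ringKrullDim (X.presheaf.stalk ξ ⧸ IntMult.stalkIdeal IW ξ) = w ∧ a ≤ v + w := by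
  obtain ⟨hnrs, hd⟩ := hprop ⟨ξ, hV, hW⟩
  obtain ⟨d, a, ed, ea, ha⟩ := exists_nat_of_add_eq (hn.symm.trans (dim_stalk_add_closure f ξ))
  obtain ⟨d₁, v, ed₁, ev, hv⟩ := exists_nat_of_add_eq (hr.symm.trans (dim_quot_add_closure f IV hV))
  obtain ⟨d₂, w, ed₂, ew, hw⟩ := exists_nat_of_add_eq (hs.symm.trans (dim_quot_add_closure f IW hW))
  refine ⟨a, v, w, ea, ev, ew, ?_⟩
  have h1 : d₁ = d := by exact_mod_cast ed₁.symm.trans ed
  have h2 : d₂ = d := by exact_mod_cast ed₂.symm.trans ed
  have hsub : closure ({ξ} : Set X) ⊆ (IV.support : Set X) ∩ (IW.support : Set X) :=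
    closure_minimal (Set.singleton_subset_iff.mpr ⟨hV, hW⟩) (IV.support.isClosed.inter IW.support.isClosed)
  have hd' := ((Topology.IsEmbedding.inclusion hsub).isInducing.topologicalKrullDim_le).trans hd
  rw [ed] at hd'
  have hd'' : d ≤ r + s - n := by exact_mod_cast hd'
  omega

theorem isRegularLocalRing_stalk {K : Type u} [Field K] (f : X ⟶ Spec (CommRingCat.of K)) [Smooth f] (ξ : X) :
    IsRegularLocalRing (X.presheaf.stalk ξ) :=
  Groth.Agent.VarietyLib.isRegularLocalRing_stalk_of_smooth K X f ξ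

/-- codimension of a stalk ideal generated by a regular sequence -/
theorem length_le_dim {R : Type u} [CommRing R] [IsNoetherianRing R] [IsLocalRing R] {a v w : ℕ}
    (l : List R) (hl : RingTheory.Sequence.IsRegular R l) (ha : ringKrullDim R = a)
    (hv : ringKrullDim (R ⧸ Ideal.ofList l) = v) (h : a ≤ v + w) : l.length ≤ w := by
  have h2 := Module.supportDim_add_length_eq_supportDim_of_isRegular l hl
  rw [Module.supportDim_self_eq_ringKrullDim, ha, smul_eq_mul, Ideal.mul_top,
    Module.supportDim_quotient_eq_ringKrullDim, hv] at h2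
  have h3 : v + l.length = a := by exact_mod_cast h2
  omega

end Groth.Agent.CycLib28
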