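import Mathlib
import Groth.Prelude.Def_Cyc
import Groth.Agent.CycLib28.Support
import Groth.Agent.CycLib28.Flat
import Groth.Agent.ModStalk.Pullback
import Groth.Agent.ModStalk.Exact

/-!
# Cycles of coherent modules
-/

universe u

open CategoryTheory CategoryTheory.Limits AlgebraicGeometry IsLocalRing Groth.Agent.CycLim28
open Groth.Agent.ModStalk

namespace Groth.Agent.CycLib28

variable {X Y : Scheme.{u}}

theorem sheafFun_add {δ : X → ℤ} (hδ : Cyc.IsDimFun X δ) [IsLocallyNoetherian X] (k : ℤ)
    (T : ShortComplex X.Modules) (hT : T.ShortExact) (h₂ : Coh.IsCoh T.X₂)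
    (hdim : ∀ x : X, Nontrivial (T.X₂.presheaf.stalk x) → δ x ≤ k) :
    Cyc.sheafFun δ k T.X₂ = Cyc.sheafFun δ k T.X₁ + Cyc.sheafFun δ k T.X₃ := by
  funext x
  simp only [Cyc.sheafFun, Pi.add_apply]
  by_cases hx : δ x = k
  swap
  · simp [hx]
  rw [if_pos hx, if_pos hx, if_pos hx]
  have hex := hT.map_of_exact (DerSch.stalkFunctor X x)
  have hadd : Module.length (X.presheaf.stalk x) (T.X₂.presheaf.stalk x) =
      Module.length (X.presheaf.stalk x) (T.X₁.presheaf.stalk x) +
        Module.length (X.presheaf.stalk x) (T.X₃.presheaf.stalk x) :=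
    Module.length_eq_add_of_exact (T.map (DerSch.stalkFunctor X x)).f.hom
      (T.map (DerSch.stalkFunctor X x)).g.hom
      ((ModuleCat.mono_iff_injective _).mp hex.mono_f) ((ModuleCat.epi_iff_surjective _).mp hex.epi_g)
      ((ShortComplex.ShortExact.moduleCat_exact_iff_function_exact _).mp hex.exact)
  have hne := length_stalk_ne_top h₂ x fun z hz hzx ↦ by
    by_contra hne
    exact absurd (hδ z x hzx hne).1 (by rw [hx]; exact not_lt.mpr (hdim z hz))
  rw [hadd] at hne ⊢
  rw [ENat.toNat_add (ne_top_of_le_ne_top hne le_self_add) (ne_top_of_le_ne_top hne le_add_self)]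
  push_cast
  rfl

theorem length_stalk_pullback (f : X ⟶ Y) [Flat f] (F : Y.Modules) (x : X) :
    Module.length (X.presheaf.stalk x) (((Scheme.Modules.pullback f).obj F).presheaf.stalk x) =
      Module.length (Y.presheaf.stalk (f x)) (F.presheaf.stalk (f x)) * lenFibre f x := by
  algebraize [(f.stalkMap x).hom]
  have : Module.Flat (Y.presheaf.stalk (f x)) (X.presheaf.stalk x) := Flat.stalkMap f x
  have : IsLocalHom (algebraMap (Y.presheaf.stalk (f x)) (X.presheaf.stalk x)) :=
    inferInstanceAs (IsLocalHom (f.stalkMap x).hom)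
  have e : ((DerSch.stalkFunctor X x).obj ((Scheme.Modules.pullback f).obj F)) ≅
      (ModuleCat.extendScalars (f.stalkMap x).hom).obj ((DerSch.stalkFunctor Y (f x)).obj F) :=
    (pullbackStalkIso f x).app F
  refine e.toLinearEquiv.length_eq.trans ?_
  exact IsLocalRing.length_baseChange (Y.presheaf.stalk (f x)) (X.presheaf.stalk x)
    (F.presheaf.stalk (f x))

theorem pullFun_sheafFun (f : X ⟶ Y) [Flat f] {δX : X → ℤ} {δY : Y → ℤ} (hδ : Cyc.IsDimFun X δX) (c : ℤ)
    (hc : ∀ x, GenInFibre f x → δX x = δY (f x) + c) (k : ℤ) (F : Y.Modules)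
    (hdim : ∀ y : Y, Nontrivial (F.presheaf.stalk y) → δY y ≤ k) :
    (∀ x : X, Nontrivial (((Scheme.Modules.pullback f).obj F).presheaf.stalk x) → δX x ≤ k + c) ∧
      Cyc.pullFun f δX δY c (Cyc.sheafFun δY k F) =
        Cyc.sheafFun δX (k + c) ((Scheme.Modules.pullback f).obj F) := by
  have hnt : ∀ x : X, Nontrivial (((Scheme.Modules.pullback f).obj F).presheaf.stalk x) →
      Nontrivial (F.presheaf.stalk (f x)) := fun x hx ↦ by
    by_contra h
    rw [not_nontrivial_iff_subsingleton] at h
    have hl := length_stalk_pullback f F x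
    rw [Module.length_eq_zero_iff.mpr h, zero_mul, Module.length_eq_zero_iff] at hl
    exact false_of_nontrivial_of_subsingleton (((Scheme.Modules.pullback f).obj F).presheaf.stalk x)
  have hle : ∀ x : X, Nontrivial (((Scheme.Modules.pullback f).obj F).presheaf.stalk x) →
      δX x ≤ k + c ∧ (δX x = k + c → GenInFibre f x) := by
    intro x hx
    obtain ⟨g, hgx, hfg, hg⟩ := exists_genInFibre f x
    have h1 := hc g hg
    rw [hfg] at h1
    have h2 := hdim (f x) (hnt x hx)
    refine ⟨?_, fun he ↦ ?_⟩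
    · rcases eq_or_ne g x with rfl | hne
      · omega
      · have := (hδ g x hgx hne).1; omega
    · rcases eq_or_ne g x with rfl | hne
      · exact hg
      · have := (hδ g x hgx hne).1; omega
  refine ⟨fun x hx ↦ (hle x hx).1, funext fun x ↦ ?_⟩
  rw [pullFun_eq f δX δY c hc]
  simp only [Cyc.sheafFun]
  by_cases hg : GenInFibre f x
  · have h1 := hc x hg
    rw [length_stalk_pullback]
    by_cases hk : δY (f x) = k
    · rw [if_pos hk, if_pos (by omega), ENat.toNat_mul]
      push_cast
      rfl
    · rw [if_neg hk, if_neg (by omega), zero_mul]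
  · rw [lenFibre_eq_top f hg, ENat.toNat_top, Nat.cast_zero, mul_zero]
    split_ifs with hk
    · have : Subsingleton (((Scheme.Modules.pullback f).obj F).presheaf.stalk x) :=
        not_nontrivial_iff_subsingleton.mp fun hn ↦ hg ((hle x hn).2 hk)
      rw [Module.length_eq_zero_iff.mpr this]
      rfl
    · rfl

end Groth.Agent.CycLib28
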