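import Mathlib
import Groth.Prelude.Def_C1
import Groth.Agent.CycLib28.ZeroSec
import Groth.Agent.CycLib28.Sheaf
import Groth.Agent.RefHullLib.Reflexive

/-!
# The Gysin map of a zero scheme on the cycle of a coherent module
-/

universe u

open CategoryTheory AlgebraicGeometry IsLocalRing Groth.Agent.CycLim28 Groth.Agent.ModStalk
open scoped Pointwise

namespace Groth.Agent.CycLib28

theorem localizedModule_equiv {A B : Type u} [CommRing A] [CommRing B] [Algebra A B] (P : Ideal A) [P.IsPrime]
    [IsLocalization P.primeCompl B] {M N : Type u} [AddCommGroup M] [Module A M] [AddCommGroup N] [Module A N]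
    [Module B N] [IsScalarTower A B N] (ρ : M →ₗ[A] N) [IsLocalizedModule P.primeCompl ρ] :
    Module.length (Localization.AtPrime P) (LocalizedModule P.primeCompl M) = Module.length B N ∧
      (Nontrivial (LocalizedModule P.primeCompl M) ↔ Nontrivial N) := by
  let e₁ : LocalizedModule P.primeCompl M ≃ₗ[A] N := IsLocalizedModule.iso P.primeCompl ρ
  refine ⟨?_, e₁.toEquiv.nontrivial_congr⟩
  let e : Localization.AtPrime P ≃ₐ[A] B := IsLocalization.algEquiv P.primeCompl _ _
  algebraize [e.toRingEquiv.toRingHom]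
  letI : Module (Localization.AtPrime P) N := Module.compHom N e.toRingEquiv.toRingHom
  haveI : IsScalarTower (Localization.AtPrime P) B N := IsScalarTower.of_algebraMap_smul fun _ _ ↦ rfl
  haveI : IsScalarTower A (Localization.AtPrime P) N := IsScalarTower.of_algebraMap_smul fun r n ↦ by
    change e (algebraMap A (Localization.AtPrime P) r) • n = r • n
    rw [e.commutes, algebraMap_smul]
  rw [(e₁.extendScalarsOfIsLocalization P.primeCompl (Localization.AtPrime P)).length_eq]
  exact Module.length_eq_of_surjective (S := Localization.AtPrime P) (M := N) (R := B) e.surjective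

variable {X : Scheme.{u}}

theorem localizedModule_stalk [IsLocallyNoetherian X] {F : X.Modules} (hF : Coh.IsQCoh F) (x : X)
    (P : PrimeSpectrum (X.presheaf.stalk x)) :
    Module.length (Localization.AtPrime P.asIdeal) (LocalizedModule P.asIdeal.primeCompl (F.presheaf.stalk x)) =
        Module.length (X.presheaf.stalk (X.fromSpecStalk x P)) (F.presheaf.stalk (X.fromSpecStalk x P)) ∧
      (P ∈ Module.support (X.presheaf.stalk x) (F.presheaf.stalk x) ↔
        Nontrivial (F.presheaf.stalk (X.fromSpecStalk x P))) := by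
  have h := fromSpecStalk_specializes x P
  letI := (X.presheaf.stalkSpecializes h).hom.toAlgebra
  letI := Module.compHom (F.presheaf.stalk (X.fromSpecStalk x P)) (X.presheaf.stalkSpecializes h).hom
  haveI : IsScalarTower (X.presheaf.stalk x) (X.presheaf.stalk (X.fromSpecStalk x P))
      (F.presheaf.stalk (X.fromSpecStalk x P)) := IsScalarTower.of_algebraMap_smul fun _ _ => rfl
  obtain ⟨ρ, hρ⟩ := RefHullLib.isBaseChange_stalkSpecializes hF h
  have hloc := Misc15.isLocalization_stalkSpecializes h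
  have e : (IsUnit.submonoid (X.presheaf.stalk (X.fromSpecStalk x P))).comap
      (X.presheaf.stalkSpecializes h).hom = P.asIdeal.primeCompl := by
    ext a
    have h1 := congrArg PrimeSpectrum.asIdeal (eq_comap_closedPoint x P)
    rw [PrimeSpectrum.comap_asIdeal] at h1
    change IsUnit _ ↔ a ∉ P.asIdeal
    rw [h1, Ideal.mem_comap]
    exact IsLocalRing.notMem_maximalIdeal.symm
  rw [e] at hloc
  haveI : IsLocalizedModule P.asIdeal.primeCompl ρ :=
    (isLocalizedModule_iff_isBaseChange P.asIdeal.primeCompl (X.presheaf.stalk (X.fromSpecStalk x P)) ρ).mpr hρ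
  obtain ⟨h1, h2⟩ := localizedModule_equiv (B := X.presheaf.stalk (X.fromSpecStalk x P)) P.asIdeal ρ
  exact ⟨h1, Module.mem_support_iff.trans h2⟩

theorem length_stalk_pullback_closed {D : Scheme.{u}} (i : D ⟶ X) [IsClosedImmersion i] (F : X.Modules) (d : D) :
    Module.length (D.presheaf.stalk d) (((Scheme.Modules.pullback i).obj F).presheaf.stalk d) =
      Module.length (X.presheaf.stalk (i d)) (F.presheaf.stalk (i d) ⧸
        (RingHom.ker (i.stalkMap d).hom • ⊤ : Submodule (X.presheaf.stalk (i d)) (F.presheaf.stalk (i d)))) := by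
  algebraize [(i.stalkMap d).hom]
  have hsur : Function.Surjective (algebraMap (X.presheaf.stalk (i d)) (D.presheaf.stalk d)) :=
    i.stalkMap_surjective d
  have e : ((DerSch.stalkFunctor D d).obj ((Scheme.Modules.pullback i).obj F)) ≅
      (ModuleCat.extendScalars (i.stalkMap d).hom).obj ((DerSch.stalkFunctor X (i d)).obj F) :=
    (pullbackStalkIso i d).app F
  refine e.toLinearEquiv.length_eq.trans ?_
  change Module.length (D.presheaf.stalk d)
    (TensorProduct (X.presheaf.stalk (i d)) (D.presheaf.stalk d) (F.presheaf.stalk (i d))) = _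
  rw [← Module.length_eq_of_surjective (S := X.presheaf.stalk (i d))
    (M := TensorProduct (X.presheaf.stalk (i d)) (D.presheaf.stalk d) (F.presheaf.stalk (i d))) hsur]
  let q := Ideal.quotientKerAlgEquivOfSurjective
    (f := Algebra.ofId (X.presheaf.stalk (i d)) (D.presheaf.stalk d)) hsur
  exact ((TensorProduct.congr q.symm.toLinearEquiv (LinearEquiv.refl _ (F.presheaf.stalk (i d)))).trans
    (TensorProduct.quotTensorEquivQuotSMul (F.presheaf.stalk (i d))
      (RingHom.ker (i.stalkMap d).hom))).length_eq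

theorem gysin_sheafFun_eq {δ : X → ℤ} [IsLocallyNoetherian X] (hδ : Cyc.IsDimFun X δ) {D : Scheme.{u}}
    (i : D ⟶ X) [IsClosedImmersion i] {L : X.Modules} (hL : PicF.IsInvertible L)
    (s : L.presheaf.obj (Opposite.op ⊤)) (hD : Cyc.IsZeroSchemeOf i L s) (k : ℤ) (F : X.Modules)
    (hF : Coh.IsCoh F) (hdim : ∀ x : X, Nontrivial (F.presheaf.stalk x) → δ x ≤ k + 1)
    (hreg : ∀ (x : X) (t : L.presheaf.stalk x) (f : X.presheaf.stalk x),
      Submodule.span (X.presheaf.stalk x) {t} = ⊤ → (L.presheaf.germ ⊤ x trivial) s = f • t →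
      Function.Injective (fun m : F.presheaf.stalk x => f • m))
    (w : (ξ : X) → Cyc.secFibre L ξ) (d : D) :
    Cyc.c1CapFun δ L (Cyc.sheafFun δ (k + 1) F) (Cyc.gysinChoice L s w) (i d) =
      Cyc.sheafFun (fun d => δ (i d)) k ((Scheme.Modules.pullback i).obj F) d := by
  classical
  set R := X.presheaf.stalk (i d)
  set M := F.presheaf.stalk (i d)
  obtain ⟨t₀, f₀, ht₀, hs₀, hker₀⟩ := hD.2 d
  have hlen := length_stalk_pullback_closed i F d
  rw [hker₀] at hlen
  rw [Cyc.c1CapFun]
  by_cases hx : δ (i d) = k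
  swap
  · rw [finsum_eq_zero_of_forall_eq_zero, Cyc.sheafFun, if_neg hx]
    intro ξ
    by_cases h : Cyc.sheafFun δ (k + 1) F ξ = 0
    · rw [h, zero_mul]
    · have hξ : δ ξ = k + 1 := by_contra fun e ↦ h (if_neg e)
      rw [Cyc.secDivFun, dif_neg (fun h ↦ hx (by omega)), mul_zero]
  conv_rhs => rw [Cyc.sheafFun, if_pos hx, hlen]
  obtain ⟨ht, f, hf⟩ := exists_choose_coeff hL (i d) ((L.presheaf.germ ⊤ (i d) trivial) s)
  obtain ⟨a, ha⟩ := (gen_bijective hL ht.choose_spec).1.2 t₀
  obtain ⟨b, hb⟩ := (gen_bijective hL ht₀).1.2 ht.choose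
  have hfa : f = f₀ * a := (gen_bijective hL ht.choose_spec).1.1
    (show f • ht.choose = (f₀ * a) • ht.choose by rw [mul_smul]; exact hf.symm.trans (hs₀.trans (congrArg (f₀ • ·) ha.symm)))
  have hfb : f₀ = f * b := (gen_bijective hL ht₀).1.1
    (show f₀ • t₀ = (f * b) • t₀ by rw [mul_smul]; exact hs₀.symm.trans (hf.trans (congrArg (f • ·) hb.symm)))
  have hspan : Ideal.span {f₀} = Ideal.span {f} :=
    le_antisymm (Ideal.span_singleton_le_span_singleton.mpr ⟨b, hfb⟩)
      (Ideal.span_singleton_le_span_singleton.mpr ⟨a, hfa⟩)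
  rw [hspan, Submodule.ideal_span_singleton_smul]
  haveI : Module.Finite R M := AssSch12.finite_stalk hF (i d)
  have hne : ∀ P : PrimeSpectrum R, P ≠ closedPoint R → X.fromSpecStalk (i d) P ≠ i d := fun P hP e ↦
    hP (fromSpecStalk_injective (i d) (e.trans Scheme.fromSpecStalk_closedPoint.symm))
  have hδP : ∀ P ∈ Module.support R M, P ≠ closedPoint R → δ (X.fromSpecStalk (i d) P) = k + 1 := by
    intro P hP hP'
    have h1 := (hδ _ _ (fromSpecStalk_specializes (i d) P) (hne P hP')).1
    have h2 := hdim _ ((localizedModule_stalk hF.1 (i d) P).2.mp hP)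
    omega
  have hmax : ∀ P ∈ Module.support R M, ∀ Q ∈ Module.support R M, Q < P → P = closedPoint R := by
    intro P hP Q hQ hlt
    by_contra hne'
    have h1 := drop_lt hδ (i d) hlt
    have h2 := hδP P hP hne'
    have h3 := hdim _ ((localizedModule_stalk hF.1 (i d) Q).2.mp hQ)
    simp only [drop] at h1
    omega
  have hnot : ∀ P ∈ Module.support R M, P ≠ closedPoint R → f ∉ P.asIdeal := by
    intro P hP hP' hfP
    obtain ⟨ξ, hξ⟩ : ∃ ξ, ξ = X.fromSpecStalk (i d) P := ⟨_, rfl⟩
    haveI : Nontrivial (F.presheaf.stalk (X.fromSpecStalk (i d) P)) := (localizedModule_stalk hF.1 (i d) P).2.mp hP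
    haveI := AssSch12.finite_stalk hF (X.fromSpecStalk (i d) P)
    set f' := (X.presheaf.stalkSpecializes (fromSpecStalk_specializes (i d) P)).hom f with hf'
    have hinj := hreg _ _ f' (by
        refine eq_top_iff.mpr fun m _ ↦ ?_
        obtain ⟨r, rfl⟩ := ((gen_bijective hL ht.choose_spec).2 _ (fromSpecStalk_specializes (i d) P)).2 m
        exact Submodule.smul_mem _ _ (Submodule.subset_span rfl))
      (secOrdAt_germ hL (fromSpecStalk_specializes (i d) P) ht s f hf).1
    have hfin : Module.length (X.presheaf.stalk (X.fromSpecStalk (i d) P))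
        (F.presheaf.stalk (X.fromSpecStalk (i d) P)) ≠ ⊤ := length_stalk_ne_top hF _ fun z hz hzP ↦ by
      by_contra hzne
      have h1 := (hδ z _ hzP hzne).1
      have h2 := hdim z hz
      have h3 := hδP P hP hP'
      omega
    have hfl := (isFiniteLength_iff_isNoetherian_isArtinian).mp (Module.length_ne_top_iff.mp hfin)
    haveI := hfl.2
    have hsurj := IsArtinian.surjective_of_injective_endomorphism
      (LinearMap.lsmul _ (F.presheaf.stalk (X.fromSpecStalk (i d) P)) f') hinj
    refine Submodule.top_ne_ideal_smul_of_le_jacobson_annihilator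
      (R := X.presheaf.stalk (X.fromSpecStalk (i d) P)) (M := F.presheaf.stalk (X.fromSpecStalk (i d) P))
      (I := maximalIdeal _) (IsLocalRing.maximalIdeal_le_jacobson _) (eq_comm.mp (eq_top_iff.mpr fun m _ ↦ ?_))
    obtain ⟨m', rfl⟩ := hsurj m
    refine Submodule.smul_mem_smul ?_ trivial
    have h1 := congrArg PrimeSpectrum.asIdeal (eq_comap_closedPoint (i d) P)
    rw [h1] at hfP
    exact hfP
  have hSfin : {P : PrimeSpectrum R | P ∈ Module.support R M ∧ P ≠ closedPoint R}.Finite := by
    refine ((Ideal.finite_minimalPrimes_of_isNoetherianRing R (Module.annihilator R M)).preimage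
      (fun P _ Q _ e ↦ PrimeSpectrum.ext e)).subset fun P ⟨hP, hP'⟩ ↦ ?_
    have hann := Module.mem_support_iff_of_finite.mp hP
    obtain ⟨q, hq, hqP⟩ := Ideal.exists_minimalPrimes_le hann
    rcases eq_or_lt_of_le hqP with e | hlt
    · refine Set.mem_preimage.mpr ?_; rw [← e]; exact hq
    · exact absurd (hmax P hP ⟨q, hq.1.1⟩ (Module.mem_support_iff_of_finite.mpr hq.1.2) hlt) hP'
  have hsd1 : Module.supportDim R M ≤ 1 := by
    refine iSup_le fun σ ↦ ?_
    have h1 := series_le hδ (i d) (σ.map Subtype.val (Subtype.strictMono_coe _))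
    have h2 := hdim _ ((localizedModule_stalk hF.1 (i d) σ.head.1).2.mp σ.head.2)
    simp only [drop, LTSeries.head_map, LTSeries.map_length] at h1
    exact_mod_cast (show σ.length ≤ 1 by omega)
  have hQann : ∀ q : PrimeSpectrum R, Module.annihilator R (M ⧸ f • (⊤ : Submodule R M)) ≤ q.asIdeal →
      q = closedPoint R := by
    intro q hq
    by_contra hne'
    have hf' : f ∈ Module.annihilator R (M ⧸ f • (⊤ : Submodule R M)) := by
      refine Module.mem_annihilator.mpr ?_
      rintro ⟨m⟩
      exact (Submodule.Quotient.mk_eq_zero _).mpr ⟨m, trivial, rfl⟩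
    have hM : Module.annihilator R M ≤ Module.annihilator R (M ⧸ f • (⊤ : Submodule R M)) :=
      LinearMap.annihilator_le_of_surjective _ (Submodule.mkQ_surjective _)
    exact hnot q (Module.mem_support_iff_of_finite.mpr (hM.trans hq)) hne' (hq hf')
  have hsd0 : Module.supportDim R (M ⧸ f • (⊤ : Submodule R M)) ≤ 0 := by
    have : Subsingleton ↥(Module.support R (M ⧸ f • (⊤ : Submodule R M))) :=
      ⟨fun a b ↦ Subtype.ext ((hQann _ (Module.mem_support_iff_of_finite.mp a.2)).trans
        (hQann _ (Module.mem_support_iff_of_finite.mp b.2)).symm)⟩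
    exact Order.krullDim_nonpos_of_subsingleton
  have hmain := Groth.Agent.S1833.result R M f hsd1 hsd0
  have hne_top := length_ne_top_of_annihilator hQann
  rw [LinearMap.ker_eq_bot.mpr (show Function.Injective (LinearMap.lsmul R M f) from
      hreg (i d) ht.choose f ht.choose_spec hf), Module.length_bot, zero_add] at hmain
  let G : Finset (PrimeSpectrum R) := hSfin.toFinset
  have hsum : (∑ᶠ (p : PrimeSpectrum R) (_ : p ∈ Module.support R M ∧ p.asIdeal ≠ maximalIdeal R),
      Ring.ord (R ⧸ p.asIdeal) (Ideal.Quotient.mk p.asIdeal f) *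
        Module.length (Localization.AtPrime p.asIdeal) (LocalizedModule p.asIdeal.primeCompl M)) =
      ∑ p ∈ G, Ring.ord (R ⧸ p.asIdeal) (Ideal.Quotient.mk p.asIdeal f) *
        Module.length (Localization.AtPrime p.asIdeal) (LocalizedModule p.asIdeal.primeCompl M) := by
    refine finsum_cond_eq_sum_of_cond_iff _ fun {p} _ ↦ ?_
    simp only [G, Set.Finite.mem_toFinset, Set.mem_setOf_eq]
    exact and_congr_right fun _ ↦ ⟨fun h e ↦ h (e ▸ rfl), fun h e ↦ h (PrimeSpectrum.ext e)⟩
  rw [hsum] at hmain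
  rw [hmain] at hne_top ⊢
  rw [toNat_finsum G _ hne_top, Nat.cast_sum]
  have hvan : ∀ P : PrimeSpectrum R, P ∉ G → Cyc.sheafFun δ (k + 1) F (X.fromSpecStalk (i d) P) = 0 := by
    intro P hP
    simp only [G, Set.Finite.mem_toFinset, Set.mem_setOf_eq, not_and_or, not_not] at hP
    simp only [Cyc.sheafFun]
    split_ifs with hh
    · rcases hP with hP | hP
      · haveI : Subsingleton (F.presheaf.stalk (X.fromSpecStalk (i d) P)) :=
          not_nontrivial_iff_subsingleton.mp fun hn ↦ hP ((localizedModule_stalk hF.1 (i d) P).2.mpr hn)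
        rw [Module.length_eq_zero_iff.mpr inferInstance]; rfl
      · subst hP
        rw [Scheme.fromSpecStalk_closedPoint] at hh
        omega
    · rfl
  rw [finsum_over_primes (i d) (fun ξ ↦ Cyc.sheafFun δ (k + 1) F ξ * Cyc.secDivFun δ L ξ
      (Cyc.gysinChoice L s w ξ) (i d)) (fun ξ hξ ↦ by
      by_contra hns
      exact hξ (by rw [Cyc.secDivFun, dif_neg (fun h ↦ hns h.1), mul_zero])),
    finsum_eq_sum_of_support_subset _ (s := G) (fun P hP ↦ by
      by_contra hPG
      exact hP (by change _ * _ = (0 : ℤ); rw [hvan P hPG, zero_mul]))]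
  refine Finset.sum_congr rfl fun P hP ↦ ?_
  obtain ⟨hPs, hP'⟩ : P ∈ Module.support R M ∧ P ≠ closedPoint R := by simpa [G] using hP
  have hd : δ (i d) + 1 = δ (X.fromSpecStalk (i d) P) := by rw [hδP P hPs hP', hx]
  have hsp : Cyc.specMap (i d) (X.fromSpecStalk (i d) P) (fromSpecStalk_specializes (i d) P) f ≠ 0 := fun h0 ↦
    hnot P hPs hP' (by rw [← ker_specMap P (fromSpecStalk_specializes (i d) P)]; exact h0)
  have hgz : (Submodule.Quotient.mk ((L.presheaf.germ ⊤ (X.fromSpecStalk (i d) P) trivial) s) :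
      Cyc.secFibre L (X.fromSpecStalk (i d) P)) ≠ 0 := by
    rw [(secOrdAt_germ hL (fromSpecStalk_specializes (i d) P) ht s f hf).1]
    exact fun h0 ↦ hsp ((mk_eq_zero_iff hL _ ht.choose_spec _).mp h0)
  rw [Cyc.sheafFun, if_pos (hδP P hPs hP'), Cyc.gysinChoice, if_pos hgz, Cyc.secDivFun,
    dif_pos ⟨fromSpecStalk_specializes (i d) P, hd⟩,
    (secOrdAt_germ hL (fromSpecStalk_specializes (i d) P) ht s f hf).2,
    ordAt_formula hδ (fromSpecStalk_specializes (i d) P) hd f hsp, ker_specMap,
    ← (localizedModule_stalk hF.1 (i d) P).1, ← Nat.cast_mul, ← ENat.toNat_mul, mul_comm]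
  congr 3
  rw [Ring.ord, ← bot_sup_eq (Ideal.span {Ideal.Quotient.mk P.asIdeal f}),
    ord_eq_of_surjective (Ideal.Quotient.mk P.asIdeal) Ideal.Quotient.mk_surjective ⊥ _ f rfl,
    ← RingHom.ker_eq_comap_bot, Ideal.mk_ker]

theorem ratEquiv_of_eq {δ : X → ℤ} (k : ℤ) {α β : AlgebraicCycle X ℤ} (h : ∀ x, α x = β x) :
    Cyc.RatEquiv δ k α β := by
  refine ⟨PEmpty.{u+1}, fun e ↦ e.elim, fun e ↦ e.elim, fun e ↦ e.elim, fun e ↦ e.elim, fun x ↦
    ⟨Set.univ, isOpen_univ, trivial, Set.toFinite _⟩, fun x ↦ ?_⟩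
  rw [finsum_of_isEmpty]
  simp [h x]

end Groth.Agent.CycLib28
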