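import Mathlib
import Groth.Prelude.Def_C1
import Groth.Agent.CycLib28.SecOrd

/-!
# The first Chern class does not depend on the rational sections
-/

universe u

open CategoryTheory AlgebraicGeometry IsLocalRing Groth.Agent.CycLim28

namespace Groth.Agent.CycLib28

variable {X : Scheme.{u}}

/-- `secOrdAt` in terms of any coefficient on the chosen generator -/
theorem secOrdAt_coeff {L : X.Modules} (hL : PicF.IsInvertible L) {ξ x : X} (h : ξ ⤳ x)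
    (ht : ∃ t : L.presheaf.stalk x, Submodule.span (X.presheaf.stalk x) {t} = ⊤) (φ : X.presheaf.stalk ξ) :
    Cyc.secOrdAt L ξ x h (Submodule.Quotient.mk (φ • L.presheaf.stalkSpecializes h ht.choose)) =
      Cyc.ordAt x ξ h ((X.residue ξ).hom φ) := by
  unfold Cyc.secOrdAt
  rw [dif_pos ht]
  have hex : ∃ ψ : X.presheaf.stalk ξ,
      (Submodule.Quotient.mk (φ • L.presheaf.stalkSpecializes h ht.choose) : Cyc.secFibre L ξ) =
        ψ • Submodule.Quotient.mk ((L.presheaf.stalkSpecializes h) ht.choose) :=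
    ⟨φ, by rw [Submodule.Quotient.mk_smul]⟩
  rw [dif_pos hex]
  have hψ := Classical.choose_spec hex
  revert hψ
  generalize Classical.choose hex = c
  intro hψ
  congr 1
  rw [← Submodule.Quotient.mk_smul, ← sub_eq_zero, ← Submodule.Quotient.mk_sub, ← sub_smul,
    mk_eq_zero_iff hL h ht.choose_spec, map_sub, sub_eq_zero] at hψ
  exact hψ.symm

theorem exists_fibre_coeff {L : X.Modules} (hL : PicF.IsInvertible L) {ξ x : X} (h : ξ ⤳ x)
    (s : Cyc.secFibre L ξ) :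
    ∃ (ht : ∃ t : L.presheaf.stalk x, Submodule.span (X.presheaf.stalk x) {t} = ⊤) (φ : X.presheaf.stalk ξ),
      s = Submodule.Quotient.mk (φ • L.presheaf.stalkSpecializes h ht.choose) := by
  obtain ⟨m, rfl⟩ := Submodule.Quotient.mk_surjective _ s
  obtain ⟨g, hg, -⟩ := exists_gen_stalk hL x
  have ht : ∃ t : L.presheaf.stalk x, Submodule.span (X.presheaf.stalk x) {t} = ⊤ :=
    ⟨g, eq_top_iff.mpr fun m _ ↦ by
      obtain ⟨r, rfl⟩ := hg.2 m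
      exact Submodule.smul_mem _ _ (Submodule.subset_span rfl)⟩
  obtain ⟨φ, hφ⟩ := ((gen_bijective hL ht.choose_spec).2 ξ h).2 m
  exact ⟨ht, φ, congrArg _ hφ.symm⟩

theorem secOrdAt_smul [IsLocallyNoetherian X] {δ : X → ℤ} (hδ : Cyc.IsDimFun X δ) {L : X.Modules}
    (hL : PicF.IsInvertible L) {ξ x : X} (h : ξ ⤳ x) (hd : δ x + 1 = δ ξ) (a : X.presheaf.stalk ξ)
    (ha : (X.residue ξ).hom a ≠ 0) (s : Cyc.secFibre L ξ) (hs : s ≠ 0) :
    Cyc.secOrdAt L ξ x h (a • s) = Cyc.ordAt x ξ h ((X.residue ξ).hom a) + Cyc.secOrdAt L ξ x h s := by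
  obtain ⟨ht, φ, rfl⟩ := exists_fibre_coeff hL h s
  have hφ : (X.residue ξ).hom φ ≠ 0 := fun h0 ↦ hs ((mk_eq_zero_iff hL h ht.choose_spec φ).mpr h0)
  rw [← Submodule.Quotient.mk_smul, smul_smul, secOrdAt_coeff hL h ht, secOrdAt_coeff hL h ht, map_mul,
    ordAt_mul hδ h hd ha hφ]

theorem exists_ratio_sections {L : X.Modules} (hL : PicF.IsInvertible L) (ξ : X) (s t : Cyc.secFibre L ξ)
    (hs : s ≠ 0) (ht : t ≠ 0) : ∃ a : X.presheaf.stalk ξ, (X.residue ξ).hom a ≠ 0 ∧ s = a • t := by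
  obtain ⟨hg, φ, rfl⟩ := exists_fibre_coeff hL (specializes_refl ξ) s
  obtain ⟨hg', ψ, rfl⟩ := exists_fibre_coeff hL (specializes_refl ξ) t
  have hφ : (X.residue ξ).hom φ ≠ 0 := fun h0 ↦ hs ((mk_eq_zero_iff hL _ hg.choose_spec φ).mpr h0)
  have hψ : (X.residue ξ).hom ψ ≠ 0 := fun h0 ↦ ht ((mk_eq_zero_iff hL _ hg'.choose_spec ψ).mpr h0)
  have hu : IsUnit ψ := (IsLocalRing.residue_ne_zero_iff_isUnit ψ).mp hψ
  refine ⟨φ * ↑hu.unit⁻¹, ?_, ?_⟩
  · exact (IsLocalRing.residue_ne_zero_iff_isUnit _).mpr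
      (((IsLocalRing.residue_ne_zero_iff_isUnit φ).mp hφ).mul (Units.isUnit _))
  · rw [← Submodule.Quotient.mk_smul, smul_smul, mul_assoc, IsUnit.val_inv_mul, mul_one]

theorem finite_specializing (α : AlgebraicCycle X ℤ) (x : X) : {ξ | ξ ⤳ x ∧ α ξ ≠ 0}.Finite := by
  obtain ⟨U, ⟨hU, hUc⟩, hxU, -⟩ := (PrespectralSpace.isTopologicalBasis (X := X)).exists_subset_of_mem_open
    (Set.mem_univ x) isOpen_univ
  exact ((Function.locallyFinsupp.locallyFiniteSupport α).finite_inter_support_of_isCompact hUc).subset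
    fun ξ hξ ↦ ⟨hξ.1.mem_open hU hxU, hξ.2⟩

theorem c1CapFun_support_finite (δ : X → ℤ) (L : X.Modules) (α : AlgebraicCycle X ℤ)
    (s : (ξ : X) → Cyc.secFibre L ξ) (x : X) :
    (Function.support fun ξ ↦ α ξ * Cyc.secDivFun δ L ξ (s ξ) x).Finite := by
  refine (finite_specializing α x).subset fun ξ hξ ↦ ⟨?_, left_ne_zero_of_mul hξ⟩
  by_contra hns
  exact right_ne_zero_of_mul hξ (by rw [Cyc.secDivFun, dif_neg (fun h ↦ hns h.1)])

/-- rational sections do not matter up to rational equivalence -/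
theorem c1CapFun_indep [IsLocallyNoetherian X] {δ : X → ℤ} (hδ : Cyc.IsDimFun X δ) {L : X.Modules}
    (hL : PicF.IsInvertible L) (k : ℤ) (α : AlgebraicCycle X ℤ) (hα : α ∈ Cyc.Zk X δ (k + 1))
    (s t : (ξ : X) → Cyc.secFibre L ξ) (hs : ∀ ξ, α ξ ≠ 0 → s ξ ≠ 0) (ht : ∀ ξ, α ξ ≠ 0 → t ξ ≠ 0)
    (γ γ' : AlgebraicCycle X ℤ) (hγ : ⇑γ = Cyc.c1CapFun δ L ⇑α s) (hγ' : ⇑γ' = Cyc.c1CapFun δ L ⇑α t) :
    Cyc.RatEquiv δ k γ γ' := by
  classical
  choose a ha using fun ξ : {ξ // α ξ ≠ 0} ↦ exists_ratio_sections hL ξ.1 (s ξ) (t ξ) (hs ξ ξ.2) (ht ξ ξ.2)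
  refine ⟨{ξ // α ξ ≠ 0}, fun ξ ↦ ξ.1, fun ξ ↦ ((X.residue ξ.1).hom (a ξ)) ^ (α ξ.1),
    fun ξ ↦ ?_, fun ξ ↦ zpow_ne_zero _ (ha ξ).1, fun x ↦ ?_, fun x ↦ ?_⟩
  · by_contra hh
    exact ξ.2 (hα ξ.1 hh)
  · obtain ⟨U, ⟨hU, hUc⟩, hxU, -⟩ := (PrespectralSpace.isTopologicalBasis (X := X)).exists_subset_of_mem_open
      (Set.mem_univ x) isOpen_univ
    refine ⟨U, hU, hxU, ?_⟩
    have h := (Function.locallyFinsupp.locallyFiniteSupport α).finite_inter_support_of_isCompact hUc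
    refine (h.preimage Subtype.val_injective.injOn).subset fun ξ ⟨w, hw1, hw2⟩ ↦ ?_
    exact ⟨(specializes_iff_mem_closure.mpr hw1).mem_open hU hw2, ξ.2⟩
  · rw [Function.locallyFinsuppWithin.coe_sub, Pi.sub_apply, hγ, hγ', Cyc.c1CapFun, Cyc.c1CapFun,
      ← finsum_sub_distrib (c1CapFun_support_finite δ L α s x) (c1CapFun_support_finite δ L α t x)]
    have e : ∀ ξ : {ξ // α ξ ≠ 0},
        α ξ.1 * Cyc.secDivFun δ L ξ.1 (s ξ.1) x - α ξ.1 * Cyc.secDivFun δ L ξ.1 (t ξ.1) x =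
          Cyc.divFun δ ξ.1 (((X.residue ξ.1).hom (a ξ)) ^ (α ξ.1)) x := by
      intro ξ
      simp only [Cyc.secDivFun, Cyc.divFun]
      split_ifs with h
      · rw [(ha ξ).2, secOrdAt_smul hδ hL h.1 h.2 _ (ha ξ).1 _ (ht ξ ξ.2), ordAt_zpow hδ h.1 h.2 (ha ξ).1]
        ring
      · rw [mul_zero, sub_zero]
    rw [← finsum_congr e, finsum_subtype_eq_finsum_cond
      (f := fun ξ ↦ α ξ * Cyc.secDivFun δ L ξ (s ξ) x - α ξ * Cyc.secDivFun δ L ξ (t ξ) x) (fun ξ ↦ α ξ ≠ 0)]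
    refine finsum_congr fun ξ ↦ ?_
    by_cases h0 : α ξ = 0
    · simp [h0]
    · simp [h0]

end Groth.Agent.CycLib28
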