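import Mathlib
import Groth.Prelude.Def_C1
import Groth.Agent.CycLib28.C1Indep
import Groth.Agent.RefHullLib.TensorGen

/-!
# The first Chern class is additive in the line bundle
-/

set_option backward.isDefEq.respectTransparency.types false

universe u

open CategoryTheory AlgebraicGeometry IsLocalRing Groth.Agent.CycLim28 Groth.Agent.PicLib Groth.Agent.AmpleLib

namespace Groth.Agent.CycLib28

variable {X : Scheme.{u}}

theorem secOrdAt_gen [IsLocallyNoetherian X] {δ : X → ℤ} (hδ : Cyc.IsDimFun X δ) {L : X.Modules}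
    (hL : PicF.IsInvertible L) {ξ x : X} (h : ξ ⤳ x) (hd : δ x + 1 = δ ξ) {U : X.Opens} {e : Γ(L, U)}
    (he : IsGen L U e) (hxU : x ∈ U) (hξU : ξ ∈ U) (φ : X.presheaf.stalk ξ) (hφ : (X.residue ξ).hom φ ≠ 0) :
    Cyc.secOrdAt L ξ x h (Submodule.Quotient.mk (φ • L.presheaf.germ U ξ hξU e)) =
      Cyc.ordAt x ξ h ((X.residue ξ).hom φ) := by
  have hg := VarietyLib.gen_germ_bijective he hxU
  have ht : ∃ t : L.presheaf.stalk x, Submodule.span (X.presheaf.stalk x) {t} = ⊤ :=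
    ⟨L.presheaf.germ U x hxU e, eq_top_iff.mpr fun m _ ↦ by
      obtain ⟨r, rfl⟩ := hg.2 m
      exact Submodule.smul_mem _ _ (Submodule.subset_span rfl)⟩
  obtain ⟨c, hc⟩ := hg.2 ht.choose
  obtain ⟨c', hc'⟩ := (gen_bijective hL ht.choose_spec).1.2 (L.presheaf.germ U x hxU e)
  have hcc : c' * c = 1 := hg.1 (by simp only [mul_smul, one_smul]; exact (congrArg (c' • ·) hc).trans hc')
  have hcu : IsUnit c' := IsUnit.of_mul_eq_one c hcc
  have hgerm : L.presheaf.germ U ξ hξU e =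
      (X.presheaf.stalkSpecializes h).hom c' • L.presheaf.stalkSpecializes h ht.choose := by
    rw [← stalkSpecializes_smul']
    exact ((congrArg (L.presheaf.stalkSpecializes h) hc').trans (TopCat.Presheaf.germ_stalkSpecializes_apply _ _ _ _)).symm
  rw [hgerm, smul_smul, secOrdAt_coeff hL h ht, map_mul, ordAt_mul hδ h hd hφ ((hcu.map _).map _).ne_zero,
    show (X.residue ξ).hom ((X.presheaf.stalkSpecializes h).hom c') = Cyc.specMap x ξ h c' from rfl,
    ordAt_unit hδ h hd c' hcu, add_zero]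

theorem exists_tensor_sections [IsLocallyNoetherian X] {δ : X → ℤ} (hδ : Cyc.IsDimFun X δ) {L N : X.Modules}
    (hL : PicF.IsInvertible L) (hN : PicF.IsInvertible N) (ξ : X) (sL : Cyc.secFibre L ξ) (hsL : sL ≠ 0)
    (sN : Cyc.secFibre N ξ) (hsN : sN ≠ 0) :
    ∃ sT : Cyc.secFibre (CohB1.tensorMod L N) ξ, sT ≠ 0 ∧ ∀ (x : X) (h : ξ ⤳ x), δ x + 1 = δ ξ →
      Cyc.secOrdAt (CohB1.tensorMod L N) ξ x h sT =
        Cyc.secOrdAt L ξ x h sL + Cyc.secOrdAt N ξ x h sN := by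
  obtain ⟨mL, rfl⟩ := Submodule.Quotient.mk_surjective _ sL
  obtain ⟨mN, rfl⟩ := Submodule.Quotient.mk_surjective _ sN
  have hT := AmpleLib.isInvertible_tensorMod hL hN
  obtain ⟨U₁, hξ₁, a₁, ha₁⟩ := PicLib.exists_isGen hL ξ
  obtain ⟨U₂, hξ₂, b₁, hb₁⟩ := PicLib.exists_isGen hN ξ
  let U := U₁ ⊓ U₂
  have hξU : ξ ∈ U := ⟨hξ₁, hξ₂⟩
  let a := Coherent.resM L (inf_le_left : U ≤ U₁) a₁
  let b := Coherent.resM N (inf_le_right : U ≤ U₂) b₁
  have ha : IsGen L U a := ha₁.restrict _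
  have hb : IsGen N U b := hb₁.restrict _
  obtain ⟨φ, hφ⟩ := (VarietyLib.gen_germ_bijective ha hξU).2 mL
  obtain ⟨ψ, hψ⟩ := (VarietyLib.gen_germ_bijective hb hξU).2 mN
  have hφ0 : (X.residue ξ).hom φ ≠ 0 := fun h0 ↦ hsL (by
    rw [Submodule.Quotient.mk_eq_zero, ← hφ]
    exact Submodule.smul_mem_smul ((IsLocalRing.residue_eq_zero_iff _).mp h0) Submodule.mem_top)
  have hψ0 : (X.residue ξ).hom ψ ≠ 0 := fun h0 ↦ hsN (by
    rw [Submodule.Quotient.mk_eq_zero, ← hψ]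
    exact Submodule.smul_mem_smul ((IsLocalRing.residue_eq_zero_iff _).mp h0) Submodule.mem_top)
  refine ⟨Submodule.Quotient.mk ((φ * ψ) • (CohB1.tensorMod L N).presheaf.germ U ξ hξU (tmul a b)), ?_, ?_⟩
  · intro h0
    rw [Submodule.Quotient.mk_eq_zero] at h0
    let e := LinearEquiv.ofBijective (LinearMap.toSpanSingleton (X.presheaf.stalk ξ) _
      ((CohB1.tensorMod L N).presheaf.germ U ξ hξU (tmul a b))) (VarietyLib.gen_germ_bijective (isGen_tmul ha hb) hξU)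
    have h2 := Submodule.mem_map_of_mem (f := e.symm.toLinearMap) h0
    rw [Submodule.map_smul'', Submodule.map_top, LinearMap.range_eq_top.mpr e.symm.surjective,
      show e.symm.toLinearMap ((φ * ψ) • (CohB1.tensorMod L N).presheaf.germ U ξ hξU (tmul a b)) = φ * ψ from
        e.symm_apply_apply (φ * ψ)] at h2
    have h3 : (X.residue ξ).hom (φ * ψ) = 0 :=
      (IsLocalRing.residue_eq_zero_iff _).mpr (by simpa [Ideal.mul_top, Ideal.smul_eq_mul] using h2)
    rw [map_mul, mul_eq_zero] at h3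
    exact h3.elim hφ0 hψ0
  · intro x h hd
    obtain ⟨V₁, hx₁, c₁, hc₁⟩ := PicLib.exists_isGen hL x
    obtain ⟨V₂, hx₂, d₁, hd₁⟩ := PicLib.exists_isGen hN x
    let V := V₁ ⊓ V₂
    have hxV : x ∈ V := ⟨hx₁, hx₂⟩
    have hξV : ξ ∈ V := h.mem_open V.2 hxV
    let c := Coherent.resM L (inf_le_left : V ≤ V₁) c₁
    let d := Coherent.resM N (inf_le_right : V ≤ V₂) d₁
    have hc : IsGen L V c := hc₁.restrict _
    have hd' : IsGen N V d := hd₁.restrict _
    obtain ⟨p, hp⟩ := (VarietyLib.gen_germ_bijective hc hξV).2 (L.presheaf.germ U ξ hξU a)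
    obtain ⟨q, hq⟩ := (VarietyLib.gen_germ_bijective hd' hξV).2 (N.presheaf.germ U ξ hξU b)
    have hT' := RefHullLib.germ_tmul_eq hξU hξV a b c d p q hp.symm hq.symm
    have hp0 : (X.residue ξ).hom p ≠ 0 := by
      obtain ⟨p', hp'⟩ := (VarietyLib.gen_germ_bijective ha hξU).2 (L.presheaf.germ V ξ hξV c)
      have : p' * p = 1 := by
        refine mul_comm p' p ▸ (VarietyLib.gen_germ_bijective ha hξU).1 ?_
        simp only [mul_smul, one_smul]
        exact (congrArg (p • ·) hp').trans hp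
      exact ((IsUnit.of_mul_eq_one_right p' this).map _).ne_zero
    have hq0 : (X.residue ξ).hom q ≠ 0 := by
      obtain ⟨q', hq'⟩ := (VarietyLib.gen_germ_bijective hb hξU).2 (N.presheaf.germ V ξ hξV d)
      have : q' * q = 1 := by
        refine mul_comm q' q ▸ (VarietyLib.gen_germ_bijective hb hξU).1 ?_
        simp only [mul_smul, one_smul]
        exact (congrArg (q • ·) hq').trans hq
      exact ((IsUnit.of_mul_eq_one_right q' this).map _).ne_zero
    have e1 : mL = (φ * p) • L.presheaf.germ V ξ hξV c := by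
      rw [mul_smul]; exact hφ.symm.trans (congrArg (φ • ·) hp.symm)
    have e2 : mN = (ψ * q) • N.presheaf.germ V ξ hξV d := by
      rw [mul_smul]; exact hψ.symm.trans (congrArg (ψ • ·) hq.symm)
    have e3 : (φ * ψ) • (CohB1.tensorMod L N).presheaf.germ U ξ hξU (tmul a b) =
        ((φ * p) * (ψ * q)) • (CohB1.tensorMod L N).presheaf.germ V ξ hξV (tmul c d) := by
      rw [hT', smul_smul]; congr 1; ring
    rw [e1, e2, e3,
      secOrdAt_gen hδ hT h hd (isGen_tmul hc hd') hxV hξV _ (by rw [map_mul, map_mul, map_mul]; exact mul_ne_zero (mul_ne_zero hφ0 hp0) (mul_ne_zero hψ0 hq0)),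
      secOrdAt_gen hδ hL h hd hc hxV hξV _ (by rw [map_mul]; exact mul_ne_zero hφ0 hp0),
      secOrdAt_gen hδ hN h hd hd' hxV hξV _ (by rw [map_mul]; exact mul_ne_zero hψ0 hq0),
      map_mul, ordAt_mul hδ h hd (by rw [map_mul]; exact mul_ne_zero hφ0 hp0) (by rw [map_mul]; exact mul_ne_zero hψ0 hq0)]

theorem c1CapFun_tensor_aux [IsLocallyNoetherian X] {δ : X → ℤ} (hδ : Cyc.IsDimFun X δ) {L N : X.Modules}
    (α : AlgebraicCycle X ℤ) (sL : (ξ : X) → Cyc.secFibre L ξ) (sN : (ξ : X) → Cyc.secFibre N ξ)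
    (sT : (ξ : X) → Cyc.secFibre (CohB1.tensorMod L N) ξ)
    (h : ∀ ξ (x : X) (hx : ξ ⤳ x), δ x + 1 = δ ξ → Cyc.secOrdAt (CohB1.tensorMod L N) ξ x hx (sT ξ) =
        Cyc.secOrdAt L ξ x hx (sL ξ) + Cyc.secOrdAt N ξ x hx (sN ξ)) :
    Cyc.c1CapFun δ (CohB1.tensorMod L N) ⇑α sT = Cyc.c1CapFun δ L ⇑α sL + Cyc.c1CapFun δ N ⇑α sN := by
  funext x
  rw [Pi.add_apply, Cyc.c1CapFun, Cyc.c1CapFun, Cyc.c1CapFun,
    ← finsum_add_distrib (c1CapFun_support_finite δ L α sL x) (c1CapFun_support_finite δ N α sN x)]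
  refine finsum_congr fun ξ ↦ ?_
  simp only [Cyc.secDivFun]
  split_ifs with hh
  · rw [h ξ x hh.1 hh.2, mul_add]
  · simp

end Groth.Agent.CycLib28
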