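import Mathlib
import Groth.Prelude.Def_Cyc
import Groth.Agent.CycLib28.FlatDiv
import Groth.Agent.CycLib28.DivFun

/-!
# Flat pullback of rational equivalence
-/

universe u

open CategoryTheory AlgebraicGeometry IsLocalRing Groth.Agent.CycLim28 TopologicalSpace

namespace Groth.Agent.CycLib28

variable {X Y : Scheme.{u}}

theorem lenFibre_of_isField (f : X ⟶ Y) (x : X) (h : IsField (Y.presheaf.stalk (f x))) :
    lenFibre f x = Module.length (X.presheaf.stalk x) (X.presheaf.stalk x) := by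
  rw [lenFibre, IsLocalRing.isField_iff_maximalIdeal_eq.mp h, Ideal.map_bot]
  exact (AlgEquiv.quotientBot (X.presheaf.stalk x) (X.presheaf.stalk x)).toLinearEquiv.length_eq

theorem isField_stalk_genericPoint [IsIntegral Y] (y : Y) (h : y = genericPoint Y) :
    IsField (Y.presheaf.stalk y) := by
  subst h
  exact Field.toIsField Y.functionField

theorem finite_genInFibre_over (f : X ⟶ Y) [IsLocallyNoetherian X] (η : Y) {U : X.Opens}
    (hU : IsAffineOpen U) : {ξ : X | ξ ∈ U ∧ GenInFibre f ξ ∧ f ξ = η}.Finite := by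
  have : IsNoetherianRing Γ(X, U) := IsLocallyNoetherian.component_noetherian ⟨U, hU⟩
  have : NoetherianSpace (U : Set X) := noetherianSpace_of_isAffineOpen U hU
  have : QuasiSober (U : Set X) := U.2.isOpenEmbedding_subtypeVal.quasiSober
  have hT : IsClosed ((fun z : (U : Set X) ↦ f z.1) ⁻¹' closure {η}) :=
    isClosed_closure.preimage (f.continuous.comp continuous_subtype_val)
  refine ((finite_maximal_of_isClosed _ hT).image Subtype.val).subset ?_
  rintro ξ ⟨hξU, hξ, hfξ⟩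
  refine ⟨⟨ξ, hξU⟩, ⟨?_, fun w hw hwξ ↦ ?_⟩, rfl⟩
  · exact subset_closure (Set.mem_singleton_iff.mpr hfξ)
  · have h1 : w.1 ⤳ ξ := hwξ.map continuous_subtype_val
    have h2 : η ⤳ f w.1 := specializes_iff_mem_closure.mpr hw
    have h3 : f w.1 ⤳ η := hfξ ▸ h1.map f.continuous
    exact Subtype.ext (hξ w.1 (((h3.antisymm h2).eq).trans hfξ.symm) h1)

theorem pullFun_ratEquivZero (f : X ⟶ Y) [Flat f] [IsLocallyNoetherian X] [IsLocallyNoetherian Y]
    {δX : X → ℤ} {δY : Y → ℤ} (hX : Cyc.IsDimFun X δX) (hY : Cyc.IsDimFun Y δY) (r : ℤ)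
    (hc : ∀ x, GenInFibre f x → δX x = δY (f x) + r) (k : ℤ) (α : AlgebraicCycle Y ℤ)
    (h : Cyc.RatEquivZero δY k α) (α' : AlgebraicCycle X ℤ) (hα' : ⇑α' = Cyc.pullFun f δX δY r ⇑α) :
    Cyc.RatEquivZero δX (k + r) α' := by
  classical
  obtain ⟨ι, ξ, g, hξ, hg, hloc, hα⟩ := h
  let J : Type u := Σ i : ι, {z : X // GenInFibre f z ∧ f z = ξ i}
  let gp : (j : J) → X.residueField j.2.1 := fun j ↦
    f.residueFieldMap j.2.1 ((Y.residueFieldCongr j.2.2.2.symm).hom (g j.1))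
  have hgp : ∀ j, gp j ≠ 0 := fun j ↦ (map_ne_zero _).mpr ((map_ne_zero _).mpr (hg j.1))
  refine ⟨J, fun j ↦ j.2.1, fun j ↦ gp j ^ ((lenFibre f j.2.1).toNat : ℤ), fun j ↦ ?_,
    fun j ↦ zpow_ne_zero _ (hgp j), fun x ↦ ?_, fun x ↦ ?_⟩
  · rw [hc _ j.2.2.1, j.2.2.2, hξ j.1]; ring
  · obtain ⟨_, ⟨U, hU, rfl⟩, hxU, -⟩ :=
      X.isBasis_affineOpens.exists_subset_of_mem_open (Set.mem_univ x) isOpen_univ
    replace hU : IsAffineOpen U := hU
    refine ⟨U, U.2, hxU, ?_⟩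
    have hI := finite_near ξ hloc (hU.isCompact.image f.continuous)
    refine (hI.biUnion fun i _ ↦ (((finite_genInFibre_over f (ξ i) hU).preimage
      Subtype.val_injective.injOn).image (Sigma.mk i) :
        (Sigma.mk i '' ((Subtype.val : {z : X // GenInFibre f z ∧ f z = ξ i} → X) ⁻¹'
          {z : X | z ∈ U ∧ GenInFibre f z ∧ f z = ξ i}) : Set J).Finite)).subset ?_
    rintro ⟨i, z, hz⟩ ⟨w, hw, hwU⟩
    have hzU : z ∈ U := (specializes_iff_mem_closure.mpr hw).mem_open U.2 hwU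
    exact Set.mem_biUnion (show i ∈ _ from ⟨f z, hz.2 ▸ subset_closure rfl, Set.mem_image_of_mem _ hzU⟩)
      ⟨⟨z, hz⟩, ⟨hzU, hz⟩, rfl⟩
  · obtain ⟨_, ⟨U, hU, rfl⟩, hxU, -⟩ :=
      X.isBasis_affineOpens.exists_subset_of_mem_open (Set.mem_univ x) isOpen_univ
    replace hU : IsAffineOpen U := hU
    have hI : {i | ξ i ⤳ f x}.Finite := (finite_near ξ hloc (isCompact_singleton (x := f x))).subset
      fun i hi ↦ ⟨f x, specializes_iff_mem_closure.mp hi, rfl⟩
    have hZ : ∀ i, ((Subtype.val : {z : X // GenInFibre f z ∧ f z = ξ i} → X) ⁻¹' {z | z ∈ U ∧ GenInFibre f z ∧ f z = ξ i}).Finite :=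
      fun i ↦ (finite_genInFibre_over f (ξ i) hU).preimage Subtype.val_injective.injOn
    have hterm : ∀ j : J, Cyc.divFun δX j.2.1 (gp j ^ ((lenFibre f j.2.1).toNat : ℤ)) x =
        ((lenFibre f j.2.1).toNat : ℤ) * Cyc.divFun δX j.2.1 (gp j) x := fun j ↦ by
      simp only [Cyc.divFun]
      split_ifs with h
      · exact ordAt_zpow hX h.1 h.2 (hgp j) _
      · simp
    have hz : ∀ j : J, ¬ j.2.1 ⤳ x → ((lenFibre f j.2.1).toNat : ℤ) * Cyc.divFun δX j.2.1 (gp j) x = 0 :=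
      fun j hj ↦ by rw [divFun_eq_zero_of_not_specializes _ hj, mul_zero]
    rw [finsum_congr hterm, finsum_eq_sum_of_support_subset _
      (s := hI.toFinset.sigma fun i ↦ (hZ i).toFinset) (fun j hj ↦ ?_), Finset.sum_sigma, hα', ]
    swap
    · have hsp : j.2.1 ⤳ x := by_contra fun h ↦ hj (hz j h)
      simp only [Finset.coe_sigma, Set.Finite.coe_toFinset, Set.mem_sigma_iff, Set.mem_preimage]
      exact ⟨show ξ j.1 ⤳ f x from j.2.2.2 ▸ hsp.map f.continuous, hsp.mem_open U.2 hxU, j.2.2⟩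
    have hpull : Cyc.pullFun f δX δY r (⇑α) x =
        ∑ i ∈ hI.toFinset, Cyc.pullFun f δX δY r (Cyc.divFun δY (ξ i) (g i)) x := by
      simp only [pullFun_eq f δX δY r hc]
      rw [hα, finsum_eq_sum_of_support_subset _ (s := hI.toFinset) (fun i hi ↦ ?_), Finset.sum_mul]
      rw [Set.Finite.coe_toFinset]
      exact by_contra fun h ↦ hi (divFun_eq_zero_of_not_specializes _ h)
    rw [hpull]
    refine Finset.sum_congr rfl fun i _ ↦ ?_
    rw [pullFun_divFun f hX hY r hc (ξ i) (g i) (hg i) x]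
    refine finsum_eq_sum_of_support_subset _ fun z hzs ↦ ?_
    have hsp : z.1 ⤳ x := by_contra fun h ↦ hzs (hz ⟨i, z⟩ h)
    rw [Set.Finite.coe_toFinset]
    exact ⟨hsp.mem_open U.2 hxU, z.2⟩

end Groth.Agent.CycLib28
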