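import Mathlib
import Groth.Prelude.Def_C1
import Groth.Agent.CycLib28.FlatRat
import Groth.Agent.CycLib28.C1Tensor
import Groth.Agent.PicLib.PullbackGen

/-!
# The first Chern class commutes with flat pullback
-/

universe u

open CategoryTheory AlgebraicGeometry IsLocalRing Groth.Agent.CycLim28 TopologicalSpace
open Groth.Agent.Coherent Groth.Agent.PicLib

namespace Groth.Agent.CycLib28

variable {X Y : Scheme.{u}}

theorem mk_eq_zero_iff_gen {L : X.Modules} {U : X.Opens} {e : Γ(L, U)} (he : IsGen L U e) {ξ : X} (hξ : ξ ∈ U)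
    (φ : X.presheaf.stalk ξ) :
    (Submodule.Quotient.mk (φ • L.presheaf.germ U ξ hξ e) : Cyc.secFibre L ξ) = 0 ↔
      (X.residue ξ).hom φ = 0 := by
  let l := LinearEquiv.ofBijective (LinearMap.toSpanSingleton (X.presheaf.stalk ξ) (L.presheaf.stalk ξ)
    (L.presheaf.germ U ξ hξ e)) (VarietyLib.gen_germ_bijective he hξ)
  rw [Submodule.Quotient.mk_eq_zero, show φ • L.presheaf.germ U ξ hξ e = l φ from rfl,
    show (X.residue ξ).hom φ = 0 ↔ φ ∈ maximalIdeal (X.presheaf.stalk ξ) from IsLocalRing.residue_eq_zero_iff φ]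
  have hm : (maximalIdeal (X.presheaf.stalk ξ) • (⊤ : Submodule (X.presheaf.stalk ξ) (L.presheaf.stalk ξ))) =
      Submodule.map l.toLinearMap (maximalIdeal (X.presheaf.stalk ξ)) := by
    conv_rhs => rw [← Ideal.mul_top (maximalIdeal _), ← Ideal.smul_eq_mul]
    rw [Submodule.map_smul'', Submodule.map_top, LinearMap.range_eq_top.mpr l.surjective]
  rw [hm]
  exact ⟨fun ⟨ψ, hψ, h⟩ ↦ l.injective h ▸ hψ, fun hφ ↦ ⟨φ, hφ, rfl⟩⟩

theorem germ_pullSec_eq (f : X ⟶ Y) {L : Y.Modules} {U U' : Y.Opens} (e : Γ(L, U)) (e' : Γ(L, U')) {ξ : X}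
    (hU : f ξ ∈ U) (hU' : f ξ ∈ U') (c : Y.presheaf.stalk (f ξ))
    (h : L.presheaf.germ U (f ξ) hU e = c • L.presheaf.germ U' (f ξ) hU' e') :
    ((Scheme.Modules.pullback f).obj L).presheaf.germ (f ⁻¹ᵁ U) ξ hU (pullSec f e) =
      (f.stalkMap ξ).hom c • ((Scheme.Modules.pullback f).obj L).presheaf.germ (f ⁻¹ᵁ U') ξ hU' (pullSec f e') := by
  obtain ⟨W, hW, c₀, rfl⟩ := Y.presheaf.exists_germ_eq c
  have hV : f ξ ∈ U ⊓ U' ⊓ W := ⟨⟨hU, hU'⟩, hW⟩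
  have h' : L.presheaf.germ (U ⊓ U' ⊓ W) (f ξ) hV (resM L (inf_le_left.trans inf_le_left) e) =
      L.presheaf.germ (U ⊓ U' ⊓ W) (f ξ) hV (PicLib.res (inf_le_right : U ⊓ U' ⊓ W ≤ W) c₀ • resM L (inf_le_left.trans inf_le_right) e') := by
    rw [QCohLoc.germ_smul', VarietyLib.germ_resM, VarietyLib.germ_resM, h]
    exact congrArg (· • _) (TopCat.Presheaf.germ_res_apply Y.presheaf (homOfLE _) (f ξ) hV c₀).symm
  obtain ⟨V, hξV, i, j, he⟩ := L.presheaf.germ_eq (f ξ) hV hV _ _ h'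
  have he' : resM L (i.le.trans (inf_le_left.trans inf_le_left)) e =
      PicLib.res (i.le.trans inf_le_right) c₀ • resM L (i.le.trans (inf_le_left.trans inf_le_right)) e' := by
    have h2 : resM L i.le (resM L (inf_le_left.trans inf_le_left) e) =
        resM L i.le (PicLib.res (inf_le_right : U ⊓ U' ⊓ W ≤ W) c₀ • resM L (inf_le_left.trans inf_le_right) e') := he
    rw [resM_smul, resM_resM, resM_resM] at h2
    rw [h2, PicLib.res_res]
  have h3 := congrArg (fun s => ((Scheme.Modules.pullback f).obj L).presheaf.germ (f ⁻¹ᵁ V) ξ hξV (pullSec f s)) he'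
  simp only [pullSec_smul] at h3
  rw [← resM_pullSec, ← resM_pullSec, QCohLoc.germ_smul', VarietyLib.germ_resM, VarietyLib.germ_resM,
    ← Scheme.Hom.germ_stalkMap_apply f V ξ hξV] at h3
  refine h3.trans (congrArg (fun a => (f.stalkMap ξ).hom a • _) ?_)
  exact TopCat.Presheaf.germ_res_apply Y.presheaf (homOfLE _) (f ξ) hξV c₀

theorem exists_pullback_section [IsLocallyNoetherian X] {δX : X → ℤ} (hX : Cyc.IsDimFun X δX) (f : X ⟶ Y)
    {L : Y.Modules} (hL : PicF.IsInvertible L) (ξ : X) (v : Cyc.secFibre L (f ξ)) (hv : v ≠ 0) :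
    ∃ w : Cyc.secFibre ((Scheme.Modules.pullback f).obj L) ξ, w ≠ 0 ∧
      ∀ (x : X) (h : ξ ⤳ x) (_ : δX x + 1 = δX ξ) (U : Y.Opens) (e : Γ(L, U)) (_ : IsGen L U e) (_ : f x ∈ U)
        (hU : f ξ ∈ U) (φ : Y.presheaf.stalk (f ξ)),
        v = Submodule.Quotient.mk (φ • L.presheaf.germ U (f ξ) hU e) →
        Cyc.secOrdAt ((Scheme.Modules.pullback f).obj L) ξ x h w =
          Cyc.ordAt x ξ h ((f.residueFieldMap ξ).hom ((Y.residue (f ξ)).hom φ)) := by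
  obtain ⟨m, rfl⟩ := Submodule.Quotient.mk_surjective _ v
  obtain ⟨U₀, h₀, e₀, he₀⟩ := PicLib.exists_isGen hL (f ξ)
  obtain ⟨φ₀, hφ₀⟩ := (VarietyLib.gen_germ_bijective he₀ h₀).2 m
  have hT := PicLoc.isInvertible_pullback f hL
  have hres : ∀ ψ : Y.presheaf.stalk (f ξ), (X.residue ξ).hom ((f.stalkMap ξ).hom ψ) =
      (f.residueFieldMap ξ).hom ((Y.residue (f ξ)).hom ψ) := fun ψ ↦
    (ConcreteCategory.congr_hom (Scheme.residue_residueFieldMap f ξ) ψ).symm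
  refine ⟨Submodule.Quotient.mk ((f.stalkMap ξ).hom φ₀ •
    ((Scheme.Modules.pullback f).obj L).presheaf.germ (f ⁻¹ᵁ U₀) ξ h₀ (pullSec f e₀)), fun hw ↦ ?_, ?_⟩
  · rw [mk_eq_zero_iff_gen (isGen_pullSec f he₀ hL), hres, map_eq_zero] at hw
    exact hv (by rw [← hφ₀]; exact (mk_eq_zero_iff_gen he₀ h₀ φ₀).mpr hw)
  intro x h hd U e he hxU hU φ hφ
  replace hφ₀ : φ₀ • L.presheaf.germ U₀ (f ξ) h₀ e₀ = m := hφ₀
  obtain ⟨c, hc⟩ := (VarietyLib.gen_germ_bijective he hU).2 (L.presheaf.germ U₀ (f ξ) h₀ e₀)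
  replace hc : c • L.presheaf.germ U (f ξ) hU e = L.presheaf.germ U₀ (f ξ) h₀ e₀ := hc
  rw [← hφ₀, ← hc, smul_smul, ← sub_eq_zero, ← Submodule.Quotient.mk_sub, ← sub_smul,
    mk_eq_zero_iff_gen he hU, map_sub, sub_eq_zero] at hφ
  have hne : (X.residue ξ).hom ((f.stalkMap ξ).hom φ₀ * (f.stalkMap ξ).hom c) ≠ 0 := by
    rw [← map_mul, hres, hφ, Ne, map_eq_zero]
    intro h0
    refine hv ?_
    rw [← hφ₀, ← hc, smul_smul, mk_eq_zero_iff_gen he hU, hφ]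
    exact h0
  rw [germ_pullSec_eq f e₀ e h₀ hU c hc.symm, smul_smul,
    secOrdAt_gen hX hT h hd (isGen_pullSec f he hL) hxU hU _ hne, ← map_mul, hres, hφ]

theorem residue_congr {η η' : Y} (e : η' = η) (φ : (z : Y) → Y.presheaf.stalk z) :
    (Y.residueFieldCongr e.symm).hom ((Y.residue η).hom (φ η)) = (Y.residue η').hom (φ η') := by
  subst e
  simp

theorem finite_pullback_support (f : X ⟶ Y) [IsLocallyNoetherian X] (α : AlgebraicCycle Y ℤ) {U : X.Opens}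
    (hU : IsAffineOpen U) : {ξ : X | ξ ∈ U ∧ α (f ξ) ≠ 0 ∧ GenInFibre f ξ}.Finite := by
  have hc := (Function.locallyFinsupp.locallyFiniteSupport α).finite_inter_support_of_isCompact
    (hU.isCompact.image f.continuous)
  refine (hc.biUnion fun η _ ↦ finite_genInFibre_over f η hU).subset ?_
  rintro ξ ⟨hξU, hα, hξ⟩
  exact Set.mem_biUnion (x := f ξ) (show f ξ ∈ (f '' (U : Set X) ∩ Function.support ⇑α) from ⟨Set.mem_image_of_mem _ hξU, hα⟩) ⟨hξU, hξ, rfl⟩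

/-- the flat pullback as a cycle -/
theorem exists_pullback_cycle (f : X ⟶ Y) [IsLocallyNoetherian X] (δX : X → ℤ) (δY : Y → ℤ) (r : ℤ)
    (hc : ∀ x, GenInFibre f x → δX x = δY (f x) + r) (α : AlgebraicCycle Y ℤ) :
    ∃ β : AlgebraicCycle X ℤ, ⇑β = Cyc.pullFun f δX δY r ⇑α := by
  refine ⟨{ toFun := Cyc.pullFun f δX δY r ⇑α
            supportWithinDomain' := by simp
            supportLocallyFiniteWithinDomain' := fun x _ ↦ ?_ }, rfl⟩
  obtain ⟨_, ⟨U, hU, rfl⟩, hxU, -⟩ :=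
    X.isBasis_affineOpens.exists_subset_of_mem_open (Set.mem_univ x) isOpen_univ
  refine ⟨U, U.2.mem_nhds hxU, (finite_pullback_support f α hU).subset fun z hz ↦ ⟨hz.1, ?_⟩⟩
  have h := hz.2
  rw [Function.mem_support, pullFun_eq f δX δY r hc] at h
  refine ⟨left_ne_zero_of_mul h, by_contra fun hg ↦ h ?_⟩
  rw [lenFibre_eq_top f hg]
  simp

theorem c1CapFun_pullback_section (f : X ⟶ Y) [Flat f] [IsLocallyNoetherian X] [IsLocallyNoetherian Y] {δX : X → ℤ}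
    {δY : Y → ℤ} (hX : Cyc.IsDimFun X δX) (hY : Cyc.IsDimFun Y δY) (r : ℤ)
    (hc : ∀ x, GenInFibre f x → δX x = δY (f x) + r) {L : Y.Modules} (hL : PicF.IsInvertible L)
    (α : AlgebraicCycle Y ℤ) (v : (η : Y) → Cyc.secFibre L η) (hv : ∀ η, v η ≠ 0) :
    ∃ w : (ξ : X) → Cyc.secFibre ((Scheme.Modules.pullback f).obj L) ξ, (∀ ξ, w ξ ≠ 0) ∧
      (∀ (ξ : X) (x : X) (h : ξ ⤳ x) (_ : δX x + 1 = δX ξ) (U : Y.Opens) (e : Γ(L, U)) (_ : IsGen L U e)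
        (_ : f x ∈ U) (hU : f ξ ∈ U) (φ : Y.presheaf.stalk (f ξ)),
        v (f ξ) = Submodule.Quotient.mk (φ • L.presheaf.germ U (f ξ) hU e) →
        Cyc.secOrdAt ((Scheme.Modules.pullback f).obj L) ξ x h (w ξ) =
          Cyc.ordAt x ξ h ((f.residueFieldMap ξ).hom ((Y.residue (f ξ)).hom φ))) ∧
      Cyc.pullFun f δX δY r (Cyc.c1CapFun δY L ⇑α v) =
        Cyc.c1CapFun δX ((Scheme.Modules.pullback f).obj L) (Cyc.pullFun f δX δY r ⇑α) w := by
  classical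
  choose w hw hword using fun ξ : X ↦ exists_pullback_section hX f hL ξ (v (f ξ)) (hv _)
  refine ⟨w, hw, hword, funext fun x ↦ ?_⟩
  obtain ⟨U, hxU, e, he⟩ := PicLib.exists_isGen hL (f x)
  have hco : ∀ η : Y, ∃ φ : Y.presheaf.stalk η, η ⤳ f x → ∃ h : η ∈ U,
      v η = Submodule.Quotient.mk (φ • L.presheaf.germ U η h e) := by
    intro η
    by_cases h : η ⤳ f x
    · obtain ⟨m, hm⟩ := Submodule.Quotient.mk_surjective _ (v η)
      obtain ⟨φ, hφ⟩ := (VarietyLib.gen_germ_bijective he (h.mem_open U.2 hxU)).2 m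
      exact ⟨φ, fun h ↦ ⟨h.mem_open U.2 hxU, by rw [← hm, ← hφ]⟩⟩
    · exact ⟨0, fun h' ↦ absurd h' h⟩
  choose φ hφ using hco
  have hg : ∀ η, η ⤳ f x → (Y.residue η).hom (φ η) ≠ 0 := fun η h h0 ↦ by
    obtain ⟨hU', hv'⟩ := hφ η h
    exact hv η (hv'.trans ((mk_eq_zero_iff_gen he hU' (φ η)).mpr h0))
  have hdiv : ∀ η, η ⤳ f x → Cyc.secDivFun δY L η (v η) (f x) =
      Cyc.divFun δY η ((Y.residue η).hom (φ η)) (f x) := by
    intro η h
    obtain ⟨hU', hv'⟩ := hφ η h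
    simp only [Cyc.secDivFun, Cyc.divFun]
    split_ifs with hh
    · rw [hv', secOrdAt_gen hY hL hh.1 hh.2 he hxU hU' _ (hg η h)]
    · rfl
  have hdivX : ∀ (ξ : X) (η : Y) (e' : f ξ = η), ξ ⤳ x →
      Cyc.secDivFun δX ((Scheme.Modules.pullback f).obj L) ξ (w ξ) x = Cyc.divFun δX ξ
        (f.residueFieldMap ξ ((Y.residueFieldCongr e'.symm).hom ((Y.residue η).hom (φ η)))) x := by
    intro ξ η e' h
    rw [residue_congr e' φ]
    simp only [Cyc.secDivFun, Cyc.divFun]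
    split_ifs with hh
    · obtain ⟨hU', hv'⟩ := hφ (f ξ) (h.map f.continuous)
      exact hword ξ x hh.1 hh.2 U e he hxU hU' (φ (f ξ)) hv'
    · rfl
  obtain ⟨_, ⟨V, hV, rfl⟩, hxV, -⟩ :=
    X.isBasis_affineOpens.exists_subset_of_mem_open (Set.mem_univ x) isOpen_univ
  replace hV : IsAffineOpen V := hV
  let S : Finset X := ((finite_pullback_support f α hV).subset
    (show {ξ | ξ ⤳ x ∧ α (f ξ) ≠ 0 ∧ GenInFibre f ξ} ⊆ _ from fun ξ hξ ↦ ⟨hξ.1.mem_open V.2 hxV, hξ.2⟩)).toFinset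
  have hS : ∀ ξ, ξ ∈ S ↔ ξ ⤳ x ∧ α (f ξ) ≠ 0 ∧ GenInFibre f ξ := fun ξ ↦ Set.Finite.mem_toFinset _
  let E : Finset Y := (finite_specializing α (f x)).toFinset
  have hE : ∀ η, η ∈ E ↔ η ⤳ f x ∧ α η ≠ 0 := fun η ↦ Set.Finite.mem_toFinset _
  rw [Cyc.c1CapFun, finsum_eq_sum_of_support_subset _ (s := S) (fun ξ hξ ↦ ?_)]
  swap
  · refine Finset.mem_coe.mpr ((hS ξ).mpr ⟨?_, ?_, ?_⟩)
    · by_contra h
      exact right_ne_zero_of_mul hξ (by rw [Cyc.secDivFun, dif_neg fun h' ↦ h h'.1])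
    · have := left_ne_zero_of_mul hξ
      rw [pullFun_eq f δX δY r hc] at this
      exact left_ne_zero_of_mul this
    · by_contra h
      have := left_ne_zero_of_mul hξ
      rw [pullFun_eq f δX δY r hc, lenFibre_eq_top f h] at this
      simp at this
  rw [pullFun_eq f δX δY r hc, Cyc.c1CapFun, finsum_eq_sum_of_support_subset _ (s := E) (fun η hη ↦ ?_),
    Finset.sum_mul, ← Finset.sum_fiberwise_of_maps_to (g := fun ξ ↦ f ξ) (t := E) (fun ξ hξ ↦ ?_)]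
  rotate_left
  · exact (hE _).mpr ⟨((hS ξ).mp hξ).1.map f.continuous, ((hS ξ).mp hξ).2.1⟩
  · refine Finset.mem_coe.mpr ((hE η).mpr ⟨?_, left_ne_zero_of_mul hη⟩)
    by_contra h
    exact right_ne_zero_of_mul hη (by rw [Cyc.secDivFun, dif_neg fun h' ↦ h h'.1])
  refine Finset.sum_congr rfl fun η hη ↦ ?_
  obtain ⟨hηy, hαη⟩ := (hE η).mp hη
  rw [hdiv η hηy, mul_assoc, ← pullFun_eq f δX δY r hc, pullFun_divFun f hX hY r hc η _ (hg η hηy) x,
    finsum_eq_sum_of_support_subset _ (s := (S.filter fun ξ ↦ f ξ = η).subtype _) (fun ξ hξ ↦ ?_), Finset.mul_sum]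
  swap
  · have hsp : ξ.1 ⤳ x := by
      by_contra h
      exact hξ (by change _ * _ = 0; rw [divFun_eq_zero_of_not_specializes _ h, mul_zero])
    simp only [Finset.coe_sort_coe, Finset.mem_coe, Finset.mem_subtype, Finset.mem_filter]
    exact ⟨(hS _).mpr ⟨hsp, by rw [ξ.2.2]; exact hαη, ξ.2.1⟩, ξ.2.2⟩
  refine Finset.sum_bij' (fun ξ _ ↦ ξ.1) (fun ξ hξ ↦ ⟨ξ, ((hS ξ).mp (Finset.mem_filter.mp hξ).1).2.2, (Finset.mem_filter.mp hξ).2⟩)
    (fun ξ hξ ↦ Finset.mem_subtype.mp hξ) (fun ξ hξ ↦ Finset.mem_subtype.mpr hξ) (fun _ _ ↦ rfl) (fun _ _ ↦ rfl) ?_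
  intro ξ hξ
  have hξS := (Finset.mem_filter.mp (Finset.mem_subtype.mp hξ)).1
  rw [pullFun_eq f δX δY r hc, hdivX ξ.1 η ξ.2.2 ((hS _).mp hξS).1, show α (f ξ.1) = α η by rw [ξ.2.2]]
  ring

theorem c1CapFun_pullback (f : X ⟶ Y) [Flat f] [IsLocallyNoetherian X] [IsLocallyNoetherian Y] {δX : X → ℤ}
    {δY : Y → ℤ} (hX : Cyc.IsDimFun X δX) (hY : Cyc.IsDimFun Y δY) (r : ℤ)
    (hc : ∀ x, GenInFibre f x → δX x = δY (f x) + r) {L : Y.Modules} (hL : PicF.IsInvertible L)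
    (α : AlgebraicCycle Y ℤ) (v : (η : Y) → Cyc.secFibre L η) (hv : ∀ η, v η ≠ 0) :
    ∃ w : (ξ : X) → Cyc.secFibre ((Scheme.Modules.pullback f).obj L) ξ, (∀ ξ, w ξ ≠ 0) ∧
      Cyc.pullFun f δX δY r (Cyc.c1CapFun δY L ⇑α v) =
        Cyc.c1CapFun δX ((Scheme.Modules.pullback f).obj L) (Cyc.pullFun f δX δY r ⇑α) w := by
  obtain ⟨w, hw, -, h⟩ := c1CapFun_pullback_section f hX hY r hc hL α v hv
  exact ⟨w, hw, h⟩

end Groth.Agent.CycLib28
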