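import Mathlib
import Groth.Agent.CycLib28.PushZero

/-!
# Proper pushforward of principal divisors on integral closed subschemes
-/

universe u

open CategoryTheory CategoryTheory.Limits AlgebraicGeometry IsLocalRing TopologicalSpace Groth.Agent.CycLim28

namespace Groth.Agent.CycLib28

variable {X Y Z : Scheme.{u}}

theorem trdeg_res_congr {f f' : X ⟶ Y} (e : f = f') (x : X) :
    @Algebra.trdeg (Y.residueField (f x)) (X.residueField x) _ _ (f.residueFieldMap x).hom.toAlgebra =
      @Algebra.trdeg (Y.residueField (f' x)) (X.residueField x) _ _ (f'.residueFieldMap x).hom.toAlgebra := by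
  subst e; rfl

theorem trdeg_comp_left {R S T : Type u} [Field R] [Field S] [Field T] (e : R →+* S) (he : Function.Bijective e)
    (ψ : S →+* T) : @Algebra.trdeg R T _ _ (ψ.comp e).toAlgebra = @Algebra.trdeg S T _ _ ψ.toAlgebra := by
  algebraize [e, ψ, ψ.comp e]
  haveI : Algebra.IsAlgebraic R S := ⟨fun s ↦ by
    obtain ⟨r, rfl⟩ := he.2 s
    exact isAlgebraic_algebraMap r⟩
  rw [← trdeg_add_eq R S (A := T), trdeg_eq_zero, zero_add]

theorem trdeg_comp_preimmersion_right (f : X ⟶ Y) (g : Y ⟶ Z) [IsPreimmersion g] (x : X) :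
    @Algebra.trdeg (Z.residueField ((f ≫ g) x)) (X.residueField x) _ _ ((f ≫ g).residueFieldMap x).hom.toAlgebra =
      @Algebra.trdeg (Y.residueField (f x)) (X.residueField x) _ _ (f.residueFieldMap x).hom.toAlgebra := by
  haveI := DimLib.isIso_residueFieldMap_of_isPreimmersion g (f x)
  have e : ((f ≫ g).residueFieldMap x).hom = (f.residueFieldMap x).hom.comp (g.residueFieldMap (f x)).hom :=
    congrArg CommRingCat.Hom.hom (Scheme.residueFieldMap_comp f g x)
  refine (congrArg (fun φ : Z.residueField (g (f x)) →+* X.residueField x ↦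
    @Algebra.trdeg (Z.residueField (g (f x))) (X.residueField x) _ _ φ.toAlgebra) e).trans ?_
  exact trdeg_comp_left _ (ConcreteCategory.bijective_of_isIso (g.residueFieldMap (f x))) _

theorem trdeg_comp_preimmersion_left (f : X ⟶ Y) (g : Y ⟶ Z) [IsPreimmersion f] (x : X) :
    @Algebra.trdeg (Z.residueField ((f ≫ g) x)) (X.residueField x) _ _ ((f ≫ g).residueFieldMap x).hom.toAlgebra =
      @Algebra.trdeg (Z.residueField (g (f x))) (Y.residueField (f x)) _ _ (g.residueFieldMap (f x)).hom.toAlgebra := by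
  haveI := DimLib.isIso_residueFieldMap_of_isPreimmersion f x
  have e : ((f ≫ g).residueFieldMap x).hom = (f.residueFieldMap x).hom.comp (g.residueFieldMap (f x)).hom :=
    congrArg CommRingCat.Hom.hom (Scheme.residueFieldMap_comp f g x)
  refine (congrArg (fun φ : Z.residueField (g (f x)) →+* X.residueField x ↦
    @Algebra.trdeg (Z.residueField (g (f x))) (X.residueField x) _ _ φ.toAlgebra) e).trans ?_
  exact DimLib.trdeg_comp_ringEquiv (g.residueFieldMap (f x)).hom
    (asIso (f.residueFieldMap x)).commRingCatIsoToRingEquiv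

theorem deltaCompat_preimmersion (i : X ⟶ Y) [IsPreimmersion i] (δ : Y → ℤ) :
    Cyc.DeltaCompat i (fun x ↦ δ (i x)) δ := by
  intro x
  refine ⟨0, ?_, by simp⟩
  haveI := DimLib.isIso_residueFieldMap_of_isPreimmersion i x
  letI := (i.residueFieldMap x).hom.toAlgebra
  haveI : Algebra.IsAlgebraic (Y.residueField (i x)) (X.residueField x) := ⟨fun s ↦ by
    obtain ⟨r, rfl⟩ := (ConcreteCategory.bijective_of_isIso (i.residueFieldMap x)).2 s
    exact isAlgebraic_algebraMap r⟩
  rw [trdeg_eq_zero, Nat.cast_zero]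

theorem deltaCompat_square {Z' W : Scheme.{u}} (i : Z' ⟶ X) (j : W ⟶ Y) [IsPreimmersion i] [IsPreimmersion j]
    (g : Z' ⟶ W) (p : X ⟶ Y) (e : g ≫ j = i ≫ p) {δX : X → ℤ} {δY : Y → ℤ}
    (hδ : Cyc.DeltaCompat p δX δY) :
    Cyc.DeltaCompat g (fun z ↦ δX (i z)) (fun w ↦ δY (j w)) := by
  intro z
  obtain ⟨n, h1, h2⟩ := hδ (i z)
  refine ⟨n, ?_, ?_⟩
  · rw [← trdeg_comp_preimmersion_left i p z, ← trdeg_res_congr e z, trdeg_comp_preimmersion_right] at h1
    exact h1
  · have : j (g z) = p (i z) := congrArg (fun m => m z) e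
    simp only [this]
    exact h2

theorem isDimFun_comp_closedImmersion (i : Y ⟶ X) [IsClosedImmersion i] {δ : X → ℤ} (hδ : Cyc.IsDimFun X δ) :
    Cyc.IsDimFun Y (fun y ↦ δ (i y)) := by
  intro a b hab hne
  refine ⟨(hδ _ _ (hab.map i.continuous) (i.isClosedEmbedding.injective.ne hne)).1, fun himm ↦ ?_⟩
  refine (hδ _ _ (hab.map i.continuous) (i.isClosedEmbedding.injective.ne hne)).2 fun z hz1 hz2 ↦ ?_
  obtain ⟨w, rfl⟩ : z ∈ Set.range i := hz1.mem_closed i.isClosedEmbedding.isClosed_range ⟨a, rfl⟩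
  rcases himm w (i.isClosedEmbedding.isInducing.specializes_iff.mp hz1)
    (i.isClosedEmbedding.isInducing.specializes_iff.mp hz2) with e | e
  · exact Or.inl (congrArg i e)
  · exact Or.inr (congrArg i e)

theorem map_closedImmersion_apply (i : Y ⟶ X) [IsClosedImmersion i] (δ : X → ℤ) (c : AlgebraicCycle Y ℤ) (y : Y) :
    AlgebraicCycle.map i (fun z ↦ δ (i z)) δ c (i y) = c y := by
  classical
  rw [map_apply_finset i _ _ c (i y) {y} (fun z hz ↦ by rw [Finset.mem_singleton.mp hz])
    (fun z h1 _ ↦ Finset.mem_singleton.mpr (i.isClosedEmbedding.injective h1)), Finset.sum_singleton,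
    AlgebraicCycle.mapCoeff, if_pos rfl, residueDegree_preimmersion, Nat.cast_one, mul_one]

theorem map_closedImmersion_eq_zero (i : Y ⟶ X) [IsClosedImmersion i] (δY : Y → ℤ) (δ : X → ℤ)
    (c : AlgebraicCycle Y ℤ) (x : X) (hx : x ∉ Set.range i) : AlgebraicCycle.map i δY δ c x = 0 := by
  classical
  rw [map_apply_finset i _ _ c x ∅ (fun z hz ↦ absurd hz (Finset.notMem_empty z))
    (fun z h1 _ ↦ absurd ⟨z, h1⟩ hx), Finset.sum_empty]

theorem genericPoint_clI (x : X) :
    (AssSch12.clI x).subschemeι (genericPoint (AssSch12.clI x).subscheme) = x := by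
  obtain ⟨w, hw⟩ : x ∈ Set.range (AssSch12.clI x).subschemeι := by
    rw [Coherent.range_clι]; exact subset_closure rfl
  refine (Specializes.antisymm ?_ ?_).eq
  · exact ((genericPoint_specializes w).map (AssSch12.clI x).subschemeι.continuous).trans (specializes_of_eq hw)
  · rw [specializes_iff_mem_closure, ← Coherent.range_clι]
    exact ⟨_, rfl⟩

theorem exists_closure_map (p : X ⟶ Y) (ξ : X) :
    ∃ q : (AssSch12.clI ξ).subscheme ⟶ (AssSch12.clI (p ξ)).subscheme,
      q ≫ (AssSch12.clI (p ξ)).subschemeι = (AssSch12.clI ξ).subschemeι ≫ p := by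
  have h : (AssSch12.clI (p ξ)).subschemeι.ker ≤ ((AssSch12.clI ξ).subschemeι ≫ p).ker := by
    rw [Scheme.IdealSheafData.ker_subschemeι, Scheme.Hom.ker_comp, Scheme.IdealSheafData.ker_subschemeι]
    change Scheme.IdealSheafData.vanishingIdeal _ ≤ (Scheme.IdealSheafData.vanishingIdeal _).map p
    rw [Scheme.IdealSheafData.map_vanishingIdeal]
    refine Scheme.IdealSheafData.vanishingIdeal_antimono ?_
    change closure (p '' closure {ξ}) ⊆ closure {p ξ}
    refine closure_minimal ?_ isClosed_closure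
    rintro _ ⟨z, hz, rfl⟩
    exact specializes_iff_mem_closure.mp ((specializes_iff_mem_closure.mpr hz).map p.continuous)
  exact ⟨IsClosedImmersion.lift _ _ h, IsClosedImmersion.lift_fac _ _ h⟩

/-- `p_* div f` is `div g` or `0` -/
theorem map_divFun_any [IsLocallyNoetherian X] [IsLocallyNoetherian Y]
    {δX : X → ℤ} {δY : Y → ℤ} (hX : Cyc.IsDimFun X δX) (hY : Cyc.IsDimFun Y δY) (p : X ⟶ Y) [IsProper p]
    (hδ : Cyc.DeltaCompat p δX δY) (ξ : X) (f : X.residueField ξ) (hf : f ≠ 0) (α : AlgebraicCycle X ℤ)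
    (hα : ⇑α = Cyc.divFun δX ξ f) :
    ∃ g : Y.residueField (p ξ), g ≠ 0 ∧ ∀ y, AlgebraicCycle.map p δX δY α y =
      if δX ξ = δY (p ξ) then Cyc.divFun δY (p ξ) g y else 0 := by
  classical
  obtain ⟨q, hq⟩ := exists_closure_map p ξ
  set i := (AssSch12.clI ξ).subschemeι with hidef
  set j := (AssSch12.clI (p ξ)).subschemeι with hjdef
  have hiξ : i (genericPoint (AssSch12.clI ξ).subscheme) = ξ := genericPoint_clI ξ
  have hjξ : j (genericPoint (AssSch12.clI (p ξ)).subscheme) = p ξ := genericPoint_clI (p ξ)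
  haveI : IsLocallyNoetherian (AssSch12.clI ξ).subscheme := LocallyOfFiniteType.isLocallyNoetherian i
  haveI : IsLocallyNoetherian (AssSch12.clI (p ξ)).subscheme := LocallyOfFiniteType.isLocallyNoetherian j
  haveI : IsProper (q ≫ j) := by rw [hq]; infer_instance
  haveI : IsProper q := IsProper.of_comp q j
  have hqz : ∀ z, j (q z) = p (i z) := fun z ↦ congrArg (fun m => m z) hq
  have hqη : q (genericPoint _) = genericPoint (AssSch12.clI (p ξ)).subscheme :=
    j.isClosedEmbedding.injective ((hqz _).trans ((congrArg p hiξ).trans hjξ.symm))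
  have hjqη : j (q (genericPoint _)) = p ξ := (hqz _).trans (congrArg p hiξ)
  have hZ := isDimFun_comp_closedImmersion i hX
  have hW := isDimFun_comp_closedImmersion j hY
  have hcq := deltaCompat_square i j q p hq hδ
  -- the function upstairs
  obtain ⟨fZ, hfZ⟩ : ∃ fZ : X.residueField (i (genericPoint _)), fZ = (X.residueFieldCongr hiξ).inv f := ⟨_, rfl⟩
  have hfZ0 : fZ ≠ 0 := fun h ↦ hf ((map_eq_zero (X.residueFieldCongr hiξ).inv.hom).mp (hfZ.symm.trans h))
  obtain ⟨αZ, hαZ⟩ := exists_divCycle hZ (genericPoint _) ((i.residueFieldMap _).hom fZ) ((map_ne_zero _).mpr hfZ0)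
  have hiα : AlgebraicCycle.map i (fun z ↦ δX (i z)) δX αZ = α := by
    refine Function.locallyFinsuppWithin.ext fun x ↦ ?_
    by_cases hx : x ∈ Set.range i
    · obtain ⟨z, rfl⟩ := hx
      rw [map_closedImmersion_apply, hαZ, divFun_preimmersion i hX hZ 0 (fun _ ↦ (add_zero _).symm) _ _ _ hfZ0,
        hfZ, hα, divFun_congr hiξ]
    · rw [map_closedImmersion_eq_zero i _ _ _ x hx, hα, divFun_eq_zero_of_not_specializes]
      exact fun h ↦ hx ((Coherent.range_clι ξ).ge (specializes_iff_mem_closure.mp h))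
  have hmap : ∀ y, AlgebraicCycle.map p δX δY α y =
      AlgebraicCycle.map j (fun w ↦ δY (j w)) δY
        (AlgebraicCycle.map q (fun z ↦ δX (i z)) (fun w ↦ δY (j w)) αZ) y := by
    intro y
    rw [map_map q j hcq (deltaCompat_preimmersion j δY), map_congr_hom hq,
      ← map_map i p (deltaCompat_preimmersion i δX) hδ, hiα]
  by_cases hn : δX ξ = δY (p ξ)
  swap
  · refine ⟨1, one_ne_zero, fun y ↦ ?_⟩
    rw [if_neg hn, hmap]
    by_cases hy : y ∈ Set.range j
    · obtain ⟨w, rfl⟩ := hy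
      rw [map_closedImmersion_apply]
      exact pushDiv_zero hZ hW q hcq (by simpa only [hiξ, hjqη] using hn) hqη _ ((map_ne_zero _).mpr hfZ0) αZ hαZ w
    · exact map_closedImmersion_eq_zero j _ _ _ y hy
  have hn' : δX (i (genericPoint _)) = δY (j (q (genericPoint _))) := by rw [hiξ, hjqη, hn]
  have hN0 := normGen_ne_zero q _ (residueDegree_ne_zero_of_delta_eq q hcq _ hn')
    ((map_ne_zero (i.residueFieldMap _).hom).mpr hfZ0)
  haveI := DimLib.isIso_residueFieldMap_of_isPreimmersion j (q (genericPoint (AssSch12.clI ξ).subscheme))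
  obtain ⟨g₀, hg₀⟩ := (ConcreteCategory.bijective_of_isIso
    (j.residueFieldMap (q (genericPoint (AssSch12.clI ξ).subscheme)))).2
    (Cyc.normGen q _ ((i.residueFieldMap _).hom fZ))
  have hg₀0 : g₀ ≠ 0 := fun h ↦ hN0 (hg₀.symm.trans (by rw [h, map_zero]))
  refine ⟨(Y.residueFieldCongr hjqη).hom g₀, (map_ne_zero _).mpr hg₀0, fun y ↦ ?_⟩
  have e : g₀ = (Y.residueFieldCongr hjqη).inv ((Y.residueFieldCongr hjqη).hom g₀) :=
    (Iso.hom_inv_id_apply _ g₀).symm
  rw [if_pos hn, hmap, ← divFun_congr hjqη, ← e]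
  by_cases hy : y ∈ Set.range j
  · obtain ⟨w, rfl⟩ := hy
    rw [map_closedImmersion_apply, ← divFun_preimmersion j hY hW 0 (fun _ ↦ (add_zero _).symm) _ _ _ hg₀0,
      pushDiv_coeff hZ hW q hcq hn' hqη _ ((map_ne_zero _).mpr hfZ0) αZ hαZ w]
    exact congrArg (fun g ↦ Cyc.divFun (fun w ↦ δY (j w)) (q (genericPoint _)) g w) hg₀.symm
  · rw [map_closedImmersion_eq_zero j _ _ _ y hy, divFun_eq_zero_of_not_specializes]
    intro h
    rw [hjqη] at h
    exact hy ((Coherent.range_clι (p ξ)).ge (specializes_iff_mem_closure.mp h))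

/-- proper pushforward preserves rational equivalence to zero -/
theorem map_ratEquivZero [IsLocallyNoetherian X] [IsLocallyNoetherian Y]
    {δX : X → ℤ} {δY : Y → ℤ} (hX : Cyc.IsDimFun X δX) (hY : Cyc.IsDimFun Y δY) (p : X ⟶ Y) [IsProper p]
    (hδ : Cyc.DeltaCompat p δX δY) (k : ℤ) (α : AlgebraicCycle X ℤ) (h : Cyc.RatEquivZero δX k α) :
    Cyc.RatEquivZero δY k (AlgebraicCycle.map p δX δY α) := by
  classical
  obtain ⟨ι, ξ, f, hξ, hf, hloc, hsum⟩ := h
  choose D hD using fun a ↦ exists_divCycle hX (ξ a) (f a) (hf a)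
  choose g hg0 hg using fun a ↦ map_divFun_any hX hY p hδ (ξ a) (f a) (hf a) (D a) (hD a)
  refine ⟨{a // δX (ξ a) = δY (p (ξ a))}, fun a ↦ p (ξ a.1), fun a ↦ g a.1,
    fun a ↦ by rw [← a.2]; exact hξ a.1, fun a ↦ hg0 a.1, fun y ↦ ?_, fun y ↦ ?_⟩
  · obtain ⟨_, ⟨V, hV, rfl⟩, hyV, -⟩ :=
      Y.isBasis_affineOpens.exists_subset_of_mem_open (Set.mem_univ y) isOpen_univ
    have hV' : IsAffineOpen V := hV
    refine ⟨V, V.2, hyV, ?_⟩
    refine ((finite_near ξ hloc (p.isCompact_preimage hV'.isCompact)).preimage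
      Subtype.val_injective.injOn).subset ?_
    rintro a ⟨z, hz, hzV⟩
    exact ⟨ξ a.1, subset_closure rfl, (specializes_iff_mem_closure.mpr hz).mem_open V.2 hzV⟩
  · let S := finite_fibre_inter_support p α y
    let T := (finite_near ξ hloc (p.isCompact_preimage_singleton y)).toFinset
    have hT : ∀ a x, p x = y → Cyc.divFun δX (ξ a) (f a) x ≠ 0 → a ∈ T := by
      intro a x hx hne
      rw [Set.Finite.mem_toFinset]
      refine ⟨x, ?_, hx⟩
      by_contra hcl
      exact hne (divFun_eq_zero_of_not_specializes _ fun h ↦ hcl (specializes_iff_mem_closure.mp h))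
    let s : Finset X := (finite_fibre_inter_support p α y).toFinset ∪
      T.biUnion fun a ↦ (finite_fibre_inter_support p (D a) y).toFinset
    have hs : ∀ x ∈ s, p x = y := by
      intro x hx
      simp only [s, Finset.mem_union, Finset.mem_biUnion, Set.Finite.mem_toFinset] at hx
      rcases hx with hx | ⟨a, -, hx⟩ <;> exact hx.1
    have hmapD : ∀ a ∈ T, AlgebraicCycle.map p δX δY (D a) y =
        ∑ x ∈ s, D a x * (AlgebraicCycle.mapCoeff p δX δY x : ℤ) := fun a ha ↦
      map_apply_finset p δX δY (D a) y s hs fun x h1 h2 ↦ by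
        simp only [s, Finset.mem_union, Finset.mem_biUnion, Set.Finite.mem_toFinset]
        exact Or.inr ⟨a, ha, h1, h2⟩
    rw [map_apply_finset p δX δY α y s hs fun x h1 h2 ↦ by
      simp only [s, Finset.mem_union, Set.Finite.mem_toFinset]
      exact Or.inl ⟨h1, h2⟩]
    have hα : ∀ x ∈ s, α x = ∑ a ∈ T, D a x := fun x hx ↦ by
      rw [hsum, finsum_eq_sum_of_support_subset _ (s := T) fun a ha ↦ hT a x (hs x hx) ha]
      simp only [hD]
    rw [Finset.sum_congr rfl fun x hx ↦ by rw [hα x hx, Finset.sum_mul], Finset.sum_comm,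
      Finset.sum_congr rfl fun a ha ↦ ((hmapD a ha).symm.trans (hg a y))]
    rw [finsum_eq_sum_of_support_subset _ (s := T.subtype fun a ↦ δX (ξ a) = δY (p (ξ a))) ?_]
    · rw [← Finset.sum_filter, ← Finset.subtype_map, Finset.sum_map]
      rfl
    · intro a ha
      rw [Finset.mem_coe, Finset.mem_subtype]
      by_contra haT
      refine ha ?_
      have h0 := hg a.1 y
      rw [if_pos a.2, map_apply_finset p δX δY (D a.1) y ∅ (fun x hx ↦ absurd hx (Finset.notMem_empty x))
        (fun x h1 h2 ↦ absurd (hT a.1 x h1 (by rw [← hD]; exact h2)) haT), Finset.sum_empty] at h0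
      exact h0.symm

end Groth.Agent.CycLib28
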