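import Mathlib
import Groth.Agent.CycLib28.PushAny
import Groth.Agent.CycLib28.C1Flat

/-!
# The first Chern class commutes with proper pushforward
-/

universe u

open CategoryTheory CategoryTheory.Limits AlgebraicGeometry IsLocalRing TopologicalSpace Groth.Agent.CycLim28
open Groth.Agent.Coherent Groth.Agent.PicLib

namespace Groth.Agent.CycLib28

variable {X Y : Scheme.{u}}

theorem secDivFun_eq_divFun [IsLocallyNoetherian X] {δ : X → ℤ} (hδ : Cyc.IsDimFun X δ) {L : X.Modules}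
    (hL : PicF.IsInvertible L) {U : X.Opens} {e : Γ(L, U)} (he : IsGen L U e) {ξ x : X} (hxU : x ∈ U) (hξU : ξ ∈ U)
    (φ : X.presheaf.stalk ξ) (s : Cyc.secFibre L ξ)
    (hs : s = Submodule.Quotient.mk (φ • L.presheaf.germ U ξ hξU e)) (hs0 : s ≠ 0) :
    Cyc.secDivFun δ L ξ s x = Cyc.divFun δ ξ ((X.residue ξ).hom φ) x := by
  have hφ : (X.residue ξ).hom φ ≠ 0 := fun h0 ↦ hs0 (hs.trans ((mk_eq_zero_iff_gen he hξU φ).mpr h0))
  simp only [Cyc.secDivFun, Cyc.divFun]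
  split_ifs with h
  · rw [hs, secOrdAt_gen hδ hL h.1 h.2 he hxU hξU φ hφ]
  · rfl

theorem exists_rep {L : X.Modules} {U : X.Opens} {e : Γ(L, U)} (he : IsGen L U e) {ξ : X} (hξU : ξ ∈ U)
    (s : Cyc.secFibre L ξ) :
    ∃ φ : X.presheaf.stalk ξ, s = Submodule.Quotient.mk (φ • L.presheaf.germ U ξ hξU e) := by
  obtain ⟨m, rfl⟩ := Submodule.Quotient.mk_surjective _ s
  obtain ⟨φ, hφ⟩ := (VarietyLib.gen_germ_bijective he hξU).2 m
  exact ⟨φ, congrArg _ hφ.symm⟩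

theorem exists_c1Cap_cycle [IsLocallyNoetherian X] {δ : X → ℤ} (hδ : Cyc.IsDimFun X δ) {L : X.Modules}
    (hL : PicF.IsInvertible L) (α : AlgebraicCycle X ℤ) (s : (ξ : X) → Cyc.secFibre L ξ) (hs : ∀ ξ, s ξ ≠ 0) :
    ∃ γ : AlgebraicCycle X ℤ, ⇑γ = Cyc.c1CapFun δ L ⇑α s := by
  refine ⟨{ toFun := Cyc.c1CapFun δ L ⇑α s
            supportWithinDomain' := by simp
            supportLocallyFiniteWithinDomain' := fun x _ ↦ ?_ }, rfl⟩
  obtain ⟨U, hxU, e, he⟩ := PicLib.exists_isGen hL x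
  obtain ⟨_, ⟨V, hV, rfl⟩, hxV, hVU⟩ := X.isBasis_affineOpens.exists_subset_of_mem_open hxU U.2
  replace hV : IsAffineOpen V := hV
  refine ⟨V, V.2.mem_nhds hxV, ?_⟩
  have hfin := (Function.locallyFinsupp.locallyFiniteSupport α).finite_inter_support_of_isCompact hV.isCompact
  refine Set.Finite.subset (hfin.biUnion fun ξ _ ↦ (?_ : {z | z ∈ V ∧ Cyc.secDivFun δ L ξ (s ξ) z ≠ 0}.Finite)) ?_
  · by_cases hξ : ξ ∈ V
    · obtain ⟨φ, hφ⟩ := exists_rep he (hVU hξ) (s ξ)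
      have hne : (X.residue ξ).hom φ ≠ 0 := fun h0 ↦ hs ξ (hφ.trans ((mk_eq_zero_iff_gen he (hVU hξ) φ).mpr h0))
      refine (divFun_finite hδ ξ _ hne hV).subset fun z ⟨hz, hz'⟩ ↦ ⟨hz, ?_⟩
      rwa [secDivFun_eq_divFun hδ hL he (hVU hz) (hVU hξ) φ _ hφ (hs ξ)] at hz'
    · refine Set.finite_empty.subset fun z ⟨hz, hz'⟩ ↦ hz' ?_
      rw [Cyc.secDivFun, dif_neg fun h ↦ hξ (h.1.mem_open V.2 hz)]
  · rintro z ⟨hzV, hz⟩
    obtain ⟨ξ, hξ⟩ : ∃ ξ, α ξ * Cyc.secDivFun δ L ξ (s ξ) z ≠ 0 := by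
      by_contra! h
      exact hz (finsum_eq_zero_of_forall_eq_zero h)
    have hξz : ξ ⤳ z := by
      by_contra h
      exact right_ne_zero_of_mul hξ (by rw [Cyc.secDivFun, dif_neg fun h' ↦ h h'.1])
    exact Set.mem_biUnion (x := ξ) ⟨hξz.mem_open V.2 hzV, left_ne_zero_of_mul hξ⟩ ⟨hzV, right_ne_zero_of_mul hξ⟩

theorem residueFieldMap_congr_homC {f f' : X ⟶ Y} (e : f = f') (x : X) (a : Y.residueField (f' x))
    (h : f x = f' x) : (f.residueFieldMap x).hom ((Y.residueFieldCongr h).inv a) = (f'.residueFieldMap x).hom a := by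
  subst e; simp

/-- `p_* div (p^* g) = deg · div g` -/
theorem map_divFun_res [IsLocallyNoetherian X] [IsLocallyNoetherian Y]
    {δX : X → ℤ} {δY : Y → ℤ} (hX : Cyc.IsDimFun X δX) (hY : Cyc.IsDimFun Y δY) (p : X ⟶ Y) [IsProper p]
    (hδ : Cyc.DeltaCompat p δX δY) (ξ : X) (g : Y.residueField (p ξ)) (hg : g ≠ 0) (α : AlgebraicCycle X ℤ)
    (hα : ⇑α = Cyc.divFun δX ξ ((p.residueFieldMap ξ).hom g)) (y : Y) :
    AlgebraicCycle.map p δX δY α y =
      (AlgebraicCycle.mapCoeff p δX δY ξ : ℤ) * Cyc.divFun δY (p ξ) g y := by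
  classical
  obtain ⟨q, hq⟩ := exists_closure_map p ξ
  set i := (AssSch12.clI ξ).subschemeι with hidef
  set j := (AssSch12.clI (p ξ)).subschemeι with hjdef
  have hiξ : i (genericPoint (AssSch12.clI ξ).subscheme) = ξ := genericPoint_clI ξ
  set η := genericPoint (AssSch12.clI ξ).subscheme with hη
  suffices key : ∀ ξ' : X, i η = ξ' → ∀ g' : Y.residueField (p ξ'),
      g' ≠ 0 → ∀ β : AlgebraicCycle X ℤ, ⇑β = Cyc.divFun δX ξ' ((p.residueFieldMap ξ').hom g') →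
      AlgebraicCycle.map p δX δY β y =
        (AlgebraicCycle.mapCoeff p δX δY ξ' : ℤ) * Cyc.divFun δY (p ξ') g' y from key ξ hiξ g hg α hα
  intro ξ' hξ'
  subst hξ'
  intro g' hg' β hβ
  have hjξ : j (genericPoint (AssSch12.clI (p ξ)).subscheme) = p ξ := genericPoint_clI (p ξ)
  haveI : IsLocallyNoetherian (AssSch12.clI ξ).subscheme := LocallyOfFiniteType.isLocallyNoetherian i
  haveI : IsLocallyNoetherian (AssSch12.clI (p ξ)).subscheme := LocallyOfFiniteType.isLocallyNoetherian j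
  haveI : IsProper (q ≫ j) := by rw [hq]; infer_instance
  haveI : IsProper q := IsProper.of_comp q j
  have hqz : ∀ z, j (q z) = p (i z) := fun z ↦ congrArg (fun m => m z) hq
  have hqη : q (genericPoint _) = genericPoint (AssSch12.clI (p ξ)).subscheme :=
    j.isClosedEmbedding.injective ((hqz _).trans ((congrArg p hiξ).trans hjξ.symm))
  have hZ := isDimFun_comp_closedImmersion i hX
  have hW := isDimFun_comp_closedImmersion j hY
  have hcq := deltaCompat_square i j q p hq hδ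
  have hres0 : (p.residueFieldMap (i η)).hom g' ≠ 0 := (map_ne_zero _).mpr hg'
  obtain ⟨αZ, hαZ⟩ := exists_divCycle hZ η ((i.residueFieldMap η).hom ((p.residueFieldMap (i η)).hom g'))
    ((map_ne_zero _).mpr hres0)
  have hiα : AlgebraicCycle.map i (fun z ↦ δX (i z)) δX αZ = β := by
    refine Function.locallyFinsuppWithin.ext fun x ↦ ?_
    by_cases hx : x ∈ Set.range i
    · obtain ⟨z, rfl⟩ := hx
      rw [map_closedImmersion_apply, hαZ, divFun_preimmersion i hX hZ 0 (fun _ ↦ (add_zero _).symm) _ _ _ hres0, hβ]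
    · rw [map_closedImmersion_eq_zero i _ _ _ x hx, hβ, divFun_eq_zero_of_not_specializes]
      exact fun h ↦ hx (h.mem_closed i.isClosedEmbedding.isClosed_range ⟨η, rfl⟩)
  have hmap : AlgebraicCycle.map p δX δY β y =
      AlgebraicCycle.map j (fun w ↦ δY (j w)) δY
        (AlgebraicCycle.map q (fun z ↦ δX (i z)) (fun w ↦ δY (j w)) αZ) y := by
    rw [map_map q j hcq (deltaCompat_preimmersion j δY), map_congr_hom hq,
      ← map_map i p (deltaCompat_preimmersion i δX) hδ, hiα]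
  rw [hmap]
  -- the function on the image
  let gW := (Y.residueFieldCongr (hqz η)).inv g'
  have hgW : (q.residueFieldMap η).hom ((j.residueFieldMap (q η)).hom gW) =
      (i.residueFieldMap η).hom ((p.residueFieldMap (i η)).hom g') := by
    have h1 := residueFieldMap_congr_homC hq η g' (hqz η)
    have e1 : ((q ≫ j).residueFieldMap η).hom = (q.residueFieldMap η).hom.comp (j.residueFieldMap (q η)).hom :=
      congrArg CommRingCat.Hom.hom (Scheme.residueFieldMap_comp q j η)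
    have e2 : ((i ≫ p).residueFieldMap η).hom = (i.residueFieldMap η).hom.comp (p.residueFieldMap (i η)).hom :=
      congrArg CommRingCat.Hom.hom (Scheme.residueFieldMap_comp i p η)
    exact ((RingHom.congr_fun e1 gW).symm.trans h1).trans (RingHom.congr_fun e2 g')
  have hgW0 : gW ≠ 0 := (map_ne_zero _).mpr hg'
  by_cases hy : y ∈ Set.range j
  swap
  · rw [map_closedImmersion_eq_zero j _ _ _ y hy, divFun_eq_zero_of_not_specializes, mul_zero]
    intro h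
    exact hy (h.mem_closed j.isClosedEmbedding.isClosed_range ⟨q η, hqz η⟩)
  obtain ⟨w, rfl⟩ := hy
  rw [map_closedImmersion_apply, AlgebraicCycle.mapCoeff]
  split_ifs with hn
  swap
  · rw [pushDiv_zero hZ hW q hcq (fun e ↦ hn (by rw [← hqz η]; exact e)) hqη _ ((map_ne_zero _).mpr hres0) αZ hαZ w]
    simp
  have hn' : δX (i η) = δY (j (q η)) := by rw [hqz η]; exact hn
  have hdeg : p.residueDegree (i η) = q.residueDegree η := by
    have h1 := residueDegree_comp i p η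
    have h2 := residueDegree_comp q j η
    rw [residueDegree_preimmersion i η, mul_one] at h1
    rw [residueDegree_preimmersion j, one_mul] at h2
    rw [← h1, ← h2, hq]
  have hN : Cyc.normGen q η ((i.residueFieldMap η).hom ((p.residueFieldMap (i η)).hom g')) =
      (j.residueFieldMap (q η)).hom gW ^ q.residueDegree η := by
    rw [← hgW]
    letI := (q.residueFieldMap η).hom.toAlgebra
    exact Algebra.norm_algebraMap _
  rw [pushDiv_coeff hZ hW q hcq hn' hqη _ ((map_ne_zero _).mpr hres0) αZ hαZ w, hN,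
    divFun_pow hW ((map_ne_zero _).mpr hgW0), divFun_preimmersion j hY hW 0 (fun _ ↦ (add_zero _).symm) _ _ _ hgW0,
    divFun_congr (hqz η), hdeg]

theorem c1Cap_push_section [IsLocallyNoetherian X] [IsLocallyNoetherian Y]
    {δX : X → ℤ} {δY : Y → ℤ} (hX : Cyc.IsDimFun X δX) (hY : Cyc.IsDimFun Y δY) (p : X ⟶ Y) [IsProper p]
    (hδ : Cyc.DeltaCompat p δX δY) {L : Y.Modules} (hL : PicF.IsInvertible L) (α : AlgebraicCycle X ℤ)
    (v : (η : Y) → Cyc.secFibre L η) (hv : ∀ η, v η ≠ 0) :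
    ∃ (w : (ξ : X) → Cyc.secFibre ((Scheme.Modules.pullback p).obj L) ξ) (γ : AlgebraicCycle X ℤ),
      (∀ ξ, w ξ ≠ 0) ∧ (∀ (ξ : X) (x : X) (h : ξ ⤳ x) (_ : δX x + 1 = δX ξ) (U : Y.Opens) (e : Γ(L, U)) (_ : IsGen L U e)
        (_ : p x ∈ U) (hU : p ξ ∈ U) (φ : Y.presheaf.stalk (p ξ)),
        v (p ξ) = Submodule.Quotient.mk (φ • L.presheaf.germ U (p ξ) hU e) →
        Cyc.secOrdAt ((Scheme.Modules.pullback p).obj L) ξ x h (w ξ) =
          Cyc.ordAt x ξ h ((p.residueFieldMap ξ).hom ((Y.residue (p ξ)).hom φ))) ∧ ⇑γ = Cyc.c1CapFun δX ((Scheme.Modules.pullback p).obj L) ⇑α w ∧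
      ⇑(AlgebraicCycle.map p δX δY γ) = Cyc.c1CapFun δY L ⇑(AlgebraicCycle.map p δX δY α) v := by
  classical
  choose w hw hword using fun ξ : X ↦ exists_pullback_section hX p hL ξ (v (p ξ)) (hv _)
  obtain ⟨γ, hγ⟩ := exists_c1Cap_cycle hX (PicLoc.isInvertible_pullback p hL) α w hw
  refine ⟨w, γ, hw, hword, hγ, funext fun y ↦ ?_⟩
  obtain ⟨U, hyU, e, he⟩ := PicLib.exists_isGen hL y
  obtain ⟨_, ⟨V, hV, rfl⟩, hyV, hVU⟩ := Y.isBasis_affineOpens.exists_subset_of_mem_open hyU U.2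
  replace hV : IsAffineOpen V := hV
  let B := ((Function.locallyFinsupp.locallyFiniteSupport α).finite_inter_support_of_isCompact
    (p.isCompact_preimage hV.isCompact)).toFinset
  have hB : ∀ ξ, ξ ∈ B ↔ p ξ ∈ V ∧ α ξ ≠ 0 := fun ξ ↦ by simp [B]
  have hco : ∀ η : Y, ∃ φ : Y.presheaf.stalk η, η ∈ V → ∃ h : η ∈ U,
      v η = Submodule.Quotient.mk (φ • L.presheaf.germ U η h e) := by
    intro η
    by_cases h : η ∈ V
    · obtain ⟨φ, hφ⟩ := exists_rep he (hVU h) (v η)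
      exact ⟨φ, fun _ ↦ ⟨hVU h, hφ⟩⟩
    · exact ⟨0, fun h' ↦ absurd h' h⟩
  choose φ hφ using hco
  let g : (η : Y) → Y.residueField η := fun η ↦ (Y.residue η).hom (φ η)
  have hg : ∀ η, η ∈ V → g η ≠ 0 := fun η h h0 ↦ by
    obtain ⟨hU', hv'⟩ := hφ η h
    exact hv η (hv'.trans ((mk_eq_zero_iff_gen he hU' (φ η)).mpr h0))
  have hD : ∀ ξ : B, ∃ D : AlgebraicCycle X ℤ, ⇑D = Cyc.divFun δX ξ.1 ((p.residueFieldMap ξ.1).hom (g (p ξ.1))) :=
    fun ξ ↦ exists_divCycle hX _ _ ((map_ne_zero _).mpr (hg _ ((hB _).mp ξ.2).1))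
  choose D hD using hD
  -- the cap upstairs near the fibre
  have hup : ∀ x, p x = y → γ x = ∑ ξ : B, α ξ.1 * D ξ x := by
    intro x hx
    rw [hγ, Cyc.c1CapFun, finsum_eq_sum_of_support_subset _ (s := B) fun ξ hξ ↦ ?_, ← Finset.sum_coe_sort]
    · refine Finset.sum_congr rfl fun ξ _ ↦ congrArg (α ξ.1 * ·) ?_
      rw [hD]
      simp only [Cyc.secDivFun, Cyc.divFun]
      split_ifs with h
      · obtain ⟨hU', hv'⟩ := hφ (p ξ.1) ((hB _).mp ξ.2).1
        exact hword ξ.1 x h.1 h.2 U e he (hx ▸ hVU hyV) hU' (φ (p ξ.1)) hv'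
      · rfl
    · have hsp : ξ ⤳ x := by
        by_contra h
        exact right_ne_zero_of_mul hξ (by rw [Cyc.secDivFun, dif_neg fun h' ↦ h h'.1])
      exact (hB ξ).mpr ⟨(hsp.map p.continuous).mem_open V.2 (hx.symm ▸ hyV), left_ne_zero_of_mul hξ⟩
  let s : Finset X := (finite_fibre_inter_support p γ y).toFinset ∪
    Finset.univ.biUnion fun ξ : B ↦ (finite_fibre_inter_support p (D ξ) y).toFinset
  have hs : ∀ x ∈ s, p x = y := by
    intro x hx
    simp only [s, Finset.mem_union, Finset.mem_biUnion, Set.Finite.mem_toFinset] at hx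
    rcases hx with hx | ⟨a, -, hx⟩ <;> exact hx.1
  have hmapD : ∀ ξ : B, AlgebraicCycle.map p δX δY (D ξ) y =
      ∑ x ∈ s, D ξ x * (AlgebraicCycle.mapCoeff p δX δY x : ℤ) := fun ξ ↦
    map_apply_finset p δX δY (D ξ) y s hs fun x h1 h2 ↦ by
      simp only [s, Finset.mem_union, Finset.mem_biUnion, Set.Finite.mem_toFinset]
      exact Or.inr ⟨ξ, Finset.mem_univ _, h1, h2⟩
  rw [map_apply_finset p δX δY γ y s hs fun x h1 h2 ↦ by
    simp only [s, Finset.mem_union, Set.Finite.mem_toFinset]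
    exact Or.inl ⟨h1, h2⟩]
  rw [Finset.sum_congr rfl fun x hx ↦ by rw [hup x (hs x hx), Finset.sum_mul], Finset.sum_comm]
  have hterm : ∀ ξ : B, ∑ x ∈ s, α ξ.1 * D ξ x * (AlgebraicCycle.mapCoeff p δX δY x : ℤ) =
      (α ξ.1 * (AlgebraicCycle.mapCoeff p δX δY ξ.1 : ℤ)) * Cyc.secDivFun δY L (p ξ.1) (v (p ξ.1)) y := by
    intro ξ
    obtain ⟨hU', hv'⟩ := hφ (p ξ.1) ((hB _).mp ξ.2).1
    rw [secDivFun_eq_divFun hY hL he hyU hU' _ _ hv' (hv _), mul_assoc,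
      ← map_divFun_res hX hY p hδ ξ.1 _ (hg _ ((hB _).mp ξ.2).1) (D ξ) (hD ξ) y, hmapD, Finset.mul_sum]
    simp only [mul_assoc]
  rw [Finset.sum_congr rfl fun ξ _ ↦ hterm ξ,
    Finset.sum_coe_sort B (f := fun ξ ↦ α ξ * (AlgebraicCycle.mapCoeff p δX δY ξ : ℤ) *
      Cyc.secDivFun δY L (p ξ) (v (p ξ)) y),
    Cyc.c1CapFun, finsum_eq_sum_of_support_subset _ (s := B.image p) fun η hη ↦ ?_,
    ← Finset.sum_fiberwise_of_maps_to (g := fun ξ ↦ p ξ) (t := B.image p) fun ξ hξ ↦ Finset.mem_image_of_mem _ hξ]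
  · refine Finset.sum_congr rfl fun η hη ↦ ?_
    obtain ⟨ξ₀, hξ₀, rfl⟩ := Finset.mem_image.mp hη
    rw [map_apply_finset p δX δY α (p ξ₀) {ξ ∈ B | p ξ = p ξ₀} (fun ξ hξ ↦ (Finset.mem_filter.mp hξ).2)
      fun ξ h1 h2 ↦ Finset.mem_filter.mpr ⟨(hB ξ).mpr ⟨h1 ▸ ((hB ξ₀).mp hξ₀).1, h2⟩, h1⟩, Finset.sum_mul]
    exact Finset.sum_congr rfl fun ξ hξ ↦ by rw [(Finset.mem_filter.mp hξ).2]
  · have hηy : η ⤳ y := by
      by_contra h
      exact right_ne_zero_of_mul hη (by rw [Cyc.secDivFun, dif_neg fun h' ↦ h h'.1])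
    have hne := left_ne_zero_of_mul hη
    rw [map_apply] at hne
    obtain ⟨ξ, hξ, hξ'⟩ := exists_ne_zero_of_finsum_mem_ne_zero hne
    exact Finset.mem_image.mpr ⟨ξ, (hB ξ).mpr
      ⟨(show p ξ = η from hξ) ▸ hηy.mem_open V.2 hyV, left_ne_zero_of_mul hξ'⟩, hξ⟩

theorem c1Cap_push [IsLocallyNoetherian X] [IsLocallyNoetherian Y]
    {δX : X → ℤ} {δY : Y → ℤ} (hX : Cyc.IsDimFun X δX) (hY : Cyc.IsDimFun Y δY) (p : X ⟶ Y) [IsProper p]
    (hδ : Cyc.DeltaCompat p δX δY) {L : Y.Modules} (hL : PicF.IsInvertible L) (α : AlgebraicCycle X ℤ)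
    (v : (η : Y) → Cyc.secFibre L η) (hv : ∀ η, v η ≠ 0) :
    ∃ (w : (ξ : X) → Cyc.secFibre ((Scheme.Modules.pullback p).obj L) ξ) (γ : AlgebraicCycle X ℤ),
      (∀ ξ, w ξ ≠ 0) ∧ ⇑γ = Cyc.c1CapFun δX ((Scheme.Modules.pullback p).obj L) ⇑α w ∧
      ⇑(AlgebraicCycle.map p δX δY γ) = Cyc.c1CapFun δY L ⇑(AlgebraicCycle.map p δX δY α) v := by
  obtain ⟨w, γ, hw, -, h⟩ := c1Cap_push_section hX hY p hδ hL α v hv
  exact ⟨w, γ, hw, h⟩

end Groth.Agent.CycLib28
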