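import Mathlib
import Groth.Prelude.Def_C1
import Groth.Agent.CycLib28.C1Indep
import Groth.Agent.CycLib28.C1Push

/-!
# Coefficients of rational sections on generators
-/

set_option autoImplicit false

universe u

open CategoryTheory AlgebraicGeometry IsLocalRing Groth.Agent.CycLim28
open Groth.Agent.Coherent Groth.Agent.PicLib

namespace Groth.Agent.CycLib28

variable {X : Scheme.{u}}

/-- the coefficient of a rational section on a generator of a stalk -/
noncomputable def coef {L : X.Modules} {η ξ : X} (h : η ⤳ ξ) (g : L.presheaf.stalk ξ) (s : Cyc.secFibre L η) :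
    X.residueField η :=
  open Classical in
  if hs : ∃ φ : X.presheaf.stalk η, s = Submodule.Quotient.mk (φ • L.presheaf.stalkSpecializes h g) then
    (X.residue η).hom hs.choose else 0

variable {L : X.Modules} (hL : PicF.IsInvertible L)

include hL

theorem coef_eq {η ξ : X} (h : η ⤳ ξ) {g : L.presheaf.stalk ξ}
    (hg : Submodule.span (X.presheaf.stalk ξ) {g} = ⊤) {s : Cyc.secFibre L η} {φ : X.presheaf.stalk η}
    (hs : s = Submodule.Quotient.mk (φ • L.presheaf.stalkSpecializes h g)) :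
    coef h g s = (X.residue η).hom φ := by
  rw [coef, dif_pos ⟨φ, hs⟩]
  have hc := (⟨φ, hs⟩ : ∃ φ : X.presheaf.stalk η,
    s = Submodule.Quotient.mk (φ • L.presheaf.stalkSpecializes h g)).choose_spec
  revert hc
  generalize Exists.choose (⟨φ, hs⟩ : ∃ φ : X.presheaf.stalk η,
    s = Submodule.Quotient.mk (φ • L.presheaf.stalkSpecializes h g)) = c
  intro hc
  have h1 := hc.symm.trans hs
  rw [← sub_eq_zero, ← Submodule.Quotient.mk_sub, ← sub_smul, mk_eq_zero_iff hL h hg, map_sub, sub_eq_zero] at h1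
  exact h1

theorem exists_coef {η ξ : X} (h : η ⤳ ξ) {g : L.presheaf.stalk ξ}
    (hg : Submodule.span (X.presheaf.stalk ξ) {g} = ⊤) (s : Cyc.secFibre L η) :
    ∃ φ : X.presheaf.stalk η, s = Submodule.Quotient.mk (φ • L.presheaf.stalkSpecializes h g) := by
  obtain ⟨m, rfl⟩ := Submodule.Quotient.mk_surjective _ s
  obtain ⟨φ, hφ⟩ := ((gen_bijective hL hg).2 η h).2 m
  exact ⟨φ, congrArg _ hφ.symm⟩

theorem coef_ne_zero {η ξ : X} (h : η ⤳ ξ) {g : L.presheaf.stalk ξ}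
    (hg : Submodule.span (X.presheaf.stalk ξ) {g} = ⊤) {s : Cyc.secFibre L η} (hs : s ≠ 0) : coef h g s ≠ 0 := by
  obtain ⟨φ, hφ⟩ := exists_coef hL h hg s
  rw [coef_eq hL h hg hφ]
  exact fun h0 ↦ hs (hφ.trans ((mk_eq_zero_iff hL h hg φ).mpr h0))

theorem gen_specializes {ξ x : X} (h : ξ ⤳ x) {g : L.presheaf.stalk x}
    (hg : Submodule.span (X.presheaf.stalk x) {g} = ⊤) :
    Submodule.span (X.presheaf.stalk ξ) {L.presheaf.stalkSpecializes h g} = ⊤ :=
  eq_top_iff.mpr fun m _ ↦ by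
    obtain ⟨r, rfl⟩ := ((gen_bijective hL hg).2 ξ h).2 m
    exact Submodule.smul_mem _ _ (Submodule.subset_span rfl)

theorem exists_gen_span (x : X) : ∃ g : L.presheaf.stalk x, Submodule.span (X.presheaf.stalk x) {g} = ⊤ := by
  obtain ⟨g, hg, -⟩ := exists_gen_stalk hL x
  refine ⟨g, eq_top_iff.mpr fun m _ ↦ ?_⟩
  obtain ⟨r, rfl⟩ := hg.2 m
  exact Submodule.smul_mem _ _ (Submodule.subset_span rfl)

theorem coef_trans {η ξ x : X} (h : η ⤳ ξ) (h' : ξ ⤳ x) {g : L.presheaf.stalk x}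
    (hg : Submodule.span (X.presheaf.stalk x) {g} = ⊤) (s : Cyc.secFibre L η) :
    coef h (L.presheaf.stalkSpecializes h' g) s = coef (h.trans h') g s := by
  obtain ⟨φ, hφ⟩ := exists_coef hL (h.trans h') hg s
  rw [coef_eq hL _ hg hφ, coef_eq hL h (gen_specializes hL h' hg) (φ := φ)]
  rw [hφ, TopCat.Presheaf.stalkSpecializes_comp_apply]

theorem coef_change {η ξ : X} (h : η ⤳ ξ) {g : L.presheaf.stalk ξ}
    (hg : Submodule.span (X.presheaf.stalk ξ) {g} = ⊤) (c : X.presheaf.stalk ξ)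
    (hg' : Submodule.span (X.presheaf.stalk ξ) {c • g} = ⊤) (s : Cyc.secFibre L η) :
    coef h g s = coef h (c • g) s * Cyc.specMap ξ η h c := by
  obtain ⟨φ, hφ⟩ := exists_coef hL h hg' s
  rw [coef_eq hL h hg' hφ, coef_eq hL h hg (φ := φ * (X.presheaf.stalkSpecializes h).hom c), map_mul]
  · rfl
  · rw [hφ, stalkSpecializes_smul', smul_smul]

theorem exists_unit_change {ξ : X} {g g' : L.presheaf.stalk ξ}
    (hg : Submodule.span (X.presheaf.stalk ξ) {g} = ⊤) (hg' : Submodule.span (X.presheaf.stalk ξ) {g'} = ⊤) :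
    ∃ c : X.presheaf.stalk ξ, IsUnit c ∧ g' = c • g := by
  obtain ⟨c, hc⟩ := (gen_bijective hL hg).1.2 g'
  obtain ⟨d, hd⟩ := (gen_bijective hL hg').1.2 g
  exact ⟨c, IsUnit.of_mul_eq_one_right d ((gen_bijective hL hg).1.1 (by
    simp only [mul_smul, one_smul]; exact (congrArg (d • ·) hc).trans hd)), hc.symm⟩

theorem secOrdAt_eq_coef [IsLocallyNoetherian X] {δ : X → ℤ} (hδ : Cyc.IsDimFun X δ) {η x : X} (h : η ⤳ x)
    (hd : δ x + 1 = δ η) {g : L.presheaf.stalk x} (hg : Submodule.span (X.presheaf.stalk x) {g} = ⊤)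
    {s : Cyc.secFibre L η} (hs : s ≠ 0) :
    Cyc.secOrdAt L η x h s = Cyc.ordAt x η h (coef h g s) := by
  obtain ⟨ht, φ, hφ⟩ := exists_fibre_coeff hL h s
  obtain ⟨c, hc, e⟩ := exists_unit_change hL hg ht.choose_spec
  have h1 := coef_change hL h hg c (e ▸ ht.choose_spec) s
  rw [← e, coef_eq hL h ht.choose_spec hφ] at h1
  have hne : (X.residue η).hom φ ≠ 0 := fun h0 ↦ hs (hφ.trans ((mk_eq_zero_iff hL h ht.choose_spec φ).mpr h0))
  rw [h1, hφ, secOrdAt_coeff hL h ht,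
    ordAt_mul hδ h hd hne ((hc.map (Cyc.specMap x η h)).ne_zero), ordAt_unit hδ h hd c hc, add_zero]

theorem secDivFun_finite [IsLocallyNoetherian X] {δ : X → ℤ} (hδ : Cyc.IsDimFun X δ) {U : X.Opens}
    {e : Γ(L, U)} (he : IsGen L U e) {V : X.Opens} (hV : IsAffineOpen V) (hVU : V ≤ U) (η : X)
    (s : Cyc.secFibre L η) (hs : s ≠ 0) : {z | z ∈ V ∧ Cyc.secDivFun δ L η s z ≠ 0}.Finite := by
  by_cases hη : η ∈ V
  · obtain ⟨φ, hφ⟩ := exists_rep he (hVU hη) s
    have hne : (X.residue η).hom φ ≠ 0 := fun h0 ↦ hs (hφ.trans ((mk_eq_zero_iff_gen he (hVU hη) φ).mpr h0))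
    refine (divFun_finite hδ η _ hne hV).subset fun z ⟨hz, hz'⟩ ↦ ⟨hz, ?_⟩
    rwa [secDivFun_eq_divFun hδ hL he (hVU hz) (hVU hη) φ _ hφ hs] at hz'
  · refine Set.finite_empty.subset fun z ⟨hz, hz'⟩ ↦ hz' ?_
    rw [Cyc.secDivFun, dif_neg fun h ↦ hη (h.1.mem_open V.2 hz)]

theorem exists_affine_gen (x : X) :
    ∃ (V : X.Opens) (e : Γ(L, V)), IsAffineOpen V ∧ x ∈ V ∧ IsGen L V e := by
  obtain ⟨U, hxU, e, he⟩ := PicLib.exists_isGen hL x
  obtain ⟨_, ⟨V, hV, rfl⟩, hxV, hVU⟩ := X.isBasis_affineOpens.exists_subset_of_mem_open hxU U.2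
  exact ⟨V, Coherent.resM L (hVU : V ≤ U) e, hV, hxV, he.restrict _⟩

end Groth.Agent.CycLib28
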