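import Mathlib
import Groth.Prelude.Def_Cyc
import Groth.Agent.CycLib28.OrdAt
import Groth.Agent.CycLib28.FlatDiv
import Groth.Agent.CycTameLib.Frac
import Groth.Agent.CycTameLib.KeyLemma

/-!
# Tame symbols of rational functions on an integral closed subscheme
-/

set_option autoImplicit false

universe u

open CategoryTheory AlgebraicGeometry IsLocalRing Groth.Agent.CycLim28 Groth.Agent.CycTameLib

namespace Groth.Agent.CycLib28

variable {X : Scheme.{u}} {δ : X → ℤ}

instance instIsDomainLocQuot (ξ η : X) (h : η ⤳ ξ) : IsDomain (Cyc.LocQuot ξ η h) :=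
  have : (RingHom.ker (Cyc.specMap ξ η h)).IsPrime := RingHom.ker_isPrime _
  inferInstance

instance instIsLocalRingLocQuot (ξ η : X) (h : η ⤳ ξ) : IsLocalRing (Cyc.LocQuot ξ η h) :=
  IsLocalRing.of_surjective' (Ideal.Quotient.mk _) Ideal.Quotient.mk_surjective

instance instIsFractionRingLocQuot (ξ η : X) (h : η ⤳ ξ) :
    IsFractionRing (Cyc.LocQuot ξ η h) (X.residueField η) := isFractionRing_locQuot h

theorem ker_le_maximal {ξ η : X} (h : η ⤳ ξ) :
    RingHom.ker (Cyc.specMap ξ η h) ≤ maximalIdeal (X.presheaf.stalk ξ) :=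
  IsLocalRing.le_maximalIdeal (RingHom.ker_ne_top _)

/-- the reduction to the residue field of the point -/
noncomputable def toPoint {ξ η : X} (h : η ⤳ ξ) : Cyc.LocQuot ξ η h →+* X.residueField ξ :=
  Ideal.Quotient.lift _ (X.residue ξ).hom fun a ha ↦
    (IsLocalRing.residue_eq_zero_iff a).mpr (ker_le_maximal h ha)

instance instIsLocalHomToPoint {ξ η : X} (h : η ⤳ ξ) : IsLocalHom (toPoint h) := by
  refine ⟨fun a ha ↦ ?_⟩
  obtain ⟨a, rfl⟩ := Ideal.Quotient.mk_surjective a
  exact ((IsLocalRing.residue_ne_zero_iff_isUnit a).mp ha.ne_zero).map _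

/-- the residue field of the local ring of the closure is that of the point -/
noncomputable def resHom {ξ η : X} (h : η ⤳ ξ) : ResidueField (Cyc.LocQuot ξ η h) →+* X.residueField ξ :=
  IsLocalRing.ResidueField.lift (toPoint h)

/-- the tame symbol of two rational functions on the closure of η at ξ -/
noncomputable def symAt {ξ η : X} (h : η ⤳ ξ) (a b : X.residueField η) : X.residueField ξ :=
  resHom h (symK (Cyc.LocQuot ξ η h) a b)

variable [IsLocallyNoetherian X]

theorem dim_locQuot_one (hδ : Cyc.IsDimFun X δ) {ξ η : X} (h : η ⤳ ξ) (hd : δ ξ + 1 = δ η) :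
    ringKrullDim (Cyc.LocQuot ξ η h) = 1 := by
  rw [dim_locQuot hδ h, show (δ η - δ ξ).toNat = 1 by omega]
  rfl

variable (hδ : Cyc.IsDimFun X δ) {ξ η : X} (h : η ⤳ ξ) (hd : δ ξ + 1 = δ η)

include hδ hd in
theorem symAt_ne_zero {a b : X.residueField η} (ha : a ≠ 0) (hb : b ≠ 0) : symAt h a b ≠ 0 :=
  (map_ne_zero _).mpr (symK_ne_zero (dim_locQuot_one hδ h hd) ha hb)

include hδ hd in
theorem symAt_mul_left {a a' b : X.residueField η} (ha : a ≠ 0) (ha' : a' ≠ 0) (hb : b ≠ 0) :
    symAt h (a * a') b = symAt h a b * symAt h a' b := by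
  simp only [symAt]
  rw [symK_mul_left (dim_locQuot_one hδ h hd) ha ha' hb, map_mul]

include hδ hd in
theorem symAt_mul_right {a b b' : X.residueField η} (ha : a ≠ 0) (hb : b ≠ 0) (hb' : b' ≠ 0) :
    symAt h a (b * b') = symAt h a b * symAt h a b' := by
  simp only [symAt]
  rw [symK_mul_right (dim_locQuot_one hδ h hd) ha hb hb', map_mul]

include hδ hd in
theorem symAt_unit_left {c : X.presheaf.stalk ξ} (hc : IsUnit c) {b : X.residueField η} (hb : b ≠ 0) :
    symAt h (Cyc.specMap ξ η h c) b = (X.residue ξ).hom c ^ Cyc.ordAt ξ η h b := by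
  have hu : IsUnit (Ideal.Quotient.mk (RingHom.ker (Cyc.specMap ξ η h)) c) := hc.map _
  have h1 := symK_unit_left (K := X.residueField η) (dim_locQuot_one hδ h hd) hu.unit hb
  rw [IsUnit.unit_spec] at h1
  rw [symAt, show Cyc.specMap ξ η h c =
    algebraMap (Cyc.LocQuot ξ η h) (X.residueField η) (Ideal.Quotient.mk _ c) from rfl, h1, map_zpow₀]
  rfl

include hδ hd in
theorem symAt_unit_right {c : X.presheaf.stalk ξ} (hc : IsUnit c) {a : X.residueField η} (ha : a ≠ 0) :
    symAt h a (Cyc.specMap ξ η h c) = (X.residue ξ).hom c ^ (-Cyc.ordAt ξ η h a) := by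
  have hu : IsUnit (Ideal.Quotient.mk (RingHom.ker (Cyc.specMap ξ η h)) c) := hc.map _
  have h1 := symK_unit_right (K := X.residueField η) (dim_locQuot_one hδ h hd) hu.unit ha
  rw [IsUnit.unit_spec] at h1
  rw [symAt, show Cyc.specMap ξ η h c =
    algebraMap (Cyc.LocQuot ξ η h) (X.residueField η) (Ideal.Quotient.mk _ c) from rfl, h1, map_zpow₀]
  rfl

/-! ### the local rings at the height one primes -/

section Prime

variable {x : X} (hξx : ξ ⤳ x)

/-- restriction to a generisation, modulo the generic point -/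
noncomputable def locMap : Cyc.LocQuot x η (h.trans hξx) →+* Cyc.LocQuot ξ η h :=
  Ideal.Quotient.lift _ ((Ideal.Quotient.mk _).comp (X.presheaf.stalkSpecializes hξx).hom) fun a ha ↦ by
    rw [RingHom.comp_apply, Ideal.Quotient.eq_zero_iff_mem, RingHom.mem_ker]
    rw [RingHom.mem_ker] at ha
    rw [← ha]
    exact congrArg (X.residue η) (TopCat.Presheaf.stalkSpecializes_comp_apply X.presheaf h hξx a)

omit [IsLocallyNoetherian X] in
theorem locMap_algebraMap (a : Cyc.LocQuot x η (h.trans hξx)) :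
    algebraMap (Cyc.LocQuot ξ η h) (X.residueField η) (locMap h hξx a) =
      algebraMap (Cyc.LocQuot x η (h.trans hξx)) (X.residueField η) a := by
  obtain ⟨a, rfl⟩ := Ideal.Quotient.mk_surjective a
  exact congrArg (X.residue η) (TopCat.Presheaf.stalkSpecializes_comp_apply X.presheaf h hξx a)

omit [IsLocallyNoetherian X] in
theorem locMap_injective : Function.Injective (locMap h hξx) := fun a b e ↦
  IsFractionRing.injective (Cyc.LocQuot x η (h.trans hξx)) (X.residueField η)
    (by rw [← locMap_algebraMap h hξx, ← locMap_algebraMap h hξx, e])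

omit [IsLocallyNoetherian X] in
theorem toPoint_locMap (a : X.presheaf.stalk x) :
    toPoint h (locMap h hξx (Ideal.Quotient.mk _ a)) = Cyc.specMap x ξ hξx a := rfl

/-- the prime of ξ in the local ring at x -/
noncomputable def primeOf : Ideal (Cyc.LocQuot x η (h.trans hξx)) := RingHom.ker ((toPoint h).comp (locMap h hξx))

instance : (primeOf h hξx).IsPrime := RingHom.ker_isPrime _

omit [IsLocallyNoetherian X] in
theorem primeOf_comap :
    (primeOf h hξx).comap (Ideal.Quotient.mk _) = RingHom.ker (Cyc.specMap x ξ hξx) := by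
  ext a
  exact Iff.rfl

omit [IsLocallyNoetherian X] in
theorem exists_locMap_eq (z : Cyc.LocQuot ξ η h) : ∃ a s : Cyc.LocQuot x η (h.trans hξx),
    s ∉ primeOf h hξx ∧ z * locMap h hξx s = locMap h hξx a := by
  obtain ⟨z, rfl⟩ := Ideal.Quotient.mk_surjective z
  algebraize [(X.presheaf.stalkSpecializes hξx).hom]
  have := Misc15.isLocalization_stalkSpecializes hξx
  obtain ⟨⟨a, s⟩, has⟩ := IsLocalization.surj ((IsUnit.submonoid (X.presheaf.stalk ξ)).comap
    (X.presheaf.stalkSpecializes hξx).hom) z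
  refine ⟨Ideal.Quotient.mk _ a, Ideal.Quotient.mk _ s, fun hs ↦ ?_, ?_⟩
  · exact (IsLocalRing.residue_ne_zero_iff_isUnit _).mpr s.2
      ((toPoint_locMap h hξx s.1).symm.trans (RingHom.mem_ker.mp hs))
  · exact (map_mul _ _ _).symm.trans (congrArg (Ideal.Quotient.mk _) has)

omit [IsLocallyNoetherian X] in
theorem isUnit_locMap {a : Cyc.LocQuot x η (h.trans hξx)} (ha : a ∉ primeOf h hξx) :
    IsUnit (locMap h hξx a) :=
  IsUnit.of_map (toPoint h) _ (Ne.isUnit fun h0 ↦ ha (RingHom.mem_ker.mpr h0))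

omit [IsLocallyNoetherian X] in
theorem isLocalization_locQuot :
    letI := (locMap h hξx).toAlgebra
    IsLocalization.AtPrime (Cyc.LocQuot ξ η h) (primeOf h hξx) := by
  letI := (locMap h hξx).toAlgebra
  refine { map_units := fun y ↦ isUnit_locMap h hξx y.2, surj := fun z ↦ ?_, exists_of_eq := fun {a b} e ↦ ?_ }
  · obtain ⟨a, s, hs, e⟩ := exists_locMap_eq h hξx z
    exact ⟨⟨a, s, hs⟩, e⟩
  · exact ⟨1, by rw [locMap_injective h hξx e]⟩

end Prime

end Groth.Agent.CycLib28
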