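import Mathlib
import Groth.Agent.CycLib28.SymAt
import Groth.Agent.CycLib28.SecOrd

/-!
# The orders of the tame symbols at a point of codimension two sum to zero
-/

set_option autoImplicit false

universe u

open CategoryTheory AlgebraicGeometry IsLocalRing Groth.Agent.CycLim28 Groth.Agent.CycTameLib

namespace Groth.Agent.CycLib28

variable {X : Scheme.{u}} [IsLocallyNoetherian X] {δ : X → ℤ}

theorem primeOf_height (hδ : Cyc.IsDimFun X δ) {x ξ η : X} (h : η ⤳ ξ) (hd : δ ξ + 1 = δ η) (hξx : ξ ⤳ x) :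
    (primeOf h hξx).height = 1 := by
  letI := (locMap h hξx).toAlgebra
  haveI := isLocalization_locQuot h hξx
  have e := IsLocalization.AtPrime.ringKrullDim_eq_height (primeOf h hξx) (Cyc.LocQuot ξ η h)
  rw [dim_locQuot_one hδ h hd] at e
  exact WithBot.coe_injective e.symm

theorem symAt_locMap_eq (hδ : Cyc.IsDimFun X δ) {x ξ η : X} (h : η ⤳ ξ) (hd : δ ξ + 1 = δ η) (hξx : ξ ⤳ x)
    (hdx : δ x + 1 = δ ξ) (q : PrimeSpectrum (Cyc.LocQuot x η (h.trans hξx))) (hq : q.asIdeal = primeOf h hξx)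
    (p r : Cyc.LocQuot x η (h.trans hξx)) (hp : p ≠ 0) (hr : r ≠ 0) :
    CycAlg.ordFrac (Cyc.LocQuot x η (h.trans hξx) ⧸ q.asIdeal) q.asIdeal.ResidueField
      (CycAlg.tameSymbol (Localization.AtPrime q.asIdeal) (algebraMap _ (Localization.AtPrime q.asIdeal) p)
        (algebraMap _ (Localization.AtPrime q.asIdeal) r)) =
      Cyc.divFun δ ξ (symAt h (algebraMap (Cyc.LocQuot x η (h.trans hξx)) (X.residueField η) p)
        (algebraMap _ (X.residueField η) r)) x := by
  obtain ⟨q, hqp⟩ := q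
  subst hq
  letI := (locMap h hξx).toAlgebra
  haveI := isLocalization_locQuot h hξx
  let e := IsLocalization.algEquiv (primeOf h hξx).primeCompl (Localization.AtPrime (primeOf h hξx))
    (Cyc.LocQuot ξ η h)
  haveI : IsNoetherianRing (Localization.AtPrime (primeOf h hξx)) :=
    IsLocalization.isNoetherianRing (primeOf h hξx).primeCompl _ inferInstance
  have hdq : ringKrullDim (Localization.AtPrime (primeOf h hξx)) = 1 := by
    rw [IsLocalization.AtPrime.ringKrullDim_eq_height (primeOf h hξx), primeOf_height hδ h hd hξx]; rfl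
  have hne : ∀ {y : Cyc.LocQuot x η (h.trans hξx)}, y ≠ 0 →
      algebraMap _ (Localization.AtPrime (primeOf h hξx)) y ≠ 0 := fun {y} hy h0 ↦ by
    have := congrArg e h0
    rw [map_zero, AlgEquiv.commutes] at this
    exact hy (locMap_injective h hξx (this.trans (map_zero _).symm))
  let σ : (primeOf h hξx).ResidueField →+* X.residueField ξ :=
    (resHom h).comp (ResidueField.mapEquiv e.toRingEquiv).toRingHom
  have hts : symAt h (algebraMap (Cyc.LocQuot x η (h.trans hξx)) (X.residueField η) p)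
        (algebraMap _ (X.residueField η) r) =
      σ (CycAlg.tameSymbol (Localization.AtPrime (primeOf h hξx))
        (algebraMap _ (Localization.AtPrime (primeOf h hξx)) p)
        (algebraMap _ (Localization.AtPrime (primeOf h hξx)) r)) := by
    have h0 : ∀ {y : Cyc.LocQuot x η (h.trans hξx)}, y ≠ 0 → locMap h hξx y ≠ 0 := fun hy h0 ↦
      hy (locMap_injective h hξx (h0.trans (map_zero _).symm))
    rw [symAt, ← locMap_algebraMap h hξx p, ← locMap_algebraMap h hξx r,
      symK_algebraMap (dim_locQuot_one hδ h hd) (h0 hp) (h0 hr)]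
    change resHom h _ = resHom h (ResidueField.mapEquiv e.toRingEquiv _)
    rw [← tameSymbol_equiv e.toRingEquiv hdq (mem_nonZeroDivisors_iff_ne_zero.mpr (hne hp))
      (mem_nonZeroDivisors_iff_ne_zero.mpr (hne hr))]
    congr 2
    · exact (e.commutes p).symm
    · exact (e.commutes r).symm
  rw [hts]
  simp only [Cyc.divFun]
  rw [dif_pos ⟨hξx, hdx⟩, Cyc.ordAt]
  symm
  have hker : RingHom.ker (Cyc.specMap x η (h.trans hξx)) ≤ RingHom.ker (Cyc.specMap x ξ hξx) := fun a ha ↦ by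
    rw [← primeOf_comap h hξx, Ideal.mem_comap, Ideal.Quotient.eq_zero_iff_mem.mpr ha]
    exact zero_mem _
  let ψ : Cyc.LocQuot x η (h.trans hξx) →+* Cyc.LocQuot x ξ hξx :=
    Ideal.Quotient.lift _ (Ideal.Quotient.mk _) fun a ha ↦ Ideal.Quotient.eq_zero_iff_mem.mpr (hker ha)
  have hψq : ∀ a, a ∈ primeOf h hξx → ψ a = 0 := fun a ha ↦ by
    obtain ⟨a, rfl⟩ := Ideal.Quotient.mk_surjective a
    exact Ideal.Quotient.eq_zero_iff_mem.mpr (RingHom.mem_ker.mpr ha)
  let ι : Cyc.LocQuot x η (h.trans hξx) ⧸ primeOf h hξx ≃+* Cyc.LocQuot x ξ hξx :=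
    RingEquiv.ofBijective (Ideal.Quotient.lift _ ψ hψq) ⟨by
      rw [injective_iff_map_eq_zero]
      intro a ha
      obtain ⟨a, rfl⟩ := Ideal.Quotient.mk_surjective a
      obtain ⟨a, rfl⟩ := Ideal.Quotient.mk_surjective a
      have ha' : Ideal.Quotient.mk (RingHom.ker (Cyc.specMap x ξ hξx)) a = 0 := ha
      exact Ideal.Quotient.eq_zero_iff_mem.mpr (RingHom.mem_ker.mpr
        ((toPoint_locMap h hξx a).trans (RingHom.mem_ker.mp (Ideal.Quotient.eq_zero_iff_mem.mp ha')))), fun z ↦ by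
      obtain ⟨a, rfl⟩ := Ideal.Quotient.mk_surjective z
      exact ⟨Ideal.Quotient.mk _ (Ideal.Quotient.mk _ a), rfl⟩⟩
  refine ordFrac_equiv ι σ (fun z ↦ ?_) ?_ _
  · obtain ⟨z, rfl⟩ := Ideal.Quotient.mk_surjective z
    obtain ⟨z, rfl⟩ := Ideal.Quotient.mk_surjective z
    change toPoint h (e (algebraMap (Cyc.LocQuot x η (h.trans hξx)) (Localization.AtPrime (primeOf h hξx))
      (Ideal.Quotient.mk _ z))) = Cyc.specMap x ξ hξx z
    rw [AlgEquiv.commutes]
    exact toPoint_locMap h hξx z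
  · rw [ringKrullDim_eq_of_ringEquiv ι, dim_locQuot_one hδ hξx hdx]

/-- the term of ξ in the sum at x -/
noncomputable def keyTerm (δ : X → ℤ) {η : X} (a b : X.residueField η) (x ξ : X) : ℤ :=
  open Classical in if hh : η ⤳ ξ ∧ δ ξ + 1 = δ η then Cyc.divFun δ ξ (symAt hh.1 a b) x else 0

theorem keyTerm_support_sum (hδ : Cyc.IsDimFun X δ) {x η : X} (hx : η ⤳ x) (hd : δ x + 2 = δ η)
    (p r : Cyc.LocQuot x η hx) (hp : p ≠ 0) (hr : r ≠ 0) :
    (Function.support (keyTerm δ (algebraMap _ (X.residueField η) p) (algebraMap _ (X.residueField η) r) x)).Finite ∧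
      ∑ᶠ ξ, keyTerm δ (algebraMap _ (X.residueField η) p) (algebraMap _ (X.residueField η) r) x ξ = 0 := by
  classical
  set a := algebraMap (Cyc.LocQuot x η hx) (X.residueField η) p
  set b := algebraMap (Cyc.LocQuot x η hx) (X.residueField η) r
  have hA : ringKrullDim (Cyc.LocQuot x η hx) = 2 := by
    rw [dim_locQuot hδ hx, show (δ η - δ x).toNat = 2 by omega]
    rfl
  let toX : PrimeSpectrum (Cyc.LocQuot x η hx) → X := fun q ↦
    X.fromSpecStalk x ⟨q.asIdeal.comap (Ideal.Quotient.mk _), Ideal.IsPrime.comap _⟩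
  let S : Set X := {ξ | η ⤳ ξ ∧ δ ξ + 1 = δ η ∧ ξ ⤳ x ∧ δ x + 1 = δ ξ}
  let H : Set (PrimeSpectrum (Cyc.LocQuot x η hx)) := {q | q.asIdeal.height = 1}
  have hback : ∀ (ξ : X) (h : η ⤳ ξ) (hξx : ξ ⤳ x) (q : PrimeSpectrum (Cyc.LocQuot x η hx)),
      q.asIdeal = primeOf h hξx → toX q = ξ := fun ξ h hξx q hq ↦ by
    obtain ⟨P, rfl⟩ := exists_fromSpecStalk_eq hξx
    refine congrArg (X.fromSpecStalk x) (PrimeSpectrum.ext ?_)
    change q.asIdeal.comap _ = _
    rw [hq, primeOf_comap, ker_specMap P]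
  have hfwd : ∀ q ∈ H, ∃ (h : η ⤳ toX q) (hξx : toX q ⤳ x),
      δ (toX q) + 1 = δ η ∧ δ x + 1 = δ (toX q) ∧ q.asIdeal = primeOf h hξx := fun q hq ↦ by
    have hξx : toX q ⤳ x := fromSpecStalk_specializes x _
    obtain ⟨P₀, hP₀⟩ := exists_fromSpecStalk_eq hx
    have hker : RingHom.ker (Cyc.specMap x η hx) = P₀.asIdeal := by
      subst hP₀
      exact ker_specMap P₀ hx
    have hle : P₀.asIdeal ≤ q.asIdeal.comap (Ideal.Quotient.mk _) := fun c hc ↦ by
      rw [Ideal.mem_comap, Ideal.Quotient.eq_zero_iff_mem.mpr (hker.symm ▸ hc)]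
      exact zero_mem _
    have h : η ⤳ toX q := hP₀ ▸ (specializes_iff_le x P₀ _).mpr hle
    have heq : q.asIdeal = primeOf h hξx := by
      apply Ideal.comap_injective_of_surjective _ Ideal.Quotient.mk_surjective
      rw [primeOf_comap]
      exact (ker_specMap _ hξx).symm
    have hne1 : toX q ≠ η := fun e ↦ by
      have hbot : q.asIdeal = ⊥ := by
        have e' : (⟨q.asIdeal.comap (Ideal.Quotient.mk _), Ideal.IsPrime.comap _⟩ :
            PrimeSpectrum (X.presheaf.stalk x)) = P₀ := fromSpecStalk_injective x (e.trans hP₀.symm)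
        have e'' : q.asIdeal.comap (Ideal.Quotient.mk _) = P₀.asIdeal := congrArg PrimeSpectrum.asIdeal e'
        rw [← Ideal.map_comap_of_surjective _ Ideal.Quotient.mk_surjective q.asIdeal, e'', ← hker,
          Ideal.map_quotient_self]
      have hq' : q.asIdeal.height = 1 := hq
      rw [hbot, Ideal.height_bot] at hq'
      exact zero_ne_one hq'
    have hne2 : toX q ≠ x := fun e ↦ by
      have hmax : q.asIdeal = maximalIdeal (Cyc.LocQuot x η hx) := by
        have e' := fromSpecStalk_injective x (e.trans (Scheme.fromSpecStalk_closedPoint (X := X) (x := x)).symm)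
        have e'' : q.asIdeal.comap (Ideal.Quotient.mk _) = maximalIdeal (X.presheaf.stalk x) :=
          congrArg PrimeSpectrum.asIdeal e'
        refine le_antisymm (IsLocalRing.le_maximalIdeal q.2.ne_top) fun c hc ↦ ?_
        obtain ⟨y, rfl⟩ := Ideal.Quotient.mk_surjective c
        exact (Ideal.mem_comap.mp (e''.ge ((IsLocalRing.mem_maximalIdeal y).mpr fun hu ↦
          (IsLocalRing.mem_maximalIdeal _).mp hc (hu.map _))))
      have hq' : q.asIdeal.height = 1 := hq
      rw [hmax, height_maximalIdeal_two hA] at hq'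
      exact absurd hq' (by decide)
    have h1 := (hδ η (toX q) h hne1.symm).1
    have h2 := (hδ (toX q) x hξx hne2).1
    exact ⟨h, hξx, by omega, by omega, heq⟩
  have hbij : Set.BijOn toX H S := by
    refine ⟨fun q hq ↦ ?_, fun q hq q' hq' e ↦ ?_, fun ξ ⟨h, hd1, hξx, hd2⟩ ↦ ?_⟩
    · obtain ⟨h, hξx, h1, h2, -⟩ := hfwd q hq
      exact ⟨h, h1, hξx, h2⟩
    · have e' := congrArg PrimeSpectrum.asIdeal (fromSpecStalk_injective x e)
      exact PrimeSpectrum.ext (Ideal.comap_injective_of_surjective _ Ideal.Quotient.mk_surjective e')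
    · exact ⟨⟨primeOf h hξx, inferInstance⟩, primeOf_height hδ h hd1 hξx, hback ξ h hξx _ rfl⟩
  let G : PrimeSpectrum (Cyc.LocQuot x η hx) → ℤ := fun q ↦ CycAlg.ordFrac ((Cyc.LocQuot x η hx) ⧸ q.asIdeal) q.asIdeal.ResidueField
      (CycAlg.tameSymbol (Localization.AtPrime q.asIdeal) (algebraMap (Cyc.LocQuot x η hx) (Localization.AtPrime q.asIdeal) p)
        (algebraMap (Cyc.LocQuot x η hx) (Localization.AtPrime q.asIdeal) r))
  have hG : ∀ q ∈ H, G q = keyTerm δ a b x (toX q) := fun q hq ↦ by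
    obtain ⟨h, hξx, h1, h2, heq⟩ := hfwd q hq
    rw [keyTerm, dif_pos ⟨h, h1⟩]
    exact symAt_locMap_eq hδ h h1 hξx h2 q heq p r hp hr
  have hsupp : Function.support (keyTerm δ a b x) ⊆ S := fun ξ hξ ↦ by
    rw [Function.mem_support, keyTerm] at hξ
    split_ifs at hξ with hh
    · rw [Cyc.divFun] at hξ
      split_ifs at hξ with hh'
      · exact ⟨hh.1, hh.2, hh'.1, hh'.2⟩
      · exact (hξ rfl).elim
    · exact (hξ rfl).elim
  have hpA := mem_nonZeroDivisors_iff_ne_zero.mpr hp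
  have hrA := mem_nonZeroDivisors_iff_ne_zero.mpr hr
  refine ⟨((finite_height_one hA (mul_mem hpA hrA)).image toX).subset fun ξ hξ ↦ ?_, ?_⟩
  · obtain ⟨q, hq, rfl⟩ := hbij.surjOn (hsupp hξ)
    refine ⟨q, ⟨?_, fun e ↦ ?_⟩, rfl⟩
    · by_contra hpr
      apply Function.mem_support.mp hξ
      rw [← hG q hq]
      haveI : IsNoetherianRing (Localization.AtPrime q.asIdeal) :=
        IsLocalization.isNoetherianRing q.asIdeal.primeCompl _ inferInstance
      haveI : Ring.KrullDimLE 1 (Localization.AtPrime q.asIdeal) :=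
        Ring.krullDimLE_iff.mpr (dim_localization_eq_one hq).le
      have hu := fun (y : (Cyc.LocQuot x η hx)) (hy : y ∉ q.asIdeal) ↦
        IsLocalization.map_units (Localization.AtPrime q.asIdeal) (⟨y, hy⟩ : q.asIdeal.primeCompl)
      obtain ⟨u, hu'⟩ := hu p fun hmem ↦ hpr (Ideal.mul_mem_right _ _ hmem)
      obtain ⟨v, hv'⟩ := hu r fun hmem ↦ hpr (Ideal.mul_mem_left _ _ hmem)
      have h3 := (laws (dim_localization_eq_one hq)).2.2.1 u _ (algebraMap_mem_nzd q.asIdeal hrA)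
      rw [hu'] at h3
      simp only [G]
      rw [h3, ← hv', Ideal.span_singleton_eq_top.mpr v.isUnit, Module.length_eq_zero]
      exact CycTameLib.ordFrac_one (dim_quotient_eq_one hA hq).le
    · subst e
      have hq' : (closedPoint (Cyc.LocQuot x η hx)).asIdeal.height = 1 := hq
      rw [show (closedPoint (Cyc.LocQuot x η hx)).asIdeal = maximalIdeal (Cyc.LocQuot x η hx) from rfl, height_maximalIdeal_two hA] at hq'
      exact absurd hq' (by decide)
  · rw [← Set.indicator_eq_self.mpr hsupp, ← finsum_mem_def, ← finsum_mem_eq_of_bijOn toX hbij hG]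
    exact key_lemma hA p r hpA hrA

theorem sum_keyTerm (hδ : Cyc.IsDimFun X δ) {x η : X} (hx : η ⤳ x) (hd : δ x + 2 = δ η)
    {a b : X.residueField η} (ha : a ≠ 0) (hb : b ≠ 0) :
    ∑ᶠ ξ, keyTerm δ a b x ξ = 0 := by
  classical
  have hinj := IsFractionRing.injective (Cyc.LocQuot x η hx) (X.residueField η)
  obtain ⟨p, q, hp, hq, hpq⟩ := exists_repr (R := Cyc.LocQuot x η hx) ha
  obtain ⟨r, w, hr, hw, hrw⟩ := exists_repr (R := Cyc.LocQuot x η hx) hb
  obtain ⟨f1, z1⟩ := keyTerm_support_sum hδ hx hd p r hp hr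
  obtain ⟨f2, z2⟩ := keyTerm_support_sum hδ hx hd q w hq hw
  obtain ⟨f3, z3⟩ := keyTerm_support_sum hδ hx hd q r hq hr
  obtain ⟨f4, z4⟩ := keyTerm_support_sum hδ hx hd p w hp hw
  set α := algebraMap (Cyc.LocQuot x η hx) (X.residueField η)
  have h0 : ∀ {y : Cyc.LocQuot x η hx}, y ≠ 0 → α y ≠ 0 := fun hy h0 ↦ hy (hinj (h0.trans (map_zero _).symm))
  have key : ∀ ξ, keyTerm δ a b x ξ = keyTerm δ (α p) (α r) x ξ + keyTerm δ (α q) (α w) x ξ -
      (keyTerm δ (α q) (α r) x ξ + keyTerm δ (α p) (α w) x ξ) := fun ξ ↦ by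
    by_cases hh : η ⤳ ξ ∧ δ ξ + 1 = δ η
    · simp only [keyTerm, dif_pos hh, Cyc.divFun]
      split_ifs with hh'
      · have e : symAt hh.1 (α p) (α r) * symAt hh.1 (α q) (α w) =
            symAt hh.1 a b * (symAt hh.1 (α q) (α r) * symAt hh.1 (α p) (α w)) := by
          rw [← hpq, ← hrw, symAt_mul_left hδ hh.1 hh.2 ha (h0 hq) (mul_ne_zero hb (h0 hw)),
            symAt_mul_right hδ hh.1 hh.2 ha hb (h0 hw), symAt_mul_right hδ hh.1 hh.2 (h0 hq) hb (h0 hw),
            symAt_mul_left hδ hh.1 hh.2 ha (h0 hq) (h0 hw)]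
          ring
        have n := fun {c c' : X.residueField η} (hc : c ≠ 0) (hc' : c' ≠ 0) ↦
          symAt_ne_zero hδ hh.1 hh.2 hc hc'
        have e' := congrArg (Cyc.ordAt x ξ hh'.1) e
        rw [ordAt_mul hδ hh'.1 hh'.2 (n (h0 hp) (h0 hr)) (n (h0 hq) (h0 hw)),
          ordAt_mul hδ hh'.1 hh'.2 (n ha hb) (mul_ne_zero (n (h0 hq) (h0 hr)) (n (h0 hp) (h0 hw))),
          ordAt_mul hδ hh'.1 hh'.2 (n (h0 hq) (h0 hr)) (n (h0 hp) (h0 hw))] at e'
        omega
      · simp
    · simp [keyTerm, dif_neg hh]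
  rw [finsum_congr key, finsum_sub_distrib ((f1.union f2).subset (Function.support_add _ _))
    ((f3.union f4).subset (Function.support_add _ _)), finsum_add_distrib f1 f2, finsum_add_distrib f3 f4,
    z1, z2, z3, z4]
  rfl

end Groth.Agent.CycLib28
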