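import Mathlib
import Groth.Agent.CycLib28.Coef
import Groth.Agent.CycLib28.SymKey

/-!
# The rational functions relating the two orders of intersecting with two first Chern classes
-/

set_option autoImplicit false

universe u

open CategoryTheory AlgebraicGeometry IsLocalRing Groth.Agent.CycLim28
open Groth.Agent.Coherent Groth.Agent.PicLib

namespace Groth.Agent.CycLib28

variable {X : Scheme.{u}}

/-- the correcting function in given generators -/
noncomputable def symG {L N : X.Modules} {η ξ : X} (h : η ⤳ ξ) (g : L.presheaf.stalk ξ) (g' : N.presheaf.stalk ξ)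
    (s : Cyc.secFibre L η) (t : Cyc.secFibre N η) (u : Cyc.secFibre N ξ) (v : Cyc.secFibre L ξ) :
    X.residueField ξ :=
  symAt h (coef h g s) (coef h g' t) * coef (specializes_refl ξ) g' u ^ Cyc.ordAt ξ η h (coef h g s) /
    coef (specializes_refl ξ) g v ^ Cyc.ordAt ξ η h (coef h g' t)

/-- the correcting function -/
noncomputable def symF {L N : X.Modules} (hL : PicF.IsInvertible L) (hN : PicF.IsInvertible N) {η ξ : X}
    (h : η ⤳ ξ) (s : Cyc.secFibre L η) (t : Cyc.secFibre N η) (u : Cyc.secFibre N ξ) (v : Cyc.secFibre L ξ) :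
    X.residueField ξ :=
  symG h (exists_gen_span hL ξ).choose (exists_gen_span hN ξ).choose s t u v

variable [IsLocallyNoetherian X] {δ : X → ℤ} (hδ : Cyc.IsDimFun X δ) {L N : X.Modules} (hL : PicF.IsInvertible L)
  (hN : PicF.IsInvertible N) {η ξ : X} (h : η ⤳ ξ) (hd : δ ξ + 1 = δ η) {s : Cyc.secFibre L η}
  {t : Cyc.secFibre N η} (hs : s ≠ 0) (ht : t ≠ 0) {u : Cyc.secFibre N ξ} {v : Cyc.secFibre L ξ}
  (hu : u ≠ 0) (hv : v ≠ 0)

theorem specMap_refl (c : X.presheaf.stalk ξ) : Cyc.specMap ξ ξ (specializes_refl ξ) c = (X.residue ξ).hom c := by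
  change (X.residue ξ).hom ((X.presheaf.stalkSpecializes (specializes_refl ξ)).hom c) = _
  rw [TopCat.Presheaf.stalkSpecializes_refl]
  rfl

include hδ hL hN hd hs ht hu hv in
theorem symG_indep {g₁ g₂ : L.presheaf.stalk ξ} (hg₁ : Submodule.span (X.presheaf.stalk ξ) {g₁} = ⊤)
    (hg₂ : Submodule.span (X.presheaf.stalk ξ) {g₂} = ⊤)
    {g₁' g₂' : N.presheaf.stalk ξ} (hg₁' : Submodule.span (X.presheaf.stalk ξ) {g₁'} = ⊤)
    (hg₂' : Submodule.span (X.presheaf.stalk ξ) {g₂'} = ⊤) :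
    symG h g₁ g₁' s t u v = symG h g₂ g₂' s t u v := by
  obtain ⟨c, hc, rfl⟩ := exists_unit_change hL hg₁ hg₂
  obtain ⟨c', hc', rfl⟩ := exists_unit_change hN hg₁' hg₂'
  simp only [symG]
  have ha := coef_ne_zero hL h hg₂ hs
  have hb := coef_ne_zero hN h hg₂' ht
  have hU := coef_ne_zero hN (specializes_refl ξ) hg₂' hu
  have hV := coef_ne_zero hL (specializes_refl ξ) hg₂ hv
  rw [coef_change hL h hg₁ c hg₂ s, coef_change hN h hg₁' c' hg₂' t,
    coef_change hL (specializes_refl ξ) hg₁ c hg₂ v, coef_change hN (specializes_refl ξ) hg₁' c' hg₂' u,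
    specMap_refl, specMap_refl]
  set a := coef h (c • g₁) s
  set b := coef h (c' • g₁') t
  set U := coef (specializes_refl ξ) (c' • g₁') u
  set V := coef (specializes_refl ξ) (c • g₁) v
  have hcK := (hc.map (Cyc.specMap ξ η h)).ne_zero
  have hc'K := (hc'.map (Cyc.specMap ξ η h)).ne_zero
  have hr := (IsLocalRing.residue_ne_zero_iff_isUnit c).mpr hc
  have hr' := (IsLocalRing.residue_ne_zero_iff_isUnit c').mpr hc'
  have h0 : symAt h (Cyc.specMap ξ η h c) (Cyc.specMap ξ η h c') = 1 := by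
    rw [symAt_unit_left hδ h hd hc hc'K, ordAt_unit hδ h hd c' hc', zpow_zero]
  rw [ordAt_mul hδ h hd ha hcK, ordAt_unit hδ h hd c hc, add_zero,
    ordAt_mul hδ h hd hb hc'K, ordAt_unit hδ h hd c' hc', add_zero,
    symAt_mul_left hδ h hd ha hcK (mul_ne_zero hb hc'K), symAt_mul_right hδ h hd ha hb hc'K,
    symAt_mul_right hδ h hd hcK hb hc'K, symAt_unit_left hδ h hd hc hb, symAt_unit_right hδ h hd hc' ha, h0,
    mul_zpow, mul_zpow, zpow_neg]
  have e1 : ((X.residue ξ).hom c) ^ Cyc.ordAt ξ η h b ≠ 0 := zpow_ne_zero _ hr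
  have e2 : ((X.residue ξ).hom c') ^ Cyc.ordAt ξ η h a ≠ 0 := zpow_ne_zero _ hr'
  have e3 : V ^ Cyc.ordAt ξ η h b ≠ 0 := zpow_ne_zero _ hV
  field_simp

include hδ hL hN hd hs ht hu hv in
theorem symF_eq {g : L.presheaf.stalk ξ} (hg : Submodule.span (X.presheaf.stalk ξ) {g} = ⊤)
    {g' : N.presheaf.stalk ξ} (hg' : Submodule.span (X.presheaf.stalk ξ) {g'} = ⊤) :
    symF hL hN h s t u v = symG h g g' s t u v :=
  symG_indep hδ hL hN h hd hs ht hu hv (exists_gen_span hL ξ).choose_spec hg (exists_gen_span hN ξ).choose_spec hg'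

include hδ hd hs ht hu hv in
theorem symF_ne_zero : symF hL hN h s t u v ≠ 0 :=
  div_ne_zero (mul_ne_zero (symAt_ne_zero hδ h hd (coef_ne_zero hL h (exists_gen_span hL ξ).choose_spec hs)
    (coef_ne_zero hN h (exists_gen_span hN ξ).choose_spec ht))
    (zpow_ne_zero _ (coef_ne_zero hN _ (exists_gen_span hN ξ).choose_spec hu)))
    (zpow_ne_zero _ (coef_ne_zero hL _ (exists_gen_span hL ξ).choose_spec hv))

include hδ hL hN hd hs ht hu hv in
theorem symF_eq_one_of_units {g : L.presheaf.stalk ξ} (hg : Submodule.span (X.presheaf.stalk ξ) {g} = ⊤)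
    {g' : N.presheaf.stalk ξ} (hg' : Submodule.span (X.presheaf.stalk ξ) {g'} = ⊤) {c c' : X.presheaf.stalk ξ}
    (hc : IsUnit c) (hc' : IsUnit c') (ha : coef h g s = Cyc.specMap ξ η h c)
    (hb : coef h g' t = Cyc.specMap ξ η h c') : symF hL hN h s t u v = 1 := by
  rw [symF_eq hδ hL hN h hd hs ht hu hv hg hg', symG, ha, hb,
    symAt_unit_left hδ h hd hc (hc'.map (Cyc.specMap ξ η h)).ne_zero, ordAt_unit hδ h hd c hc,
    ordAt_unit hδ h hd c' hc']
  simp

include hδ hd hs ht hu hv in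
/-- a section which generates at ξ and is used as the rational section there gives nothing -/
theorem symF_eq_one_of_gen {g : L.presheaf.stalk ξ} (hg : Submodule.span (X.presheaf.stalk ξ) {g} = ⊤)
    (hsg : s = Submodule.Quotient.mk (L.presheaf.stalkSpecializes h g)) (hvg : v = Submodule.Quotient.mk g) :
    symF hL hN h s t u v = 1 := by
  obtain ⟨g', hg'⟩ := exists_gen_span hN ξ
  have ha : coef h g s = 1 := by
    rw [coef_eq hL h hg (φ := 1) (by rw [one_smul]; exact hsg), map_one]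
  have hV : coef (specializes_refl ξ) g v = 1 := by
    rw [coef_eq hL _ hg (φ := 1) (by rw [one_smul, TopCat.Presheaf.stalkSpecializes_refl]; exact hvg), map_one]
  rw [symF_eq hδ hL hN h hd hs ht hu hv hg hg', symG, ha, hV, ← map_one (Cyc.specMap ξ η h),
    symAt_unit_left hδ h hd isUnit_one (coef_ne_zero hN h hg' ht), ordAt_unit hδ h hd 1 isUnit_one]
  simp

include hδ hd hs ht hu hv in
theorem ordAt_symF {x : X} (hξx : ξ ⤳ x) (hdx : δ x + 1 = δ ξ) {g : L.presheaf.stalk x}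
    (hg : Submodule.span (X.presheaf.stalk x) {g} = ⊤) {g' : N.presheaf.stalk x}
    (hg' : Submodule.span (X.presheaf.stalk x) {g'} = ⊤) :
    Cyc.ordAt x ξ hξx (symF hL hN h s t u v) =
      Cyc.ordAt x ξ hξx (symAt h (coef (h.trans hξx) g s) (coef (h.trans hξx) g' t)) +
        Cyc.secOrdAt L η ξ h s * Cyc.secOrdAt N ξ x hξx u - Cyc.secOrdAt N η ξ h t * Cyc.secOrdAt L ξ x hξx v := by
  have h₁ := gen_specializes hL hξx hg
  have h₂ := gen_specializes hN hξx hg'
  rw [secOrdAt_eq_coef hL hδ h hd h₁ hs, secOrdAt_eq_coef hN hδ h hd h₂ ht, secOrdAt_eq_coef hL hδ hξx hdx hg hv,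
    secOrdAt_eq_coef hN hδ hξx hdx hg' hu, symF_eq hδ hL hN h hd hs ht hu hv h₁ h₂, symG,
    coef_trans hL h hξx hg, coef_trans hN h hξx hg', coef_trans hL (specializes_refl ξ) hξx hg,
    coef_trans hN (specializes_refl ξ) hξx hg']
  set a := coef (h.trans hξx) g s
  set b := coef (h.trans hξx) g' t
  have hU : coef hξx g' u ≠ 0 := coef_ne_zero hN hξx hg' hu
  have hV : coef hξx g v ≠ 0 := coef_ne_zero hL hξx hg hv
  have hab : symAt h a b ≠ 0 := symAt_ne_zero hδ h hd (coef_ne_zero hL _ hg hs) (coef_ne_zero hN _ hg' ht)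
  rw [div_eq_mul_inv, ← zpow_neg, ordAt_mul hδ hξx hdx (mul_ne_zero hab (zpow_ne_zero _ hU)) (zpow_ne_zero _ hV),
    ordAt_mul hδ hξx hdx hab (zpow_ne_zero _ hU), ordAt_zpow hδ hξx hdx hU, ordAt_zpow hδ hξx hdx hV]
  ring

end Groth.Agent.CycLib28
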