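import Mathlib
import Groth.Agent.CycLib28.SymF

/-!
# Intersecting with two first Chern classes in either order
-/

set_option autoImplicit false

universe u

open CategoryTheory AlgebraicGeometry IsLocalRing Groth.Agent.CycLim28 TopologicalSpace
open Groth.Agent.Coherent Groth.Agent.PicLib

namespace Groth.Agent.CycLib28

variable {X : Scheme.{u}} [IsLocallyNoetherian X] {δ : X → ℤ}

theorem codim_one_finite (hδ : Cyc.IsDimFun X δ) {U : X.Opens} (hU : IsAffineOpen U) (η : X) (c : Γ(X, U))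
    (hη : η ∈ X.basicOpen c) : {ξ | ξ ∈ U ∧ η ⤳ ξ ∧ δ ξ + 1 = δ η ∧ ξ ∉ X.basicOpen c}.Finite := by
  have : IsNoetherianRing Γ(X, U) := IsLocallyNoetherian.component_noetherian ⟨U, hU⟩
  have hns : NoetherianSpace (U : Set X) := noetherianSpace_of_isAffineOpen U hU
  have hqs : QuasiSober (U : Set X) := (U.2.isOpenEmbedding_subtypeVal (X := X)).quasiSober
  let T : Set (U : Set X) := {x | η ⤳ x.1 ∧ x.1 ∉ X.basicOpen c}
  have hT : IsClosed T :=
    ((isClosed_closure (s := ({η} : Set X))).preimage continuous_subtype_val |>.inter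
      ((X.basicOpen c).2.isClosed_compl.preimage continuous_subtype_val)) |> fun h ↦ by
        convert h using 1
        ext x
        simp [T, specializes_iff_mem_closure]
  refine ((finite_maximal_of_isClosed T hT).image Subtype.val).subset fun x ⟨hxU, h1, h2, h3⟩ ↦ ?_
  refine ⟨⟨x, hxU⟩, ⟨⟨h1, h3⟩, fun y hy hyx ↦ Subtype.ext ?_⟩, rfl⟩
  by_contra hne
  have hyx' : y.1 ⤳ x := hyx.map continuous_subtype_val
  have a1 := (hδ y.1 x hyx' hne).1
  have hyη : y.1 ≠ η := fun e ↦ hy.2 (e ▸ hη)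
  have a2 := (hδ η y.1 hy.1 hyη.symm).1
  omega

variable {L N : X.Modules}

theorem exists_common_affine (hL : PicF.IsInvertible L) (hN : PicF.IsInvertible N) (x : X) :
    ∃ (V : X.Opens) (e : Γ(L, V)) (e' : Γ(N, V)), IsAffineOpen V ∧ x ∈ V ∧ IsGen L V e ∧ IsGen N V e' := by
  obtain ⟨U, hxU, e, he⟩ := PicLib.exists_isGen hL x
  obtain ⟨U', hxU', e', he'⟩ := PicLib.exists_isGen hN x
  obtain ⟨_, ⟨V, hV, rfl⟩, hxV, hVU⟩ :=
    X.isBasis_affineOpens.exists_subset_of_mem_open (show x ∈ U ⊓ U' from ⟨hxU, hxU'⟩) (U ⊓ U').2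
  exact ⟨V, Coherent.resM L (le_trans hVU inf_le_left : V ≤ U) e,
    Coherent.resM N (le_trans hVU inf_le_right : V ≤ U') e', hV, hxV, he.restrict _, he'.restrict _⟩

omit [IsLocallyNoetherian X] in
theorem span_germ_eq_top {V : X.Opens} {e : Γ(L, V)} (he : IsGen L V e) {ξ : X} (hξ : ξ ∈ V) :
    Submodule.span (X.presheaf.stalk ξ) {L.presheaf.germ V ξ hξ e} = ⊤ :=
  eq_top_iff.mpr fun m _ ↦ by
    obtain ⟨r, rfl⟩ := (VarietyLib.gen_germ_bijective he hξ).2 m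
    exact Submodule.smul_mem _ _ (Submodule.subset_span rfl)

omit [IsLocallyNoetherian X] in
theorem coef_germ (hL : PicF.IsInvertible L) {V : X.Opens} (hV : IsAffineOpen V) {e : Γ(L, V)} (he : IsGen L V e)
    {η : X} (hη : η ∈ V) {s : Cyc.secFibre L η} (hs : s ≠ 0) :
    ∃ p q : Γ(X, V), η ∈ X.basicOpen (p * q) ∧ ∀ (ξ : X) (h : η ⤳ ξ) (hξ : ξ ∈ V), ξ ∈ X.basicOpen (p * q) →
      ∃ c : X.presheaf.stalk ξ, IsUnit c ∧ coef h (L.presheaf.germ V ξ hξ e) s = Cyc.specMap ξ η h c := by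
  obtain ⟨φ, hφ⟩ := exists_rep he hη s
  have hne : (X.residue η).hom φ ≠ 0 := fun h0 ↦ hs (hφ.trans ((mk_eq_zero_iff_gen he hη φ).mpr h0))
  obtain ⟨p, q, hq, hpq⟩ := exists_ratio hV hη ((X.residue η).hom φ)
  have hqne : X.evaluation V η hη q ≠ 0 := by
    rw [Scheme.evaluation_ne_zero_iff_mem_basicOpen]; exact hq
  have hp : η ∈ X.basicOpen p := by
    rw [← Scheme.evaluation_ne_zero_iff_mem_basicOpen _ _ hη, ← hpq]
    exact mul_ne_zero hne hqne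
  refine ⟨p, q, by rw [Scheme.basicOpen_mul]; exact ⟨hp, hq⟩, fun ξ h hξ hξc ↦ ?_⟩
  rw [Scheme.basicOpen_mul] at hξc
  have hup : IsUnit (X.presheaf.germ V ξ hξ p) := (Scheme.mem_basicOpen _ _ _ hξ).1 hξc.1
  have huq : IsUnit (X.presheaf.germ V ξ hξ q) := (Scheme.mem_basicOpen _ _ _ hξ).1 hξc.2
  refine ⟨X.presheaf.germ V ξ hξ p * ↑huq.unit⁻¹, hup.mul (Units.isUnit _), ?_⟩
  rw [coef_eq hL h (span_germ_eq_top he hξ) (φ := φ)
    (by rw [TopCat.Presheaf.germ_stalkSpecializes_apply]; exact hφ)]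
  have e1 := congrArg (Cyc.specMap ξ η h) (show X.presheaf.germ V ξ hξ p * ↑huq.unit⁻¹ * X.presheaf.germ V ξ hξ q =
    X.presheaf.germ V ξ hξ p by rw [mul_assoc, IsUnit.val_inv_mul, mul_one])
  rw [map_mul (Cyc.specMap ξ η h) _ (X.presheaf.germ V ξ hξ q), specMap_germ h hξ, specMap_germ h hξ, ← hpq] at e1
  exact (mul_right_cancel₀ hqne e1).symm

/-- the correction at one point of codimension one, as a function -/
noncomputable def symTerm (δ : X → ℤ) (hL : PicF.IsInvertible L) (hN : PicF.IsInvertible N) {η : X}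
    (s : Cyc.secFibre L η) (t : Cyc.secFibre N η) (u : (ξ : X) → Cyc.secFibre N ξ) (v : (ξ : X) → Cyc.secFibre L ξ)
    (ξ : X) : X.residueField ξ :=
  open Classical in if hh : η ⤳ ξ ∧ δ ξ + 1 = δ η then symF hL hN hh.1 s t (u ξ) (v ξ) else 1

variable (hδ : Cyc.IsDimFun X δ) (hL : PicF.IsInvertible L) (hN : PicF.IsInvertible N) {η : X}
  {s : Cyc.secFibre L η} {t : Cyc.secFibre N η} (hs : s ≠ 0) (ht : t ≠ 0)
  {u : (ξ : X) → Cyc.secFibre N ξ} {v : (ξ : X) → Cyc.secFibre L ξ} (hu : ∀ ξ, u ξ ≠ 0) (hv : ∀ ξ, v ξ ≠ 0)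

include hδ hs ht hu hv

theorem symTerm_ne_zero (ξ : X) : symTerm δ hL hN s t u v ξ ≠ 0 := by
  rw [symTerm]
  split_ifs with hh
  · exact symF_ne_zero hδ hL hN hh.1 hh.2 hs ht (hu ξ) (hv ξ)
  · exact one_ne_zero

theorem symTerm_finite {V : X.Opens} (hV : IsAffineOpen V) {e : Γ(L, V)} (he : IsGen L V e) {e' : Γ(N, V)}
    (he' : IsGen N V e') : {ξ | ξ ∈ V ∧ symTerm δ hL hN s t u v ξ ≠ 1}.Finite := by
  by_cases hη : η ∈ V
  · obtain ⟨p, q, hpq, hs'⟩ := coef_germ hL hV he hη hs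
    obtain ⟨p', q', hpq', ht'⟩ := coef_germ hN hV he' hη ht
    refine (codim_one_finite hδ hV η (p * q * (p' * q')) (by rw [Scheme.basicOpen_mul]; exact ⟨hpq, hpq'⟩)).subset
      fun ξ ⟨hξ, hne⟩ ↦ ?_
    rw [symTerm] at hne
    split_ifs at hne with hh
    · refine ⟨hξ, hh.1, hh.2, fun hmem ↦ hne ?_⟩
      rw [Scheme.basicOpen_mul] at hmem
      obtain ⟨c, hc, hac⟩ := hs' ξ hh.1 hξ hmem.1
      obtain ⟨c', hc', hbc⟩ := ht' ξ hh.1 hξ hmem.2
      exact symF_eq_one_of_units hδ hL hN hh.1 hh.2 hs ht (hu ξ) (hv ξ) (span_germ_eq_top he hξ)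
        (span_germ_eq_top he' hξ) hc hc' hac hbc
    · exact (hne rfl).elim
  · refine Set.finite_empty.subset fun ξ ⟨hξ, hne⟩ ↦ hne ?_
    rw [symTerm, dif_neg fun hh ↦ hη (hh.1.mem_open V.2 hξ)]

theorem divFun_symTerm_support (x : X) :
    (Function.support fun ξ ↦ Cyc.divFun δ ξ (symTerm δ hL hN s t u v ξ) x).Finite := by
  obtain ⟨V, e, e', hV, hxV, he, he'⟩ := exists_common_affine hL hN x
  refine (symTerm_finite hδ hL hN hs ht hu hv hV he he').subset fun ξ hξ ↦ ⟨?_, fun h1 ↦ hξ ?_⟩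
  · by_contra hξV
    refine hξ ?_
    simp only [Cyc.divFun]
    rw [dif_neg fun h ↦ hξV (h.1.mem_open V.2 hxV)]
  · simp only [h1, Cyc.divFun]
    split_ifs with h
    · exact ordAt_one hδ h.1 h.2
    · rfl

omit hδ hs ht hu hv in
theorem product_support (hδ : Cyc.IsDimFun X δ) {M M' : X.Modules} (hM : PicF.IsInvertible M)
    {a : Cyc.secFibre M η} (ha : a ≠ 0) (b : (ξ : X) → Cyc.secFibre M' ξ) (x : X) :
    (Function.support fun ξ ↦ Cyc.secDivFun δ M η a ξ * Cyc.secDivFun δ M' ξ (b ξ) x).Finite := by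
  obtain ⟨V, e, hV, hxV, he⟩ := exists_affine_gen hM x
  refine (secDivFun_finite hM hδ he hV le_rfl η a ha).subset fun ξ hξ ↦ ⟨?_, left_ne_zero_of_mul hξ⟩
  by_contra hξV
  exact right_ne_zero_of_mul hξ (by rw [Cyc.secDivFun, dif_neg fun h ↦ hξV (h.1.mem_open V.2 hxV)])

/-- the two orders differ by the divisors of the correcting functions -/
theorem sum_symTerm (x : X) :
    ∑ᶠ ξ, Cyc.divFun δ ξ (symTerm δ hL hN s t u v ξ) x =
      ∑ᶠ ξ, Cyc.secDivFun δ L η s ξ * Cyc.secDivFun δ N ξ (u ξ) x -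
        ∑ᶠ ξ, Cyc.secDivFun δ N η t ξ * Cyc.secDivFun δ L ξ (v ξ) x := by
  classical
  have hP := product_support hδ hL hs u x
  have hQ := product_support hδ hN ht v x
  rw [← finsum_sub_distrib hP hQ]
  by_cases hx : η ⤳ x ∧ δ x + 2 = δ η
  · obtain ⟨g, hg⟩ := exists_gen_span hL x
    obtain ⟨g', hg'⟩ := exists_gen_span hN x
    have key : ∀ ξ, Cyc.divFun δ ξ (symTerm δ hL hN s t u v ξ) x -
        (Cyc.secDivFun δ L η s ξ * Cyc.secDivFun δ N ξ (u ξ) x -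
          Cyc.secDivFun δ N η t ξ * Cyc.secDivFun δ L ξ (v ξ) x) =
        keyTerm δ (coef hx.1 g s) (coef hx.1 g' t) x ξ := fun ξ ↦ by
      by_cases hh : η ⤳ ξ ∧ δ ξ + 1 = δ η
      · simp only [keyTerm, symTerm, Cyc.secDivFun, dif_pos hh, Cyc.divFun]
        split_ifs with hh'
        · rw [ordAt_symF hδ hL hN hh.1 hh.2 hs ht (hu ξ) (hv ξ) hh'.1 hh'.2 hg hg']
          ring
        · ring
      · simp only [keyTerm, symTerm, Cyc.secDivFun, dif_neg hh, Cyc.divFun]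
        split_ifs with hh'
        · rw [ordAt_one hδ hh'.1 hh'.2]; ring
        · ring
    have hf := divFun_symTerm_support hδ hL hN hs ht hu hv x
    have hPQ : (Function.support fun ξ ↦ Cyc.secDivFun δ L η s ξ * Cyc.secDivFun δ N ξ (u ξ) x -
        Cyc.secDivFun δ N η t ξ * Cyc.secDivFun δ L ξ (v ξ) x).Finite :=
      (hP.union hQ).subset (Function.support_sub _ _)
    rw [← sub_eq_zero, ← finsum_sub_distrib hf hPQ, finsum_congr key]
    exact sum_keyTerm hδ hx.1 hx.2 (coef_ne_zero hL _ hg hs) (coef_ne_zero hN _ hg' ht)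
  · refine finsum_congr fun ξ ↦ ?_
    by_cases hh : η ⤳ ξ ∧ δ ξ + 1 = δ η
    · by_cases hh' : ξ ⤳ x ∧ δ x + 1 = δ ξ
      · exact absurd ⟨hh.1.trans hh'.1, by omega⟩ hx
      · simp only [Cyc.divFun, Cyc.secDivFun, dif_neg hh', mul_zero, sub_zero]
    · simp only [symTerm, Cyc.secDivFun, dif_neg hh, Cyc.divFun, zero_mul, sub_zero]
      split_ifs with hh'
      · exact ordAt_one hδ hh'.1 hh'.2
      · rfl

omit hδ hs ht hu hv in
/-- linearity over a locally finite family -/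
theorem finsum_swap_mul {ι : Type u} (F : ι → X → ℤ) (G : X → ℤ) (hF : ∀ i, (Function.support fun ξ ↦ F i ξ * G ξ).Finite)
    (hι : {i | ∃ ξ, F i ξ * G ξ ≠ 0}.Finite) :
    ∑ᶠ ξ, (∑ᶠ i, F i ξ) * G ξ = ∑ᶠ i, ∑ᶠ ξ, F i ξ * G ξ := by
  classical
  let S := hι.toFinset
  let P := S.biUnion fun i ↦ (hF i).toFinset
  have hmem : ∀ i ξ, F i ξ * G ξ ≠ 0 → i ∈ S ∧ ξ ∈ P := fun i ξ h ↦
    ⟨hι.mem_toFinset.mpr ⟨ξ, h⟩, Finset.mem_biUnion.mpr ⟨i, hι.mem_toFinset.mpr ⟨ξ, h⟩, (hF i).mem_toFinset.mpr h⟩⟩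
  have h1 : ∀ ξ, (∑ᶠ i, F i ξ) * G ξ = ∑ i ∈ S, F i ξ * G ξ := fun ξ ↦ by
    by_cases hG : G ξ = 0
    · simp [hG]
    · rw [← Finset.sum_mul, finsum_eq_sum_of_support_subset]
      intro i hi
      exact (hmem i ξ (mul_ne_zero hi hG)).1
  rw [finsum_congr h1, finsum_eq_sum_of_support_subset (s := P), finsum_eq_sum_of_support_subset (s := S),
    Finset.sum_comm]
  · refine Finset.sum_congr rfl fun i _ ↦ (finsum_eq_sum_of_support_subset _ fun ξ hξ ↦ (hmem i ξ hξ).2).symm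
  · intro i hi
    by_contra hiS
    exact hi (finsum_eq_zero_of_forall_eq_zero fun ξ ↦ by
      by_contra h
      exact hiS (hmem i ξ h).1)
  · intro ξ hξ
    obtain ⟨i, -, hi⟩ := Finset.exists_ne_zero_of_sum_ne_zero hξ
    exact (hmem i ξ hi).2

omit hs ht hu hv in
theorem c1Cap_family {ι : Type u} (η : ι → X) (m : ι → ℤ) {M M' : X.Modules} (hM : PicF.IsInvertible M)
    (a : (i : ι) → Cyc.secFibre M (η i)) (ha : ∀ i, a i ≠ 0) (b : (ξ : X) → Cyc.secFibre M' ξ)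
    (hloc : ∀ x : X, ∃ U : Set X, IsOpen U ∧ x ∈ U ∧ {i | (closure {η i} ∩ U).Nonempty}.Finite) (x : X) :
    Cyc.c1CapFun δ M' (fun ξ ↦ ∑ᶠ i, m i * Cyc.secDivFun δ M (η i) (a i) ξ) b x =
      ∑ᶠ i, m i * ∑ᶠ ξ, Cyc.secDivFun δ M (η i) (a i) ξ * Cyc.secDivFun δ M' ξ (b ξ) x := by
  have hfin : ∀ i, (Function.support fun ξ ↦ Cyc.secDivFun δ M (η i) (a i) ξ * Cyc.secDivFun δ M' ξ (b ξ) x).Finite :=
    fun i ↦ product_support hδ hM (ha i) b x
  rw [Cyc.c1CapFun, finsum_swap_mul]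
  · refine finsum_congr fun i ↦ ?_
    rw [mul_finsum' _ _ (hfin i)]
    exact finsum_congr fun ξ ↦ mul_assoc _ _ _
  · intro i
    refine (hfin i).subset fun ξ hξ ↦ ?_
    rw [Function.mem_support] at hξ ⊢
    exact fun h0 ↦ hξ (by rw [mul_assoc, h0, mul_zero])
  · obtain ⟨U, hU, hxU, hf⟩ := hloc x
    refine hf.subset fun i ⟨ξ, hξ⟩ ↦ ⟨x, ?_, hxU⟩
    have h1 : η i ⤳ ξ := by
      by_contra hc
      exact hξ (by rw [Cyc.secDivFun, dif_neg fun h ↦ hc h.1]; ring)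
    have h2 : ξ ⤳ x := by
      by_contra hc
      exact hξ (by rw [Cyc.secDivFun, Cyc.secDivFun, dif_neg (fun (h : ξ ⤳ x ∧ δ x + 1 = δ ξ) ↦ hc h.1)]; ring)
    exact specializes_iff_mem_closure.mp (h1.trans h2)

omit hs ht hu hv in
theorem exists_commute_family {ι : Type u} (η : ι → X) (m : ι → ℤ) (k : ℤ) (hk : ∀ i, δ (η i) = k + 2)
    (s : (i : ι) → Cyc.secFibre L (η i)) (t : (i : ι) → Cyc.secFibre N (η i)) (hs : ∀ i, s i ≠ 0) (ht : ∀ i, t i ≠ 0)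
    (hloc : ∀ x : X, ∃ U : Set X, IsOpen U ∧ x ∈ U ∧ {i | (closure {η i} ∩ U).Nonempty}.Finite)
    (u : (ξ : X) → Cyc.secFibre N ξ) (v : (ξ : X) → Cyc.secFibre L ξ) (hu : ∀ ξ, u ξ ≠ 0) (hv : ∀ ξ, v ξ ≠ 0)
    (hL : PicF.IsInvertible L) (hN : PicF.IsInvertible N) :
    ∃ (J : Type u) (ζ : J → X) (f : (j : J) → X.residueField (ζ j)),
      (∀ j, δ (ζ j) = k + 1) ∧ (∀ j, f j ≠ 0) ∧
      (∀ x : X, ∃ U : Set X, IsOpen U ∧ x ∈ U ∧ {j | (closure {ζ j} ∩ U).Nonempty}.Finite) ∧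
      (∀ Z : Set X, (∀ i (ξ : X), ξ ∉ Z → ∀ h : η i ⤳ ξ, δ ξ + 1 = δ (η i) →
        symF hL hN h (s i) (t i) (u ξ) (v ξ) = 1) → ∀ j, ζ j ∈ Z) ∧
      ∀ x : X, ∑ᶠ j, Cyc.divFun δ (ζ j) (f j) x =
        Cyc.c1CapFun δ N (fun ξ ↦ ∑ᶠ i, m i * Cyc.secDivFun δ L (η i) (s i) ξ) u x -
          Cyc.c1CapFun δ L (fun ξ ↦ ∑ᶠ i, m i * Cyc.secDivFun δ N (η i) (t i) ξ) v x := by
  classical
  let F : ι → (ξ : X) → X.residueField ξ := fun i ξ ↦ symTerm δ hL hN (s i) (t i) u v ξ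
  let J := {p : ι × X // F p.1 p.2 ≠ 1}
  have hcond : ∀ j : J, η j.1.1 ⤳ j.1.2 ∧ δ j.1.2 + 1 = δ (η j.1.1) := fun j ↦ by
    by_contra hc
    exact j.2 (dif_neg hc)
  have hne : ∀ i ξ, F i ξ ≠ 0 := fun i ξ ↦ symTerm_ne_zero hδ hL hN (hs i) (ht i) hu hv ξ
  refine ⟨J, fun j ↦ j.1.2, fun j ↦ F j.1.1 j.1.2 ^ m j.1.1, fun j ↦ ?_, fun j ↦ zpow_ne_zero _ (hne _ _), fun x ↦ ?_,
    fun Z hZ j ↦ ?_, fun x ↦ ?_⟩
  · have := (hcond j).2
    have := hk j.1.1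
    change δ j.1.2 = k + 1
    omega
  · obtain ⟨U, hU, hxU, hf⟩ := hloc x
    obtain ⟨V, e, e', hV, hxV, he, he'⟩ := exists_common_affine hL hN x
    refine ⟨U ∩ V, hU.inter V.2, ⟨hxU, hxV⟩, ?_⟩
    refine Set.Finite.subset ((hf.biUnion fun i _ ↦
      ((symTerm_finite hδ hL hN (hs i) (ht i) hu hv hV he he').image (Prod.mk i))).preimage
        Subtype.val_injective.injOn) ?_
    rintro j ⟨w, hw, hwU, hwV⟩
    have hjw : j.1.2 ⤳ w := specializes_iff_mem_closure.mpr hw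
    exact Set.mem_biUnion (x := j.1.1) ⟨w, specializes_iff_mem_closure.mp ((hcond j).1.trans hjw), hwU⟩
      ⟨j.1.2, ⟨hjw.mem_open V.2 hwV, j.2⟩, rfl⟩
  · by_contra hj
    refine j.2 ?_
    change symTerm δ hL hN _ _ u v _ = 1
    rw [symTerm, dif_pos (hcond j)]
    exact hZ _ _ hj (hcond j).1 (hcond j).2
  · rw [c1Cap_family hδ η m hL s hs u hloc x, c1Cap_family hδ η m hN t ht v hloc x]
    have hfi : ∀ {M M' : X.Modules} (a : (i : ι) → Cyc.secFibre M (η i)) (b : (ξ : X) → Cyc.secFibre M' ξ),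
        (Function.support fun i ↦ m i * ∑ᶠ ξ, Cyc.secDivFun δ M (η i) (a i) ξ * Cyc.secDivFun δ M' ξ (b ξ) x).Finite := by
      intro M M' a b
      obtain ⟨U, hU, hxU, hf⟩ := hloc x
      refine hf.subset fun i hi ↦ ⟨x, ?_, hxU⟩
      obtain ⟨ξ, hξ⟩ : ∃ ξ, Cyc.secDivFun δ M (η i) (a i) ξ * Cyc.secDivFun δ M' ξ (b ξ) x ≠ 0 := by
        by_contra! hc
        exact right_ne_zero_of_mul hi (finsum_eq_zero_of_forall_eq_zero hc)
      have h1 : η i ⤳ ξ := by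
        by_contra hc
        exact left_ne_zero_of_mul hξ (by rw [Cyc.secDivFun, dif_neg fun h ↦ hc h.1])
      have h2 : ξ ⤳ x := by
        by_contra hc
        exact right_ne_zero_of_mul hξ (by rw [Cyc.secDivFun, dif_neg fun h ↦ hc h.1])
      exact specializes_iff_mem_closure.mp (h1.trans h2)
    rw [← finsum_sub_distrib (hfi s u) (hfi t v)]
    have e1 : ∀ i, m i * ∑ᶠ ξ, Cyc.secDivFun δ L (η i) (s i) ξ * Cyc.secDivFun δ N ξ (u ξ) x -
        m i * ∑ᶠ ξ, Cyc.secDivFun δ N (η i) (t i) ξ * Cyc.secDivFun δ L ξ (v ξ) x =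
        ∑ᶠ ξ, Cyc.divFun δ ξ (F i ξ ^ m i) x := fun i ↦ by
      rw [← mul_sub, ← sum_symTerm hδ hL hN (hs i) (ht i) hu hv x,
        mul_finsum' _ _ (divFun_symTerm_support hδ hL hN (hs i) (ht i) hu hv x)]
      refine finsum_congr fun ξ ↦ ?_
      simp only [Cyc.divFun]
      split_ifs with hh
      · rw [ordAt_zpow hδ hh.1 hh.2 (hne i ξ)]
      · ring
    rw [finsum_congr e1]
    let G : ι × X → ℤ := fun p ↦ Cyc.divFun δ p.2 (F p.1 p.2 ^ m p.1) x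
    have hG : ∀ p, F p.1 p.2 = 1 → G p = 0 := fun p h1 ↦ by
      simp only [G, h1, one_zpow, Cyc.divFun]
      split_ifs with hh
      · exact ordAt_one hδ hh.1 hh.2
      · rfl
    have hGfin : (Function.support G).Finite := by
      obtain ⟨U, hU, hxU, hf⟩ := hloc x
      obtain ⟨V, e, e', hV, hxV, he, he'⟩ := exists_common_affine hL hN x
      refine (hf.biUnion fun i _ ↦ (symTerm_finite hδ hL hN (hs i) (ht i) hu hv hV he he').image (Prod.mk i)).subset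
        fun p hp ↦ ?_
      have hp1 : F p.1 p.2 ≠ 1 := fun h1 ↦ hp (hG p h1)
      have hpx : p.2 ⤳ x := by
        by_contra hc
        exact hp (dif_neg fun h ↦ hc h.1)
      have hη : η p.1 ⤳ p.2 := by
        by_contra hc
        exact hp1 (dif_neg fun h ↦ hc h.1)
      exact Set.mem_biUnion (x := p.1) ⟨x, specializes_iff_mem_closure.mp (hη.trans hpx), hxU⟩
        ⟨p.2, ⟨hpx.mem_open V.2 hxV, hp1⟩, rfl⟩
    rw [← finsum_curry G hGfin, finsum_subtype_eq_finsum_cond (f := G) (fun p ↦ F p.1 p.2 ≠ 1)]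
    exact finsum_congr fun p ↦ by
      by_cases h1 : F p.1 p.2 = 1
      · simp [h1, hG p h1]
      · simp [h1]

end Groth.Agent.CycLib28
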