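import Mathlib
import Groth.Prelude.Def_C1
import Groth.Agent.CycLib28.OrdAt
import Groth.Agent.CycLim28.Main
import Groth.Agent.AssSch12.PullbackPoint

/-!
# The first Chern class of the structure module
-/

universe u

open CategoryTheory AlgebraicGeometry IsLocalRing

namespace Groth.Agent.CycLib28

variable {X : Scheme.{u}}

theorem exists_residue_coeff (ξ : X) (s : Cyc.secFibre (Coh.structureModule X) ξ) :
    ∃ a : X.presheaf.stalk ξ, s = Submodule.Quotient.mk (a • AssSch12.unitOne ξ) := by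
  obtain ⟨m, rfl⟩ := Submodule.Quotient.mk_surjective _ s
  obtain ⟨a, rfl⟩ := (AssSch12.bijective_smul_unitOne ξ).2 m
  exact ⟨a, rfl⟩

theorem residue_eq_of_mk_eq (ξ : X) (a b : X.presheaf.stalk ξ)
    (h : (Submodule.Quotient.mk (a • AssSch12.unitOne ξ) : Cyc.secFibre (Coh.structureModule X) ξ) =
      Submodule.Quotient.mk (b • AssSch12.unitOne ξ)) :
    (X.residue ξ).hom a = (X.residue ξ).hom b := by
  rw [Submodule.Quotient.eq, ← sub_smul] at h
  have hmem : a - b ∈ maximalIdeal (X.presheaf.stalk ξ) := by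
    let e := LinearEquiv.ofBijective (LinearMap.toSpanSingleton (X.presheaf.stalk ξ) _ (AssSch12.unitOne ξ))
      (AssSch12.bijective_smul_unitOne ξ)
    have h2 := Submodule.mem_map_of_mem (f := e.symm.toLinearMap) h
    rw [Submodule.map_smul'', Submodule.map_top, LinearMap.range_eq_top.mpr e.symm.surjective,
      show (e.symm.toLinearMap ((a - b) • AssSch12.unitOne ξ)) = a - b from e.symm_apply_apply (a - b)] at h2
    simpa [Ideal.mul_top, Ideal.smul_eq_mul] using h2
  rw [← sub_eq_zero, ← map_sub]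
  exact (IsLocalRing.residue_eq_zero_iff _).mpr hmem

theorem stalkSpecializes_unitOne {ξ x : X} (h : ξ ⤳ x) :
    (Coh.structureModule X).presheaf.stalkSpecializes h (AssSch12.unitOne x) = AssSch12.unitOne ξ :=
  TopCat.Presheaf.germ_stalkSpecializes_apply _ (U := ⊤) trivial h _

theorem stalkSpecializes_smul {ξ x : X} (h : ξ ⤳ x) (r : X.presheaf.stalk x) :
    (Coh.structureModule X).presheaf.stalkSpecializes h (r • AssSch12.unitOne x) =
      (X.presheaf.stalkSpecializes h).hom r • AssSch12.unitOne ξ := by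
  obtain ⟨U, hx, s, rfl⟩ := X.presheaf.exists_germ_eq r
  rw [← AssSch12.germ_eq_smul_unitOne x hx s, TopCat.Presheaf.germ_stalkSpecializes_apply,
    TopCat.Presheaf.germ_stalkSpecializes_apply, AssSch12.germ_eq_smul_unitOne ξ (h.mem_open U.2 hx) s]

theorem secOrdAt_structureModule [IsLocallyNoetherian X] {δ : X → ℤ} (hδ : Cyc.IsDimFun X δ) {ξ x : X}
    (h : ξ ⤳ x) (hd : δ x + 1 = δ ξ) (a : X.presheaf.stalk ξ) (ha : (X.residue ξ).hom a ≠ 0) :
    Cyc.secOrdAt (Coh.structureModule X) ξ x h (Submodule.Quotient.mk (a • AssSch12.unitOne ξ)) =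
      Cyc.ordAt x ξ h ((X.residue ξ).hom a) := by
  have ht : ∃ t : (Coh.structureModule X).presheaf.stalk x,
      Submodule.span (X.presheaf.stalk x) {t} = ⊤ := by
    refine ⟨AssSch12.unitOne x, eq_top_iff.mpr fun m _ ↦ ?_⟩
    obtain ⟨r, rfl⟩ := (AssSch12.bijective_smul_unitOne x).2 m
    exact Submodule.smul_mem _ _ (Submodule.subset_span rfl)
  unfold Cyc.secOrdAt
  rw [dif_pos ht]
  have hspan : Submodule.span (X.presheaf.stalk x) {ht.choose} = ⊤ := ht.choose_spec
  obtain ⟨u, hu⟩ := (AssSch12.bijective_smul_unitOne x).2 ht.choose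
  have huu : IsUnit u := by
    obtain ⟨r, hr⟩ := Submodule.mem_span_singleton.mp (hspan.ge (Submodule.mem_top (x := AssSch12.unitOne x)))
    refine IsUnit.of_mul_eq_one_right r ?_
    refine (AssSch12.bijective_smul_unitOne x).1 ?_
    change (r * u) • AssSch12.unitOne x = (1 : X.presheaf.stalk x) • AssSch12.unitOne x
    rw [mul_smul, one_smul]
    exact (congrArg (r • ·) hu).trans hr
  set v := (X.presheaf.stalkSpecializes h).hom u with hv
  have himg : (Coh.structureModule X).presheaf.stalkSpecializes h ht.choose = v • AssSch12.unitOne ξ := by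
    rw [← hu]; exact stalkSpecializes_smul h u
  have hvu : IsUnit v := huu.map _
  have hex : ∃ φ : X.presheaf.stalk ξ,
      (Submodule.Quotient.mk (a • AssSch12.unitOne ξ) : Cyc.secFibre (Coh.structureModule X) ξ) =
        φ • Submodule.Quotient.mk ((Coh.structureModule X).presheaf.stalkSpecializes h ht.choose) := by
    refine ⟨a * ↑hvu.unit⁻¹, ?_⟩
    rw [himg, ← Submodule.Quotient.mk_smul, smul_smul, mul_assoc, IsUnit.val_inv_mul, mul_one]
  rw [dif_pos hex]
  have hφ := Classical.choose_spec hex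
  revert hφ
  generalize Classical.choose hex = c
  intro hφ
  rw [himg, ← Submodule.Quotient.mk_smul, smul_smul] at hφ
  have hres := residue_eq_of_mk_eq ξ _ _ hφ
  rw [map_mul] at hres
  have hv0 : (X.residue ξ).hom v ≠ 0 := (hvu.map _).ne_zero
  have hc0 : (X.residue ξ).hom c ≠ 0 := fun h0 ↦ ha (by rw [hres, h0, zero_mul])
  rw [hres, ordAt_mul hδ h hd hc0 hv0]
  have : (X.residue ξ).hom v = Cyc.specMap x ξ h u := rfl
  rw [this, ordAt_unit hδ h hd u huu, add_zero]

theorem c1CapFun_structureModule_ratEquivZero [IsLocallyNoetherian X] {δ : X → ℤ} (hδ : Cyc.IsDimFun X δ)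
    (k : ℤ) (α : AlgebraicCycle X ℤ) (hα : α ∈ Cyc.Zk X δ (k + 1))
    (s : (ξ : X) → Cyc.secFibre (Coh.structureModule X) ξ) (hs : ∀ ξ, s ξ ≠ 0) (γ : AlgebraicCycle X ℤ)
    (hγ : ⇑γ = Cyc.c1CapFun δ (Coh.structureModule X) ⇑α s) : Cyc.RatEquivZero δ k γ := by
  classical
  choose a ha using fun ξ ↦ exists_residue_coeff ξ (s ξ)
  have hne : ∀ ξ, (X.residue ξ).hom (a ξ) ≠ 0 := fun ξ h0 ↦ by
    refine hs ξ ?_
    rw [ha ξ, Submodule.Quotient.mk_eq_zero]
    exact Submodule.smul_mem_smul ((IsLocalRing.residue_eq_zero_iff _).mp h0) Submodule.mem_top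
  refine ⟨{ξ // α ξ ≠ 0}, fun ξ ↦ ξ.1, fun ξ ↦ ((X.residue ξ.1).hom (a ξ.1)) ^ (α ξ.1),
    fun ξ ↦ ?_, fun ξ ↦ zpow_ne_zero _ (hne _), fun x ↦ ?_, fun x ↦ ?_⟩
  · by_contra hh
    exact ξ.2 (hα ξ.1 hh)
  · obtain ⟨U, ⟨hU, hUc⟩, hxU, -⟩ := (PrespectralSpace.isTopologicalBasis (X := X)).exists_subset_of_mem_open
      (Set.mem_univ x) isOpen_univ
    refine ⟨U, hU, hxU, ?_⟩
    have h := (Function.locallyFinsupp.locallyFiniteSupport α).finite_inter_support_of_isCompact hUc
    refine (h.preimage Subtype.val_injective.injOn).subset fun ξ ⟨w, hw1, hw2⟩ ↦ ?_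
    exact ⟨(specializes_iff_mem_closure.mpr hw1).mem_open hU hw2, ξ.2⟩
  · rw [hγ, Cyc.c1CapFun]
    have e : ∀ ξ : X, α ξ * Cyc.secDivFun δ (Coh.structureModule X) ξ (s ξ) x =
        Cyc.divFun δ ξ (((X.residue ξ).hom (a ξ)) ^ (α ξ)) x := by
      intro ξ
      simp only [Cyc.secDivFun, Cyc.divFun]
      split_ifs with h
      · rw [ha ξ, secOrdAt_structureModule hδ h.1 h.2 _ (hne ξ), ordAt_zpow hδ h.1 h.2 (hne ξ)]
      · exact mul_zero _
    rw [finsum_congr e]
    rw [finsum_subtype_eq_finsum_cond (f := fun ξ ↦ Cyc.divFun δ ξ (((X.residue ξ).hom (a ξ)) ^ (α ξ)) x)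
      (fun ξ ↦ α ξ ≠ 0)]
    refine finsum_congr fun ξ ↦ ?_
    by_cases h0 : α ξ = 0
    · have := e ξ
      rw [h0, zero_mul] at this
      rw [zpow_zero] at this
      simp [h0, ← this]
    · simp [h0]

end Groth.Agent.CycLib28
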