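import Mathlib
import Groth.Agent.CycLib28.C1Push
import Groth.Agent.CycLib28.ZeroSec

/-!
# The first Chern class of a closed subscheme as the zero scheme of a section
-/

universe u

open CategoryTheory CategoryTheory.Limits AlgebraicGeometry IsLocalRing TopologicalSpace Groth.Agent.CycLim28

namespace Groth.Agent.CycLib28

variable {X Y : Scheme.{u}}

theorem exists_fundamental_cycle [IsLocallyNoetherian Y] {δ : Y → ℤ} (hδ : Cyc.IsDimFun Y δ) (k : ℤ)
    (hdim : ∀ y, δ y ≤ k) : ∃ α : AlgebraicCycle Y ℤ, ⇑α = Cyc.subschemeFun δ k (𝟙 Y) ∧ α ∈ Cyc.Zk Y δ k := by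
  refine ⟨{ toFun := Cyc.subschemeFun δ k (𝟙 Y)
            supportWithinDomain' := by simp
            supportLocallyFiniteWithinDomain' := fun y _ ↦ ?_ }, rfl, fun y hy ↦ ?_⟩
  · obtain ⟨_, ⟨V, hV, rfl⟩, hyV, -⟩ :=
      Y.isBasis_affineOpens.exists_subset_of_mem_open (Set.mem_univ y) isOpen_univ
    replace hV : IsAffineOpen V := hV
    have : IsNoetherianRing Γ(Y, V) := IsLocallyNoetherian.component_noetherian ⟨V, hV⟩
    have hns : NoetherianSpace (V : Set Y) := noetherianSpace_of_isAffineOpen V hV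
    have hqs : QuasiSober (V : Set Y) := (V.2.isOpenEmbedding_subtypeVal (X := Y)).quasiSober
    refine ⟨V, V.2.mem_nhds hyV,
      ((finite_maximal_of_isClosed (Set.univ : Set (V : Set Y)) isClosed_univ).image Subtype.val).subset ?_⟩
    rintro z ⟨hzV, hz⟩
    rw [Function.mem_support, subschemeFun_id] at hz
    have hzk : δ z = k := by
      by_contra h
      exact hz (if_neg h)
    refine ⟨⟨z, hzV⟩, ⟨trivial, fun w _ hw ↦ Subtype.ext ?_⟩, rfl⟩
    by_contra hne
    have h1 := (hδ w.1 z (hw.map continuous_subtype_val) hne).1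
    have h2 := hdim w.1
    omega
  · change Cyc.subschemeFun δ k (𝟙 Y) y = 0
    rw [subschemeFun_id, if_neg hy]

theorem c1Cap_closed_zeroSection [IsLocallyNoetherian X] {δ : X → ℤ} (hδ : Cyc.IsDimFun X δ) {L : X.Modules}
    (hL : PicF.IsInvertible L) (ι : Y ⟶ X) [IsClosedImmersion ι] (k : ℤ) (hY : ∀ y : Y, δ (ι y) ≤ k + 1)
    (s : ((Scheme.Modules.pullback ι).obj L).presheaf.obj (Opposite.op ⊤))
    (hZ : ∀ y : Y, (((Scheme.Modules.pullback ι).obj L).presheaf.germ ⊤ y trivial) s ∈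
      maximalIdeal (Y.presheaf.stalk y) • (⊤ : Submodule (Y.presheaf.stalk y)
        (((Scheme.Modules.pullback ι).obj L).presheaf.stalk y)) → δ (ι y) ≤ k)
    (hreg : ∀ y : Y, δ (ι y) = k → Function.Injective
      (fun a : Y.presheaf.stalk y => a • (((Scheme.Modules.pullback ι).obj L).presheaf.germ ⊤ y trivial) s))
    (v : (ξ : X) → Cyc.secFibre L ξ) (hv : ∀ ξ, v ξ ≠ 0) (γ : AlgebraicCycle X ℤ)
    (hγ : ⇑γ = Cyc.c1CapFun δ L (Cyc.subschemeFun δ (k + 1) ι) v) (ζ : AlgebraicCycle Y ℤ)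
    (hζ : ⇑ζ = Cyc.zeroSectionFun (fun y => δ (ι y)) k ((Scheme.Modules.pullback ι).obj L) s) :
    Cyc.RatEquiv δ k γ (AlgebraicCycle.map ι (fun y => δ (ι y)) δ ζ) := by
  classical
  haveI : IsLocallyNoetherian Y := LocallyOfFiniteType.isLocallyNoetherian ι
  have hδY := isDimFun_comp_closedImmersion ι hδ
  have hL' := PicLoc.isInvertible_pullback ι hL
  obtain ⟨α, hα, hαk⟩ := exists_fundamental_cycle hδY (k + 1) hY
  have hmapα : ⇑(AlgebraicCycle.map ι (fun y => δ (ι y)) δ α) = Cyc.subschemeFun δ (k + 1) ι := by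
    funext x
    rw [Cyc.subschemeFun]
    by_cases hx : x ∈ Set.range ι
    · obtain ⟨y, rfl⟩ := hx
      rw [map_closedImmersion_apply, hα, subschemeFun_id,
        show {z : Y | ι z = ι y} = {y} from Set.ext fun z ↦
          ⟨fun h ↦ ι.isClosedEmbedding.injective h, fun h ↦ congrArg ι h⟩, finsum_mem_singleton]
    · rw [map_closedImmersion_eq_zero ι _ _ _ x hx]
      split_ifs
      · rw [show {z : Y | ι z = x} = ∅ from Set.eq_empty_of_forall_notMem fun z hz ↦ hx ⟨z, hz⟩, finsum_mem_empty]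
      · rfl
  obtain ⟨w, γw, hw, hγw, hmap⟩ := c1Cap_push hδY hδ ι (deltaCompat_preimmersion ι δ) hL α v hv
  have hnz : ∀ y, α y ≠ 0 → (Submodule.Quotient.mk
      ((((Scheme.Modules.pullback ι).obj L).presheaf.germ ⊤ y trivial) s) :
        Cyc.secFibre ((Scheme.Modules.pullback ι).obj L) y) ≠ 0 := by
    intro y hy h0
    rw [hα, subschemeFun_id] at hy
    have hk : δ (ι y) = k + 1 := by
      by_contra h
      exact hy (if_neg h)
    have := hZ y ((Submodule.Quotient.mk_eq_zero _).mp h0)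
    omega
  have h0 := c1CapFun_indep hδY hL' k α hαk w _ (fun y _ ↦ hw y) hnz γw ζ hγw
    (by rw [hζ, hα]; exact zeroSectionFun_eq_c1CapFun hδY hL' k hY s hZ hreg)
  have h1 := map_ratEquivZero hδY hδ ι (deltaCompat_preimmersion ι δ) k _ h0
  have e : AlgebraicCycle.map ι (fun y => δ (ι y)) δ (γw - ζ) =
      γ - AlgebraicCycle.map ι (fun y => δ (ι y)) δ ζ := by
    refine eq_sub_of_add_eq (Function.locallyFinsuppWithin.ext fun x ↦ ?_)
    rw [hγ, ← hmapα, ← hmap]
    exact (map_apply_add ι (fun y => δ (ι y)) δ (γw - ζ) ζ γw (fun y ↦ by simp) x).symm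
  rw [e] at h1
  exact h1

end Groth.Agent.CycLib28
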