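import Mathlib
import Groth.Agent.CycLib28.PushAny

/-!
# Splitting rational equivalences along a cover by two closed subschemes
-/

universe u

open CategoryTheory CategoryTheory.Limits AlgebraicGeometry Groth.Agent.CycLim28

namespace Groth.Agent.CycLib28

variable {X Z : Scheme.{u}}

theorem divFun_inv [IsLocallyNoetherian X] {δ : X → ℤ} (hδ : Cyc.IsDimFun X δ) {ξ : X}
    {f : X.residueField ξ} (hf : f ≠ 0) (x : X) :
    Cyc.divFun δ ξ f⁻¹ x = -Cyc.divFun δ ξ f x := by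
  have h := divFun_mul hδ hf (inv_ne_zero hf) x
  rw [mul_inv_cancel₀ hf, ← pow_zero (f : X.residueField ξ), divFun_pow hδ hf] at h
  simp at h
  omega

/-- a family of principal divisors whose centres lie in a closed subscheme lifts to it -/
theorem exists_lift_family [IsLocallyNoetherian X] (i : Z ⟶ X) [IsClosedImmersion i] {δ : X → ℤ}
    (hδ : Cyc.IsDimFun X δ) {ι : Type u} (ξ : ι → X) (f : (a : ι) → X.residueField (ξ a))
    (hf : ∀ a, f a ≠ 0) (hξ : ∀ a, ξ a ∈ Set.range i)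
    (hloc : ∀ x : X, ∃ U : Set X, IsOpen U ∧ x ∈ U ∧ {a | (closure {ξ a} ∩ U).Nonempty}.Finite)
    (k : ℤ) (hk : ∀ a, δ (ξ a) = k + 1) :
    ∃ D : AlgebraicCycle Z ℤ, (∀ z, D z = ∑ᶠ a, Cyc.divFun δ (ξ a) (f a) (i z)) ∧
      Cyc.RatEquivZero (fun z ↦ δ (i z)) k D ∧ Cyc.RatEquivZero (fun z ↦ δ (i z)) k (-D) := by
  classical
  haveI : IsLocallyNoetherian Z := LocallyOfFiniteType.isLocallyNoetherian i
  have hZ := isDimFun_comp_closedImmersion i hδ
  choose ζ hζ using hξ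
  let g : (a : ι) → X.residueField (i (ζ a)) := fun a ↦ (X.residueFieldCongr (hζ a)).inv (f a)
  have hg : ∀ a, g a ≠ 0 := fun a ↦ (map_ne_zero _).mpr (hf a)
  have hg' : ∀ a, (i.residueFieldMap (ζ a)).hom (g a) ≠ 0 := fun a ↦ (map_ne_zero _).mpr (hg a)
  have hdiv : ∀ a z, Cyc.divFun (fun z ↦ δ (i z)) (ζ a) ((i.residueFieldMap (ζ a)).hom (g a)) z =
      Cyc.divFun δ (ξ a) (f a) (i z) := fun a z ↦ by
    rw [divFun_preimmersion i hδ hZ 0 (fun _ ↦ (add_zero _).symm) _ _ _ (hg a), divFun_congr (hζ a)]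
  have hlocZ : ∀ z : Z, ∃ U : Set Z, IsOpen U ∧ z ∈ U ∧ {a | (closure {ζ a} ∩ U).Nonempty}.Finite := by
    intro z
    obtain ⟨U, hU, hzU, hfin⟩ := hloc (i z)
    refine ⟨i ⁻¹' U, hU.preimage i.continuous, hzU, hfin.subset ?_⟩
    rintro a ⟨w, hw, hwU⟩
    refine ⟨i w, ?_, hwU⟩
    rw [← hζ a]
    exact (image_closure_subset_closure_image i.continuous).trans (by rw [Set.image_singleton]) ⟨w, hw, rfl⟩
  obtain ⟨D, hD⟩ := exists_cycle_sum hZ ζ (fun a ↦ (i.residueFieldMap (ζ a)).hom (g a)) hg' hlocZ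
  refine ⟨D, fun z ↦ by rw [hD]; exact finsum_congr fun a ↦ hdiv a z,
    ⟨ι, ζ, _, fun a ↦ (congrArg δ (hζ a)).trans (hk a), hg', hlocZ, hD⟩,
    ⟨ι, ζ, fun a ↦ ((i.residueFieldMap (ζ a)).hom (g a))⁻¹, fun a ↦ (congrArg δ (hζ a)).trans (hk a),
      fun a ↦ inv_ne_zero (hg' a), hlocZ, fun z ↦ ?_⟩⟩
  rw [Function.locallyFinsuppWithin.coe_neg, Pi.neg_apply, hD, ← finsum_neg_distrib]
  exact finsum_congr fun a ↦ (divFun_inv hZ (hg' a) z).symm

theorem mayerVietoris_middle [IsLocallyNoetherian X] {δ : X → ℤ} (hδ : Cyc.IsDimFun X δ) {X₁ X₂ : Scheme.{u}}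
    (i₁ : X₁ ⟶ X) (i₂ : X₂ ⟶ X) [IsClosedImmersion i₁] [IsClosedImmersion i₂]
    (hcov : Set.range ⇑i₁ ∪ Set.range ⇑i₂ = Set.univ) (k : ℤ) (α₁ : AlgebraicCycle X₁ ℤ)
    (α₂ : AlgebraicCycle X₂ ℤ) (h₁ : α₁ ∈ Cyc.Zk X₁ (fun x => δ (i₁ x)) k)
    (h : Cyc.RatEquiv δ k (AlgebraicCycle.map i₁ (fun x => δ (i₁ x)) δ α₁)
      (AlgebraicCycle.map i₂ (fun x => δ (i₂ x)) δ α₂)) :
    ∃ β : AlgebraicCycle (pullback i₁ i₂) ℤ,
      β ∈ Cyc.Zk (pullback i₁ i₂) (fun z => δ (i₁ (pullback.fst i₁ i₂ z))) k ∧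
      Cyc.RatEquiv (fun x => δ (i₁ x)) k α₁ (AlgebraicCycle.map (pullback.fst i₁ i₂)
        (fun z => δ (i₁ (pullback.fst i₁ i₂ z))) (fun x => δ (i₁ x)) β) ∧
      Cyc.RatEquiv (fun x => δ (i₂ x)) k α₂ (AlgebraicCycle.map (pullback.snd i₁ i₂)
        (fun z => δ (i₁ (pullback.fst i₁ i₂ z))) (fun x => δ (i₂ x)) β) := by
  classical
  obtain ⟨ι, ξ, f, hξ, hf, hloc, hsum⟩ := h
  have hres : ∀ P : ι → Prop, ∀ x : X, ∃ U : Set X, IsOpen U ∧ x ∈ U ∧
      {a : {a // P a} | (closure {ξ a.1} ∩ U).Nonempty}.Finite := by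
    intro P x
    obtain ⟨U, hU, hxU, hfin⟩ := hloc x
    exact ⟨U, hU, hxU, (hfin.preimage (f := fun a : {a // P a} ↦ a.1) Subtype.val_injective.injOn).subset fun a ha ↦ ha⟩
  obtain ⟨D₁, hD₁, hD₁r, -⟩ := exists_lift_family i₁ hδ (fun a : {a // ξ a ∈ Set.range i₁} ↦ ξ a.1)
    (fun a ↦ f a.1) (fun a ↦ hf a.1) (fun a ↦ a.2) (hres _) k (fun a ↦ hξ a.1)
  have hcov' : ∀ a, ξ a ∉ Set.range i₁ → ξ a ∈ Set.range i₂ := fun a ha ↦
    (hcov.ge (Set.mem_univ (ξ a))).resolve_left ha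
  obtain ⟨D₂, hD₂, -, hD₂r⟩ := exists_lift_family i₂ hδ (fun a : {a // ξ a ∉ Set.range i₁} ↦ ξ a.1)
    (fun a ↦ f a.1) (fun a ↦ hf a.1) (fun a ↦ hcov' a.1 a.2) (hres _) k (fun a ↦ hξ a.1)
  -- the divisors on `X`
  let E₁ : X → ℤ := fun x ↦ ∑ᶠ a : {a // ξ a ∈ Set.range i₁}, Cyc.divFun δ (ξ a.1) (f a.1) x
  let E₂ : X → ℤ := fun x ↦ ∑ᶠ a : {a // ξ a ∉ Set.range i₁}, Cyc.divFun δ (ξ a.1) (f a.1) x
  have hE₁ : ∀ x, x ∉ Set.range i₁ → E₁ x = 0 := fun x hx ↦ finsum_eq_zero_of_forall_eq_zero fun a ↦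
    divFun_eq_zero_of_not_specializes _ fun hh ↦ hx (hh.mem_closed i₁.isClosedEmbedding.isClosed_range a.2)
  have hE₂ : ∀ x, x ∉ Set.range i₂ → E₂ x = 0 := fun x hx ↦ finsum_eq_zero_of_forall_eq_zero fun a ↦
    divFun_eq_zero_of_not_specializes _ fun hh ↦ hx
      (hh.mem_closed i₂.isClosedEmbedding.isClosed_range (hcov' a.1 a.2))
  have hsplit : ∀ x, AlgebraicCycle.map i₁ (fun x => δ (i₁ x)) δ α₁ x -
      AlgebraicCycle.map i₂ (fun x => δ (i₂ x)) δ α₂ x = E₁ x + E₂ x := by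
    intro x
    have hfin : (Function.support fun a ↦ Cyc.divFun δ (ξ a) (f a) x).Finite :=
      (finite_near ξ hloc (isCompact_singleton (x := x))).subset fun a ha ↦ by
        by_contra hcl
        exact ha (divFun_eq_zero_of_not_specializes _ fun hh ↦
          hcl ⟨x, specializes_iff_mem_closure.mp hh, rfl⟩)
    have e := hsum x
    rw [Function.locallyFinsuppWithin.coe_sub, Pi.sub_apply] at e
    rw [e]
    change _ = (∑ᶠ a : {a // ξ a ∈ Set.range i₁}, _) + ∑ᶠ a : {a // ξ a ∉ Set.range i₁}, _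
    rw [finsum_subtype_eq_finsum_cond (f := fun a ↦ Cyc.divFun δ (ξ a) (f a) x) (fun a ↦ ξ a ∈ Set.range i₁),
      finsum_subtype_eq_finsum_cond (f := fun a ↦ Cyc.divFun δ (ξ a) (f a) x) (fun a ↦ ξ a ∉ Set.range i₁),
      ← finsum_mem_univ]
    rw [show (Set.univ : Set ι) = {a | ξ a ∈ Set.range i₁} ∪ {a | ξ a ∉ Set.range i₁} from
      (Set.union_compl_self {a | ξ a ∈ Set.range i₁}).symm,
      finsum_mem_union' (s := {a | ξ a ∈ Set.range i₁}) (t := {a | ξ a ∉ Set.range i₁})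
        (Set.disjoint_left.mpr fun a h h' ↦ h' h) (hfin.inter_of_right _) (hfin.inter_of_right _)]
    rfl
  let β₁ := α₁ - D₁
  let β₂ := α₂ + D₂
  have hagree : ∀ x, AlgebraicCycle.map i₁ (fun x => δ (i₁ x)) δ β₁ x =
      AlgebraicCycle.map i₂ (fun x => δ (i₂ x)) δ β₂ x := by
    intro x
    have e₁ : AlgebraicCycle.map i₁ (fun x => δ (i₁ x)) δ β₁ x =
        AlgebraicCycle.map i₁ (fun x => δ (i₁ x)) δ α₁ x - E₁ x := by
      by_cases hx : x ∈ Set.range i₁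
      · obtain ⟨y, rfl⟩ := hx
        rw [map_closedImmersion_apply, map_closedImmersion_apply]
        simp only [β₁, Function.locallyFinsuppWithin.coe_sub, Pi.sub_apply, hD₁]
        rfl
      · rw [map_closedImmersion_eq_zero i₁ _ _ _ x hx, map_closedImmersion_eq_zero i₁ _ _ _ x hx, hE₁ x hx, sub_zero]
    have e₂ : AlgebraicCycle.map i₂ (fun x => δ (i₂ x)) δ β₂ x =
        AlgebraicCycle.map i₂ (fun x => δ (i₂ x)) δ α₂ x + E₂ x := by
      by_cases hx : x ∈ Set.range i₂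
      · obtain ⟨y, rfl⟩ := hx
        rw [map_closedImmersion_apply, map_closedImmersion_apply]
        simp only [β₂, Function.locallyFinsuppWithin.coe_add, Pi.add_apply, hD₂]
        rfl
      · rw [map_closedImmersion_eq_zero i₂ _ _ _ x hx, map_closedImmersion_eq_zero i₂ _ _ _ x hx, hE₂ x hx, add_zero]
    have := hsplit x
    omega
  let β : AlgebraicCycle (pullback i₁ i₂) ℤ :=
    { toFun := fun z ↦ β₁ (pullback.fst i₁ i₂ z)
      supportWithinDomain' := by simp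
      supportLocallyFiniteWithinDomain' := fun z _ ↦ by
        obtain ⟨t, ht, hfin⟩ := β₁.supportLocallyFiniteWithinDomain' (pullback.fst i₁ i₂ z) trivial
        refine ⟨pullback.fst i₁ i₂ ⁻¹' t, (pullback.fst i₁ i₂).continuous.continuousAt ht, ?_⟩
        exact (hfin.preimage (pullback.fst i₁ i₂).isClosedEmbedding.injective.injOn).subset fun w hw ↦ hw }
  have hc : ∀ z, i₁ (pullback.fst i₁ i₂ z) = i₂ (pullback.snd i₁ i₂ z) := fun z ↦
    congrArg (fun m : pullback i₁ i₂ ⟶ X => m z) pullback.condition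
  refine ⟨β, ?_, ?_, ?_⟩
  · intro z hz
    change β₁ (pullback.fst i₁ i₂ z) = 0
    simp only [β₁, Function.locallyFinsuppWithin.coe_sub, Pi.sub_apply, h₁ _ hz, hD₁, zero_sub, neg_eq_zero]
    exact finsum_eq_zero_of_forall_eq_zero fun a ↦ divFun_eq_zero_of_delta _ fun e ↦ hz (by
      rw [hξ a.1] at e; simp only; omega)
  · have e : AlgebraicCycle.map (pullback.fst i₁ i₂) (fun z => δ (i₁ (pullback.fst i₁ i₂ z)))
        (fun x => δ (i₁ x)) β = β₁ := by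
      refine Function.locallyFinsuppWithin.ext fun x ↦ ?_
      by_cases hx : x ∈ Set.range (pullback.fst i₁ i₂)
      · obtain ⟨z, rfl⟩ := hx
        exact map_closedImmersion_apply (pullback.fst i₁ i₂) (fun x => δ (i₁ x)) β z
      · rw [map_closedImmersion_eq_zero _ _ _ _ x hx, ← map_closedImmersion_apply i₁ δ β₁ x, hagree,
          map_closedImmersion_eq_zero]
        rintro ⟨y, hy⟩
        obtain ⟨z, hz, -⟩ := Scheme.Pullback.exists_preimage_pullback x y hy.symm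
        exact hx ⟨z, hz⟩
    change Cyc.RatEquivZero _ k (α₁ - _)
    rw [e, show α₁ - β₁ = D₁ from sub_sub_cancel α₁ D₁]
    exact hD₁r
  · have e : AlgebraicCycle.map (pullback.snd i₁ i₂) (fun z => δ (i₁ (pullback.fst i₁ i₂ z)))
        (fun x => δ (i₂ x)) β = β₂ := by
      rw [show (fun z => δ (i₁ (pullback.fst i₁ i₂ z))) = fun z => (fun x => δ (i₂ x)) (pullback.snd i₁ i₂ z) from
        funext fun z ↦ congrArg δ (hc z)]
      refine Function.locallyFinsuppWithin.ext fun x ↦ ?_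
      by_cases hx : x ∈ Set.range (pullback.snd i₁ i₂)
      · obtain ⟨z, rfl⟩ := hx
        rw [map_closedImmersion_apply (pullback.snd i₁ i₂) (fun x => δ (i₂ x))]
        change β₁ (pullback.fst i₁ i₂ z) = _
        rw [← map_closedImmersion_apply i₁ δ β₁, hagree, hc, map_closedImmersion_apply]
      · rw [map_closedImmersion_eq_zero _ _ _ _ x hx, ← map_closedImmersion_apply i₂ δ β₂ x, ← hagree,
          map_closedImmersion_eq_zero]
        rintro ⟨y, hy⟩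
        obtain ⟨z, -, hz⟩ := Scheme.Pullback.exists_preimage_pullback y x hy
        exact hx ⟨z, hz⟩
    change Cyc.RatEquivZero _ k (α₂ - _)
    rw [e, show α₂ - β₂ = -D₂ from sub_add_cancel_left α₂ D₂]
    exact hD₂r

end Groth.Agent.CycLib28
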