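import Mathlib
import Groth.Agent.CycLib28.C1Push
import Groth.Agent.CycLib28.C1Indep
import Groth.Agent.FSchLib.IdealSheaf
import Groth.Agent.CAlgH.CIImmersion
import Groth.Agent.CycLib28.MayerVietoris

/-!
# Gysin maps of pulled back zero schemes
-/

universe u

open CategoryTheory CategoryTheory.Limits AlgebraicGeometry IsLocalRing Groth.Agent.CycLim28
open Groth.Agent.Coherent Groth.Agent.PicLib

namespace Groth.Agent.CycLib28

variable {X X' D : Scheme.{u}}

/-- coefficients of one section in two bases generate the same ideal -/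
theorem span_coeff_eq {L : X.Modules} {U : X.Opens} {e : Γ(L, U)} (he : IsGen L U e) {x : X} (hx : x ∈ U)
    {t m : L.presheaf.stalk x} (ht : Submodule.span (X.presheaf.stalk x) {t} = ⊤) {a f : X.presheaf.stalk x}
    (ha : m = a • L.presheaf.germ U x hx e) (hf : m = f • t) : Ideal.span {a} = Ideal.span {f} := by
  obtain ⟨c, hc⟩ := (VarietyLib.gen_germ_bijective he hx).2 t
  obtain ⟨d, hd⟩ := Submodule.mem_span_singleton.mp
    (show L.presheaf.germ U x hx e ∈ Submodule.span (X.presheaf.stalk x) {t} from ht ▸ Submodule.mem_top)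
  replace hc : c • L.presheaf.germ U x hx e = t := hc
  have h1 : a = f * c := (VarietyLib.gen_germ_bijective he hx).1
    (show a • L.presheaf.germ U x hx e = (f * c) • L.presheaf.germ U x hx e by rw [mul_smul, hc, ← ha, ← hf])
  have hu : d * c = 1 := (VarietyLib.gen_germ_bijective he hx).1
    (show (d * c) • L.presheaf.germ U x hx e = (1 : X.presheaf.stalk x) • L.presheaf.germ U x hx e by
      rw [mul_smul, hc, hd, one_smul])
  rw [h1]
  exact Ideal.span_singleton_mul_right_unit (IsUnit.of_mul_eq_one d (by rw [mul_comm, hu])) f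

theorem not_mem_range_fst (g : X' ⟶ X) (i : D ⟶ X) [IsClosedImmersion i] (x : X') :
    x ∈ Set.range (pullback.fst g i) ↔ g x ∈ Set.range i := by
  rw [Scheme.Pullback.range_fst]
  rfl

theorem ker_stalkMap_fst (g : X' ⟶ X) (i : D ⟶ X) [IsClosedImmersion i] (z : ↥(pullback g i)) (V : X.affineOpens)
    (hq : g (pullback.fst g i z) ∈ V.1) :
    RingHom.ker ((pullback.fst g i).stalkMap z).hom =
      Ideal.map (g.stalkMap (pullback.fst g i z)).hom ((i.ker.ideal V).map (X.presheaf.germ V.1 _ hq).hom) := by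
  obtain ⟨W, hW, hxW, hWV⟩ := exists_isAffineOpen_mem_and_subset (x := pullback.fst g i z) (U := g ⁻¹ᵁ V.1) hq
  rw [CAlgH.CIImmersion.ker_stalkMap_eq (pullback.fst g i) z hW hxW, ← Scheme.Hom.ker_apply _ ⟨W, hW⟩,
    Scheme.IdealSheafData.ker_fst_of_isClosedImmersion i g, FSchLib.ideal_comap_eq_map g i.ker ⟨W, hW⟩ V hWV,
    Ideal.map_map, Ideal.map_map]
  congr 1
  ext b
  exact ((Scheme.Hom.germ_stalkMap_apply g V.1 _ hq b).trans
    (TopCat.Presheaf.germ_res_apply _ (homOfLE hWV) _ hxW _).symm).symm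

/-- the ideal of the pulled back zero scheme -/
theorem span_coeff_pullback (g : X' ⟶ X) {L : X.Modules} (hL : PicF.IsInvertible L)
    (s : L.presheaf.obj (Opposite.op ⊤)) (i : D ⟶ X) [IsClosedImmersion i] (hD : Cyc.IsZeroSchemeOf i L s)
    (s' : ((Scheme.Modules.pullback g).obj L).presheaf.obj (Opposite.op ⊤))
    (hD' : Cyc.IsZeroSchemeOf (pullback.fst g i) ((Scheme.Modules.pullback g).obj L) s')
    {U : X.Opens} {e : Γ(L, U)} (he : IsGen L U e) {x : X'} (hx : g x ∈ U) {a : X.presheaf.stalk (g x)}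
    (ha : (L.presheaf.germ ⊤ (g x) trivial) s = a • L.presheaf.germ U (g x) hx e)
    {a' : X'.presheaf.stalk x}
    (ha' : (((Scheme.Modules.pullback g).obj L).presheaf.germ ⊤ x trivial) s' =
      a' • ((Scheme.Modules.pullback g).obj L).presheaf.germ (g ⁻¹ᵁ U) x hx (pullSec g e)) :
    Ideal.span {a'} = Ideal.span {(g.stalkMap x).hom a} := by
  have he' := isGen_pullSec g he hL
  by_cases hr : x ∈ Set.range (pullback.fst g i)
  · obtain ⟨z, rfl⟩ := hr
    obtain ⟨t', f', ht', hf', hker'⟩ := hD'.2 z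
    rw [span_coeff_eq he' hx ht' ha' hf', ← hker']
    have hgi : g (pullback.fst g i z) = i (pullback.snd g i z) :=
      congrArg (fun f : pullback g i ⟶ X ↦ f z) pullback.condition
    obtain ⟨_, ⟨V, hV, rfl⟩, hqV, -⟩ :=
      X.isBasis_affineOpens.exists_subset_of_mem_open (Set.mem_univ (g (pullback.fst g i z))) isOpen_univ
    replace hV : IsAffineOpen V := hV
    rw [ker_stalkMap_fst g i z ⟨V, hV⟩ hqV, ← Set.image_singleton, ← Ideal.map_span]
    refine congrArg (Ideal.map (g.stalkMap (pullback.fst g i z)).hom) ?_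
    have key : ∀ (q : X) (_ : q = i (pullback.snd g i z)) (hq : q ∈ V) (hqU : q ∈ U) (a : X.presheaf.stalk q),
        (L.presheaf.germ ⊤ q trivial) s = a • L.presheaf.germ U q hqU e →
        Ideal.map (X.presheaf.germ V q hq).hom (i.ker.ideal ⟨V, hV⟩) = Ideal.span {a} := by
      rintro q rfl hq hqU a ha
      obtain ⟨t, f, ht, hf, hker⟩ := hD.2 (pullback.snd g i z)
      rw [span_coeff_eq he hqU ht ha hf, ← hker, CAlgH.CIImmersion.ker_stalkMap_eq i _ hV hq, ← Scheme.Hom.ker_apply _ ⟨V, hV⟩]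
    exact key _ hgi hqV hx a ha
  · have hux : IsUnit a' := by
      by_contra h
      refine hr (hD'.1.symm ▸ ?_)
      change Submodule.Quotient.mk _ = 0
      rw [ha', mk_eq_zero_iff_gen he']
      exact (IsLocalRing.residue_eq_zero_iff a').mpr ((IsLocalRing.mem_maximalIdeal _).mpr h)
    have hu : IsUnit a := by
      by_contra h
      refine hr ((not_mem_range_fst g i x).mpr (hD.1.symm ▸ ?_))
      change Submodule.Quotient.mk _ = 0
      rw [ha, mk_eq_zero_iff_gen he]
      exact (IsLocalRing.residue_eq_zero_iff a).mpr ((IsLocalRing.mem_maximalIdeal _).mpr h)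
    rw [Ideal.span_singleton_eq_top.mpr hux, Ideal.span_singleton_eq_top.mpr (hu.map _)]

/-- away from the zero scheme the section of the pullback has the divisor of the pulled back one -/
theorem secDivFun_gysin_pullback [IsLocallyNoetherian X'] {δ' : X' → ℤ} (hX' : Cyc.IsDimFun X' δ') (g : X' ⟶ X)
    {L : X.Modules} (hL : PicF.IsInvertible L) (s : L.presheaf.obj (Opposite.op ⊤)) (i : D ⟶ X)
    [IsClosedImmersion i] (hD : Cyc.IsZeroSchemeOf i L s)
    (s' : ((Scheme.Modules.pullback g).obj L).presheaf.obj (Opposite.op ⊤))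
    (hD' : Cyc.IsZeroSchemeOf (pullback.fst g i) ((Scheme.Modules.pullback g).obj L) s')
    (w : (η : X) → Cyc.secFibre L η) (w' : (ξ : X') → Cyc.secFibre ((Scheme.Modules.pullback g).obj L) ξ)
    {ξ : X'} (hξ : g ξ ∉ Set.range i) (v : Cyc.secFibre ((Scheme.Modules.pullback g).obj L) ξ)
    (hv : ∀ (x : X') (h : ξ ⤳ x) (_ : δ' x + 1 = δ' ξ) (U : X.Opens) (e : Γ(L, U)) (_ : IsGen L U e) (_ : g x ∈ U)
        (hU : g ξ ∈ U) (φ : X.presheaf.stalk (g ξ)),
        Cyc.gysinChoice L s w (g ξ) = Submodule.Quotient.mk (φ • L.presheaf.germ U (g ξ) hU e) →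
        Cyc.secOrdAt ((Scheme.Modules.pullback g).obj L) ξ x h v =
          Cyc.ordAt x ξ h ((g.residueFieldMap ξ).hom ((X.residue (g ξ)).hom φ))) (x : X') :
    Cyc.secDivFun δ' ((Scheme.Modules.pullback g).obj L) ξ
        (Cyc.gysinChoice ((Scheme.Modules.pullback g).obj L) s' w' ξ) x =
      Cyc.secDivFun δ' ((Scheme.Modules.pullback g).obj L) ξ v x := by
  have hg : Cyc.gysinChoice L s w (g ξ) = Submodule.Quotient.mk (L.presheaf.germ ⊤ (g ξ) trivial s) := by
    unfold Cyc.gysinChoice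
    rw [if_pos]
    exact fun h ↦ hξ (hD.1.symm ▸ h)
  have hg' : Cyc.gysinChoice ((Scheme.Modules.pullback g).obj L) s' w' ξ =
      Submodule.Quotient.mk (((Scheme.Modules.pullback g).obj L).presheaf.germ ⊤ ξ trivial s') := by
    unfold Cyc.gysinChoice
    rw [if_pos]
    exact fun h ↦ hξ ((not_mem_range_fst g i ξ).mp (hD'.1.symm ▸ h))
  rw [hg']
  simp only [Cyc.secDivFun]
  split_ifs with h
  swap
  · rfl
  obtain ⟨U, hxU, e, he⟩ := PicLib.exists_isGen hL (g x)
  have he' := isGen_pullSec g he hL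
  have hU : g ξ ∈ U := (h.1.map g.continuous).mem_open U.2 hxU
  obtain ⟨a, ha⟩ := (VarietyLib.gen_germ_bijective he hxU).2 ((L.presheaf.germ ⊤ (g x) trivial) s)
  obtain ⟨a', ha'⟩ := (VarietyLib.gen_germ_bijective he' (show x ∈ g ⁻¹ᵁ U from hxU)).2
    ((((Scheme.Modules.pullback g).obj L).presheaf.germ ⊤ x trivial) s')
  replace ha : a • L.presheaf.germ U (g x) hxU e = (L.presheaf.germ ⊤ (g x) trivial) s := ha
  replace ha' : a' • ((Scheme.Modules.pullback g).obj L).presheaf.germ (g ⁻¹ᵁ U) x hxU (pullSec g e) =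
    (((Scheme.Modules.pullback g).obj L).presheaf.germ ⊤ x trivial) s' := ha'
  have hspec : (L.presheaf.germ ⊤ (g ξ) trivial) s =
      (X.presheaf.stalkSpecializes (h.1.map g.continuous)).hom a • L.presheaf.germ U (g ξ) hU e := by
    have h1 := congrArg (L.presheaf.stalkSpecializes (h.1.map g.continuous)) ha
    rw [stalkSpecializes_smul', TopCat.Presheaf.germ_stalkSpecializes_apply,
      TopCat.Presheaf.germ_stalkSpecializes_apply] at h1
    exact h1.symm
  have hspec' : (((Scheme.Modules.pullback g).obj L).presheaf.germ ⊤ ξ trivial) s' =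
      (X'.presheaf.stalkSpecializes h.1).hom a' •
        ((Scheme.Modules.pullback g).obj L).presheaf.germ (g ⁻¹ᵁ U) ξ hU (pullSec g e) := by
    have h1 := congrArg (((Scheme.Modules.pullback g).obj L).presheaf.stalkSpecializes h.1) ha'
    rw [stalkSpecializes_smul', TopCat.Presheaf.germ_stalkSpecializes_apply,
      TopCat.Presheaf.germ_stalkSpecializes_apply] at h1
    exact h1.symm
  have hm : Cyc.specMap x ξ h.1 a' ≠ 0 := by
    intro h0
    refine hξ ((not_mem_range_fst g i ξ).mp (hD'.1.symm ▸ ?_))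
    change Submodule.Quotient.mk _ = 0
    rw [hspec', mk_eq_zero_iff_gen he']
    exact h0
  rw [hv x h.1 h.2 U e he hxU hU _ (by rw [hg, hspec]), hspec']
  refine (secOrdAt_gen hX' (PicLoc.isInvertible_pullback g hL) h.1 h.2 he' hxU hU _ hm).trans ?_
  have hres : (g.residueFieldMap ξ).hom ((X.residue (g ξ)).hom
      ((X.presheaf.stalkSpecializes (h.1.map g.continuous)).hom a)) = Cyc.specMap x ξ h.1 ((g.stalkMap x).hom a) := by
    refine (ConcreteCategory.congr_hom (Scheme.residue_residueFieldMap g ξ) _).trans ?_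
    exact congrArg (X'.residue ξ).hom (Scheme.Hom.stalkSpecializes_stalkMap_apply g ξ x h.1 a)
  rw [hres]
  obtain ⟨p, hp⟩ := Ideal.mem_span_singleton.mp
    ((span_coeff_pullback g hL s i hD s' hD' he hxU ha.symm ha'.symm) ▸ Ideal.mem_span_singleton_self a')
  obtain ⟨q, hq⟩ := Ideal.mem_span_singleton.mp
    ((span_coeff_pullback g hL s i hD s' hD' he hxU ha.symm ha'.symm).symm ▸
      Ideal.mem_span_singleton_self ((g.stalkMap x).hom a))
  set σ := Cyc.specMap x ξ h.1
  have hpq : σ (p * q - 1) = 0 := by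
    have h1 := congrArg σ hp
    rw [hq, map_mul, map_mul] at h1
    rw [map_sub, map_one, map_mul, sub_eq_zero]
    refine mul_left_cancel₀ hm ?_
    rw [mul_one]
    conv_rhs => rw [h1]
    ring
  have hu : IsUnit q := by
    have hker : p * q - 1 ∈ maximalIdeal (X'.presheaf.stalk x) :=
      IsLocalRing.le_maximalIdeal (RingHom.ker_ne_top σ) (RingHom.mem_ker.mpr hpq)
    by_contra hq'
    have h1 := sub_mem (Ideal.mul_mem_left _ p ((IsLocalRing.mem_maximalIdeal _).mpr hq')) hker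
    rw [sub_sub_cancel] at h1
    exact (IsLocalRing.maximalIdeal.isMaximal _).ne_top ((Ideal.eq_top_iff_one _).mpr h1)
  have hgne : σ q ≠ 0 := (hu.map σ).ne_zero
  change Cyc.ordAt x ξ h.1 (σ a') = _
  rw [show σ ((g.stalkMap x).hom a) = σ a' * σ q by rw [← map_mul, ← hq],
    ordAt_mul hX' h.1 h.2 hm hgne, ordAt_unit hX' h.1 h.2 q hu, add_zero]

/-- changing the rational sections only over a closed subscheme changes the restriction to it by a
rational equivalence -/
theorem gysin_indep_closed [IsLocallyNoetherian X] {δ : X → ℤ} (hδ : Cyc.IsDimFun X δ) {Z : Scheme.{u}}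
    (i : Z ⟶ X) [IsClosedImmersion i] {L : X.Modules} (hL : PicF.IsInvertible L) (k : ℤ) (α : AlgebraicCycle X ℤ)
    (hα : α ∈ Cyc.Zk X δ (k + 1)) (s t : (ξ : X) → Cyc.secFibre L ξ)
    (hs : ∀ ξ, α ξ ≠ 0 → s ξ ≠ 0) (ht : ∀ ξ, α ξ ≠ 0 → t ξ ≠ 0)
    (hout : ∀ ξ, ξ ∉ Set.range i → ∀ x, Cyc.secDivFun δ L ξ (s ξ) x = Cyc.secDivFun δ L ξ (t ξ) x)
    (γ γ' : AlgebraicCycle Z ℤ) (hγ : ∀ z, γ z = Cyc.c1CapFun δ L ⇑α s (i z))
    (hγ' : ∀ z, γ' z = Cyc.c1CapFun δ L ⇑α t (i z)) :
    Cyc.RatEquiv (fun z ↦ δ (i z)) k γ γ' := by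
  classical
  choose a ha using fun ξ : {ξ // α ξ ≠ 0 ∧ ξ ∈ Set.range i} ↦
    exists_ratio_sections hL ξ.1 (s ξ) (t ξ) (hs ξ ξ.2.1) (ht ξ ξ.2.1)
  obtain ⟨E, hE, hE0, -⟩ := exists_lift_family i hδ (fun ξ : {ξ // α ξ ≠ 0 ∧ ξ ∈ Set.range i} ↦ ξ.1)
    (fun ξ ↦ ((X.residue ξ.1).hom (a ξ)) ^ (α ξ.1)) (fun ξ ↦ zpow_ne_zero _ (ha ξ).1) (fun ξ ↦ ξ.2.2)
    (fun x ↦ by
      obtain ⟨U, ⟨hU, hUc⟩, hxU, -⟩ := (PrespectralSpace.isTopologicalBasis (X := X)).exists_subset_of_mem_open
        (Set.mem_univ x) isOpen_univ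
      refine ⟨U, hU, hxU, ?_⟩
      have h := (Function.locallyFinsupp.locallyFiniteSupport α).finite_inter_support_of_isCompact hUc
      refine (h.preimage Subtype.val_injective.injOn).subset fun ξ ⟨w, hw1, hw2⟩ ↦ ?_
      exact ⟨(specializes_iff_mem_closure.mpr hw1).mem_open hU hw2, ξ.2.1⟩)
    k (fun ξ ↦ by
      by_contra hh
      exact ξ.2.1 (hα ξ.1 hh))
  unfold Cyc.RatEquiv
  refine (show γ - γ' = E from Function.locallyFinsuppWithin.ext fun z ↦ ?_) ▸ hE0
  rw [Function.locallyFinsuppWithin.coe_sub, Pi.sub_apply, hγ, hγ', hE, Cyc.c1CapFun, Cyc.c1CapFun,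
    ← finsum_sub_distrib (c1CapFun_support_finite δ L α s (i z)) (c1CapFun_support_finite δ L α t (i z))]
  have e : ∀ ξ : {ξ // α ξ ≠ 0 ∧ ξ ∈ Set.range i},
      α ξ.1 * Cyc.secDivFun δ L ξ.1 (s ξ.1) (i z) - α ξ.1 * Cyc.secDivFun δ L ξ.1 (t ξ.1) (i z) =
        Cyc.divFun δ ξ.1 (((X.residue ξ.1).hom (a ξ)) ^ (α ξ.1)) (i z) := by
    intro ξ
    simp only [Cyc.secDivFun, Cyc.divFun]
    split_ifs with h
    · rw [(ha ξ).2, secOrdAt_smul hδ hL h.1 h.2 _ (ha ξ).1 _ (ht ξ ξ.2.1), ordAt_zpow hδ h.1 h.2 (ha ξ).1]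
      ring
    · rw [mul_zero, sub_zero]
  rw [← finsum_congr e, finsum_subtype_eq_finsum_cond
    (f := fun ξ ↦ α ξ * Cyc.secDivFun δ L ξ (s ξ) (i z) - α ξ * Cyc.secDivFun δ L ξ (t ξ) (i z))
    (fun ξ ↦ α ξ ≠ 0 ∧ ξ ∈ Set.range i)]
  refine finsum_congr fun ξ ↦ ?_
  by_cases h0 : α ξ = 0
  · simp [h0]
  · by_cases hr : ξ ∈ Set.range i
    · simp [h0, hr]
    · simp [h0, hr, hout ξ hr (i z)]

/-- the flat pullback coefficient on a closed base change -/
theorem pullFun_closed_eq (g : X' ⟶ X) (i : D ⟶ X) [IsClosedImmersion i] (δ' : X' → ℤ) (δ : X → ℤ) (r : ℤ)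
    (β : X → ℤ) (z : ↥(pullback g i)) :
    Cyc.pullFun (pullback.snd g i) (fun z ↦ δ' (pullback.fst g i z)) (fun d ↦ δ (i d)) r (fun d ↦ β (i d)) z =
      Cyc.pullFun g δ' δ r β (pullback.fst g i z) := by
  have hgi : g (pullback.fst g i z) = i (pullback.snd g i z) :=
    congrArg (fun f : pullback g i ⟶ X ↦ f z) pullback.condition
  simp only [Cyc.pullFun, hgi]
  split_ifs with h
  swap
  · rfl
  congr 3
  have hsq : ((pullback.fst g i).stalkMap z).hom.comp (g.stalkMap (pullback.fst g i z)).hom =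
      (((pullback.snd g i).stalkMap z).hom.comp (i.stalkMap (pullback.snd g i z)).hom).comp
        (X.presheaf.stalkCongr (.of_eq hgi)).hom.hom := by
    have h1 := Scheme.Hom.stalkMap_congr_hom _ _ (pullback.condition (f := g) (g := i)) z
    rw [Scheme.Hom.stalkMap_comp, Scheme.Hom.stalkMap_comp] at h1
    exact congrArg CommRingCat.Hom.hom h1
  have hmD : Ideal.map (i.stalkMap (pullback.snd g i z)).hom (maximalIdeal _) = maximalIdeal _ := by
    haveI : IsLocalHom (i.stalkMap (pullback.snd g i z)).hom :=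
      IsLocalHom.of_surjective _ (i.stalkMap_surjective _)
    rw [← IsLocalRing.maximalIdeal_comap (i.stalkMap (pullback.snd g i z)).hom,
      Ideal.map_comap_of_surjective _ (i.stalkMap_surjective _)]
  have hmC : Ideal.map (X.presheaf.stalkCongr (.of_eq hgi)).hom.hom (maximalIdeal (X.presheaf.stalk (g (pullback.fst g i z)))) =
      maximalIdeal (X.presheaf.stalk (i (pullback.snd g i z))) := by
    haveI := IsLocalHom.of_surjective (X.presheaf.stalkCongr (.of_eq hgi)).hom.hom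
      (ConcreteCategory.bijective_of_isIso (X.presheaf.stalkCongr (.of_eq hgi)).hom).2
    rw [← IsLocalRing.maximalIdeal_comap (X.presheaf.stalkCongr (.of_eq hgi)).hom.hom,
      Ideal.map_comap_of_surjective _ (ConcreteCategory.bijective_of_isIso (X.presheaf.stalkCongr (.of_eq hgi)).hom).2]
  obtain ⟨_, ⟨V, hV, rfl⟩, hqV, -⟩ :=
    X.isBasis_affineOpens.exists_subset_of_mem_open (Set.mem_univ (g (pullback.fst g i z))) isOpen_univ
  have hker := ker_stalkMap_fst g i z ⟨V, hV⟩ hqV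
  have hle : RingHom.ker ((pullback.fst g i).stalkMap z).hom ≤
      Ideal.map (g.stalkMap (pullback.fst g i z)).hom (maximalIdeal _) := by
    refine hker.le.trans (Ideal.map_mono (IsLocalRing.le_maximalIdeal fun htop ↦ ?_))
    rw [htop, Ideal.map_top] at hker
    exact RingHom.ker_ne_top _ hker
  have h2 := ord_eq_of_surjective ((pullback.fst g i).stalkMap z).hom ((pullback.fst g i).stalkMap_surjective z)
    (Ideal.map ((pullback.snd g i).stalkMap z).hom (maximalIdeal _)) 0 0 (map_zero _)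
  rw [Ideal.span_singleton_zero, sup_bot_eq, Ideal.span_singleton_zero, sup_bot_eq] at h2
  rw [h2]
  congr 2
  all_goals rw [← hmD, ← hmC, Ideal.map_map, Ideal.map_map, ← hsq, ← Ideal.map_map,
    Ideal.comap_map_of_surjective _ ((pullback.fst g i).stalkMap_surjective z), ← RingHom.ker_eq_comap_bot,
    sup_eq_left.mpr hle]

/-- pushing forward and restricting to a closed subscheme -/
theorem map_closed_square (g : X' ⟶ X) [IsProper g] (i : D ⟶ X) [IsClosedImmersion i] (δ' : X' → ℤ) (δ : X → ℤ)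
    (c : AlgebraicCycle X' ℤ) (c₀ : AlgebraicCycle (pullback g i) ℤ) (hc : ∀ z, c₀ z = c (pullback.fst g i z))
    (d : D) :
    AlgebraicCycle.map (pullback.snd g i) (fun z ↦ δ' (pullback.fst g i z)) (fun d ↦ δ (i d)) c₀ d =
      AlgebraicCycle.map g δ' δ c (i d) := by
  classical
  let S := (finite_fibre_inter_support g c (i d)).toFinset
  have hcond : ∀ z, i (pullback.snd g i z) = g (pullback.fst g i z) :=
    fun z ↦ (congrArg (fun f : pullback g i ⟶ X ↦ f z) pullback.condition).symm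
  let T : Finset ↥(pullback g i) := S.preimage (pullback.fst g i)
    (pullback.fst g i).isClosedEmbedding.injective.injOn
  have hS : ∀ x, x ∈ S ↔ g x = i d ∧ c x ≠ 0 := fun x ↦ by simp [S]
  rw [map_apply_finset _ _ _ c₀ d T (fun z hz ↦ ?_) (fun z h1 h2 ↦ ?_),
    map_apply_finset g δ' δ c (i d) S (fun x hx ↦ ((hS x).mp hx).1) (fun x h1 h2 ↦ (hS x).mpr ⟨h1, h2⟩)]
  rotate_left
  · simp only [T, Finset.mem_preimage, hS] at hz
    exact i.isClosedEmbedding.injective ((hcond z).trans hz.1)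
  · simp only [T, Finset.mem_preimage, hS]
    exact ⟨by rw [← hcond, h1], by rw [← hc]; exact h2⟩
  refine Finset.sum_nbij (fun z ↦ pullback.fst g i z) (fun z hz ↦ Finset.mem_preimage.mp hz)
    (pullback.fst g i).isClosedEmbedding.injective.injOn (fun x hx ↦ ?_) (fun z _ ↦ ?_)
  · obtain ⟨z, rfl⟩ := (not_mem_range_fst g i x).mpr ⟨d, ((hS x).mp hx).1.symm⟩
    exact ⟨z, Finset.mem_preimage.mpr hx, rfl⟩
  · rw [hc]
    congr 2
    simp only [AlgebraicCycle.mapCoeff, hcond]
    have hdeg : (pullback.snd g i).residueDegree z = g.residueDegree (pullback.fst g i z) := by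
      have h1 := residueDegree_comp (pullback.snd g i) i z
      have h2 := residueDegree_comp (pullback.fst g i) g z
      rw [residueDegree_preimmersion i, one_mul] at h1
      rw [residueDegree_preimmersion (pullback.fst g i), mul_one] at h2
      rw [← h1, ← h2, pullback.condition]
    rw [hdeg]

end Groth.Agent.CycLib28
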