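import Mathlib
import Groth.Agent.CycLib28.GysinBase
import Groth.Agent.CycLib28.C1Push
import Groth.Agent.CycLib28.C1Flat
import Groth.Agent.CycLib28.RelDim

/-!
# Gysin maps commute with proper pushforward and flat pullback
-/

universe u

open CategoryTheory CategoryTheory.Limits AlgebraicGeometry Groth.Agent.CycLim28

namespace Groth.Agent.CycLib28

variable {X X' D : Scheme.{u}}

theorem gysinChoice_ne_zero (L : X.Modules) (s : L.presheaf.obj (Opposite.op ⊤))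
    (w : (ξ : X) → Cyc.secFibre L ξ) (hw : ∀ ξ, w ξ ≠ 0) (ξ : X) : Cyc.gysinChoice L s w ξ ≠ 0 := by
  unfold Cyc.gysinChoice
  split_ifs with h
  · exact h
  · exact hw ξ

theorem exists_restrict_cycle (i : D ⟶ X) [IsClosedImmersion i] (c : AlgebraicCycle X ℤ) :
    ∃ c₀ : AlgebraicCycle D ℤ, ∀ d, c₀ d = c (i d) := by
  refine ⟨{ toFun := fun d ↦ c (i d)
            supportWithinDomain' := by simp
            supportLocallyFiniteWithinDomain' := fun d _ ↦ ?_ }, fun d ↦ rfl⟩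
  obtain ⟨t, ht, hfin⟩ := c.supportLocallyFiniteWithinDomain' (i d) trivial
  exact ⟨i ⁻¹' t, i.continuous.continuousAt.preimage_mem_nhds ht,
    (hfin.preimage i.isClosedEmbedding.injective.injOn).subset fun e he ↦ ⟨he.1, he.2⟩⟩

theorem gysin_pullFun [IsLocallyNoetherian X] [IsLocallyNoetherian X'] {δ : X → ℤ} {δ' : X' → ℤ}
    (hX : Cyc.IsDimFun X δ) (hX' : Cyc.IsDimFun X' δ') (f : X' ⟶ X) [Flat f] [LocallyOfFiniteType f]
    (r : ℕ) (hr : Cyc.HasRelDim f r) (hδ : Cyc.DeltaCompat f δ' δ) {L : X.Modules} (hL : PicF.IsInvertible L)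
    (s : L.presheaf.obj (Opposite.op ⊤)) (i : D ⟶ X) [IsClosedImmersion i] (hD : Cyc.IsZeroSchemeOf i L s)
    (s' : ((Scheme.Modules.pullback f).obj L).presheaf.obj (Opposite.op ⊤))
    (hD' : Cyc.IsZeroSchemeOf (pullback.fst f i) ((Scheme.Modules.pullback f).obj L) s') (k : ℤ)
    (α : AlgebraicCycle X ℤ) (hα : α ∈ Cyc.Zk X δ (k + 1)) (w : (ξ : X) → Cyc.secFibre L ξ) (hw : ∀ ξ, w ξ ≠ 0)
    (w' : (ξ : X') → Cyc.secFibre ((Scheme.Modules.pullback f).obj L) ξ) (hw' : ∀ ξ, w' ξ ≠ 0)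
    (ζ₁ ζ₂ : AlgebraicCycle (pullback f i) ℤ)
    (h₁ : ∀ z, ζ₁ z = Cyc.c1CapFun δ' ((Scheme.Modules.pullback f).obj L) (Cyc.pullFun f δ' δ r ⇑α)
      (Cyc.gysinChoice ((Scheme.Modules.pullback f).obj L) s' w') (pullback.fst f i z))
    (h₂ : ⇑ζ₂ = Cyc.pullFun (pullback.snd f i) (fun z => δ' (pullback.fst f i z)) (fun d => δ (i d)) r
      (fun d => Cyc.c1CapFun δ L ⇑α (Cyc.gysinChoice L s w) (i d))) :
    Cyc.RatEquiv (fun z => δ' (pullback.fst f i z)) (k + r) ζ₁ ζ₂ := by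
  classical
  have hv := gysinChoice_ne_zero L s w hw
  have hc : ∀ x, GenInFibre f x → δ' x = δ (f x) + (r : ℤ) := fun x hx ↦ delta_of_hasRelDim f hr hδ x hx
  obtain ⟨β, hβ⟩ := exists_pullback_cycle f δ' δ r hc α
  have hβk : β ∈ Cyc.Zk X' δ' (k + r + 1) := by
    intro x hx
    rw [hβ, Cyc.pullFun]
    split_ifs with h
    · rw [hα (f x) (fun e ↦ hx (by omega)), zero_mul]
    · rfl
  obtain ⟨u, hu, hword, heq⟩ := c1CapFun_pullback_section f hX' hX (r : ℤ) hc hL α _ hv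
  refine gysin_indep_closed hX' (pullback.fst f i) (PicLoc.isInvertible_pullback f hL) (k + r) β hβk
    (Cyc.gysinChoice ((Scheme.Modules.pullback f).obj L) s' w') u
    (fun ξ _ ↦ gysinChoice_ne_zero _ s' w' hw' ξ) (fun ξ _ ↦ hu ξ) (fun ξ hξ x ↦ ?_) ζ₁ ζ₂
    (fun z ↦ by rw [h₁, hβ]) (fun z ↦ ?_)
  · exact secDivFun_gysin_pullback hX' f hL s i hD s' hD' w w'
      (fun h ↦ hξ ((not_mem_range_fst f i ξ).mpr h)) (u ξ) (fun x' h hd U e he hx hU φ hφ ↦
        hword ξ x' h hd U e he hx hU φ hφ) x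
  · rw [h₂, pullFun_closed_eq f i δ' δ r (Cyc.c1CapFun δ L ⇑α (Cyc.gysinChoice L s w)) z, hβ, ← heq]

theorem gysin_map [IsLocallyNoetherian X] [IsLocallyNoetherian X'] {δ : X → ℤ} {δ' : X' → ℤ}
    (hX : Cyc.IsDimFun X δ) (hX' : Cyc.IsDimFun X' δ') (f : X' ⟶ X) [IsProper f]
    (hδ : Cyc.DeltaCompat f δ' δ) {L : X.Modules} (hL : PicF.IsInvertible L)
    (s : L.presheaf.obj (Opposite.op ⊤)) (i : D ⟶ X) [IsClosedImmersion i] (hD : Cyc.IsZeroSchemeOf i L s)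
    (s' : ((Scheme.Modules.pullback f).obj L).presheaf.obj (Opposite.op ⊤))
    (hD' : Cyc.IsZeroSchemeOf (pullback.fst f i) ((Scheme.Modules.pullback f).obj L) s') (k : ℤ)
    (α' : AlgebraicCycle X' ℤ) (hα' : α' ∈ Cyc.Zk X' δ' (k + 1)) (w : (ξ : X) → Cyc.secFibre L ξ) (hw : ∀ ξ, w ξ ≠ 0)
    (w' : (ξ : X') → Cyc.secFibre ((Scheme.Modules.pullback f).obj L) ξ) (hw' : ∀ ξ, w' ξ ≠ 0)
    (γ : AlgebraicCycle D ℤ)
    (hγ : ∀ d, γ d = Cyc.c1CapFun δ L ⇑(AlgebraicCycle.map f δ' δ α') (Cyc.gysinChoice L s w) (i d))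
    (γ' : AlgebraicCycle (pullback f i) ℤ)
    (hγ' : ∀ z, γ' z = Cyc.c1CapFun δ' ((Scheme.Modules.pullback f).obj L) ⇑α'
      (Cyc.gysinChoice ((Scheme.Modules.pullback f).obj L) s' w') (pullback.fst f i z)) :
    Cyc.RatEquiv (fun d => δ (i d)) k γ
      (AlgebraicCycle.map (pullback.snd f i) (fun z => δ' (pullback.fst f i z)) (fun d => δ (i d)) γ') := by
  classical
  have hv := gysinChoice_ne_zero L s w hw
  haveI : IsLocallyNoetherian D := LocallyOfFiniteType.isLocallyNoetherian i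
  haveI : IsLocallyNoetherian (pullback f i) := LocallyOfFiniteType.isLocallyNoetherian (pullback.fst f i)
  obtain ⟨u, γ₁, hu, hword, hγ₁, hmap⟩ := c1Cap_push_section hX' hX f hδ hL α' _ hv
  obtain ⟨γ₂, hγ₂⟩ := exists_restrict_cycle (pullback.fst f i) γ₁
  have h0 : Cyc.RatEquiv (fun z => δ' (pullback.fst f i z)) k γ₂ γ' :=
    gysin_indep_closed hX' (pullback.fst f i) (PicLoc.isInvertible_pullback f hL) k α' hα' u
      (Cyc.gysinChoice ((Scheme.Modules.pullback f).obj L) s' w')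
      (fun ξ _ ↦ hu ξ) (fun ξ _ ↦ gysinChoice_ne_zero _ s' w' hw' ξ) (fun ξ hξ x ↦
        (secDivFun_gysin_pullback hX' f hL s i hD s' hD' w w'
          (fun h ↦ hξ ((not_mem_range_fst f i ξ).mpr h)) (u ξ) (fun x' h hd U e he hx hU φ hφ ↦
            hword ξ x' h hd U e he hx hU φ hφ) x).symm) γ₂ γ' (fun z ↦ by rw [hγ₂, hγ₁]) hγ'
  have h1 := map_ratEquivZero (isDimFun_comp_closedImmersion (pullback.fst f i) hX')
    (isDimFun_comp_closedImmersion i hX) (pullback.snd f i)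
    (deltaCompat_square (pullback.fst f i) i (pullback.snd f i) f pullback.condition.symm hδ) k _ h0
  have e : AlgebraicCycle.map (pullback.snd f i) (fun z => δ' (pullback.fst f i z)) (fun d => δ (i d)) (γ₂ - γ') =
      γ - AlgebraicCycle.map (pullback.snd f i) (fun z => δ' (pullback.fst f i z)) (fun d => δ (i d)) γ' := by
    refine eq_sub_of_add_eq (Function.locallyFinsuppWithin.ext fun d ↦ ?_)
    rw [hγ, ← hmap, ← map_closed_square f i δ' δ γ₁ γ₂ hγ₂ d]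
    exact (map_apply_add (pullback.snd f i) _ _ (γ₂ - γ') γ' γ₂ (fun z ↦ by simp) d).symm
  rw [e] at h1
  exact h1

end Groth.Agent.CycLib28
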