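import Mathlib
import Groth.Agent.CycLib28.MayerVietoris

/-!
# Rational equivalence to zero is closed under sums and signs
-/

set_option autoImplicit false

universe u

open CategoryTheory AlgebraicGeometry Groth.Agent.CycLim28

namespace Groth.Agent.CycLib28

variable {X : Scheme.{u}} [IsLocallyNoetherian X] {δ : X → ℤ}

theorem divFun_family_finite {ι : Type u} (ξ : ι → X) (f : (i : ι) → X.residueField (ξ i))
    (hloc : ∀ x : X, ∃ U : Set X, IsOpen U ∧ x ∈ U ∧ {i | (closure {ξ i} ∩ U).Nonempty}.Finite) (x : X) :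
    (Function.support fun i ↦ Cyc.divFun δ (ξ i) (f i) x).Finite :=
  (finite_near ξ hloc (isCompact_singleton (x := x))).subset fun i hi ↦ by
    by_contra hcl
    exact hi (divFun_eq_zero_of_not_specializes _ fun hh ↦ hcl ⟨x, specializes_iff_mem_closure.mp hh, rfl⟩)

theorem ratEquivZero_neg (hδ : Cyc.IsDimFun X δ) {k : ℤ} {α β : AlgebraicCycle X ℤ}
    (h : Cyc.RatEquivZero δ k α) (he : ∀ x, β x = -α x) : Cyc.RatEquivZero δ k β := by
  obtain ⟨ι, ξ, f, hξ, hf, hloc, hsum⟩ := h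
  refine ⟨ι, ξ, fun i ↦ (f i)⁻¹, hξ, fun i ↦ inv_ne_zero (hf i), hloc, fun x ↦ ?_⟩
  rw [he, hsum, ← finsum_neg_distrib]
  exact finsum_congr fun i ↦ (divFun_inv hδ (hf i) x).symm

theorem ratEquivZero_add {k : ℤ} {α β γ : AlgebraicCycle X ℤ}
    (hα : Cyc.RatEquivZero δ k α) (hβ : Cyc.RatEquivZero δ k β) (he : ∀ x, γ x = α x + β x) :
    Cyc.RatEquivZero δ k γ := by
  obtain ⟨ι, ξ, f, hξ, hf, hloc, hsum⟩ := hα
  obtain ⟨ι', ξ', f', hξ', hf', hloc', hsum'⟩ := hβ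
  let ζ : ι ⊕ ι' → X := Sum.elim ξ ξ'
  let g : (j : ι ⊕ ι') → X.residueField (ζ j) := fun j ↦ match j with
    | .inl i => f i
    | .inr i => f' i
  refine ⟨ι ⊕ ι', ζ, g, fun j ↦ ?_, fun j ↦ ?_, fun x ↦ ?_, fun x ↦ ?_⟩
  · cases j
    · exact hξ _
    · exact hξ' _
  · cases j
    · exact hf _
    · exact hf' _
  · obtain ⟨U, hU, hxU, hfin⟩ := hloc x
    obtain ⟨U', hU', hxU', hfin'⟩ := hloc' x
    refine ⟨U ∩ U', hU.inter hU', ⟨hxU, hxU'⟩, ((hfin.image Sum.inl).union (hfin'.image Sum.inr)).subset ?_⟩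
    rintro (i | i) ⟨w, hw, hwU, hwU'⟩
    · exact Or.inl ⟨i, ⟨w, hw, hwU⟩, rfl⟩
    · exact Or.inr ⟨i, ⟨w, hw, hwU'⟩, rfl⟩
  · rw [he, hsum, hsum']
    have h1 := divFun_family_finite (δ := δ) ξ f hloc x
    have h2 := divFun_family_finite (δ := δ) ξ' f' hloc' x
    classical
    let G : ι ⊕ ι' → ℤ := fun j ↦ Cyc.divFun δ (ζ j) (g j) x
    change _ = ∑ᶠ j, G j
    rw [finsum_eq_sum_of_support_subset G (s := h1.toFinset.disjSum h2.toFinset), Finset.sum_disjSum,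
      finsum_eq_sum_of_support_subset _ (s := h1.toFinset) (fun i hi ↦ h1.mem_toFinset.mpr hi),
      finsum_eq_sum_of_support_subset _ (s := h2.toFinset) (fun i hi ↦ h2.mem_toFinset.mpr hi)]
    · rfl
    rintro (i | i) hj
    · exact Finset.inl_mem_disjSum.mpr (h1.mem_toFinset.mpr hj)
    · exact Finset.inr_mem_disjSum.mpr (h2.mem_toFinset.mpr hj)

end Groth.Agent.CycLib28
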