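import Mathlib
import Groth.Agent.CycLib28.C1Commute
import Groth.Agent.CycLib28.C1Trivial
import Groth.Agent.CycLib28.MayerVietoris
import Groth.Agent.CycLib28.RatAdd
import Groth.Agent.CycLib28.GysinMaps
import Groth.Agent.CycLib28.ZeroSec
import Groth.Agent.CycLib28.ClosedZero
import Groth.Agent.AmpleLib.Power
import Groth.Agent.S1923

/-!
# Consequences of the commutation of two first Chern classes
-/

set_option autoImplicit false

universe u

open CategoryTheory AlgebraicGeometry IsLocalRing Groth.Agent.CycLim28 TopologicalSpace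
open Groth.Agent.Coherent Groth.Agent.PicLib

namespace Groth.Agent.CycLib28

variable {X : Scheme.{u}} [IsLocallyNoetherian X] {δ : X → ℤ}

omit [IsLocallyNoetherian X] in
theorem locallyFinite_punit (η : X) (x : X) :
    ∃ U : Set X, IsOpen U ∧ x ∈ U ∧ {i : PUnit.{u + 1} | (closure {(fun _ ↦ η) i} ∩ U).Nonempty}.Finite :=
  ⟨Set.univ, isOpen_univ, trivial, Set.toFinite _⟩

/-- commutation for the divisors of two rational sections on one integral closed subscheme -/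
theorem c1Cap_commute_point (hδ : Cyc.IsDimFun X δ) {L N : X.Modules} (hL : PicF.IsInvertible L)
    (hN : PicF.IsInvertible N) (η : X) (k : ℤ) (hk : δ η = k + 2) (s : Cyc.secFibre L η) (hs : s ≠ 0)
    (t : Cyc.secFibre N η) (ht : t ≠ 0) (u : (ξ : X) → Cyc.secFibre N ξ) (hu : ∀ ξ, u ξ ≠ 0)
    (v : (ξ : X) → Cyc.secFibre L ξ) (hv : ∀ ξ, v ξ ≠ 0) :
    ∃ (J : Type u) (ζ : J → X) (f : (j : J) → X.residueField (ζ j)),
      (∀ j, δ (ζ j) = k + 1) ∧ (∀ j, f j ≠ 0) ∧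
      (∀ x : X, ∃ U : Set X, IsOpen U ∧ x ∈ U ∧ {j | (closure {ζ j} ∩ U).Nonempty}.Finite) ∧
      (∀ Z : Set X, (∀ ξ : X, ξ ∉ Z → ∀ h : η ⤳ ξ, δ ξ + 1 = δ η →
        symF hL hN h s t (u ξ) (v ξ) = 1) → ∀ j, ζ j ∈ Z) ∧
      ∀ x : X, ∑ᶠ j, Cyc.divFun δ (ζ j) (f j) x =
        Cyc.c1CapFun δ N (Cyc.secDivFun δ L η s) u x - Cyc.c1CapFun δ L (Cyc.secDivFun δ N η t) v x := by
  obtain ⟨J, ζ, f, h1, h2, h3, h4, h5⟩ := exists_commute_family hδ (fun _ : PUnit.{u + 1} ↦ η) (fun _ ↦ 1) k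
    (fun _ ↦ hk) (fun _ ↦ s) (fun _ ↦ t) (fun _ ↦ hs) (fun _ ↦ ht) (fun x ↦ locallyFinite_punit η x) u v hu hv hL hN
  refine ⟨J, ζ, f, h1, h2, h3, fun Z hZ ↦ h4 Z fun _ ↦ hZ, fun x ↦ (h5 x).trans ?_⟩
  simp only [finsum_unique, one_mul]

theorem c1Cap_swap_generic (hδ : Cyc.IsDimFun X δ) {L N : X.Modules} (hL : PicF.IsInvertible L)
    (hN : PicF.IsInvertible N) (η : X) (n : ℤ) (hn : δ η = n) (s : Cyc.secFibre L η) (hs : s ≠ 0)
    (t : Cyc.secFibre N η) (ht : t ≠ 0) (u : (ξ : X) → Cyc.secFibre N ξ) (hu : ∀ ξ, u ξ ≠ 0)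
    (v : (ξ : X) → Cyc.secFibre L ξ) (hv : ∀ ξ, v ξ ≠ 0) (γ₁ γ₂ : AlgebraicCycle X ℤ)
    (h₁ : ⇑γ₁ = Cyc.c1CapFun δ N (Cyc.secDivFun δ L η s) u) (h₂ : ⇑γ₂ = Cyc.c1CapFun δ L (Cyc.secDivFun δ N η t) v) :
    Cyc.RatEquiv δ (n - 2) γ₁ γ₂ := by
  obtain ⟨J, ζ, f, h1, h2, h3, -, h5⟩ := c1Cap_commute_point hδ hL hN η (n - 2) (by omega) s hs t ht u hu v hv
  exact ⟨J, ζ, f, h1, h2, h3, fun x ↦ by
    rw [Function.locallyFinsuppWithin.coe_sub, Pi.sub_apply, h₁, h₂]; exact (h5 x).symm⟩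

omit [IsLocallyNoetherian X] in
theorem c1Cap_support_eq (α : AlgebraicCycle X ℤ) (L : X.Modules) (s : (ξ : X) → Cyc.secFibre L ξ) (ξ : X) :
    Cyc.c1CapFun δ L ⇑α s ξ = ∑ᶠ i : {η // α η ≠ 0}, α i.1 * Cyc.secDivFun δ L i.1 (s i.1) ξ := by
  rw [finsum_subtype_eq_finsum_cond (f := fun η ↦ α η * Cyc.secDivFun δ L η (s η) ξ) (fun η ↦ α η ≠ 0), Cyc.c1CapFun]
  refine finsum_congr fun η ↦ ?_
  by_cases h : α η = 0 <;> simp [h]

theorem c1Cap_comm (hδ : Cyc.IsDimFun X δ) {L N : X.Modules} (hL : PicF.IsInvertible L)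
    (hN : PicF.IsInvertible N) (k : ℤ) (α : AlgebraicCycle X ℤ) (hα : α ∈ Cyc.Zk X δ (k + 2))
    (sL sL' : (ξ : X) → Cyc.secFibre L ξ) (sN sN' : (ξ : X) → Cyc.secFibre N ξ) (hsL : ∀ ξ, sL ξ ≠ 0)
    (hsL' : ∀ ξ, sL' ξ ≠ 0) (hsN : ∀ ξ, sN ξ ≠ 0) (hsN' : ∀ ξ, sN' ξ ≠ 0) (γ₁ γ₂ : AlgebraicCycle X ℤ)
    (h₁ : ⇑γ₁ = Cyc.c1CapFun δ L (Cyc.c1CapFun δ N ⇑α sN) sL)
    (h₂ : ⇑γ₂ = Cyc.c1CapFun δ N (Cyc.c1CapFun δ L ⇑α sL') sN') : Cyc.RatEquiv δ k γ₁ γ₂ := by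
  classical
  have hloc : ∀ x : X, ∃ U : Set X, IsOpen U ∧ x ∈ U ∧
      {i : {η // α η ≠ 0} | (closure {i.1} ∩ U).Nonempty}.Finite := fun x ↦ by
    obtain ⟨U, ⟨hU, hUc⟩, hxU, -⟩ := (PrespectralSpace.isTopologicalBasis (X := X)).exists_subset_of_mem_open
      (Set.mem_univ x) isOpen_univ
    refine ⟨U, hU, hxU, ?_⟩
    have h := (Function.locallyFinsupp.locallyFiniteSupport α).finite_inter_support_of_isCompact hUc
    refine (h.preimage Subtype.val_injective.injOn).subset fun ξ ⟨w, hw1, hw2⟩ ↦ ?_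
    exact ⟨(specializes_iff_mem_closure.mpr hw1).mem_open hU hw2, ξ.2⟩
  have hk : ∀ i : {η // α η ≠ 0}, δ i.1 = k + 2 := fun i ↦ by
    by_contra hh
    exact i.2 (hα i.1 hh)
  obtain ⟨J, ζ, f, h1, h2, h3, -, h5⟩ := exists_commute_family hδ (fun i : {η // α η ≠ 0} ↦ i.1) (fun i ↦ α i.1) k
    hk (fun i ↦ sN i.1) (fun i ↦ sL' i.1) (fun i ↦ hsN _) (fun i ↦ hsL' _) hloc sL sN' hsL hsN' hN hL
  refine ⟨J, ζ, f, h1, h2, h3, fun x ↦ ?_⟩
  rw [Function.locallyFinsuppWithin.coe_sub, Pi.sub_apply, h₁, h₂, h5]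
  rw [show Cyc.c1CapFun δ N ⇑α sN = fun ξ ↦ ∑ᶠ i : {η // α η ≠ 0}, α i.1 * Cyc.secDivFun δ N i.1 (sN i.1) ξ from
      funext (c1Cap_support_eq α N sN),
    show Cyc.c1CapFun δ L ⇑α sL' = fun ξ ↦ ∑ᶠ i : {η // α η ≠ 0}, α i.1 * Cyc.secDivFun δ L i.1 (sL' i.1) ξ from
      funext (c1Cap_support_eq α L sL')]

/-! ### a principal divisor -/

omit [IsLocallyNoetherian X] in
theorem unitSec_ne_zero (ξ : X) :
    (Submodule.Quotient.mk (AssSch12.unitOne ξ) : Cyc.secFibre (Coh.structureModule X) ξ) ≠ 0 := fun h0 ↦ by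
  have h := residue_eq_of_mk_eq ξ 1 0 (by rw [one_smul, zero_smul, h0, Submodule.Quotient.mk_zero])
  rw [map_one, map_zero] at h
  exact one_ne_zero h

theorem secDivFun_unit (hδ : Cyc.IsDimFun X δ) (ξ x : X) :
    Cyc.secDivFun δ (Coh.structureModule X) ξ (Submodule.Quotient.mk (AssSch12.unitOne ξ)) x = 0 := by
  simp only [Cyc.secDivFun]
  split_ifs with h
  · have := secOrdAt_structureModule hδ h.1 h.2 1 (by rw [map_one]; exact one_ne_zero)
    rw [one_smul, map_one, ordAt_one hδ h.1 h.2] at this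
    exact this
  · rfl

theorem exists_divSection (hδ : Cyc.IsDimFun X δ) (η : X) (f : X.residueField η) (hf : f ≠ 0) :
    ∃ t : Cyc.secFibre (Coh.structureModule X) η, t ≠ 0 ∧
      ∀ x, Cyc.secDivFun δ (Coh.structureModule X) η t x = Cyc.divFun δ η f x := by
  obtain ⟨a, rfl⟩ := X.residue_surjective η f
  refine ⟨Submodule.Quotient.mk (a • AssSch12.unitOne η), fun h0 ↦ hf ?_, fun x ↦ ?_⟩
  · have h := residue_eq_of_mk_eq η a 0 (by rw [zero_smul, h0, Submodule.Quotient.mk_zero])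
    rwa [map_zero] at h
  · simp only [Cyc.secDivFun, Cyc.divFun]
    split_ifs with h
    · exact secOrdAt_structureModule hδ h.1 h.2 a hf
    · rfl

/-- the cap of a cycle rationally equivalent to zero is minus a sum of divisors -/
theorem exists_cap_ratZero (hδ : Cyc.IsDimFun X δ) {L : X.Modules} (hL : PicF.IsInvertible L) (k : ℤ)
    (α : AlgebraicCycle X ℤ) (h0 : Cyc.RatEquivZero δ (k + 1) α) (v : (ξ : X) → Cyc.secFibre L ξ)
    (hv : ∀ ξ, v ξ ≠ 0) :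
    ∃ (J : Type u) (ζ : J → X) (f : (j : J) → X.residueField (ζ j)),
      (∀ j, δ (ζ j) = k + 1) ∧ (∀ j, f j ≠ 0) ∧
      (∀ x : X, ∃ U : Set X, IsOpen U ∧ x ∈ U ∧ {j | (closure {ζ j} ∩ U).Nonempty}.Finite) ∧
      (∀ Z : Set X, (∀ η ξ : X, ξ ∉ Z → ∀ h : η ⤳ ξ, ∃ g : L.presheaf.stalk ξ,
        Submodule.span (X.presheaf.stalk ξ) {g} = ⊤ ∧ v η = Submodule.Quotient.mk (L.presheaf.stalkSpecializes h g) ∧
          v ξ = Submodule.Quotient.mk g) → ∀ j, ζ j ∈ Z) ∧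
      ∀ x : X, ∑ᶠ j, Cyc.divFun δ (ζ j) (f j) x = -Cyc.c1CapFun δ L ⇑α v x := by
  obtain ⟨ι, η, φ, hη, hφ, hloc, hsum⟩ := h0
  choose t ht hdiv using fun i ↦ exists_divSection hδ (η i) (φ i) (hφ i)
  have hO : PicF.IsInvertible (Coh.structureModule X) := AmpleLib.isInvertible_structureModule
  obtain ⟨J, ζ, f, h1, h2, h3, h4, h5⟩ := exists_commute_family hδ η (fun _ ↦ 1) k
    (fun i ↦ by rw [hη]; ring) (fun i ↦ v (η i)) t (fun i ↦ hv _) ht hloc
    (fun ξ ↦ Submodule.Quotient.mk (AssSch12.unitOne ξ)) v unitSec_ne_zero hv hL hO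
  refine ⟨J, ζ, f, h1, h2, h3, fun Z hZ ↦ h4 Z fun i ξ hξ h hd ↦ ?_, fun x ↦ (h5 x).trans ?_⟩
  · obtain ⟨g, hg, hsg, hvg⟩ := hZ (η i) ξ hξ h
    exact symF_eq_one_of_gen hδ hL hO h hd (hv _) (ht i) (unitSec_ne_zero ξ) (hv ξ) hg hsg hvg
  · have e1 : ∀ F : X → ℤ, Cyc.c1CapFun δ (Coh.structureModule X) F
        (fun ξ ↦ Submodule.Quotient.mk (AssSch12.unitOne ξ)) x = 0 := fun F ↦
      finsum_eq_zero_of_forall_eq_zero fun ξ ↦ by rw [secDivFun_unit hδ, mul_zero]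
    have e2 : (fun ξ ↦ ∑ᶠ i, (1 : ℤ) * Cyc.secDivFun δ (Coh.structureModule X) (η i) (t i) ξ) = ⇑α :=
      funext fun ξ ↦ by
        rw [hsum ξ]
        exact finsum_congr fun i ↦ by rw [one_mul, hdiv]
    rw [e1, e2, zero_sub]

theorem c1Cap_ratEquivZero (hδ : Cyc.IsDimFun X δ) {L : X.Modules} (hL : PicF.IsInvertible L) (k : ℤ)
    (α : AlgebraicCycle X ℤ) (h0 : Cyc.RatEquivZero δ (k + 1) α) (s : (ξ : X) → Cyc.secFibre L ξ)
    (hs : ∀ ξ, s ξ ≠ 0) (γ : AlgebraicCycle X ℤ) (hγ : ⇑γ = Cyc.c1CapFun δ L ⇑α s) :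
    Cyc.RatEquivZero δ k γ := by
  obtain ⟨J, ζ, f, h1, h2, h3, -, h5⟩ := exists_cap_ratZero hδ hL k α h0 s hs
  refine ⟨J, ζ, fun j ↦ (f j)⁻¹, h1, fun j ↦ inv_ne_zero (h2 j), h3, fun x ↦ ?_⟩
  rw [hγ, finsum_congr fun j ↦ divFun_inv hδ (h2 j) x, finsum_neg_distrib, h5, neg_neg]

/-! ### the Gysin map -/

variable {D : Scheme.{u}}

omit [IsLocallyNoetherian X] in
theorem gysinChoice_gen {L : X.Modules} (hL : PicF.IsInvertible L) (s : L.presheaf.obj (Opposite.op ⊤))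
    (i : D ⟶ X) [IsClosedImmersion i] (hD : Cyc.IsZeroSchemeOf i L s) (t : (ξ : X) → Cyc.secFibre L ξ)
    {η ξ : X} (h : η ⤳ ξ) (hξ : ξ ∉ Set.range i) :
    Submodule.span (X.presheaf.stalk ξ) {(L.presheaf.germ ⊤ ξ trivial) s} = ⊤ ∧
      Cyc.gysinChoice L s t η =
        Submodule.Quotient.mk (L.presheaf.stalkSpecializes h ((L.presheaf.germ ⊤ ξ trivial) s)) ∧
      Cyc.gysinChoice L s t ξ = Submodule.Quotient.mk ((L.presheaf.germ ⊤ ξ trivial) s) := by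
  have hout : ∀ y : X, y ∉ Set.range i →
      (Submodule.Quotient.mk ((L.presheaf.germ ⊤ y trivial) s) : Cyc.secFibre L y) ≠ 0 := fun y hy h0 ↦
    hy (hD.1.symm ▸ h0)
  have hη : η ∉ Set.range i := fun hm ↦ hξ (h.mem_closed i.isClosedEmbedding.isClosed_range hm)
  refine ⟨?_, ?_, ?_⟩
  · obtain ⟨g, hg⟩ := exists_gen_span hL ξ
    obtain ⟨c, hc⟩ := (gen_bijective hL hg).1.2 ((L.presheaf.germ ⊤ ξ trivial) s)
    replace hc : c • g = (L.presheaf.germ ⊤ ξ trivial) s := hc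
    have hu : IsUnit c := by
      refine (IsLocalRing.residue_ne_zero_iff_isUnit c).mp fun h0 ↦ hout ξ hξ ?_
      rw [← hc]
      have hz := (mk_eq_zero_iff hL (specializes_refl ξ) hg c).mpr h0
      rwa [TopCat.Presheaf.stalkSpecializes_refl] at hz
    rw [← hc, Submodule.span_singleton_smul_eq hu]
    exact hg
  · rw [TopCat.Presheaf.germ_stalkSpecializes_apply]
    exact if_pos (hout η hη)
  · exact if_pos (hout ξ hξ)

theorem gysin_ratEquivZero (hδ : Cyc.IsDimFun X δ) {L : X.Modules} (hL : PicF.IsInvertible L)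
    (s : L.presheaf.obj (Opposite.op ⊤)) (i : D ⟶ X) [IsClosedImmersion i] (hD : Cyc.IsZeroSchemeOf i L s) (k : ℤ)
    (α : AlgebraicCycle X ℤ) (h0 : Cyc.RatEquivZero δ (k + 1) α) (t : (ξ : X) → Cyc.secFibre L ξ)
    (ht : ∀ ξ, t ξ ≠ 0) (γ : AlgebraicCycle D ℤ)
    (hγ : ∀ d : D, γ d = Cyc.c1CapFun δ L ⇑α (Cyc.gysinChoice L s t) (i d)) :
    Cyc.RatEquivZero (fun d => δ (i d)) k γ := by
  obtain ⟨J, ζ, f, h1, h2, h3, h4, h5⟩ :=
    exists_cap_ratZero hδ hL k α h0 (Cyc.gysinChoice L s t) (gysinChoice_ne_zero L s t ht)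
  have hJ := h4 (Set.range i) fun η ξ hξ h ↦ ⟨_, gysinChoice_gen hL s i hD t h hξ⟩
  obtain ⟨E, hE, -, hE'⟩ := exists_lift_family i hδ ζ f h2 hJ h3 k h1
  refine (show γ = -E from Function.locallyFinsuppWithin.ext fun d ↦ ?_) ▸ hE'
  rw [Function.locallyFinsuppWithin.coe_neg, Pi.neg_apply, hE, h5, neg_neg, hγ]

omit [IsLocallyNoetherian X] in
theorem not_mem_range_of_regular [IsIntegral X] {L : X.Modules} (hL : PicF.IsInvertible L)
    (s : L.presheaf.obj (Opposite.op ⊤))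
    (hreg : ∀ x : X, Function.Injective (fun a : X.presheaf.stalk x => a • (L.presheaf.germ ⊤ x trivial) s)) :
    (L.presheaf.germ ⊤ (genericPoint X) trivial) s ≠ 0 ∧
      (Submodule.Quotient.mk ((L.presheaf.germ ⊤ (genericPoint X) trivial) s) :
        Cyc.secFibre L (genericPoint X)) ≠ 0 := by
  have hne : (L.presheaf.germ ⊤ (genericPoint X) trivial) s ≠ 0 := fun h ↦
    one_ne_zero (hreg (genericPoint X) (show (1 : X.presheaf.stalk (genericPoint X)) • _ = (0 : X.presheaf.stalk (genericPoint X)) • _ by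
      rw [h, smul_zero, smul_zero]))
  refine ⟨hne, fun h0 ↦ ?_⟩
  obtain ⟨g, hg⟩ := exists_gen_span hL (genericPoint X)
  obtain ⟨c, hc⟩ := (gen_bijective hL hg).1.2 ((L.presheaf.germ ⊤ (genericPoint X) trivial) s)
  replace hc : c • g = (L.presheaf.germ ⊤ (genericPoint X) trivial) s := hc
  have hc0 : c ≠ 0 := fun h ↦ hne (by rw [← hc, h, zero_smul])
  have hu : IsUnit c := (isUnit_iff_ne_zero (G₀ := X.functionField)).mpr hc0
  have hz : (X.residue (genericPoint X)).hom c = 0 := by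
    refine (mk_eq_zero_iff hL (specializes_refl _) hg c).mp ?_
    rw [TopCat.Presheaf.stalkSpecializes_refl]
    exact (congrArg _ hc).trans h0
  exact (IsLocalRing.residue_ne_zero_iff_isUnit c).mpr hu hz

/-- the divisor of a regular section is the fundamental cycle of its zero scheme -/
theorem zeroSectionFun_eq_subscheme {L : X.Modules} (hL : PicF.IsInvertible L)
    (s : L.presheaf.obj (Opposite.op ⊤)) (i : D ⟶ X) [IsClosedImmersion i] (hD : Cyc.IsZeroSchemeOf i L s) (k : ℤ) :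
    (∀ d : D, Cyc.zeroSectionFun δ k L s (i d) = Cyc.subschemeFun (fun d => δ (i d)) k (𝟙 D) d) ∧
      ∀ ξ, ξ ∉ Set.range i → Cyc.zeroSectionFun δ k L s ξ = 0 := by
  classical
  have key : ∀ (ξ : X) (g : L.presheaf.stalk ξ) (_ : Submodule.span (X.presheaf.stalk ξ) {g} = ⊤)
      (f : X.presheaf.stalk ξ), (L.presheaf.germ ⊤ ξ trivial) s = f • g → δ ξ = k →
      Cyc.zeroSectionFun δ k L s ξ =
        ((Module.length (X.presheaf.stalk ξ) (↥(X.presheaf.stalk ξ) ⧸ Ideal.span {f})).toNat : ℤ) := by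
    intro ξ g hg f hf hk
    obtain ⟨ht, f', hf'⟩ := exists_choose_coeff hL ξ ((L.presheaf.germ ⊤ ξ trivial) s)
    obtain ⟨c, hc, e⟩ := exists_unit_change hL hg ht.choose_spec
    simp only [Cyc.zeroSectionFun]
    rw [if_pos hk, dif_pos ht, dif_pos ⟨f', hf'⟩]
    have hsp := Classical.choose_spec (⟨f', hf'⟩ : ∃ f'' : X.presheaf.stalk ξ,
      (L.presheaf.germ ⊤ ξ trivial) s = f'' • ht.choose)
    revert hsp
    generalize Classical.choose (⟨f', hf'⟩ : ∃ f'' : X.presheaf.stalk ξ,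
      (L.presheaf.germ ⊤ ξ trivial) s = f'' • ht.choose) = w
    intro hsp
    have hw : f = w * c := (gen_bijective hL hg).1.1 (show f • g = (w * c) • g by
      rw [mul_smul, ← e, ← hf]; exact hsp)
    rw [hw, Ideal.span_singleton_mul_right_unit hc]
  refine ⟨fun d ↦ ?_, fun ξ hξ ↦ ?_⟩
  · by_cases hk : δ (i d) = k
    · obtain ⟨t, f, ht, hf, hker⟩ := hD.2 d
      rw [key _ t ht f hf hk, subschemeFun_id, if_pos hk, ← hker]
      letI := (i.stalkMap d).hom.toAlgebra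
      congr 2
      rw [← Module.length_eq_of_surjective (S := X.presheaf.stalk (i d)) (M := D.presheaf.stalk d)
        (i.stalkMap_surjective d)]
      exact (LinearMap.quotKerEquivOfSurjective (Algebra.linearMap (X.presheaf.stalk (i d)) (D.presheaf.stalk d))
        (i.stalkMap_surjective d)).length_eq
    · rw [subschemeFun_id, if_neg hk, Cyc.zeroSectionFun, if_neg hk]
  · by_cases hk : δ ξ = k
    · obtain ⟨hgen, -, -⟩ := gysinChoice_gen hL s i hD (fun _ ↦ 0) (specializes_refl ξ) hξ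
      rw [key ξ _ hgen 1 (one_smul _ _).symm hk, Ideal.span_singleton_one]
      haveI : Subsingleton (↥(X.presheaf.stalk ξ) ⧸ (⊤ : Ideal (X.presheaf.stalk ξ))) :=
        Submodule.Quotient.subsingleton_iff.mpr rfl
      rw [Module.length_eq_zero]
      simp
    · rw [Cyc.zeroSectionFun, if_neg hk]

theorem gysin_div (hX : Cyc.IsSetup X δ) [IsIntegral X] (n : ℤ) (hn : δ (genericPoint X) = n) {L : X.Modules}
    (hL : PicF.IsInvertible L) (s : L.presheaf.obj (Opposite.op ⊤))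
    (hreg : ∀ x : X, Function.Injective (fun a : X.presheaf.stalk x => a • (L.presheaf.germ ⊤ x trivial) s))
    (i : D ⟶ X) [IsClosedImmersion i] (hD : Cyc.IsZeroSchemeOf i L s) {N : X.Modules} (hN : PicF.IsInvertible N)
    (t : Cyc.secFibre N (genericPoint X)) (ht : t ≠ 0) (w : (ξ : X) → Cyc.secFibre L ξ) (hw : ∀ ξ, w ξ ≠ 0)
    (u : (d : D) → Cyc.secFibre ((Scheme.Modules.pullback i).obj N) d) (hu : ∀ d, u d ≠ 0)
    (γ₁ γ₂ : AlgebraicCycle D ℤ)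
    (h₁ : ∀ d : D, γ₁ d = Cyc.c1CapFun δ L (Cyc.secDivFun δ N (genericPoint X) t) (Cyc.gysinChoice L s w) (i d))
    (h₂ : ⇑γ₂ = Cyc.c1CapFun (fun d => δ (i d)) ((Scheme.Modules.pullback i).obj N)
      (Cyc.subschemeFun (fun d => δ (i d)) (n - 1) (𝟙 D)) u) :
    Cyc.RatEquiv (fun d => δ (i d)) (n - 2) γ₁ γ₂ := by
  classical
  have hδ := hX.2.2
  haveI : IsLocallyNoetherian D := LocallyOfFiniteType.isLocallyNoetherian i
  have hδD := isDimFun_comp_closedImmersion i hδ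
  obtain ⟨hne, hne'⟩ := not_mem_range_of_regular hL s hreg
  have hdim : ∀ d, δ (i d) ≤ n - 1 := fun d ↦ by
    have h : genericPoint X ≠ i d := fun e ↦ hne' (by
      have hm : genericPoint X ∈ Set.range i := ⟨d, e.symm⟩
      rw [hD.1] at hm
      exact hm)
    have := (hδ (genericPoint X) (i d) (genericPoint_specializes _) h).1
    omega
  obtain ⟨αD, hαD, hαDk⟩ := exists_fundamental_cycle hδD (n - 1) hdim
  choose g hg using exists_gen_span (X := X) hN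
  let v : (ξ : X) → Cyc.secFibre N ξ := fun ξ ↦ Submodule.Quotient.mk (g ξ)
  have hv : ∀ ξ, v ξ ≠ 0 := fun ξ h0 ↦ by
    have h1 := (mk_eq_zero_iff hN (specializes_refl ξ) (hg ξ) 1).mp (by
      rw [one_smul, TopCat.Presheaf.stalkSpecializes_refl]; exact h0)
    rw [map_one] at h1
    exact one_ne_zero h1
  obtain ⟨w', γw, hw', hγw, hmap⟩ := c1Cap_push hδD hδ i (deltaCompat_preimmersion i δ) hN αD v hv
  obtain ⟨hz1, hz2⟩ := zeroSectionFun_eq_subscheme (δ := δ) hL s i hD (n - 1)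
  have hdiv : ⇑(AlgebraicCycle.map i (fun d => δ (i d)) δ αD) =
      Cyc.secDivFun δ L (genericPoint X) (Submodule.Quotient.mk ((L.presheaf.germ ⊤ (genericPoint X) trivial) s)) := by
    rw [Groth.Agent.S1923.result X δ hX n hn L hL s hne]
    funext ξ
    by_cases hξ : ξ ∈ Set.range i
    · obtain ⟨d, rfl⟩ := hξ
      rw [map_closedImmersion_apply, hαD, hz1]
    · rw [map_closedImmersion_eq_zero i _ _ _ ξ hξ, hz2 ξ hξ]
  obtain ⟨J, ζ, f, h1, h2, h3, h4, h5⟩ := c1Cap_commute_point hδ hL hN (genericPoint X) (n - 2) (by omega)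
    _ hne' t ht v hv (Cyc.gysinChoice L s w) (gysinChoice_ne_zero L s w hw)
  have hJ := h4 (Set.range i) fun ξ hξ h hd ↦ by
    obtain ⟨hgen, -, hvg⟩ := gysinChoice_gen hL s i hD w h hξ
    exact symF_eq_one_of_gen hδ hL hN h hd hne' ht (hv ξ) (gysinChoice_ne_zero L s w hw ξ) hgen
      (by rw [TopCat.Presheaf.germ_stalkSpecializes_apply]) hvg
  obtain ⟨E, hE, -, hE'⟩ := exists_lift_family i hδ ζ f h2 hJ h3 (n - 2) h1
  have h0 := c1CapFun_indep hδD (PicLoc.isInvertible_pullback i hN) (n - 2) αD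
    (by rwa [show n - 2 + 1 = n - 1 by ring]) w' u (fun d _ ↦ hw' d) (fun d _ ↦ hu d) γw γ₂ hγw (by rw [h₂, hαD])
  unfold Cyc.RatEquiv at h0 ⊢
  refine ratEquivZero_add (X := D) hE' h0 (fun (d : D) ↦ ?_)
  have e : γw d = Cyc.c1CapFun δ N
      (Cyc.secDivFun δ L (genericPoint X) (Submodule.Quotient.mk ((L.presheaf.germ ⊤ (genericPoint X) trivial) s))) v (i d) := by
    rw [← map_closedImmersion_apply i δ γw d, hmap, hdiv]
  simp only [Function.locallyFinsuppWithin.coe_sub, Function.locallyFinsuppWithin.coe_neg, Pi.sub_apply, Pi.neg_apply]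
  rw [hE, h5, ← e, h₁]
  ring

end Groth.Agent.CycLib28
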