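import Mathlib
import Groth.Agent.CycLib28.MultLocal
import Groth.Agent.ProjLib.IdealComap

/-!
# Stalks of pulled back ideal sheaves; the ideal of a product of closed subschemes
-/

set_option autoImplicit false
set_option backward.isDefEq.respectTransparency false

universe u

open CategoryTheory CategoryTheory.Limits AlgebraicGeometry IsLocalRing TopologicalSpace

namespace Groth.Agent.CycLib28

variable {X Y : Scheme.{u}}

theorem stalkIdeal_eq_map (I : X.IdealSheafData) {x : X} (h : x ∈ I.support) (U : X.affineOpens)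
    (hU : x ∈ (U : X.Opens)) :
    IntMult.stalkIdeal I x = (I.ideal U).map (X.presheaf.germ U x hU).hom := by
  obtain ⟨y, rfl⟩ := I.range_subschemeι.ge h
  rw [stalkIdeal_eq_ker, Groth.Agent.HilbertBurch29.ker_stalkMap_eq I.subschemeι y U hU, I.ker_subschemeι]

theorem stalkIdeal_ker (j : Y ⟶ X) [IsClosedImmersion j] (y : Y) :
    IntMult.stalkIdeal j.ker (j y) = RingHom.ker (j.stalkMap y).hom := by
  have h : j y ∈ j.ker.support := j.range_subset_ker_support ⟨y, rfl⟩
  obtain ⟨U, hU, hyU, -⟩ := exists_isAffineOpen_mem_and_subset (x := j y) (U := ⊤) (Set.mem_univ _)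
  rw [stalkIdeal_eq_map j.ker h ⟨U, hU⟩ hyU, Groth.Agent.HilbertBurch29.ker_stalkMap_eq j y ⟨U, hU⟩ hyU]

theorem stalkIdeal_sup (I J : X.IdealSheafData) {x : X} (h : x ∈ (I ⊔ J).support) :
    IntMult.stalkIdeal (I ⊔ J) x = IntMult.stalkIdeal I x ⊔ IntMult.stalkIdeal J x := by
  have hI : x ∈ I.support := Scheme.IdealSheafData.support_antitone (le_sup_left : I ≤ I ⊔ J) h
  have hJ : x ∈ J.support := Scheme.IdealSheafData.support_antitone (le_sup_right : J ≤ I ⊔ J) h
  obtain ⟨U, hU, hxU, -⟩ := exists_isAffineOpen_mem_and_subset (x := x) (U := ⊤) (Set.mem_univ _)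
  rw [stalkIdeal_eq_map _ h ⟨U, hU⟩ hxU, stalkIdeal_eq_map _ hI ⟨U, hU⟩ hxU, stalkIdeal_eq_map _ hJ ⟨U, hU⟩ hxU,
    Scheme.IdealSheafData.ideal_sup, Pi.sup_apply, Ideal.map_sup]

theorem stalkIdeal_comap (I : Y.IdealSheafData) (f : X ⟶ Y) {x : X} (h : f x ∈ I.support) :
    IntMult.stalkIdeal (I.comap f) x = (IntMult.stalkIdeal I (f x)).map (f.stalkMap x).hom := by
  obtain ⟨U, hU, hxU, -⟩ := exists_isAffineOpen_mem_and_subset (x := f x) (U := ⊤) (Set.mem_univ _)
  obtain ⟨V, hV, hxV, e⟩ := exists_isAffineOpen_mem_and_subset (x := x) (U := f ⁻¹ᵁ U) hxU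
  have h' : x ∈ (I.comap f).support := by
    rw [Scheme.IdealSheafData.support_comap]
    exact h
  rw [stalkIdeal_eq_map _ h' ⟨V, hV⟩ hxV, stalkIdeal_eq_map _ h ⟨U, hU⟩ hxU,
    Groth.Agent.ProjLib.comap_ideal_eq I f ⟨U, hU⟩ ⟨V, hV⟩ e, Ideal.map_map, Ideal.map_map,
    ← CommRingCat.hom_comp, ← CommRingCat.hom_comp]
  congr 2
  rw [Scheme.Hom.germ_stalkMap, Scheme.Hom.appLE, Category.assoc, TopCat.Presheaf.germ_res]

theorem ker_pullback_map {S : Scheme.{u}} (a : X ⟶ S) (b : Y ⟶ S) (I : X.IdealSheafData) (J : Y.IdealSheafData) :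
    (pullback.map (I.subschemeι ≫ a) (J.subschemeι ≫ b) a b I.subschemeι J.subschemeι (𝟙 S)
      (Category.comp_id _) (Category.comp_id _)).ker =
      I.comap (pullback.fst a b) ⊔ J.comap (pullback.snd a b) := by
  set g := pullback.map (I.subschemeι ≫ a) (J.subschemeι ≫ b) a b I.subschemeι J.subschemeι (𝟙 S)
    (Category.comp_id _) (Category.comp_id _) with hg
  refine le_antisymm ?_ (sup_le ?_ ?_)
  · set K := I.comap (pullback.fst a b) ⊔ J.comap (pullback.snd a b)
    have h1 : I ≤ (K.subschemeι ≫ pullback.fst a b).ker :=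
      Scheme.IdealSheafData.le_map_iff_comap_le.2 le_sup_left
    have h2 : J ≤ (K.subschemeι ≫ pullback.snd a b).ker :=
      Scheme.IdealSheafData.le_map_iff_comap_le.2 le_sup_right
    let h : K.subscheme ⟶ pullback (I.subschemeι ≫ a) (J.subschemeι ≫ b) :=
      pullback.lift (IsClosedImmersion.lift I.subschemeι (K.subschemeι ≫ pullback.fst a b) (by simpa using h1))
        (IsClosedImmersion.lift J.subschemeι (K.subschemeι ≫ pullback.snd a b) (by simpa using h2))
        (by rw [IsClosedImmersion.lift_fac_assoc, IsClosedImmersion.lift_fac_assoc, Category.assoc,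
          Category.assoc, pullback.condition])
    have e : h ≫ g = K.subschemeι := by
      apply pullback.hom_ext <;> simp [h, g, IsClosedImmersion.lift_fac]
    have h3 := Scheme.Hom.le_ker_comp h g
    rwa [e, Scheme.IdealSheafData.ker_subschemeι] at h3
  · rw [← Scheme.IdealSheafData.le_map_iff_comap_le, ← Scheme.Hom.ker_comp]
    have e : g ≫ pullback.fst a b = pullback.fst _ _ ≫ I.subschemeι := by simp [g]
    rw [e]
    exact (Scheme.IdealSheafData.ker_subschemeι I).ge.trans (Scheme.Hom.le_ker_comp _ _)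
  · rw [← Scheme.IdealSheafData.le_map_iff_comap_le, ← Scheme.Hom.ker_comp]
    have e : g ≫ pullback.snd a b = pullback.snd _ _ ≫ J.subschemeι := by simp [g]
    rw [e]
    exact (Scheme.IdealSheafData.ker_subschemeι J).ge.trans (Scheme.Hom.le_ker_comp _ _)

end Groth.Agent.CycLib28
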