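import Mathlib
import Groth.Agent.CycLib28.KoszulTor
import Groth.Agent.EGA41Lib.CMParameters

/-!
# Symmetry of Tor; Euler characteristics against regular sequences
-/

set_option autoImplicit false
set_option backward.isDefEq.respectTransparency false

universe u

open CategoryTheory CategoryTheory.Limits MonoidalCategory IsLocalRing

namespace Groth.Agent.CycLib28

variable {A : Type u} [CommRing A]

theorem nonempty_tor_comm (n : ℕ) (M N : ModuleCat.{u} A) :
    Nonempty (DRing.Tor A n M N ≃ₗ[A] DRing.Tor A n N M) := by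
  let P := ProjectiveResolution.of N
  obtain ⟨e⟩ := Groth.Agent.TorB16.balance P n M
  have e' : DRing.Tor A n M N ≃ₗ[A] ↑((Groth.Agent.TorB16.tC P M).homology n) := ?_
  exact ⟨e'.trans e.symm⟩
  exact (P.isoLeftDerivedObj ((tensoringLeft (ModuleCat.{u} A)).obj M) n ≪≫
    (HomologicalComplex.homologyFunctor _ _ n).mapIso
      ((NatIso.mapHomologicalComplex (BraidedCategory.tensorLeftIsoTensorRight M) _).app P.complex)).toLinearEquiv

theorem chi_comm (M N : Type u) [AddCommGroup M] [Module A M] [AddCommGroup N] [Module A N] :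
    IntMult.chi A M N = IntMult.chi A N M := by
  refine finsum_congr fun i => ?_
  obtain ⟨e⟩ := nonempty_tor_comm i (ModuleCat.of A M) (ModuleCat.of A N)
  rw [e.length_eq]

theorem chi_quot_right (l : List A) (hl : RingTheory.Sequence.IsWeaklyRegular A l) (M : ModuleCat.{u} A) :
    IntMult.chi A M (A ⧸ Ideal.ofList l) = CAlgH.KoszulEuler.chi M l :=
  (chi_comm M (A ⧸ Ideal.ofList l)).trans (chi_tor l hl M)

theorem koszul_chi_of_regular (l : List A) (M : ModuleCat.{u} A) (hl : RingTheory.Sequence.IsWeaklyRegular M l) :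
    CAlgH.KoszulEuler.chi M l = ((Module.length A (M ⧸ (Ideal.ofList l • (⊤ : Submodule A M)))).toNat : ℤ) := by
  rw [← CAlgH.KoszulEuler.finsum_tensor_eq_chi, finsum_eq_single _ 0]
  · obtain ⟨e⟩ := CAlgH.KoszulEuler.nonempty_KH_zero M l
    rw [CAlgH.KoszulEuler.length_tensor_homology, e.length_eq]
    simp
  · intro i hi
    obtain ⟨e⟩ := CAlgH.KoszulEuler.nonempty_tensor_iso M l
    suffices h : (CohIII.koszulCx M l).ExactAt i by
      haveI := ModuleCat.subsingleton_of_isZero (h.isZero_homology.of_iso (HomologicalComplex.homologyMapIso e i))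
      simp
    rcases lt_or_gt_of_ne hi with h | h
    · rw [HomologicalComplex.exactAt_iff' _ (i - 1) i (i + 1) (CochainComplex.prev _ _) (CochainComplex.next _ _),
        ShortComplex.moduleCat_exact_iff]
      exact fun z hz => Groth.Agent.Misc15.Koszul.exact_of_regular l M hl _ _ _ (by omega) rfl h z hz
    · exact Groth.Agent.Misc15.Koszul.exactAt_of_subsingleton M l i (Or.inr h)

theorem ringKrullDim_le_of_finite_length [IsNoetherianRing A] [IsLocalRing A] (J : Ideal A) (hJ : J ≤ maximalIdeal A)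
    (l : List A) (hl : ∀ a ∈ l, a ∈ maximalIdeal A) (hfl : IsFiniteLength A (A ⧸ (J ⊔ Ideal.ofList l))) :
    ringKrullDim (A ⧸ J) ≤ l.length := by
  have h := Groth.Agent.EGA41Lib.supportDim_le_quotient_ofList l (A ⧸ J) hl
  rw [Module.supportDim_quotient_eq_ringKrullDim] at h
  refine h.trans (le_of_le_of_eq (add_le_add ?_ le_rfl) (zero_add _))
  rw [← Groth.Agent.EGA41Lib.isFiniteLength_iff_supportDim_le_zero]
  exact IsFiniteLength.of_surjective hfl (f := (quotSupEquiv J (Ideal.ofList l)).symm.toLinearMap)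
    (quotSupEquiv J (Ideal.ofList l)).symm.surjective
where
  quotSupEquiv (J I : Ideal A) : ((A ⧸ J) ⧸ (I • (⊤ : Submodule A (A ⧸ J)))) ≃ₗ[A] A ⧸ (J ⊔ I) :=
    (Submodule.quotEquivOfEq _ (Submodule.map (Submodule.mkQ J) (J ⊔ I)) (by
      rw [Submodule.map_sup, Submodule.mkQ_map_self, bot_sup_eq]
      conv_rhs => rw [← Ideal.mul_top I, ← smul_eq_mul, Submodule.map_smul'', Submodule.map_top, Submodule.range_mkQ])).trans
    (Submodule.quotientQuotientEquivQuotient J (J ⊔ I) le_sup_left)

theorem chi_eq_length_of_cm [IsNoetherianRing A] [IsLocalRing A] (J : Ideal A)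
    (hW : LocCoh.IsCohenMacaulayLocalRing (A ⧸ J)) (l : List A)
    (hl : RingTheory.Sequence.IsWeaklyRegular A l) (hm : ∀ a ∈ l, a ∈ maximalIdeal A)
    (hfl : IsFiniteLength A (A ⧸ (J ⊔ Ideal.ofList l))) (hdim : (l.length : WithBot ℕ∞) ≤ ringKrullDim (A ⧸ J)) :
    IntMult.chi A (A ⧸ J) (A ⧸ Ideal.ofList l) = ((Module.length A (A ⧸ (J ⊔ Ideal.ofList l))).toNat : ℤ) := by
  rw [chi_quot_right l hl (ModuleCat.of A (A ⧸ J))]
  have e := ringKrullDim_le_of_finite_length.quotSupEquiv J (Ideal.ofList l)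
  rw [← e.length_eq]
  refine koszul_chi_of_regular l (ModuleCat.of A (A ⧸ J)) ?_
  have hJ : J ≠ ⊤ := fun h => by
    haveI := hW.1
    exact not_subsingleton (A ⧸ J) (Ideal.Quotient.subsingleton_iff.mpr h)
  refine (Groth.Agent.EGA41Lib.cm_regular_sequence l (A ⧸ J) ?_ hm).2 ?_
  · haveI := hW.toIsLocalRing
    have h := hW.supportDim_eq_depth
    rw [Module.supportDim_self_eq_ringKrullDim] at h
    unfold LocCoh.IsCohenMacaulayModule
    rw [Module.supportDim_quotient_eq_ringKrullDim, ← Groth.Agent.CAlgH3.depth_quotient_ring J]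
    exact h
  · rw [Module.supportDim_eq_of_equiv e, Module.supportDim_quotient_eq_ringKrullDim]
    erw [Module.supportDim_quotient_eq_ringKrullDim]
    refine le_trans (add_le_add ?_ le_rfl) ((zero_add _).trans_le hdim)
    rw [← Module.supportDim_quotient_eq_ringKrullDim]
    exact (Groth.Agent.EGA41Lib.isFiniteLength_iff_supportDim_le_zero _).1 hfl

end Groth.Agent.CycLib28
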