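import Mathlib
import Groth.Agent.CAlgH3.ProjDim
import Groth.Agent.CycLib28.SerreTor
import Groth.Agent.HTor16.TorShift

/-!
# Tor of finite length against a module of large depth
-/

set_option autoImplicit false
set_option backward.isDefEq.respectTransparency false

universe u

open CategoryTheory CategoryTheory.Limits IsLocalRing TensorProduct

namespace Groth.Agent.CycLib28

variable {A : Type u} [CommRing A] [IsNoetherianRing A]

theorem finite_and_annihilated_tor (a : A) : ∀ (i : ℕ) (N M : Type u) [AddCommGroup N] [Module A N] [Module.Finite A N]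
    [AddCommGroup M] [Module A M] [Module.Finite A M],
    Module.Finite A (DRing.Tor A (i + 1) (ModuleCat.of A N) (ModuleCat.of A M)) ∧
      ((∀ x : N, a • x = 0) → ∀ y : DRing.Tor A (i + 1) (ModuleCat.of A N) (ModuleCat.of A M), a • y = 0) := by
  intro i
  induction i with
  | zero =>
    intro N M _ _ _ _ _ _
    obtain ⟨n, f, hf⟩ := Module.Finite.exists_fin' A M
    obtain ⟨e⟩ := Groth.Agent.HTor16.torOne (ModuleCat.of A N) (LinearMap.shortExact_shortComplexKer hf)
    refine ⟨?_, fun ha y => ?_⟩
    · haveI : IsNoetherian A (N ⊗[A] LinearMap.ker f) := inferInstance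
      exact Module.Finite.equiv e.symm
    · apply e.injective
      rw [map_smul, map_zero]
      apply Subtype.ext
      change a • (e y).1 = 0
      generalize (e y).1 = z
      induction z using TensorProduct.induction_on with
      | zero => simp
      | tmul p q => rw [TensorProduct.smul_tmul', ha p, TensorProduct.zero_tmul]
      | add p q hp hq => rw [smul_add, hp, hq, add_zero]
  | succ i ih =>
    intro N M _ _ _ _ _ _
    obtain ⟨n, f, hf⟩ := Module.Finite.exists_fin' A M
    obtain ⟨e⟩ := Groth.Agent.HTor16.torShift (ModuleCat.of A N) (LinearMap.shortExact_shortComplexKer hf) i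
    obtain ⟨h1, h2⟩ := ih N (LinearMap.ker f)
    refine ⟨Module.Finite.equiv e.symm, fun ha y => ?_⟩
    apply e.injective
    rw [map_smul, map_zero]
    exact h2 ha _

theorem isFiniteLength_of_annihilated {L : Ideal A} (hL : IsFiniteLength A (A ⧸ L)) (T : Type u) [AddCommGroup T]
    [Module A T] [Module.Finite A T] (h : ∀ a ∈ L, ∀ y : T, a • y = 0) : IsFiniteLength A T := by
  obtain ⟨n, f, hf⟩ := Module.Finite.exists_fin' A T
  obtain ⟨hN, hA⟩ := isFiniteLength_iff_isNoetherian_isArtinian.1 hL
  have hle : LinearMap.ker (LinearMap.pi fun i : Fin n => (Submodule.mkQ L).comp (LinearMap.proj i)) ≤ LinearMap.ker f := by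
    intro x hx
    rw [LinearMap.mem_ker, pi_eq_sum_univ x, map_sum]
    refine Finset.sum_eq_zero fun i _ => ?_
    rw [map_smul]
    refine h _ ?_ _
    have := congrFun (LinearMap.mem_ker.1 hx) i
    exact (Submodule.Quotient.mk_eq_zero L).1 this
  have hP : IsFiniteLength A (Fin n → A ⧸ L) := isFiniteLength_iff_isNoetherian_isArtinian.2 ⟨inferInstance, inferInstance⟩
  have hs : Function.Surjective (LinearMap.pi fun i : Fin n => (Submodule.mkQ L).comp (LinearMap.proj i)) :=
    fun v => ⟨fun i => (Submodule.mkQ_surjective L (v i)).choose, funext fun i => (Submodule.mkQ_surjective L (v i)).choose_spec⟩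
  refine IsFiniteLength.of_surjective hP
    (f := (Submodule.liftQ _ f hle).comp (LinearMap.quotKerEquivOfSurjective _ hs).symm.toLinearMap) ?_
  have h' : Function.Surjective (Submodule.liftQ _ f hle) :=
    LinearMap.range_eq_top.1 ((Submodule.range_liftQ _ _ _).trans (LinearMap.range_eq_top.2 hf))
  exact h'.comp (LinearEquiv.surjective _)

theorem isFiniteLength_tor {I J : Ideal A} (hfl : IsFiniteLength A (A ⧸ (I ⊔ J))) (i : ℕ) :
    IsFiniteLength A (DRing.Tor A (i + 1) (ModuleCat.of A (A ⧸ J)) (ModuleCat.of A (A ⧸ I))) := by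
  haveI := (finite_and_annihilated_tor (0 : A) i (A ⧸ J) (A ⧸ I)).1
  refine isFiniteLength_of_annihilated hfl _ fun a ha y => ?_
  obtain ⟨b, hb, c, hc, rfl⟩ := Submodule.mem_sup.1 ha
  have kill : ∀ (K : Ideal A) (x : A) (_ : x ∈ K) (z : A ⧸ K), x • z = 0 := fun K x hx z => by
    obtain ⟨w, rfl⟩ := Submodule.Quotient.mk_surjective K z
    rw [← Submodule.Quotient.mk_smul, Submodule.Quotient.mk_eq_zero]
    exact K.mul_mem_right _ hx
  rw [add_smul, (finite_and_annihilated_tor c i (A ⧸ J) (A ⧸ I)).2 (kill J c hc) y, add_zero]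
  obtain ⟨e⟩ := nonempty_tor_comm (i + 1) (ModuleCat.of A (A ⧸ J)) (ModuleCat.of A (A ⧸ I))
  apply e.injective
  rw [map_smul, map_zero]
  exact (finite_and_annihilated_tor b i (A ⧸ I) (A ⧸ J)).2 (kill I b hb) _

variable [IsLocalRing A]

theorem depth_le_pi (N : Type u) [AddCommGroup N] [Module A N] [Module.Finite A N] : ∀ n : ℕ,
    _root_.LocCoh.depth A N ≤ _root_.LocCoh.depth A (Fin n → N) := by
  intro n
  induction n with
  | zero => rw [CAlgH3.depth_eq_top_of_subsingleton (M := Fin 0 → N)]; exact le_top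
  | succ n ih =>
    rw [← CAlgH3.depth_congr (Fin.consLinearEquiv A (fun _ : Fin (n + 1) => N)), CAlgH3.depth_prod]
    exact le_min le_rfl ih

theorem subsingleton_of_finite_length_sub (T P : Type u) [AddCommGroup T] [Module A T] [AddCommGroup P] [Module A P]
    [Module.Finite A P] [Module.Finite A T] (g : T →ₗ[A] P) (hg : Function.Injective g) (hT : IsFiniteLength A T)
    (hP : 1 ≤ _root_.LocCoh.depth A P) : Subsingleton T := by
  rcases subsingleton_or_nontrivial P with h | h
  · exact hg.subsingleton
  obtain ⟨x, hx, hreg⟩ := CAlgH3.exists_regular_of_one_le_depth hP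
  haveI := (isFiniteLength_iff_isNoetherian_isArtinian.1 hT).2
  have hinj : Function.Injective (x • LinearMap.id : T →ₗ[A] T) := fun a b hab => hg (hreg (show x • g a = x • g b from
    (map_smul g x a).symm.trans ((congrArg g hab).trans (map_smul g x b))))
  have hsurj := IsArtinian.surjective_of_injective_endomorphism _ hinj
  have htop : (⊤ : Submodule A T) = ⊥ := by
    refine Submodule.eq_bot_of_le_smul_of_le_jacobson_bot (Ideal.span {x}) ⊤ Module.Finite.fg_top ?_
      (((Ideal.span_singleton_le_iff_mem _).2 hx).trans (IsLocalRing.jacobson_eq_maximalIdeal ⊥ bot_ne_top).ge)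
    intro t _
    obtain ⟨s, rfl⟩ := hsurj t
    exact Submodule.smul_mem_smul (Ideal.mem_span_singleton_self x) trivial
  exact (Submodule.subsingleton_iff A).1 (subsingleton_of_bot_eq_top htop.symm)

/-- Finite-length higher Tor against a module of depth at least the projective dimension vanishes. -/
theorem tor_vanish (N : Type u) [AddCommGroup N] [Module A N] [Module.Finite A N] : ∀ (m : ℕ) (M : Type u)
    [AddCommGroup M] [Module A M] [Module.Finite A M], CAlgH3.PD A (m + 1) M →
    (m : ℕ∞) ≤ _root_.LocCoh.depth A N →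
    (∀ i : ℕ, IsFiniteLength A (DRing.Tor A (i + 1) (ModuleCat.of A N) (ModuleCat.of A M))) →
    (∀ i : ℕ, Subsingleton (DRing.Tor A (i + 1) (ModuleCat.of A N) (ModuleCat.of A M))) ∧
      ∀ d : ℕ, (d : ℕ∞) ≤ _root_.LocCoh.depth A N → ((d - m : ℕ) : ℕ∞) ≤ _root_.LocCoh.depth A (N ⊗[A] M) := by
  intro m
  induction m with
  | zero =>
    intro M _ _ _ hM _ _
    have hp := CAlgH3.pd_one_iff.1 hM
    haveI : Module.Free A M := Module.free_of_flat_of_isLocalRing
    haveI : Projective (ModuleCat.of A M) := (IsProjective.iff_projective M).1 inferInstance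
    refine ⟨fun i => ?_, fun d hd => ?_⟩
    · exact ModuleCat.subsingleton_of_isZero
        (Functor.isZero_leftDerived_obj_projective_succ (Groth.Agent.HTor16.tens (ModuleCat.of A N)) i (ModuleCat.of A M))
    · obtain ⟨k, ⟨b⟩⟩ : ∃ k, Nonempty (Module.Basis (Fin k) A M) :=
        ⟨_, ⟨Module.finBasis A M⟩⟩
      refine le_trans ?_ (((depth_le_pi N k).trans (le_of_eq (CAlgH3.depth_congr
        ((TensorProduct.piScalarRight A A N (Fin k)).symm ≪≫ₗ LinearEquiv.lTensor N b.equivFun.symm)))))
      simpa using hd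
  | succ m ih =>
    intro M _ _ _ hM hN hT
    obtain ⟨n, f, hf⟩ := Module.Finite.exists_fin' A M
    have hK : CAlgH3.PD A (m + 1) (LinearMap.ker f) := (CAlgH3.pd_ker_iff hf m).1 hM
    have hS := LinearMap.shortExact_shortComplexKer hf
    have hT' : ∀ i : ℕ, IsFiniteLength A (DRing.Tor A (i + 1) (ModuleCat.of A N) (ModuleCat.of A (LinearMap.ker f))) := by
      intro i
      obtain ⟨e⟩ := Groth.Agent.HTor16.torShift (ModuleCat.of A N) hS i
      exact IsFiniteLength.of_surjective (hT (i + 1)) (f := e.toLinearMap) e.surjective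
    obtain ⟨hv, hd⟩ := ih (LinearMap.ker f) hK ((Nat.cast_le.2 (Nat.le_succ m)).trans hN) hT'
    have h1 : Subsingleton (DRing.Tor A 1 (ModuleCat.of A N) (ModuleCat.of A M)) := by
      obtain ⟨e⟩ := Groth.Agent.HTor16.torOne (ModuleCat.of A N) hS
      haveI := (finite_and_annihilated_tor (0 : A) 0 N M).1
      refine subsingleton_of_finite_length_sub _ (N ⊗[A] LinearMap.ker f)
        ((LinearMap.ker _).subtype.comp e.toLinearMap) (Subtype.val_injective.comp e.injective) (hT 0) ?_
      have := hd (m + 1) (by exact_mod_cast hN)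
      simpa using this
    refine ⟨fun i => ?_, fun d hdN => ?_⟩
    · rcases i with - | i
      · exact h1
      · obtain ⟨e⟩ := Groth.Agent.HTor16.torShift (ModuleCat.of A N) hS i
        haveI := hv i
        exact e.injective.subsingleton
    · obtain ⟨e⟩ := Groth.Agent.HTor16.torOne (ModuleCat.of A N) hS
      have hinj : Function.Injective ((LinearMap.ker f).subtype.lTensor N) := by
        rw [← LinearMap.ker_eq_bot]
        exact Submodule.subsingleton_iff_eq_bot.1 e.symm.injective.subsingleton
      have h2 := (LocCoh.idealDepth_shortExact (maximalIdeal A) _ _ _ ((LinearMap.ker f).subtype.lTensor N)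
        (f.lTensor N) hinj (LinearMap.lTensor_surjective N hf)
        (lTensor_exact N (LinearMap.exact_subtype_ker_map f) hf)).2.1
      refine le_trans ?_ h2
      refine le_min ?_ ?_
      · refine le_trans ?_ ((hdN.trans (depth_le_pi N n)).trans (le_of_eq (CAlgH3.depth_congr
          (TensorProduct.piScalarRight A A N (Fin n)).symm)))
        exact Nat.cast_le.2 (Nat.sub_le d (m + 1))
      · have h3 := hd d hdN
        refine le_trans ?_ (tsub_le_tsub_right h3 1)
        rw [← Nat.sub_sub, ENat.coe_sub, Nat.cast_one]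

end Groth.Agent.CycLib28

namespace Groth.Agent.CycLib28

variable {A : Type u} [CommRing A] [IsLocalRing A]

theorem depth_quot_of_cm [IsNoetherianRing A] (I : Ideal A) (h : LocCoh.IsCohenMacaulayLocalRing (A ⧸ I)) :
    ((_root_.LocCoh.depth A (A ⧸ I) : ℕ∞) : WithBot ℕ∞) = ringKrullDim (A ⧸ I) := by
  haveI := h.toIsLocalRing
  have h1 := h.supportDim_eq_depth
  rw [Module.supportDim_self_eq_ringKrullDim] at h1
  rw [← CAlgH3.depth_quotient_ring I]
  exact h1.symm

/-- Cohen–Macaulay quotients of a regular local ring meeting properly: the Euler characteristic is the length. -/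
theorem chi_eq_length_of_cm_both [IsRegularLocalRing A] (I J : Ideal A)
    (hI : LocCoh.IsCohenMacaulayLocalRing (A ⧸ I)) (hJ : LocCoh.IsCohenMacaulayLocalRing (A ⧸ J))
    (hfl : IsFiniteLength A (A ⧸ (I ⊔ J))) {a v w : ℕ} (ha : ringKrullDim A = a) (hv : ringKrullDim (A ⧸ I) = v)
    (hw : ringKrullDim (A ⧸ J) = w) (hle : a ≤ v + w) :
    IntMult.chi A (A ⧸ J) (A ⧸ I) = ((Module.length A (A ⧸ (I ⊔ J))).toNat : ℤ) := by
  have hdI : _root_.LocCoh.depth A (A ⧸ I) = v := by
    have := (depth_quot_of_cm I hI).trans hv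
    exact_mod_cast this
  have hdJ : _root_.LocCoh.depth A (A ⧸ J) = w := by
    have := (depth_quot_of_cm J hJ).trans hw
    exact_mod_cast this
  have hs : ((maximalIdeal A).spanFinrank : WithBot ℕ∞) = a :=
    IsRegularLocalRing.spanFinrank_maximalIdeal.trans ha
  have hs' : (maximalIdeal A).spanFinrank = a := by exact_mod_cast hs
  have hpd : CAlgH3.PD A (w + 1) (A ⧸ I) :=
    CAlgH3.pd_of_depth w (A ⧸ I) (by rw [hdI, hs']; exact_mod_cast hle)
  obtain ⟨hv0, -⟩ := tor_vanish (A ⧸ J) w (A ⧸ I) hpd hdJ.ge fun i => isFiniteLength_tor hfl i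
  rw [IntMult.chi, finsum_eq_single _ 0]
  · obtain ⟨e⟩ := Groth.Agent.HTor16.torZero (ModuleCat.of A (A ⧸ J)) (ModuleCat.of A (A ⧸ I))
    rw [e.length_eq, (TensorProduct.quotTensorEquivQuotSMul (A ⧸ I) J).length_eq,
      (ringKrullDim_le_of_finite_length.quotSupEquiv I J).length_eq]
    simp
  · intro i hi
    obtain ⟨k, rfl⟩ := Nat.exists_eq_succ_of_ne_zero hi
    haveI := hv0 k
    rw [Module.length_eq_zero]
    simp

end Groth.Agent.CycLib28

namespace Groth.Agent.CycLib28

variable {A : Type u} [CommRing A] [IsLocalRing A] [IsNoetherianRing A]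

theorem exists_gens_union (I J : Ideal A) (h : I ⊔ J = maximalIdeal A) :
    ∃ T : Finset A, T.card ≤ (maximalIdeal A).spanFinrank ∧ (∀ t ∈ T, t ∈ I ∨ t ∈ J) ∧
      Ideal.span (T : Set A) = maximalIdeal A := by
  classical
  let s : Set (maximalIdeal A) := Subtype.val ⁻¹' ((I : Set A) ∪ J)
  have hs : Submodule.span A s = ⊤ := by
    apply Submodule.map_injective_of_injective (f := (maximalIdeal A).subtype) Subtype.val_injective
    rw [Submodule.map_span, Submodule.map_top, Submodule.range_subtype]
    have e : (maximalIdeal A).subtype '' s = ((I : Set A) ∪ J) := by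
      simp only [s]
      rw [Submodule.coe_subtype, Set.image_preimage_eq_inter_range, Subtype.range_coe_subtype, Set.inter_eq_left]
      exact Set.union_subset (fun x hx => h.le (Submodule.mem_sup_left hx)) (fun x hx => h.le (Submodule.mem_sup_right hx))
    rw [e, Submodule.span_union, Submodule.span_eq, Submodule.span_eq]
    exact h
  have hs' := CotangentSpace.span_image_eq_top_iff.2 hs
  obtain ⟨b, hb, hbspan, hbli⟩ := exists_linearIndependent (ResidueField A) ((maximalIdeal A).toCotangent '' s)
  have hbfin : b.Finite := LinearIndependent.setFinite hbli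
  choose g hg hg' using fun x : b => hb x.2
  haveI := hbfin.fintype
  let T : Finset (maximalIdeal A) := Finset.univ.image g
  refine ⟨T.image Subtype.val, ?_, fun t ht => ?_, ?_⟩
  · refine Finset.card_image_le.trans (Finset.card_image_le.trans ?_)
    rw [spanFinrank_maximalIdeal_eq_finrank_cotangentSpace, Finset.card_univ]
    exact hbli.fintype_card_le_finrank
  · obtain ⟨x, hx, rfl⟩ := Finset.mem_image.1 ht
    obtain ⟨y, -, rfl⟩ := Finset.mem_image.1 hx
    exact hg y
  · have hT : Submodule.span A (T : Set (maximalIdeal A)) = ⊤ := by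
      refine CotangentSpace.span_image_eq_top_iff.1 (top_le_iff.1 ?_)
      refine (hbspan.trans hs').ge.trans (Submodule.span_mono fun x hx => ?_)
      exact ⟨g ⟨x, hx⟩, by simp [T], hg' ⟨x, hx⟩⟩
    have := congrArg (Submodule.map (maximalIdeal A).subtype) hT
    rw [Submodule.map_span, Submodule.map_top, Submodule.range_subtype] at this
    rw [Finset.coe_image]
    exact this

theorem spanFinrank_quotient_le (I : Ideal A) [IsLocalRing (A ⧸ I)] (T : Finset A)
    (hT : Ideal.span (T : Set A) = maximalIdeal A) [DecidablePred (· ∈ I)] :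
    (maximalIdeal (A ⧸ I)).spanFinrank ≤ (T.filter (· ∉ I)).card := by
  classical
  have h : maximalIdeal (A ⧸ I) = Ideal.span (((T.filter (· ∉ I)).image (Ideal.Quotient.mk I) : Finset (A ⧸ I)) : Set (A ⧸ I)) := by
    rw [← IsLocalRing.map_maximalIdeal_of_surjective _ Ideal.Quotient.mk_surjective, ← hT, Ideal.map_span]
    refine le_antisymm (Ideal.span_le.2 ?_) (Ideal.span_mono ?_)
    · rintro _ ⟨t, ht, rfl⟩
      by_cases hI : t ∈ I
      · rw [SetLike.mem_coe, Ideal.Quotient.eq_zero_iff_mem.2 hI]
        exact zero_mem _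
      · exact Ideal.subset_span (Finset.mem_image_of_mem _ (Finset.mem_filter.2 ⟨ht, hI⟩))
    · simp only [Finset.coe_image, Finset.coe_filter]
      exact Set.image_mono fun t ht => ht.1
  rw [h]
  refine (Submodule.spanFinrank_span_le_ncard_of_finite (Finset.finite_toSet _)).trans ?_
  rw [Set.ncard_coe_finset]
  exact Finset.card_image_le

/-- A proper intersection with reduced point: both quotients are regular. -/
theorem isRegular_of_sup_eq_maximal (I J : Ideal A) [IsLocalRing (A ⧸ I)] [IsLocalRing (A ⧸ J)]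
    (h : I ⊔ J = maximalIdeal A) {a v w : ℕ}
    (ha : ((maximalIdeal A).spanFinrank : WithBot ℕ∞) = a) (hv : ringKrullDim (A ⧸ I) = v)
    (hw : ringKrullDim (A ⧸ J) = w) (hle : a ≤ v + w) :
    IsRegularLocalRing (A ⧸ I) ∧ IsRegularLocalRing (A ⧸ J) := by
  classical
  obtain ⟨T, hTc, hTm, hT⟩ := exists_gens_union I J h
  have e1 := spanFinrank_quotient_le I T hT
  have e2 := spanFinrank_quotient_le J T hT
  have e3 : (T.filter (· ∉ I)).card + (T.filter (· ∉ J)).card ≤ T.card := by
    rw [← Finset.card_union_of_disjoint]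
    · exact Finset.card_le_card (Finset.union_subset (Finset.filter_subset _ _) (Finset.filter_subset _ _))
    · exact Finset.disjoint_filter.2 fun t ht hI hJ => (hTm t ht).elim hI hJ
  have e4 : (v : WithBot ℕ∞) ≤ (maximalIdeal (A ⧸ I)).spanFinrank :=
    hv ▸ ringKrullDim_le_spanFinrank_maximalIdeal (A ⧸ I)
  have e5 : (w : WithBot ℕ∞) ≤ (maximalIdeal (A ⧸ J)).spanFinrank :=
    hw ▸ ringKrullDim_le_spanFinrank_maximalIdeal (A ⧸ J)
  have e4' : v ≤ (maximalIdeal (A ⧸ I)).spanFinrank := by exact_mod_cast e4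
  have e5' : w ≤ (maximalIdeal (A ⧸ J)).spanFinrank := by exact_mod_cast e5
  have ha' : (maximalIdeal A).spanFinrank = a := by exact_mod_cast ha
  constructor
  · refine IsRegularLocalRing.of_spanFinrank_maximalIdeal_le _ ?_
    rw [hv]
    exact_mod_cast (show (maximalIdeal (A ⧸ I)).spanFinrank ≤ v by omega)
  · refine IsRegularLocalRing.of_spanFinrank_maximalIdeal_le _ ?_
    rw [hw]
    exact_mod_cast (show (maximalIdeal (A ⧸ J)).spanFinrank ≤ w by omega)

end Groth.Agent.CycLib28
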