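import Mathlib
import Groth.Agent.CycLib28.TorFinLen
import Groth.Agent.CAlgH3.GrTopSocle
import Groth.Agent.LocCoh.Local
import Groth.Agent.CAlgSmall.Tor

/-!
# Change of rings for Tor along a flat module
-/

set_option autoImplicit false
set_option backward.isDefEq.respectTransparency false

universe u

open CategoryTheory CategoryTheory.Limits TensorProduct

namespace Groth.Agent.CycLib28

section shift

variable {B : Type u} [CommRing B]

theorem torShift_of_acyclic (h : ModuleCat.{u} B) {S : ShortComplex (ModuleCat.{u} B)} (hS : S.ShortExact)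
    (hz : ∀ q : ℕ, IsZero (((HTor16.tens h).leftDerived (q + 1)).obj S.X₂)) (p : ℕ) :
    Nonempty (DRing.Tor B (p + 2) h S.X₃ ≃ₗ[B] DRing.Tor B (p + 1) h S.X₁) := by
  obtain ⟨-, δ, w₁, w₂, e₁, e₂⟩ := CommAlg4.DerivedLES.les hS (HTor16.tens h) (p + 1)
  have hz' : ∀ q : ℕ, IsZero (((HTor16.tens h).leftDerived (q + 1)).obj S.X₂) := hz
  haveI : Mono δ := e₁.mono_g ((hz' (p + 1)).eq_of_src _ _)
  haveI : Epi δ := e₂.epi_f ((hz' p).eq_of_tgt _ _)
  haveI : IsIso δ := isIso_of_mono_of_epi δ
  exact ⟨(asIso δ).toLinearEquiv⟩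

theorem torOne_of_acyclic (h : ModuleCat.{u} B) {S : ShortComplex (ModuleCat.{u} B)} (hS : S.ShortExact)
    (hz : IsZero (((HTor16.tens h).leftDerived 1).obj S.X₂)) :
    Nonempty (DRing.Tor B 1 h S.X₃ ≃ₗ[B] LinearMap.ker (S.f.hom.lTensor h)) := by
  haveI := HTor16.tens_preserves h
  obtain ⟨-, δ, w₁, w₂, e₁, e₂⟩ := CommAlg4.DerivedLES.les hS (HTor16.tens h) 0
  have hz' : IsZero (((HTor16.tens h).leftDerived 1).obj S.X₂) := hz
  haveI : Mono δ := e₁.mono_g (hz'.eq_of_src _ _)
  let z := (HTor16.tens h).leftDerivedZeroIsoSelf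
  let ψ : DRing.Tor B 1 h S.X₃ →ₗ[B] TensorProduct B h S.X₁ := (δ ≫ z.hom.app S.X₁).hom
  have hn : ∀ y, S.f.hom.lTensor h (z.hom.app S.X₁ y) = z.hom.app S.X₂ (((HTor16.tens h).leftDerived 0).map S.f y) :=
    fun y => (ConcreteCategory.congr_hom (z.hom.naturality S.f) y).symm
  have hψ : ∀ x, S.f.hom.lTensor h (ψ x) = 0 := fun x => (hn (δ x)).trans
    ((congrArg (z.hom.app S.X₂) (ConcreteCategory.congr_hom w₂ x)).trans (map_zero _))
  have hiso : ∀ X, Function.Bijective (z.hom.app X) := fun X => (z.app X).toLinearEquiv.bijective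
  refine ⟨LinearEquiv.ofBijective (ψ.codRestrict _ hψ) ⟨fun x y e => ?_, fun y => ?_⟩⟩
  · exact (ModuleCat.mono_iff_injective δ).1 inferInstance ((hiso _).1 (congrArg Subtype.val e))
  · obtain ⟨y', hy'⟩ := (hiso S.X₁).2 y.1
    have h0 : ((HTor16.tens h).leftDerived 0).map S.f y' = 0 := (hiso _).1
      ((hn y').symm.trans ((congrArg _ hy').trans ((LinearMap.mem_ker.1 y.2).trans (map_zero _).symm)))
    obtain ⟨x, hx⟩ := (ShortComplex.moduleCat_exact_iff _).1 e₂ y' h0
    exact ⟨x, Subtype.ext ((congrArg (z.hom.app S.X₁) hx).trans hy')⟩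

theorem isZero_tor_pi (h : ModuleCat.{u} B) (M : Type u) [AddCommGroup M] [Module B M] (q : ℕ)
    (hz : IsZero (((HTor16.tens h).leftDerived (q + 1)).obj (ModuleCat.of B M))) : ∀ n : ℕ,
    IsZero (((HTor16.tens h).leftDerived (q + 1)).obj (ModuleCat.of B (Fin n → M))) := by
  intro n
  induction n with
  | zero =>
    haveI : Projective (ModuleCat.of B (Fin 0 → M)) := (IsProjective.iff_projective _).1 inferInstance
    exact Functor.isZero_leftDerived_obj_projective_succ (HTor16.tens h) q _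
  | succ n ih =>
    have hS := LocCoh.shortExact_of (f := LinearMap.inl B M (Fin n → M)) (g := LinearMap.snd B M (Fin n → M))
      LinearMap.inl_injective LinearMap.snd_surjective Function.Exact.inl_snd
    obtain ⟨⟨w, hw⟩, -⟩ := CommAlg4.DerivedLES.les hS (HTor16.tens h) (q + 1)
    have hz' : IsZero (((HTor16.tens h).leftDerived (q + 1)).obj (ModuleCat.of B M)) := hz
    have ih' : IsZero (((HTor16.tens h).leftDerived (q + 1)).obj (ModuleCat.of B (Fin n → M))) := ih
    have := hw.isZero_of_both_zeros (hz'.eq_of_src _ _) (ih'.eq_of_tgt _ _)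
    exact this.of_iso (Functor.mapIso ((HTor16.tens h).leftDerived (q + 1))
      ((Fin.consLinearEquiv B (fun _ : Fin (n + 1) => M)).toModuleIso).symm)

end shift

variable {A B : Type u} [CommRing A] [CommRing B] [IsNoetherianRing A] [Algebra A B]
variable (Q : Type u) [AddCommGroup Q] [Module A Q] [Module B Q] [IsScalarTower A B Q]
variable (M : Type u) [AddCommGroup M] [Module A M] [Module B M] [IsScalarTower A B M] [Module.Flat A M]

theorem assoc_natural {K F : Type u} [AddCommGroup K] [Module A K] [AddCommGroup F] [Module A F] (g : K →ₗ[A] F)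
    (x : (Q ⊗[B] M) ⊗[A] K) :
    (AlgebraTensorModule.lTensor B M g).lTensor Q (AlgebraTensorModule.assoc A B B Q M K x) =
      AlgebraTensorModule.assoc A B B Q M F (g.lTensor (Q ⊗[B] M) x) := by
  induction x using TensorProduct.induction_on with
  | zero => simp
  | add a b ha hb => simp [map_add, ha, hb]
  | tmul p k =>
    induction p using TensorProduct.induction_on with
    | zero => simp
    | add a b ha hb => simp [TensorProduct.add_tmul, map_add, ha, hb]
    | tmul q m => simp

/-- Change of rings: Tor over `B` against a base change along the flat module `M` is Tor over `A`. -/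
theorem exists_tor_base_change (hz : ∀ q : ℕ, IsZero (((HTor16.tens (ModuleCat.of B Q)).leftDerived (q + 1)).obj (ModuleCat.of B M))) :
    ∀ (i : ℕ) (N : Type u) [AddCommGroup N] [Module A N] [Module.Finite A N],
    ∃ e : DRing.Tor B (i + 1) (ModuleCat.of B Q) (ModuleCat.of B (M ⊗[A] N)) ≃+
      DRing.Tor A (i + 1) (ModuleCat.of A (Q ⊗[B] M)) (ModuleCat.of A N),
      ∀ (a : A) t, e (algebraMap A B a • t) = a • e t := by
  intro i
  induction i with
  | zero =>
    intro N _ _ _
    obtain ⟨n, f, hf⟩ := Module.Finite.exists_fin' A N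
    have hS := LinearMap.shortExact_shortComplexKer hf
    have hSB := LocCoh.shortExact_of (f := AlgebraTensorModule.lTensor B M (LinearMap.ker f).subtype)
      (g := AlgebraTensorModule.lTensor B M f)
      (Module.Flat.lTensor_preserves_injective_linearMap _ Subtype.val_injective) (LinearMap.lTensor_surjective M hf)
      (lTensor_exact M (LinearMap.exact_subtype_ker_map f) hf)
    obtain ⟨eA⟩ := HTor16.torOne (ModuleCat.of A (Q ⊗[B] M)) hS
    obtain ⟨eB⟩ := torOne_of_acyclic (ModuleCat.of B Q) hSB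
      ((isZero_tor_pi _ M 0 (hz 0) n).of_iso (Functor.mapIso ((HTor16.tens (ModuleCat.of B Q)).leftDerived 1) (TensorProduct.piScalarRight A B M (Fin n)).toModuleIso))
    let φ := AlgebraTensorModule.assoc A B B Q M (LinearMap.ker f)
    let eK : LinearMap.ker ((AlgebraTensorModule.lTensor B M (LinearMap.ker f).subtype).lTensor Q) ≃+
        LinearMap.ker ((LinearMap.ker f).subtype.lTensor (Q ⊗[B] M)) :=
      { toFun := fun x => ⟨φ.symm x.1, by
          apply (AlgebraTensorModule.assoc A B B Q M (Fin n → A)).injective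
          rw [← assoc_natural, LinearEquiv.apply_symm_apply, map_zero]
          exact x.2⟩
        invFun := fun y => ⟨φ y.1, by
          rw [LinearMap.mem_ker, assoc_natural, LinearMap.mem_ker.1 y.2, map_zero]⟩
        left_inv := fun x => Subtype.ext (φ.apply_symm_apply _)
        right_inv := fun x => Subtype.ext (φ.symm_apply_apply _)
        map_add' := fun x y => Subtype.ext (map_add φ.symm _ _) }
    refine ⟨(eB.toAddEquiv.trans eK).trans eA.symm.toAddEquiv, fun a t => ?_⟩
    have hK : ∀ y, eK (algebraMap A B a • y) = a • eK y := fun y => Subtype.ext (by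
      change φ.symm (algebraMap A B a • y.1) = a • φ.symm y.1
      rw [map_smul, algebraMap_smul])
    exact (congrArg eA.symm ((congrArg eK (map_smul eB _ t)).trans (hK _))).trans (map_smul eA.symm a _)
  | succ i ih =>
    intro N _ _ _
    obtain ⟨n, f, hf⟩ := Module.Finite.exists_fin' A N
    have hS := LinearMap.shortExact_shortComplexKer hf
    have hSB := LocCoh.shortExact_of (f := AlgebraTensorModule.lTensor B M (LinearMap.ker f).subtype)
      (g := AlgebraTensorModule.lTensor B M f)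
      (Module.Flat.lTensor_preserves_injective_linearMap _ Subtype.val_injective) (LinearMap.lTensor_surjective M hf)
      (lTensor_exact M (LinearMap.exact_subtype_ker_map f) hf)
    obtain ⟨eA⟩ := HTor16.torShift (ModuleCat.of A (Q ⊗[B] M)) hS i
    obtain ⟨eB⟩ := torShift_of_acyclic (ModuleCat.of B Q) hSB
      (fun q => (isZero_tor_pi _ M q (hz q) n).of_iso (Functor.mapIso ((HTor16.tens (ModuleCat.of B Q)).leftDerived (q + 1)) (TensorProduct.piScalarRight A B M (Fin n)).toModuleIso)) i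
    obtain ⟨e, he⟩ := ih (LinearMap.ker f)
    refine ⟨(eB.toAddEquiv.trans e).trans eA.symm.toAddEquiv, fun a t => ?_⟩
    exact (congrArg eA.symm ((congrArg e (map_smul eB _ t)).trans (he a _))).trans (map_smul eA.symm a _)

variable [IsNoetherianRing B] [Module.Finite B Q] [Module.Finite B M]

omit [IsNoetherianRing A] [Module.Flat A M] [IsNoetherianRing B] in
theorem finite_tensor (N : Type u) [AddCommGroup N] [Module A N] [Module.Finite A N] :
    Module.Finite B (M ⊗[A] N) := by
  obtain ⟨n, f, hf⟩ := Module.Finite.exists_fin' A N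
  exact Module.Finite.of_surjective ((AlgebraTensorModule.lTensor B M f).comp
    (TensorProduct.piScalarRight A B M (Fin n)).symm.toLinearMap)
    ((LinearMap.lTensor_surjective M hf).comp (LinearEquiv.surjective _))

/-- The higher lengths agree when `B` acts on `Q` through `A`. -/
theorem length_tor_base_change (hz : ∀ q : ℕ, IsZero (((HTor16.tens (ModuleCat.of B Q)).leftDerived (q + 1)).obj (ModuleCat.of B M)))
    (hQ : ∀ b : B, ∃ a : A, ∀ x : Q, (b - algebraMap A B a) • x = 0) (i : ℕ) (N : Type u) [AddCommGroup N] [Module A N]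
    [Module.Finite A N] :
    Module.length B (DRing.Tor B i (ModuleCat.of B Q) (ModuleCat.of B (M ⊗[A] N))) =
      Module.length A (DRing.Tor A i (ModuleCat.of A (Q ⊗[B] M)) (ModuleCat.of A N)) := by
  rcases i with - | i
  · obtain ⟨eB⟩ := HTor16.torZero (ModuleCat.of B Q) (ModuleCat.of B (M ⊗[A] N))
    obtain ⟨eA⟩ := HTor16.torZero (ModuleCat.of A (Q ⊗[B] M)) (ModuleCat.of A N)
    rw [eA.length_eq, eB.length_eq]
    refine (LinearEquiv.length_eq (AlgebraTensorModule.assoc A B B Q M N).symm).trans ?_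
    symm
    refine Groth.Agent.CAlgH3.GrTopSocle.length_restrict fun b x => ?_
    obtain ⟨a, ha⟩ := hQ b
    refine ⟨a, ?_⟩
    rw [← algebraMap_smul B a x, ← sub_eq_zero, ← sub_smul]
    induction x using TensorProduct.induction_on with
    | zero => simp
    | add p q hp hq => rw [smul_add, hp, hq, add_zero]
    | tmul p k =>
      rw [TensorProduct.smul_tmul']
      induction p using TensorProduct.induction_on with
      | zero => simp
      | add p q hp hq => rw [smul_add, TensorProduct.add_tmul, hp, hq, add_zero]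
      | tmul q m => rw [TensorProduct.smul_tmul', ha q, TensorProduct.zero_tmul, TensorProduct.zero_tmul]
  · obtain ⟨e, he⟩ := exists_tor_base_change (A := A) Q M hz i N
    set T := DRing.Tor B (i + 1) (ModuleCat.of B Q) (ModuleCat.of B (M ⊗[A] N))
    letI : Module A T := Module.compHom T (algebraMap A B)
    haveI : IsScalarTower A B T := IsScalarTower.of_algebraMap_smul fun _ _ => rfl
    let eL : T ≃ₗ[A] DRing.Tor A (i + 1) (ModuleCat.of A (Q ⊗[B] M)) (ModuleCat.of A N) :=
      { e with map_smul' := fun a t => he a t }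
    rw [← eL.length_eq]
    symm
    refine Groth.Agent.CAlgH3.GrTopSocle.length_restrict fun b x => ?_
    obtain ⟨a, ha⟩ := hQ b
    refine ⟨a, ?_⟩
    rw [← algebraMap_smul B a x, ← sub_eq_zero, ← sub_smul]
    haveI : Module.Finite B (M ⊗[A] N) := finite_tensor M N
    exact (finite_and_annihilated_tor (b - algebraMap A B a) i Q (M ⊗[A] N)).2 ha x

theorem chi_base_change (hz : ∀ q : ℕ, IsZero (((HTor16.tens (ModuleCat.of B Q)).leftDerived (q + 1)).obj (ModuleCat.of B M)))
    (hQ : ∀ b : B, ∃ a : A, ∀ x : Q, (b - algebraMap A B a) • x = 0) (N : Type u) [AddCommGroup N] [Module A N]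
    [Module.Finite A N] : IntMult.chi B Q (M ⊗[A] N) = IntMult.chi A (Q ⊗[B] M) N :=
  finsum_congr fun i => congrArg (fun l : ℕ∞ => (-1 : ℤ) ^ i * (l.toNat : ℤ)) (length_tor_base_change (A := A) Q M hz hQ i N)

end Groth.Agent.CycLib28

namespace Groth.Agent.CycLib28

section diag

variable {A B : Type u} [CommRing A] [CommRing B]

theorem chi_congr_both {M M' N N' : Type u} [AddCommGroup M] [Module A M] [AddCommGroup M'] [Module A M']
    [AddCommGroup N] [Module A N] [AddCommGroup N'] [Module A N'] (e : M ≃ₗ[A] M') (e' : N ≃ₗ[A] N') :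
    IntMult.chi A M N = IntMult.chi A M' N' := by
  have h : ∀ (P Q Q' : Type u) [AddCommGroup P] [Module A P] [AddCommGroup Q] [Module A Q] [AddCommGroup Q']
      [Module A Q'], (Q ≃ₗ[A] Q') → IntMult.chi A P Q = IntMult.chi A P Q' := by
    intro P Q Q' _ _ _ _ _ _ g
    exact finsum_congr fun i => congrArg (fun l : ℕ∞ => (-1 : ℤ) ^ i * (l.toNat : ℤ))
      ((((HTor16.tens (ModuleCat.of A P)).leftDerived i).mapIso g.toModuleIso).toLinearEquiv.length_eq)
  rw [h M N N' e', chi_comm, h N' M M' e, chi_comm]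

/-- `(B/P) ⊗ (B/P') = B/(P + P')` -/
noncomputable def quotTensorQuotEquiv (P P' : Ideal B) : (B ⧸ P) ⊗[B] (B ⧸ P') ≃ₗ[B] B ⧸ (P' ⊔ P) :=
  (TensorProduct.quotTensorEquivQuotSMul (B ⧸ P') P).trans (ringKrullDim_le_of_finite_length.quotSupEquiv P' P)

variable [IsNoetherianRing A] [IsNoetherianRing B]

theorem isZero_tor_diag [Algebra A B] [Module.Flat A B] (μ : B →+* A)
    (hμ : ∀ a, μ (algebraMap A B a) = a) (I : Ideal A) (q : ℕ) :
    IsZero (((HTor16.tens (ModuleCat.of B (B ⧸ RingHom.ker μ))).leftDerived (q + 1)).obj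
      (ModuleCat.of B (B ⧸ I.map (algebraMap A B)))) := by
  have hproj : ∀ q : ℕ, IsZero (((HTor16.tens (ModuleCat.of B (B ⧸ RingHom.ker μ))).leftDerived (q + 1)).obj (ModuleCat.of B B)) := by
    intro q
    haveI : Projective (ModuleCat.of B B) := (IsProjective.iff_projective _).1 inferInstance
    exact Functor.isZero_leftDerived_obj_projective_succ _ q _
  obtain ⟨e, -⟩ := exists_tor_base_change (A := A) (B ⧸ RingHom.ker μ) B hproj q (A ⧸ I)
  let eA : A ≃ₗ[A] B ⧸ RingHom.ker μ := LinearEquiv.ofBijective (Algebra.linearMap A (B ⧸ RingHom.ker μ)) <| by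
    refine ⟨fun a a' h => ?_, fun x => ?_⟩
    · have h' : algebraMap A B a - algebraMap A B a' ∈ RingHom.ker μ := Ideal.Quotient.eq.1 h
      rwa [RingHom.mem_ker, map_sub, hμ, hμ, sub_eq_zero] at h'
    · obtain ⟨b, rfl⟩ := Ideal.Quotient.mk_surjective x
      exact ⟨μ b, Ideal.Quotient.eq.2 (by rw [RingHom.mem_ker, map_sub, hμ, sub_self])⟩
  haveI : Module.Flat A ((B ⧸ RingHom.ker μ) ⊗[B] B) :=
    Module.Flat.of_linearEquiv (((TensorProduct.rid B (B ⧸ RingHom.ker μ)).restrictScalars A).trans eA.symm)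
  haveI := ModuleCat.subsingleton_of_isZero (Groth.Agent.CAlgSmall.isZero_tor_of_flat ((B ⧸ RingHom.ker μ) ⊗[B] B)
    (ModuleCat.of A (A ⧸ I)) (q + 1) (Nat.succ_pos q))
  haveI : Subsingleton ↑(((HTor16.tens (ModuleCat.of B (B ⧸ RingHom.ker μ))).leftDerived (q + 1)).obj
      (ModuleCat.of B (B ⊗[A] (A ⧸ I)))) := e.injective.subsingleton
  exact (ModuleCat.isZero_of_subsingleton _).of_iso (Functor.mapIso _
    (Algebra.TensorProduct.quotIdealMapEquivTensorQuot B I).toLinearEquiv.toModuleIso)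

/-- Reduction to the diagonal, for local rings. -/
theorem chi_diag (φ₁ φ₂ : A →+* B) (μ : B →+* A) (h₁ : φ₁.Flat) (hμ₁ : ∀ a, μ (φ₁ a) = a)
    (hμ₂ : ∀ a, μ (φ₂ a) = a) (I J : Ideal A)
    (h₂ : ((Ideal.Quotient.mk (I.map φ₁)).comp φ₂).Flat) :
    IntMult.chi B (B ⧸ RingHom.ker μ) (B ⧸ (I.map φ₁ ⊔ J.map φ₂)) = IntMult.chi A (A ⧸ I) (A ⧸ J) := by
  have hz : ∀ q, IsZero (((HTor16.tens (ModuleCat.of B (B ⧸ RingHom.ker μ))).leftDerived (q + 1)).obj
      (ModuleCat.of B (B ⧸ I.map φ₁))) := by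
    letI := φ₁.toAlgebra
    haveI : Module.Flat A B := h₁
    exact fun q => isZero_tor_diag μ hμ₁ I q
  letI := φ₂.toAlgebra
  haveI : Module.Flat A (B ⧸ I.map φ₁) := by
    rw [← RingHom.flat_algebraMap_iff]
    exact h₂
  have hQ : ∀ b : B, ∃ a : A, ∀ x : B ⧸ RingHom.ker μ, (b - algebraMap A B a) • x = 0 := fun b => ⟨μ b, fun x => by
    obtain ⟨y, rfl⟩ := Ideal.Quotient.mk_surjective x
    exact Ideal.Quotient.eq_zero_iff_mem.2 (Ideal.mul_mem_right _ _ (by
      rw [RingHom.mem_ker, map_sub, RingHom.algebraMap_toAlgebra, hμ₂, sub_self]))⟩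
  have h := chi_base_change (A := A) (B ⧸ RingHom.ker μ) (B ⧸ I.map φ₁) hz hQ (A ⧸ J)
  let eN : (B ⧸ I.map φ₁) ⊗[A] (A ⧸ J) ≃ₗ[B] B ⧸ (I.map φ₁ ⊔ J.map φ₂) :=
    (AlgebraTensorModule.cancelBaseChange A B B (B ⧸ I.map φ₁) (A ⧸ J)).symm.trans
      ((LinearEquiv.lTensor _ (Algebra.TensorProduct.quotIdealMapEquivTensorQuot B J).symm.toLinearEquiv).trans
        ((quotTensorQuotEquiv (I.map φ₁) (J.map (algebraMap A B))).trans (Submodule.quotEquivOfEq _ _ (sup_comm _ _))))
  have hle : I.map φ₁ ⊔ RingHom.ker μ ≤ RingHom.ker ((Ideal.Quotient.mk I).comp μ) := by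
    refine sup_le (Ideal.map_le_iff_le_comap.2 fun a ha => ?_) fun b hb => ?_
    · rw [Ideal.mem_comap, RingHom.mem_ker, RingHom.comp_apply, hμ₁, Ideal.Quotient.eq_zero_iff_mem]
      exact ha
    · rw [RingHom.mem_ker, RingHom.comp_apply, RingHom.mem_ker.1 hb, map_zero]
  let ψ : (B ⧸ (I.map φ₁ ⊔ RingHom.ker μ)) →ₗ[A] A ⧸ I :=
    { toFun := Ideal.Quotient.lift _ ((Ideal.Quotient.mk I).comp μ) fun b hb => RingHom.mem_ker.1 (hle hb)
      map_add' := map_add _
      map_smul' := fun a x => by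
        obtain ⟨b, rfl⟩ := Ideal.Quotient.mk_surjective x
        change Ideal.Quotient.mk I (μ (φ₂ a * b)) = a • Ideal.Quotient.mk I (μ b)
        rw [map_mul, hμ₂]
        rfl }
  have hψ : Function.Bijective ψ := by
    refine ⟨(injective_iff_map_eq_zero ψ).2 fun x hx => ?_, fun y => ?_⟩
    · obtain ⟨b, rfl⟩ := Ideal.Quotient.mk_surjective x
      have hb : μ b ∈ I := Ideal.Quotient.eq_zero_iff_mem.1 hx
      refine Ideal.Quotient.eq_zero_iff_mem.2 ?_
      rw [← add_sub_cancel (φ₁ (μ b)) b]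
      exact Submodule.add_mem_sup (Ideal.mem_map_of_mem _ hb) (by rw [RingHom.mem_ker, map_sub, hμ₁, sub_self])
    · obtain ⟨a, rfl⟩ := Ideal.Quotient.mk_surjective y
      exact ⟨Ideal.Quotient.mk _ (φ₁ a), congrArg (Ideal.Quotient.mk I) (hμ₁ a)⟩
  let eM : (B ⧸ RingHom.ker μ) ⊗[B] (B ⧸ I.map φ₁) ≃ₗ[A] A ⧸ I :=
    ((quotTensorQuotEquiv (RingHom.ker μ) (I.map φ₁)).restrictScalars A).trans (LinearEquiv.ofBijective ψ hψ)
  rw [chi_congr_both (LinearEquiv.refl B _) eN.symm, h, chi_congr_both eM (LinearEquiv.refl A _)]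

end diag

end Groth.Agent.CycLib28
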