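import Mathlib
import Groth.Agent.CycLib28.StalkIdeal
import Groth.Agent.CycLib28.TorBase

/-!
# Reduction to the diagonal for intersection multiplicities
-/

set_option autoImplicit false
set_option backward.isDefEq.respectTransparency false

universe u

open CategoryTheory CategoryTheory.Limits AlgebraicGeometry IsLocalRing

namespace Groth.Agent.CycLib28

variable {X P : Scheme.{u}}

/-- the stalk map of a map with a section, at a point of the section -/
noncomputable def sectStalkMap (pr : P ⟶ X) (j : X ⟶ P) (e : j ≫ pr = 𝟙 X) (ξ : X) :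
    X.presheaf.stalk ξ ⟶ P.presheaf.stalk (j ξ) :=
  (X.presheaf.stalkCongr (.of_eq (show ξ = pr (j ξ) by rw [← Scheme.Hom.comp_apply, e]; rfl))).hom ≫
    pr.stalkMap (j ξ)

theorem sectStalkMap_retract (pr : P ⟶ X) (j : X ⟶ P) (e : j ≫ pr = 𝟙 X) (ξ : X) :
    sectStalkMap pr j e ξ ≫ j.stalkMap ξ = 𝟙 _ := by
  rw [sectStalkMap, Category.assoc, ← Scheme.Hom.stalkMap_comp, Scheme.Hom.stalkMap_congr_hom _ _ e,
    Scheme.Hom.stalkMap_id]
  simp

theorem stalkIdeal_congr (I : X.IdealSheafData) {x y : X} (h : x = y) :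
    IntMult.stalkIdeal I y = (IntMult.stalkIdeal I x).map (X.presheaf.stalkCongr (.of_eq h)).hom.hom := by
  subst h
  simp

theorem map_sectStalkMap (pr : P ⟶ X) (j : X ⟶ P) (e : j ≫ pr = 𝟙 X) (I : X.IdealSheafData) {ξ : X}
    (h : ξ ∈ I.support) :
    IntMult.stalkIdeal (I.comap pr) (j ξ) = (IntMult.stalkIdeal I ξ).map (sectStalkMap pr j e ξ).hom := by
  have h' : pr (j ξ) = ξ := by rw [← Scheme.Hom.comp_apply, e]; rfl
  rw [stalkIdeal_comap I pr (by rw [h']; exact h), stalkIdeal_congr I h'.symm, Ideal.map_map]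
  rfl

theorem flat_sectStalkMap (pr : P ⟶ X) [Flat pr] (j : X ⟶ P) (e : j ≫ pr = 𝟙 X) (ξ : X) :
    (sectStalkMap pr j e ξ).hom.Flat := by
  rw [sectStalkMap, CommRingCat.hom_comp]
  exact RingHom.Flat.comp (RingHom.Flat.of_bijective (ConcreteCategory.bijective_of_isIso _))
    (Flat.stalkMap pr _)

theorem flat_sectStalkMap_quot (pr : P ⟶ X) (j : X ⟶ P) (e : j ≫ pr = 𝟙 X) (K : P.IdealSheafData) {ξ : X}
    (hK : j ξ ∈ K.support) [Flat (K.subschemeι ≫ pr)] :
    ((Ideal.Quotient.mk (IntMult.stalkIdeal K (j ξ))).comp (sectStalkMap pr j e ξ).hom).Flat := by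
  obtain ⟨z, hz⟩ := K.range_subschemeι.ge hK
  have key : ∀ (y : P) (hy : K.subschemeι z = y) (hx : ξ = pr y),
      ((Ideal.Quotient.mk (IntMult.stalkIdeal K y)).comp
        ((X.presheaf.stalkCongr (.of_eq hx)).hom ≫ pr.stalkMap y).hom).Flat := by
    intro y hy hx
    subst hy
    subst hx
    rw [TopCat.Presheaf.stalkCongr_hom, TopCat.Presheaf.stalkSpecializes_refl, Category.id_comp]
    let e' : (P.presheaf.stalk (K.subschemeι z) ⧸ IntMult.stalkIdeal K (K.subschemeι z)) ≃+*
        K.subscheme.presheaf.stalk z :=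
      (Ideal.quotEquivOfEq (stalkIdeal_eq_ker K z)).trans
        (RingHom.quotientKerEquivOfSurjective (K.subschemeι.stalkMap_surjective z))
    have h : e'.toRingHom.comp ((Ideal.Quotient.mk _).comp (pr.stalkMap (K.subschemeι z)).hom) =
        ((K.subschemeι ≫ pr).stalkMap z).hom := by
      rw [Scheme.Hom.stalkMap_comp]
      rfl
    have hf := Flat.stalkMap (K.subschemeι ≫ pr) z
    rw [← h] at hf
    have := RingHom.Flat.comp hf (RingHom.Flat.of_bijective (f := e'.symm.toRingHom) e'.symm.bijective)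
    rw [← RingHom.comp_assoc] at this
    simpa using this
  exact key (j ξ) hz (by rw [← Scheme.Hom.comp_apply, e]; rfl)

theorem mult_diag {K : Type u} [Field K] (f : X ⟶ Spec (CommRingCat.of K)) [IsSeparated f] [LocallyOfFiniteType f]
    (IV IW : X.IdealSheafData) {ξ : X} (hV : ξ ∈ IV.support) (hW : ξ ∈ IW.support) :
    IntMult.mult IV IW ξ =
      IntMult.mult (pullback.map (IV.subschemeι ≫ f) (IW.subschemeι ≫ f) f f IV.subschemeι IW.subschemeι (𝟙 _)
        (Category.comp_id _) (Category.comp_id _)).ker (pullback.diagonal f).ker (pullback.diagonal f ξ) := by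
  haveI : IsLocallyNoetherian X := LocallyOfFiniteType.isLocallyNoetherian f
  haveI : IsLocallyNoetherian (pullback f f) :=
    LocallyOfFiniteType.isLocallyNoetherian (pullback.fst f f ≫ f)
  set p1 := pullback.fst f f with hp1
  set p2 := pullback.snd f f with hp2
  set j := pullback.diagonal f with hj
  have e1 : j ≫ p1 = 𝟙 X := pullback.diagonal_fst f
  have e2 : j ≫ p2 = 𝟙 X := pullback.diagonal_snd f
  have h1 : p1 (j ξ) = ξ := by rw [← Scheme.Hom.comp_apply, e1]; rfl
  have h2 : p2 (j ξ) = ξ := by rw [← Scheme.Hom.comp_apply, e2]; rfl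
  have hV' : j ξ ∈ (IV.comap p1).support := by
    rw [Scheme.IdealSheafData.support_comap]
    show p1 (j ξ) ∈ IV.support
    rw [h1]; exact hV
  have hW' : j ξ ∈ (IW.comap p2).support := by
    rw [Scheme.IdealSheafData.support_comap]
    show p2 (j ξ) ∈ IW.support
    rw [h2]; exact hW
  haveI : Flat ((IV.comap p1).subschemeι ≫ p2) := by
    let e : pullback p1 IV.subschemeι ≅ pullback (IV.subschemeι ≫ f) f :=
      pullbackSymmetry _ _ ≪≫ pullbackRightPullbackFstIso f f IV.subschemeι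
    have : (IV.comap p1).subschemeι ≫ p2 =
        ((IV.comapIso p1).hom ≫ e.hom) ≫ pullback.snd (IV.subschemeι ≫ f) f := by
      rw [← Scheme.IdealSheafData.comapIso_hom_fst]
      simp [e, p1, p2]
    rw [this]
    infer_instance
  have hsup : j ξ ∈ (IV.comap p1 ⊔ IW.comap p2).support := by
    rw [Scheme.IdealSheafData.support_sup]
    exact ⟨hV', hW'⟩
  unfold IntMult.mult
  rw [ker_pullback_map f f IV IW, stalkIdeal_sup _ _ hsup, map_sectStalkMap p1 j e1 IV hV,
    map_sectStalkMap p2 j e2 IW hW, stalkIdeal_ker j ξ]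
  rw [chi_diag (sectStalkMap p1 j e1 ξ).hom (sectStalkMap p2 j e2 ξ).hom (j.stalkMap ξ).hom
    (flat_sectStalkMap p1 j e1 ξ)
    (fun a => ConcreteCategory.congr_hom (sectStalkMap_retract p1 j e1 ξ) a)
    (fun a => ConcreteCategory.congr_hom (sectStalkMap_retract p2 j e2 ξ) a)
    (IntMult.stalkIdeal IV ξ) (IntMult.stalkIdeal IW ξ)
    (by rw [← map_sectStalkMap p1 j e1 IV hV]; exact flat_sectStalkMap_quot p2 j e2 (IV.comap p1) hV')]
  exact chi_comm _ _

end Groth.Agent.CycLib28
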