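import Mathlib
import Groth.Agent.CycLib28.MultDiag
import Groth.Agent.DimLib.BaseChange
import Groth.Agent.AbVarLib.AlgClosedIntegral
import Groth.Agent.CAlgH.KoszulEuler.Applications

/-!
# Positivity of intersection multiplicities
-/

set_option autoImplicit false
set_option backward.isDefEq.respectTransparency false

universe u

open CategoryTheory CategoryTheory.Limits AlgebraicGeometry IsLocalRing

namespace Groth.Agent.CycLib28

theorem topologicalKrullDim_product {K : Type u} [Field K] {X Y : Scheme.{u}} (f : X ⟶ Spec (CommRingCat.of K))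
    (g : Y ⟶ Spec (CommRingCat.of K)) [LocallyOfFiniteType f] [LocallyOfFiniteType g] {r s : ℕ}
    (hr : topologicalKrullDim X = r) (hs : topologicalKrullDim Y = s) :
    topologicalKrullDim ↥(pullback f g) = ((r + s : ℕ) : WithBot ℕ∞) := by
  rw [DimLib.topologicalKrullDim_eq_iSup f] at hr
  rw [DimLib.topologicalKrullDim_eq_iSup g] at hs
  rw [DimLib.topologicalKrullDim_eq_iSup (pullback.fst f g ≫ f)]
  have hle : ∀ x : X, DimLib.ptDim f x ≤ r := fun x => by
    exact_mod_cast (le_iSup (fun x : X => (DimLib.ptDim f x : WithBot ℕ∞)) x).trans hr.le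
  have hle' : ∀ y : Y, DimLib.ptDim g y ≤ s := fun y => by
    exact_mod_cast (le_iSup (fun y : Y => (DimLib.ptDim g y : WithBot ℕ∞)) y).trans hs.le
  refine le_antisymm (iSup_le fun z => ?_) ?_
  · exact_mod_cast (DimLib.ptDim_product_le f g z).trans (add_le_add (hle _) (hle' _))
  · obtain ⟨x, hx⟩ : ∃ x : X, r ≤ DimLib.ptDim f x := by
      by_contra! h
      have hne : Nonempty X := by
        by_contra hX
        rw [not_nonempty_iff] at hX
        rw [iSup_of_empty] at hr
        exact WithBot.bot_ne_coe hr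
      rcases r with - | r
      · exact absurd (h hne.some) (Nat.not_lt_zero _)
      · have h2 : (⨆ x : X, (DimLib.ptDim f x : WithBot ℕ∞)) ≤ (r : ℕ) :=
          iSup_le fun x => by exact_mod_cast Nat.lt_succ_iff.1 (h x)
        rw [hr] at h2
        exact absurd h2 (not_le.2 (by exact_mod_cast Nat.lt_succ_self r))
    obtain ⟨y, hy⟩ : ∃ y : Y, s ≤ DimLib.ptDim g y := by
      by_contra! h
      have hne : Nonempty Y := by
        by_contra hY
        rw [not_nonempty_iff] at hY
        rw [iSup_of_empty] at hs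
        exact WithBot.bot_ne_coe hs
      rcases s with - | s
      · exact absurd (h hne.some) (Nat.not_lt_zero _)
      · have h2 : (⨆ y : Y, (DimLib.ptDim g y : WithBot ℕ∞)) ≤ (s : ℕ) :=
          iSup_le fun y => by exact_mod_cast Nat.lt_succ_iff.1 (h y)
        rw [hs] at h2
        exact absurd h2 (not_le.2 (by exact_mod_cast Nat.lt_succ_self s))
    obtain ⟨z, -, -, hz⟩ := DimLib.exists_product_point f g x y
    refine le_trans ?_ (le_iSup (fun z => (DimLib.ptDim (pullback.fst f g ≫ f) z : WithBot ℕ∞)) z)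
    exact_mod_cast (add_le_add hx hy).trans hz.ge

theorem exists_regular_gens {B : Type u} [CommRing B] [IsRegularLocalRing B] (I : Ideal B)
    [IsRegularLocalRing (B ⧸ I)] : ∃ l : List B, RingTheory.Sequence.IsRegular B l ∧ Ideal.ofList l = I := by
  obtain ⟨rs, hlen, hspan, c, -, hI⟩ := CAlgH3.exists_sop_of_regular_quotient _ B rfl I
  have hreg : RingTheory.Sequence.IsRegular B rs := CAlgH3.isRegular_of_ofList_eq_maximalIdeal rs hspan hlen
  refine ⟨rs.take c, ⟨?_, ?_⟩, hI.symm⟩
  · have h := hreg.toIsWeaklyRegular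
    rw [← List.take_append_drop c rs, RingTheory.Sequence.isWeaklyRegular_append_iff] at h
    exact h.1
  · rw [← hI, smul_eq_mul, Ideal.mul_top]
    exact fun h => not_subsingleton (B ⧸ I) (Ideal.Quotient.subsingleton_iff.2 h.symm)

theorem mult_pos {K : Type u} [Field K] [IsAlgClosed K] {X : Scheme.{u}} (f : X ⟶ Spec (CommRingCat.of K))
    [Smooth f] [IsSeparated f] [IsIntegral X] (IV IW : X.IdealSheafData) [IsIntegral IV.subscheme]
    [IsIntegral IW.subscheme] {n r s : ℕ} (hn : topologicalKrullDim X = n)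
    (hr : topologicalKrullDim IV.support = r) (hs : topologicalKrullDim IW.support = s)
    (hprop : IntMult.ProperInt (IV.support : Set X) (IW.support : Set X) n r s) {ξ : X} (hV : ξ ∈ IV.support)
    (hW : ξ ∈ IW.support) (hmax : ∀ ξ' : X, ξ' ∈ IV.support → ξ' ∈ IW.support → ξ' ⤳ ξ → ξ' = ξ) :
    0 < IntMult.mult IV IW ξ := by
  haveI : IsLocallyNoetherian X := LocallyOfFiniteType.isLocallyNoetherian f
  haveI : GeometricallyIntegral f := AbVarLib.geometricallyIntegral_of_isAlgClosed f
  haveI : IsIntegral (pullback f f) := inferInstance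
  set g := pullback.fst f f ≫ f with hg
  haveI : Smooth g := inferInstance
  haveI : IsLocallyNoetherian (pullback f f) := LocallyOfFiniteType.isLocallyNoetherian g
  haveI : IsLocallyNoetherian IW.subscheme := LocallyOfFiniteType.isLocallyNoetherian (IW.subschemeι ≫ f)
  haveI : IsLocallyNoetherian IV.subscheme := LocallyOfFiniteType.isLocallyNoetherian (IV.subschemeι ≫ f)
  haveI : GeometricallyIntegral (IW.subschemeι ≫ f) := AbVarLib.geometricallyIntegral_of_isAlgClosed _
  haveI hVW : IsIntegral (pullback (IV.subschemeι ≫ f) (IW.subschemeι ≫ f)) := inferInstance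
  set m := pullback.map (IV.subschemeι ≫ f) (IW.subschemeι ≫ f) f f IV.subschemeι IW.subschemeι (𝟙 _)
    (Category.comp_id _) (Category.comp_id _) with hm
  set j := pullback.diagonal f with hj
  haveI : IsClosedImmersion m := MorphismProperty.pullback_map (P := @IsClosedImmersion) inferInstance inferInstance rfl rfl
  haveI : IsIntegral j.ker.subscheme := IsIntegral.of_isIso j.toImage
  haveI : IsIntegral m.ker.subscheme := IsIntegral.of_isIso m.toImage
  have e1 : j ≫ pullback.fst f f = 𝟙 X := pullback.diagonal_fst f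
  have e2 : j ≫ pullback.snd f f = 𝟙 X := pullback.diagonal_snd f
  have hp1 : ∀ x, pullback.fst f f (j x) = x := fun x => by rw [← Scheme.Hom.comp_apply, e1]; rfl
  have hp2 : ∀ x, pullback.snd f f (j x) = x := fun x => by rw [← Scheme.Hom.comp_apply, e2]; rfl
  have hmk : m.ker = IV.comap (pullback.fst f f) ⊔ IW.comap (pullback.snd f f) := ker_pullback_map f f IV IW
  have hmem : ∀ x, j x ∈ m.ker.support ↔ x ∈ IV.support ∧ x ∈ IW.support := fun x => by
    rw [hmk, Scheme.IdealSheafData.support_sup, Scheme.IdealSheafData.support_comap,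
      Scheme.IdealSheafData.support_comap]
    show pullback.fst f f (j x) ∈ IV.support ∧ pullback.snd f f (j x) ∈ IW.support ↔ _
    rw [hp1, hp2]
  have hjsupp : (j.ker.support : Set ↥(pullback f f)) = Set.range j := by
    rw [Scheme.Hom.support_ker]
    exact j.isClosedEmbedding.isClosed_range.closure_eq
  have hmsupp : (m.ker.support : Set ↥(pullback f f)) = Set.range m := by
    rw [Scheme.Hom.support_ker]
    exact m.isClosedEmbedding.isClosed_range.closure_eq
  have hn' : topologicalKrullDim ↥(pullback f f) = ((n + n : ℕ) : WithBot ℕ∞) := topologicalKrullDim_product f f hn hn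
  have hr' : topologicalKrullDim j.ker.support = n := by
    rw [← hn]
    exact Groth.Agent.EGA43.DimFormula.topologicalKrullDim_eq_of_range j j.isEmbedding _ hjsupp.symm
  have hrV : topologicalKrullDim IV.subscheme = r := by
    rw [← hr]
    exact (Groth.Agent.EGA43.DimFormula.topologicalKrullDim_eq_of_range IV.subschemeι IV.subschemeι.isEmbedding _
      IV.range_subschemeι).symm
  have hsW : topologicalKrullDim IW.subscheme = s := by
    rw [← hs]
    exact (Groth.Agent.EGA43.DimFormula.topologicalKrullDim_eq_of_range IW.subschemeι IW.subschemeι.isEmbedding _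
      IW.range_subschemeι).symm
  have hs' : topologicalKrullDim m.ker.support = ((r + s : ℕ) : WithBot ℕ∞) := by
    rw [← topologicalKrullDim_product (IV.subschemeι ≫ f) (IW.subschemeι ≫ f) hrV hsW]
    exact Groth.Agent.EGA43.DimFormula.topologicalKrullDim_eq_of_range m m.isEmbedding _ hmsupp.symm
  have hprop' : IntMult.ProperInt (j.ker.support : Set ↥(pullback f f)) (m.ker.support : Set _) (n + n) n (r + s) := by
    rintro -
    obtain ⟨hnrs, hd⟩ := hprop ⟨ξ, hV, hW⟩
    refine ⟨by omega, ?_⟩
    have hset : (j.ker.support : Set ↥(pullback f f)) ∩ m.ker.support = j '' ((IV.support : Set X) ∩ IW.support) := by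
      rw [hjsupp]
      ext p
      constructor
      · rintro ⟨⟨x, rfl⟩, hp⟩
        exact ⟨x, (hmem x).1 hp, rfl⟩
      · rintro ⟨x, hx, rfl⟩
        exact ⟨⟨x, rfl⟩, (hmem x).2 hx⟩
    have heq := Groth.Agent.EGA43.DimFormula.topologicalKrullDim_eq_of_range
      (fun t : ↥((IV.support : Set X) ∩ IW.support) => j t.1) (j.isEmbedding.comp Topology.IsEmbedding.subtypeVal)
      ((j.ker.support : Set ↥(pullback f f)) ∩ m.ker.support)
      (by rw [hset, Set.range_comp' j Subtype.val, Subtype.range_coe])
    refine le_trans (le_of_eq ?_) (hd.trans_eq (by rw [show n + (r + s) - (n + n) = r + s - n by omega]))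
    first | exact heq | exact heq.symm
  have hξ' : j ξ ∈ m.ker.support := (hmem ξ).2 ⟨hV, hW⟩
  have hξj : j ξ ∈ j.ker.support := j.range_subset_ker_support ⟨ξ, rfl⟩
  have hmax' : ∀ p, p ∈ m.ker.support → p ∈ j.ker.support → p ⤳ j ξ → p = j ξ := by
    intro p hp hpj hsp
    obtain ⟨x, rfl⟩ : p ∈ Set.range j := hjsupp.le hpj
    obtain ⟨hxV, hxW⟩ := (hmem x).1 hp
    rw [hmax x hxV hxW (j.isEmbedding.isInducing.specializes_iff.1 hsp)]
  haveI := isRegularLocalRing_stalk g (j ξ)
  haveI := isRegularLocalRing_stalk f ξ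
  obtain ⟨a, v, w, ha, hv, hw, hle⟩ := exists_dims g j.ker m.ker hn' hr' hs' hprop' hξj hξ'
  have hkerj : IntMult.stalkIdeal j.ker (j ξ) = RingHom.ker (j.stalkMap ξ).hom := stalkIdeal_ker j ξ
  haveI : IsRegularLocalRing ((pullback f f).presheaf.stalk (j ξ) ⧸ IntMult.stalkIdeal j.ker (j ξ)) :=
    IsRegularLocalRing.of_ringEquiv ((Ideal.quotEquivOfEq hkerj).trans
      (RingHom.quotientKerEquivOfSurjective (j.stalkMap_surjective ξ))).symm
  obtain ⟨l, hl, hlI⟩ := exists_regular_gens (IntMult.stalkIdeal j.ker (j ξ))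
  have hc : l.length ≤ w := length_le_dim l hl ha (by rw [hlI]; exact hv) hle
  rw [mult_diag f IV IW hV hW]
  show 0 < IntMult.mult m.ker j.ker (j ξ)
  unfold IntMult.mult
  set J := IntMult.stalkIdeal m.ker (j ξ)
  have hlm : ∀ b ∈ l, b ∈ maximalIdeal ((pullback f f).presheaf.stalk (j ξ)) := fun b hb =>
    stalkIdeal_le_maximal j.ker hξj (hlI ▸ Ideal.subset_span hb)
  have hfl := finite_length_quot_sup m.ker j.ker hξ' hξj hmax'
  rw [← hlI] at hfl ⊢
  rw [chi_tor l hl.toIsWeaklyRegular (ModuleCat.of _ ((pullback f f).presheaf.stalk (j ξ) ⧸ J))]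
  refine Groth.Agent.CAlgH.KoszulEuler.chi_pos _ _ hlm ?_ ?_
  · exact IsFiniteLength.of_surjective hfl
      (f := (ringKrullDim_le_of_finite_length.quotSupEquiv J (Ideal.ofList l)).symm.toLinearMap)
      (LinearEquiv.surjective _)
  · rw [Module.supportDim_quotient_eq_ringKrullDim]
    exact le_antisymm (ringKrullDim_le_of_finite_length J (stalkIdeal_le_maximal m.ker hξ') l hlm hfl)
      (by rw [hw]; exact_mod_cast hc)

end Groth.Agent.CycLib28
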