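import Mathlib
import Groth.Agent.CAlgH.KoszulEuler.Samuel
import Groth.Agent.EGA41Lib.HilbertSamuel

/-!
# Additivity of Samuel multiplicities
-/

set_option autoImplicit false
set_option backward.isDefEq.respectTransparency false

universe u

open Filter Topology IsLocalRing

namespace Groth.Agent.CycLib28.SamuelAdd

variable {A : Type u} [CommRing A] [IsNoetherianRing A] [IsLocalRing A]

/-- the normalised Samuel function -/
noncomputable def sam (I : Ideal A) (d : ℕ) (M : Type u) [AddCommGroup M] [Module A M] (t : ℕ) : ℝ :=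
  (d.factorial : ℝ) * ((Module.length A (M ⧸ (I ^ t • (⊤ : Submodule A M)))).toNat : ℝ) / (t : ℝ) ^ d

theorem isFiniteLength_quot_ideal {I : Ideal A} (hI : ∃ n : ℕ, maximalIdeal A ^ n ≤ I) :
    IsFiniteLength A (A ⧸ I) := by
  obtain ⟨n, hn⟩ := hI
  haveI : IsSimpleModule A (A ⧸ maximalIdeal A) :=
    isSimpleModule_iff_isCoatom.2 (Ideal.isMaximal_def.1 (maximalIdeal.isMaximal A))
  have h0 : IsFiniteLength A (A ⧸ maximalIdeal A • (⊤ : Submodule A A)) := by
    rw [smul_eq_mul, Ideal.mul_top]
    exact isFiniteLength_iff_isNoetherian_isArtinian.2 ⟨inferInstance, inferInstance⟩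
  have h1 := EGA41Lib.HS.isFiniteLength_quotient_pow (M := A) (maximalIdeal A) h0 n
  refine h1.of_surjective (f := Submodule.factor ?_) (Submodule.factor_surjective _)
  rw [smul_eq_mul, Ideal.mul_top]
  exact hn

variable {I : Ideal A}

theorem isFiniteLength_quot_pow (hI : ∃ n : ℕ, maximalIdeal A ^ n ≤ I) (M : Type u) [AddCommGroup M] [Module A M]
    [Module.Finite A M] (t : ℕ) : IsFiniteLength A (M ⧸ (I ^ t • (⊤ : Submodule A M))) := by
  refine EGA41Lib.HS.isFiniteLength_quotient_pow I ?_ t
  obtain ⟨n, f, hf⟩ := Module.Finite.exists_fin' A (M ⧸ (I • (⊤ : Submodule A M)))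
  obtain ⟨hN, hA⟩ := isFiniteLength_iff_isNoetherian_isArtinian.1 (isFiniteLength_quot_ideal hI)
  let π : (Fin n → A) →ₗ[A] (Fin n → A ⧸ I) := LinearMap.pi fun i => (Submodule.mkQ I).comp (LinearMap.proj i)
  have hπ : Function.Surjective π :=
    fun v => ⟨fun i => (Submodule.mkQ_surjective I (v i)).choose, funext fun i => (Submodule.mkQ_surjective I (v i)).choose_spec⟩
  have hle : LinearMap.ker π ≤ LinearMap.ker f := by
    intro x hx
    rw [LinearMap.mem_ker, pi_eq_sum_univ x, map_sum]
    refine Finset.sum_eq_zero fun i _ => ?_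
    rw [map_smul]
    obtain ⟨y, hy⟩ := Submodule.mkQ_surjective _ (f fun j => if i = j then 1 else 0)
    rw [← hy, ← map_smul]
    exact (Submodule.Quotient.mk_eq_zero _).2
      (Submodule.smul_mem_smul ((Submodule.Quotient.mk_eq_zero I).1 (congrFun (LinearMap.mem_ker.1 hx) i)) trivial)
  have h' : Function.Surjective (Submodule.liftQ _ f hle) :=
    LinearMap.range_eq_top.1 ((Submodule.range_liftQ _ _ _).trans (LinearMap.range_eq_top.2 hf))
  exact IsFiniteLength.of_surjective (isFiniteLength_iff_isNoetherian_isArtinian.2 ⟨inferInstance, inferInstance⟩)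
    (f := (Submodule.liftQ _ f hle).comp (LinearMap.quotKerEquivOfSurjective _ hπ).symm.toLinearMap)
    (h'.comp (LinearEquiv.surjective _))

theorem tendsto_shift (d c : ℕ) {φ : ℕ → ℕ} {e : ℝ}
    (h : Tendsto (fun t : ℕ => (d.factorial : ℝ) * (φ t : ℝ) / (t : ℝ) ^ d) atTop (𝓝 e)) :
    Tendsto (fun t : ℕ => (d.factorial : ℝ) * (φ (t - c) : ℝ) / (t : ℝ) ^ d) atTop (𝓝 e) := by
  have h1 := h.comp (tendsto_sub_atTop_nat c)
  have h2 : Tendsto (fun t : ℕ => (1 - (c : ℝ) / t) ^ d) atTop (𝓝 1) := by
    simpa using ((tendsto_const_div_atTop_nhds_zero_nat (c : ℝ)).const_sub 1).pow d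
  have h3 := h1.mul h2
  rw [mul_one] at h3
  refine h3.congr' ?_
  filter_upwards [eventually_gt_atTop c] with t ht
  have ht0 : (t : ℝ) ≠ 0 := by
    have : 0 < t := by omega
    positivity
  have htc : ((t - c : ℕ) : ℝ) ≠ 0 := by
    have : 0 < t - c := by omega
    positivity
  have e1 : (1 : ℝ) - (c : ℝ) / t = ((t - c : ℕ) : ℝ) / t := by
    rw [Nat.cast_sub ht.le]
    field_simp
  simp only [Function.comp_apply]
  rw [e1, div_pow]
  field_simp

/-- Additivity of the Samuel limit. -/
theorem tendsto_add (hI : ∃ n : ℕ, maximalIdeal A ^ n ≤ I) {M' M M'' : Type u} [AddCommGroup M'] [Module A M']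
    [AddCommGroup M] [Module A M] [AddCommGroup M''] [Module A M''] [Module.Finite A M'] [Module.Finite A M]
    [Module.Finite A M''] (f : M' →ₗ[A] M) (g : M →ₗ[A] M'') (hf : Function.Injective f)
    (hg : Function.Surjective g) (hfg : Function.Exact f g) (d : ℕ) {e' e'' : ℝ}
    (h' : Tendsto (sam I d M') atTop (𝓝 e')) (h'' : Tendsto (sam I d M'') atTop (𝓝 e'')) :
    Tendsto (sam I d M) atTop (𝓝 (e' + e'')) := by
  obtain ⟨c, hc⟩ := I.exists_pow_inf_eq_pow_smul (LinearMap.range f)
  let S : ℕ → Submodule A M' := fun t => Submodule.comap f (I ^ t • ⊤)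
  have hle1 : ∀ t, I ^ t • (⊤ : Submodule A M') ≤ S t := fun t => by
    rw [← Submodule.map_le_iff_le_comap, Submodule.map_smul'']
    exact Submodule.smul_mono le_rfl le_top
  have hle2 : ∀ t, c ≤ t → S t ≤ I ^ (t - c) • (⊤ : Submodule A M') := fun t ht x hx => by
    have h1 : f x ∈ I ^ t • (⊤ : Submodule A M) ⊓ LinearMap.range f := ⟨hx, ⟨x, rfl⟩⟩
    rw [hc t ht] at h1
    have h2 : f x ∈ I ^ (t - c) • LinearMap.range f := Submodule.smul_mono le_rfl inf_le_right h1
    rw [LinearMap.range_eq_map, ← Submodule.map_smul''] at h2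
    obtain ⟨y, hy, hyx⟩ := h2
    exact hf hyx ▸ hy
  have hadd : ∀ t, (Module.length A (M ⧸ (I ^ t • (⊤ : Submodule A M)))).toNat =
      (Module.length A (M' ⧸ S t)).toNat + (Module.length A (M'' ⧸ (I ^ t • (⊤ : Submodule A M'')))).toNat := by
    intro t
    have hg' : (I ^ t • (⊤ : Submodule A M)).map g = I ^ t • (⊤ : Submodule A M'') := by
      rw [Submodule.map_smul'', Submodule.map_top, LinearMap.range_eq_top.2 hg]
    let α : (M' ⧸ S t) →ₗ[A] M ⧸ (I ^ t • (⊤ : Submodule A M)) := Submodule.mapQ _ _ f le_rfl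
    let β : (M ⧸ (I ^ t • (⊤ : Submodule A M))) →ₗ[A] M'' ⧸ (I ^ t • (⊤ : Submodule A M'')) :=
      Submodule.mapQ _ _ g (Submodule.map_le_iff_le_comap.1 hg'.le)
    have hα : Function.Injective α := by
      rw [← LinearMap.ker_eq_bot, LinearMap.ker_eq_bot']
      intro x hx
      obtain ⟨x, rfl⟩ := Submodule.Quotient.mk_surjective _ x
      exact (Submodule.Quotient.mk_eq_zero _).2 ((Submodule.Quotient.mk_eq_zero _).1 hx : f x ∈ _)
    have hβ : Function.Surjective β := fun y => by
      obtain ⟨y, rfl⟩ := Submodule.Quotient.mk_surjective _ y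
      obtain ⟨x, rfl⟩ := hg y
      exact ⟨Submodule.Quotient.mk x, rfl⟩
    have hαβ : Function.Exact α β := by
      intro y
      obtain ⟨y, rfl⟩ := Submodule.Quotient.mk_surjective _ y
      constructor
      · intro hy
        have hy' : g y ∈ (I ^ t • (⊤ : Submodule A M)).map g := hg'.ge ((Submodule.Quotient.mk_eq_zero _).1 hy)
        obtain ⟨z, hz, hzy⟩ := hy'
        obtain ⟨x, hx⟩ := (hfg (y - z)).1 (by rw [map_sub, hzy, sub_self])
        refine ⟨Submodule.Quotient.mk x, ?_⟩
        change Submodule.Quotient.mk (f x) = Submodule.Quotient.mk y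
        rw [Submodule.Quotient.eq, hx, sub_sub_cancel_left]
        exact neg_mem hz
      · rintro ⟨x, hx⟩
        obtain ⟨x, rfl⟩ := Submodule.Quotient.mk_surjective _ x
        rw [← hx]
        change Submodule.Quotient.mk (g (f x)) = 0
        rw [hfg.apply_apply_eq_zero, Submodule.Quotient.mk_zero]
    rw [Module.length_eq_add_of_exact α β hα hβ hαβ, ENat.toNat_add
      (ne_top_of_le_ne_top (Module.length_ne_top_iff.2 (isFiniteLength_quot_pow hI M t))
        (Module.length_le_of_injective α hα))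
      (Module.length_ne_top_iff.2 (isFiniteLength_quot_pow hI M'' t))]
  have hmid : Tendsto (fun t : ℕ => (d.factorial : ℝ) * ((Module.length A (M' ⧸ S t)).toNat : ℝ) / (t : ℝ) ^ d)
      atTop (𝓝 e') := by
    refine tendsto_of_tendsto_of_tendsto_of_le_of_le' (tendsto_shift d c h') h' ?_ ?_
    · filter_upwards [eventually_ge_atTop c] with t ht
      refine div_le_div_of_nonneg_right (mul_le_mul_of_nonneg_left (Nat.cast_le.2 ?_) (by positivity)) (by positivity)
      exact ENat.toNat_le_toNat (Module.length_le_of_surjective (Submodule.factor (hle2 t ht)) (Submodule.factor_surjective _))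
        (ne_top_of_le_ne_top (Module.length_ne_top_iff.2 (isFiniteLength_quot_pow hI M' t))
          (Module.length_le_of_surjective (Submodule.factor (hle1 t)) (Submodule.factor_surjective _)))
    · refine Eventually.of_forall fun t => ?_
      show _ ≤ (d.factorial : ℝ) * _ / _
      refine div_le_div_of_nonneg_right (mul_le_mul_of_nonneg_left (Nat.cast_le.2 ?_) (by positivity)) (by positivity)
      exact ENat.toNat_le_toNat (Module.length_le_of_surjective (Submodule.factor (hle1 t)) (Submodule.factor_surjective _))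
        (Module.length_ne_top_iff.2 (isFiniteLength_quot_pow hI M' t))
  refine (hmid.add h'').congr fun t => ?_
  simp only [sam, hadd t, Nat.cast_add]
  ring

end Groth.Agent.CycLib28.SamuelAdd
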