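import Mathlib
import Groth.Agent.CycLib28.SamuelAdd

/-!
# The associativity formula for Samuel multiplicities
-/

set_option autoImplicit false
set_option backward.isDefEq.respectTransparency false

universe u

open Filter Topology IsLocalRing

namespace Groth.Agent.CycLib28.SamuelAdd

variable {A : Type u} [CommRing A] [IsNoetherianRing A] [IsLocalRing A] {I : Ideal A}

/-- local length -/
noncomputable abbrev locLen (p : PrimeSpectrum A) (M : Type u) [AddCommGroup M] [Module A M] : ℕ∞ :=
  Module.length (Localization.AtPrime p.asIdeal) (LocalizedModule p.asIdeal.primeCompl M)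

/-- the primes of coheight `d` -/
def topPrimes (A : Type u) [CommRing A] (d : ℕ) : Set (PrimeSpectrum A) :=
  {p | ringKrullDim (A ⧸ p.asIdeal) = d}

omit [IsLocalRing A] in
theorem locLen_quot_self (q : PrimeSpectrum A) : locLen q (A ⧸ q.asIdeal) = 1 := by
  set S := q.asIdeal.primeCompl
  set L := Localization.AtPrime q.asIdeal
  let x : LocalizedModule S (A ⧸ q.asIdeal) := LocalizedModule.mk 1 1
  have hx : ∀ a ∈ q.asIdeal, algebraMap A L a • x = 0 := fun a ha => by
    rw [algebraMap_smul, LocalizedModule.smul'_mk, Algebra.smul_def, mul_one,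
      show algebraMap A (A ⧸ q.asIdeal) a = 0 from Ideal.Quotient.eq_zero_iff_mem.2 ha, LocalizedModule.zero_mk]
  have hle : maximalIdeal L ≤ LinearMap.ker (LinearMap.toSpanSingleton L _ x) := by
    rw [← Localization.AtPrime.map_eq_maximalIdeal, Ideal.map_le_iff_le_comap]
    intro a ha
    exact LinearMap.mem_ker.2 (hx a ha)
  have hsurj : Function.Surjective (Submodule.liftQ (maximalIdeal L) (LinearMap.toSpanSingleton L _ x) hle) := by
    intro y
    induction y using LocalizedModule.induction_on with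
    | _ m s =>
      obtain ⟨a, rfl⟩ := Ideal.Quotient.mk_surjective m
      refine ⟨Submodule.Quotient.mk (Localization.mk a s), ?_⟩
      rw [Submodule.liftQ_apply, LinearMap.toSpanSingleton_apply]
      show Localization.mk a s • LocalizedModule.mk (1 : A ⧸ q.asIdeal) 1 = _
      rw [LocalizedModule.mk_smul_mk, mul_one, Algebra.smul_def, mul_one]
      rfl
  haveI : Nontrivial (LocalizedModule S (A ⧸ q.asIdeal)) := by
    rw [← Module.mem_support_iff, Module.support_eq_zeroLocus, Ideal.annihilator_quotient,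
      PrimeSpectrum.mem_zeroLocus]
  refine le_antisymm ((Module.length_le_of_surjective _ hsurj).trans ?_)
    (Order.one_le_iff_pos.2 (Module.length_pos (R := L)))
  haveI : IsSimpleModule L (L ⧸ maximalIdeal L) :=
    isSimpleModule_iff_isCoatom.2 (Ideal.isMaximal_def.1 (maximalIdeal.isMaximal L))
  rw [Module.length_eq_one L (L ⧸ maximalIdeal L)]

theorem quot_dim_lt {p q : PrimeSpectrum A} (h : q.asIdeal ≤ p.asIdeal) (hne : p ≠ q) {d : ℕ}
    (hd : ringKrullDim (A ⧸ q.asIdeal) ≤ d) : ringKrullDim (A ⧸ p.asIdeal) ≠ d := by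
  intro hp
  obtain ⟨y, hyp, hyq⟩ := Set.exists_of_ssubset (lt_of_le_of_ne (show (q.asIdeal : Set A) ⊆ p.asIdeal from h)
    (fun e => hne (PrimeSpectrum.ext (SetLike.coe_injective e).symm)))
  have hy : Ideal.Quotient.mk q.asIdeal y ≠ 0 := fun e => hyq (Ideal.Quotient.eq_zero_iff_mem.1 e)
  have hlt := ringKrullDim_succ_le_of_surjective (Ideal.Quotient.factor h) (Ideal.Quotient.factor_surjective h)
    (mem_nonZeroDivisors_of_ne_zero hy) (by
      rw [Ideal.Quotient.factor_mk]; exact Ideal.Quotient.eq_zero_iff_mem.2 hyp)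
  rw [hp] at hlt
  have : ((d + 1 : ℕ) : WithBot ℕ∞) ≤ (d : ℕ) := by
    push_cast
    exact hlt.trans hd
  have : d + 1 ≤ d := by exact_mod_cast this
  omega

theorem tendsto_zero_of_lt (hI : I ≤ maximalIdeal A ∧ ∃ n : ℕ, maximalIdeal A ^ n ≤ I) (M : Type u)
    [AddCommGroup M] [Module A M] [Module.Finite A M] {d : ℕ} (hd : Module.supportDim A M < d) :
    Tendsto (sam I d M) atTop (𝓝 0) := by
  rcases subsingleton_or_nontrivial M with h | h
  · refine tendsto_const_nhds.congr fun t => ?_
    haveI : Subsingleton (M ⧸ (I ^ t • (⊤ : Submodule A M))) :=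
      (Submodule.Quotient.mk_surjective _).subsingleton
    simp [sam]
  obtain ⟨e, he⟩ := EGA41Lib.supportDim_eq_natCast_of_semilocal (A := A) M
  have hed : e < d := by
    rw [he] at hd
    exact_mod_cast hd
  obtain ⟨ys, hys, hysJ, hys0⟩ := EGA41Lib.exists_sop e M he
  obtain ⟨hIm, k, hk⟩ := hI
  let g : Fin ys.length → A := fun i => ys.get i ^ (k + 1)
  let J := Ideal.span (Set.range g)
  have hJI : J ≤ I := Ideal.span_le.2 fun y => by
    rintro ⟨i, rfl⟩
    refine hk (Ideal.pow_le_pow_right (Nat.le_succ k) (Ideal.pow_mem_pow ?_ _))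
    have := hysJ (ys.get i) (ys.get_mem i)
    rwa [IsLocalRing.ringJacobson_eq_maximalIdeal] at this
  have hJ : IsFiniteLength A (M ⧸ J • (⊤ : Submodule A M)) := by
    rw [EGA41Lib.isFiniteLength_iff_supportDim_le_zero]
    refine le_trans (le_of_eq ?_) hys0
    unfold Module.supportDim
    rw [Module.support_quotient, Module.support_quotient]
    have hz : PrimeSpectrum.zeroLocus (J : Set A) = PrimeSpectrum.zeroLocus ((Ideal.ofList ys : Ideal A) : Set A) := by
      ext p
      simp only [PrimeSpectrum.mem_zeroLocus, SetLike.coe_subset_coe, J, g, Ideal.span_le, Ideal.ofList]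
      constructor
      · intro h y hy
        obtain ⟨i, rfl⟩ := List.get_of_mem hy
        exact p.isPrime.mem_of_pow_mem _ (h ⟨i, rfl⟩)
      · rintro h _ ⟨i, rfl⟩
        exact Ideal.pow_mem_of_mem _ (h (ys.get_mem i)) _ (Nat.succ_pos k)
    rw [hz]
  obtain ⟨a, N, hN⟩ := EGA41Lib.HS.ep_length_quotient_pow (M := M) J g rfl hJ
  have hlim : Tendsto (fun n : ℕ => ∑ i ∈ Finset.range (ys.length + 1),
      (d.factorial : ℝ) * (n.choose i : ℝ) / (n : ℝ) ^ d * (a i : ℝ)) atTop (𝓝 0) := by
    have := tendsto_finset_sum (Finset.range (ys.length + 1)) (fun i hi =>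
      ((CAlgH.KoszulEuler.tendsto_choose_div i d (by have := Finset.mem_range.1 hi; omega)).mul_const (a i : ℝ)))
    refine (this.trans_eq ?_) 
    congr 1
    refine Finset.sum_eq_zero fun i hi => ?_
    rw [if_neg (by have := Finset.mem_range.1 hi; omega), zero_mul]
  refine squeeze_zero' (Eventually.of_forall fun t => by simp only [sam]; positivity) ?_ hlim
  filter_upwards [eventually_ge_atTop N] with t ht
  have hfJ : IsFiniteLength A (M ⧸ J ^ t • (⊤ : Submodule A M)) := EGA41Lib.HS.isFiniteLength_quotient_pow J hJ t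
  have h2 : ((Module.length A (M ⧸ (J ^ t • (⊤ : Submodule A M)))).toNat : ℝ) =
      ∑ i ∈ Finset.range (ys.length + 1), (t.choose i : ℝ) * (a i : ℝ) := by
    have h3 := hN t ht
    rw [EGA41Lib.HS.length_eq_lenN _ hfJ, ENat.toNat_natCast]
    exact_mod_cast h3
  calc sam I d M t ≤ (d.factorial : ℝ) * ((Module.length A (M ⧸ (J ^ t • (⊤ : Submodule A M)))).toNat : ℝ) / (t : ℝ) ^ d :=
        div_le_div_of_nonneg_right (mul_le_mul_of_nonneg_left (Nat.cast_le.2 (ENat.toNat_le_toNat
          (Module.length_le_of_surjective (Submodule.factor (Submodule.smul_mono (Ideal.pow_right_mono hJI t) le_rfl))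
            (Submodule.factor_surjective _)) (Module.length_ne_top_iff.2 hfJ))) (by positivity)) (by positivity)
    _ = _ := by
      rw [h2, Finset.mul_sum, Finset.sum_div]
      exact Finset.sum_congr rfl fun i _ => by ring

theorem tendsto_sum (hI : I ≤ maximalIdeal A ∧ ∃ n : ℕ, maximalIdeal A ^ n ≤ I) (M : Type u)
    [AddCommGroup M] [Module A M] [Module.Finite A M] (d : ℕ) (hd : Module.supportDim A M ≤ d)
    (e : PrimeSpectrum A → ℝ)
    (he : ∀ p ∈ topPrimes A d, Tendsto (sam I d (A ⧸ p.asIdeal)) atTop (𝓝 (e p))) :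
    Tendsto (sam I d M) atTop (𝓝 (∑ᶠ p ∈ topPrimes A d, ((locLen p M).toNat : ℝ) * e p)) := by
  suffices h : Module.supportDim A M ≤ d → (∀ p ∈ topPrimes A d, locLen p M ≠ ⊤) ∧
      {p | p ∈ topPrimes A d ∧ locLen p M ≠ 0}.Finite ∧
      Tendsto (sam I d M) atTop (𝓝 (∑ᶠ p ∈ topPrimes A d, ((locLen p M).toNat : ℝ) * e p)) from (h hd).2.2
  clear hd
  induction ‹Module.Finite A M› using IsNoetherianRing.induction_on_isQuotientEquivQuotientPrime A with
  | subsingleton N =>
    intro _
    have h0 : ∀ p : PrimeSpectrum A, locLen p N = 0 := fun p => Module.length_eq_zero_iff.2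
      (Module.notMem_support_iff.1 (by simp [Module.support_eq_empty]))
    refine ⟨fun p _ => by simp [h0], by simp [h0], ?_⟩
    rw [finsum_mem_congr rfl (g := fun _ => (0 : ℝ)) fun p _ => by simp [h0], finsum_mem_zero]
    refine tendsto_const_nhds.congr fun t => ?_
    haveI : Subsingleton (N ⧸ (I ^ t • (⊤ : Submodule A N))) := (Submodule.Quotient.mk_surjective _).subsingleton
    simp [sam]
  | quotient N q eN =>
    intro hN
    rw [Module.supportDim_eq_of_equiv eN, Module.supportDim_quotient_eq_ringKrullDim] at hN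
    have hlen : ∀ p, locLen p N = locLen p (A ⧸ q.asIdeal) := fun p => LinearEquiv.length_eq
      (IsLocalizedModule.mapEquiv p.asIdeal.primeCompl (LocalizedModule.mkLinearMap p.asIdeal.primeCompl N)
        (LocalizedModule.mkLinearMap p.asIdeal.primeCompl (A ⧸ q.asIdeal)) (Localization.AtPrime p.asIdeal) eN)
    have h0 : ∀ p ∈ topPrimes A d, p ≠ q → locLen p N = 0 := fun p hp hne => by
      rw [hlen]
      refine Module.length_eq_zero_iff.2 (Module.notMem_support_iff.1 fun hmem => ?_)
      rw [Module.support_eq_zeroLocus, Ideal.annihilator_quotient, PrimeSpectrum.mem_zeroLocus] at hmem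
      exact quot_dim_lt hmem hne hN hp
    have h1 : locLen q N = 1 := (hlen q).trans (locLen_quot_self q)
    refine ⟨fun p hp => ?_, (Set.finite_singleton q).subset fun p hp => ?_, ?_⟩
    · by_cases hne : p = q
      · subst hne; simp [h1]
      · simp [h0 p hp hne]
    · by_contra hne
      exact hp.2 (h0 p hp.1 hne)
    have hsam : sam I d N = sam I d (A ⧸ q.asIdeal) := funext fun t => by
      simp only [sam]
      rw [(Submodule.Quotient.equiv _ _ eN (by rw [Submodule.map_smul'', Submodule.map_top, LinearEquiv.range]) :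
        (N ⧸ (I ^ t • (⊤ : Submodule A N))) ≃ₗ[A] _).length_eq]
    rw [hsam]
    by_cases hq : q ∈ topPrimes A d
    · have : ∑ᶠ p ∈ topPrimes A d, ((locLen p N).toNat : ℝ) * e p = e q := by
        rw [finsum_mem_inter_support_eq _ _ ({q} : Set (PrimeSpectrum A)) ?_, finsum_mem_singleton, h1]
        · simp
        · ext p
          simp only [Set.mem_inter_iff, Function.mem_support, Set.mem_singleton_iff]
          exact ⟨fun h => ⟨by by_contra hne; exact h.2 (by simp [h0 p h.1 hne]), h.2⟩, fun h => ⟨h.1 ▸ hq, h.2⟩⟩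
      rw [this]
      exact he q hq
    · rw [finsum_mem_congr rfl (g := fun _ => (0 : ℝ)) fun p hp => by simp [h0 p hp (fun e' => hq (e' ▸ hp))],
        finsum_mem_zero]
      refine tendsto_zero_of_lt hI _ ?_
      rw [Module.supportDim_quotient_eq_ringKrullDim]
      exact lt_of_le_of_ne hN hq
  | exact N₁ N₂ N₃ f g hf hg hfg ih₁ ih₃ =>
    intro hN
    obtain ⟨ht₁, hS₁, hlim₁⟩ := ih₁ ((Module.supportDim_le_of_injective f hf).trans hN)
    obtain ⟨ht₃, hS₃, hlim₃⟩ := ih₃ ((Module.supportDim_le_of_surjective g hg).trans hN)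
    have hadd : ∀ p : PrimeSpectrum A, locLen p N₂ = locLen p N₁ + locLen p N₃ := fun p =>
      Module.length_eq_add_of_exact (LocalizedModule.map p.asIdeal.primeCompl f)
        (LocalizedModule.map p.asIdeal.primeCompl g) (LocalizedModule.map_injective _ f hf)
        (LocalizedModule.map_surjective _ g hg) (LocalizedModule.map_exact _ f g hfg)
    refine ⟨fun p hp => by rw [hadd]; exact WithTop.add_ne_top.2 ⟨ht₁ p hp, ht₃ p hp⟩,
      (hS₁.union hS₃).subset fun p hp => ?_, ?_⟩
    · by_contra hne
      simp only [Set.mem_union, Set.mem_setOf_eq, hp.1, true_and, not_or, not_not] at hne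
      exact hp.2 (by rw [hadd, hne.1, hne.2, add_zero])
    have hsum : ∑ᶠ p ∈ topPrimes A d, ((locLen p N₂).toNat : ℝ) * e p =
        (∑ᶠ p ∈ topPrimes A d, ((locLen p N₁).toNat : ℝ) * e p) + ∑ᶠ p ∈ topPrimes A d, ((locLen p N₃).toNat : ℝ) * e p := by
      rw [← finsum_mem_add_distrib' (hS₁.subset fun p hp => ⟨hp.1, fun h => hp.2 (by simp [h])⟩)
        (hS₃.subset fun p hp => ⟨hp.1, fun h => hp.2 (by simp [h])⟩)]
      refine finsum_mem_congr rfl fun p hp => ?_
      rw [hadd, ENat.toNat_add (ht₁ p hp) (ht₃ p hp), Nat.cast_add, add_mul]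
    rw [hsum]
    exact tendsto_add hI.2 f g hf hg hfg d hlim₁ hlim₃

end Groth.Agent.CycLib28.SamuelAdd
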