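import Mathlib
import Groth.Agent.CycLib28.TorFinLen
import Groth.Agent.CycLib28.SamuelSum
import Groth.Agent.EGA41Lib.TorPd
import Groth.Agent.CycAlgLib.RLen

/-!
# The Euler characteristic of Tor over a regular local ring: additivity and dévissage
-/

set_option autoImplicit false
set_option backward.isDefEq.respectTransparency false

universe u

open CategoryTheory CategoryTheory.Limits IsLocalRing TensorProduct

namespace Groth.Agent.CycLib28.ChiCalc

variable {A : Type u} [CommRing A] [IsRegularLocalRing A]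

/-- the supports meet at the closed point only -/
def Meet (M N : Type u) [AddCommGroup M] [Module A M] [AddCommGroup N] [Module A N] : Prop :=
  Module.support A M ∩ Module.support A N ⊆ {closedPoint A}

theorem isFiniteLength_tor (M N : Type u) [AddCommGroup M] [Module A M] [Module.Finite A M] [AddCommGroup N]
    [Module A N] [Module.Finite A N] (h : Meet (A := A) M N) (i : ℕ) :
    IsFiniteLength A (DRing.Tor A i (ModuleCat.of A M) (ModuleCat.of A N)) := by
  set L := Module.annihilator A M ⊔ Module.annihilator A N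
  have hL : IsFiniteLength A (A ⧸ L) := by
    rw [← Module.length_ne_top_iff]
    refine (Groth.Agent.CycAlgLib.length_lt_top_of_support_subset fun p hp => h ?_).ne
    rw [Module.support_eq_zeroLocus, Ideal.annihilator_quotient, PrimeSpectrum.mem_zeroLocus] at hp
    rw [Set.mem_inter_iff, Module.support_eq_zeroLocus, Module.support_eq_zeroLocus,
      PrimeSpectrum.mem_zeroLocus, PrimeSpectrum.mem_zeroLocus]
    exact ⟨fun x hx => hp (Submodule.mem_sup_left hx), fun x hx => hp (Submodule.mem_sup_right hx)⟩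
  rcases i with - | i
  · obtain ⟨e⟩ := Groth.Agent.HTor16.torZero (ModuleCat.of A M) (ModuleCat.of A N)
    refine IsFiniteLength.of_surjective (isFiniteLength_of_annihilated hL (M ⊗[A] N) fun a ha y => ?_)
      (f := e.symm.toLinearMap) e.symm.surjective
    obtain ⟨b, hb, c, hc, rfl⟩ := Submodule.mem_sup.1 ha
    induction y using TensorProduct.induction_on with
    | zero => simp
    | add p q hp hq => rw [smul_add, hp, hq, add_zero]
    | tmul p q =>
      rw [add_smul, TensorProduct.smul_tmul', Module.mem_annihilator.1 hb p, TensorProduct.zero_tmul, zero_add,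
        ← TensorProduct.tmul_smul, Module.mem_annihilator.1 hc q, TensorProduct.tmul_zero]
  · haveI := (finite_and_annihilated_tor (0 : A) i M N).1
    refine isFiniteLength_of_annihilated hL _ fun a ha y => ?_
    obtain ⟨b, hb, c, hc, rfl⟩ := Submodule.mem_sup.1 ha
    rw [add_smul, (finite_and_annihilated_tor b i M N).2 (fun x => Module.mem_annihilator.1 hb x) y, zero_add]
    obtain ⟨e⟩ := nonempty_tor_comm (i + 1) (ModuleCat.of A M) (ModuleCat.of A N)
    apply e.injective
    rw [map_smul, map_zero]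
    exact (finite_and_annihilated_tor c i N M).2 (fun x => Module.mem_annihilator.1 hc x) _

/-- the length of Tor as a natural number -/
noncomputable abbrev tlen (M N : Type u) [AddCommGroup M] [Module A M] [AddCommGroup N] [Module A N] (i : ℕ) : ℕ :=
  (Module.length A (DRing.Tor A i (ModuleCat.of A M) (ModuleCat.of A N))).toNat

theorem tlen_eq_zero (M N : Type u) [AddCommGroup M] [Module A M] [AddCommGroup N] [Module A N] (i : ℕ)
    (hi : (maximalIdeal A).spanFinrank < i) : tlen (A := A) M N i = 0 := by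
  haveI := ModuleCat.subsingleton_of_isZero
    (Groth.Agent.EGA41Lib.isZero_tor_of_pd (R := A) M N (CAlgH3.pd_all N) i hi)
  show (Module.length A _).toNat = 0
  rw [Module.length_eq_zero_iff.2 this]
  rfl

theorem chi_eq_sum (M N : Type u) [AddCommGroup M] [Module A M] [AddCommGroup N] [Module A N] :
    IntMult.chi A M N =
      ∑ i ∈ Finset.range ((maximalIdeal A).spanFinrank + 1), (-1 : ℤ) ^ i * (tlen (A := A) M N i : ℤ) := by
  refine finsum_eq_sum_of_support_subset _ fun i hi => ?_
  rw [Finset.coe_range, Set.mem_Iio]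
  by_contra h
  refine hi ?_
  have := tlen_eq_zero (A := A) M N i (by omega)
  show (-1 : ℤ) ^ i * (tlen (A := A) M N i : ℤ) = 0
  rw [this]
  simp

theorem sum_alternating (d : ℕ → ℤ) : ∀ n : ℕ,
    ∑ i ∈ Finset.range n, (-1 : ℤ) ^ i * (d i + d (i + 1)) = d 0 - (-1 : ℤ) ^ n * d n := by
  intro n
  induction n with
  | zero => simp
  | succ n ih => rw [Finset.sum_range_succ, ih, pow_succ]; ring

theorem chi_add (M : Type u) [AddCommGroup M] [Module A M] [Module.Finite A M] {N₁ N₂ N₃ : Type u}
    [AddCommGroup N₁] [Module A N₁] [Module.Finite A N₁] [AddCommGroup N₂] [Module A N₂] [Module.Finite A N₂]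
    [AddCommGroup N₃] [Module A N₃] [Module.Finite A N₃] (f : N₁ →ₗ[A] N₂) (g : N₂ →ₗ[A] N₃)
    (hf : Function.Injective f) (hg : Function.Surjective g) (hfg : Function.Exact f g)
    (h : Meet (A := A) M N₂) : IntMult.chi A M N₂ = IntMult.chi A M N₁ + IntMult.chi A M N₃ := by
  have h₁ : Meet (A := A) M N₁ := fun p hp => h ⟨hp.1, Module.support_subset_of_injective f hf hp.2⟩
  have h₃ : Meet (A := A) M N₃ := fun p hp => h ⟨hp.1, Module.support_subset_of_surjective g hg hp.2⟩
  set hM := ModuleCat.of A M
  let S := ShortComplex.mk (ModuleCat.ofHom f) (ModuleCat.ofHom g) (by ext x; exact hfg.apply_apply_eq_zero x)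
  have hS : S.ShortExact := LocCoh.shortExact_of hf hg hfg
  haveI := HTor16.tens_preserves hM
  let F := fun i => ((HTor16.tens hM).leftDerived i)
  let lg : ℕ → ℕ := fun i => (Module.length A (LinearMap.range ((F i).map S.g).hom)).toNat
  let lf : ℕ → ℕ := fun i => (Module.length A (LinearMap.range ((F i).map S.f).hom)).toNat
  let c : ℕ → ℤ := fun i => (tlen (A := A) M N₁ i : ℤ) - lf i
  have hfin : ∀ (N : Type u) [AddCommGroup N] [Module A N] [Module.Finite A N], Meet (A := A) M N → ∀ i,
      Module.length A (DRing.Tor A i (ModuleCat.of A M) (ModuleCat.of A N)) ≠ ⊤ :=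
    fun N _ _ _ hN i => Module.length_ne_top_iff.2 (isFiniteLength_tor M N hN i)
  have hmid : ∀ i, (tlen (A := A) M N₂ i : ℤ) = lf i + lg i := by
    intro i
    obtain ⟨⟨w, hw⟩, -⟩ := CommAlg4.DerivedLES.les hS (HTor16.tens hM) i
    have hex := (ShortComplex.moduleCat_exact_iff_range_eq_ker _).1 hw
    have e := Module.length_eq_add_of_exact (LinearMap.ker ((F i).map S.g).hom).subtype
      ((F i).map S.g).hom.rangeRestrict Subtype.val_injective (LinearMap.surjective_rangeRestrict _)
      (by rw [LinearMap.exact_iff, LinearMap.ker_rangeRestrict, Submodule.range_subtype])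
    have e' := congrArg ENat.toNat e
    rw [ENat.toNat_add
      (ne_top_of_le_ne_top (hfin N₂ h i) (Module.length_le_of_injective (LinearMap.ker ((F i).map S.g).hom).subtype Subtype.val_injective))
      (ne_top_of_le_ne_top (hfin N₂ h i) (Module.length_le_of_surjective _ (LinearMap.surjective_rangeRestrict _))),
      ← (LinearEquiv.ofEq _ _ hex).length_eq] at e'
    show ((Module.length A _).toNat : ℤ) = _
    exact_mod_cast e'
  have hlast : ∀ i, (tlen (A := A) M N₃ (i + 1) : ℤ) = lg (i + 1) + c i := by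
    intro i
    obtain ⟨-, δ, w₁, w₂, e₁, e₂⟩ := CommAlg4.DerivedLES.les hS (HTor16.tens hM) i
    have hex₁ := (ShortComplex.moduleCat_exact_iff_range_eq_ker _).1 e₁
    have hex₂ := (ShortComplex.moduleCat_exact_iff_range_eq_ker _).1 e₂
    have e := Module.length_eq_add_of_exact (LinearMap.ker δ.hom).subtype
      δ.hom.rangeRestrict Subtype.val_injective (LinearMap.surjective_rangeRestrict _)
      (by rw [LinearMap.exact_iff, LinearMap.ker_rangeRestrict, Submodule.range_subtype])
    have e' := congrArg ENat.toNat e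
    rw [ENat.toNat_add
      (ne_top_of_le_ne_top (hfin N₃ h₃ (i + 1)) (Module.length_le_of_injective (LinearMap.ker δ.hom).subtype Subtype.val_injective))
      (ne_top_of_le_ne_top (hfin N₃ h₃ (i + 1)) (Module.length_le_of_surjective _ (LinearMap.surjective_rangeRestrict _))),
      ← (LinearEquiv.ofEq _ _ hex₁).length_eq] at e'
    have g' := congrArg ENat.toNat (Module.length_eq_add_of_exact (LinearMap.ker ((F i).map S.f).hom).subtype
      ((F i).map S.f).hom.rangeRestrict Subtype.val_injective (LinearMap.surjective_rangeRestrict _)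
      (by rw [LinearMap.exact_iff, LinearMap.ker_rangeRestrict, Submodule.range_subtype]))
    rw [ENat.toNat_add
      (ne_top_of_le_ne_top (hfin N₁ h₁ i) (Module.length_le_of_injective (LinearMap.ker ((F i).map S.f).hom).subtype Subtype.val_injective))
      (ne_top_of_le_ne_top (hfin N₁ h₁ i) (Module.length_le_of_surjective _ (LinearMap.surjective_rangeRestrict _))),
      ← (LinearEquiv.ofEq _ _ hex₂).length_eq] at g'
    have e'' : tlen (A := A) M N₃ (i + 1) = lg (i + 1) + (Module.length A (LinearMap.range δ.hom)).toNat := e'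
    have g'' : tlen (A := A) M N₁ i = (Module.length A (LinearMap.range δ.hom)).toNat + lf i := g'
    simp only [c]
    omega
  have hzero : tlen (A := A) M N₃ 0 = lg 0 := by
    haveI : Epi ((F 0).map S.g) := CommAlg4.DerivedLES.epi_zero hS (HTor16.tens hM)
    have hs : LinearMap.range ((F 0).map S.g).hom = ⊤ := LinearMap.range_eq_top.2 ((ModuleCat.epi_iff_surjective _).1 inferInstance)
    show (Module.length A _).toNat = (Module.length A (LinearMap.range ((F 0).map S.g).hom)).toNat
    rw [hs, Module.length_top]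
    rfl
  have hc : c (maximalIdeal A).spanFinrank = 0 := by
    have h3 := hlast (maximalIdeal A).spanFinrank
    rw [tlen_eq_zero (A := A) M N₃ _ (Nat.lt_succ_self _)] at h3
    obtain ⟨-, δ, w₁, w₂, e₁, e₂⟩ := CommAlg4.DerivedLES.les hS (HTor16.tens hM) (maximalIdeal A).spanFinrank
    haveI : Subsingleton ↑((F ((maximalIdeal A).spanFinrank + 1)).obj S.X₂) := ModuleCat.subsingleton_of_isZero
      (Groth.Agent.EGA41Lib.isZero_tor_of_pd (R := A) M N₂ (CAlgH3.pd_all N₂) _ (Nat.lt_succ_self _))
    have hl : lg ((maximalIdeal A).spanFinrank + 1) = 0 := by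
      show (Module.length A _).toNat = 0
      rw [Module.length_eq_zero_iff.2 (LinearMap.surjective_rangeRestrict ((F ((maximalIdeal A).spanFinrank + 1)).map S.g).hom).subsingleton]
      rfl
    rw [hl] at h3
    simpa using h3.symm
  let d : ℕ → ℤ := fun i => if i = 0 then 0 else c (i - 1)
  have hd1 : ∀ i, d (i + 1) = c i := fun i => by simp [d]
  have key : ∀ i, (tlen (A := A) M N₁ i : ℤ) + tlen (A := A) M N₃ i - tlen (A := A) M N₂ i = d i + d (i + 1) := by
    intro i
    rw [hd1, hmid]
    rcases i with - | i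
    · simp only [hzero, d, c, if_true]
      ring
    · rw [hlast, hd1]
      simp only [c]
      ring
  have hsum := sum_alternating d ((maximalIdeal A).spanFinrank + 1)
  rw [hd1, hc, mul_zero, sub_zero] at hsum
  simp only [show d 0 = 0 from rfl, ← key, mul_sub, mul_add, Finset.sum_sub_distrib, Finset.sum_add_distrib] at hsum
  rw [chi_eq_sum, chi_eq_sum, chi_eq_sum]
  linarith

/-- Dévissage of an additive function. -/
theorem devissage (φ : ∀ (N : Type u) [AddCommGroup N] [Module A N], ℤ) (S : Set (PrimeSpectrum A)) (d : ℕ)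
    (hdim : ∀ q ∈ S, ringKrullDim (A ⧸ q.asIdeal) ≤ d)
    (hadd : ∀ (N₁ N₂ N₃ : Type u) [AddCommGroup N₁] [Module A N₁] [Module.Finite A N₁] [AddCommGroup N₂]
      [Module A N₂] [Module.Finite A N₂] [AddCommGroup N₃] [Module A N₃] [Module.Finite A N₃]
      (f : N₁ →ₗ[A] N₂) (g : N₂ →ₗ[A] N₃), Function.Injective f → Function.Surjective g → Function.Exact f g →
      Module.support A N₂ ⊆ S → φ N₂ = φ N₁ + φ N₃)
    (hlow : ∀ q ∈ S, q ∉ SamuelAdd.topPrimes A d → φ (A ⧸ q.asIdeal) = 0)
    (N : Type u) [AddCommGroup N] [Module A N] [Module.Finite A N] (hN : Module.support A N ⊆ S) :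
    φ N = ∑ᶠ q ∈ SamuelAdd.topPrimes A d, ((SamuelAdd.locLen q N).toNat : ℤ) * φ (A ⧸ q.asIdeal) := by
  have hsub : ∀ (N : Type u) [AddCommGroup N] [Module A N] [Module.Finite A N] [Subsingleton N], φ N = 0 := by
    intro N _ _ _ _
    have := hadd N N N (LinearMap.id) (LinearMap.id) Function.injective_id Function.surjective_id
      (fun y => ⟨fun _ => ⟨y, rfl⟩, fun _ => Subsingleton.elim _ _⟩) (by rw [Module.support_eq_empty]; simp)
    linarith
  suffices h : Module.support A N ⊆ S → (∀ q ∈ SamuelAdd.topPrimes A d, SamuelAdd.locLen q N ≠ ⊤) ∧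
      {q | q ∈ SamuelAdd.topPrimes A d ∧ SamuelAdd.locLen q N ≠ 0}.Finite ∧
      φ N = ∑ᶠ q ∈ SamuelAdd.topPrimes A d, ((SamuelAdd.locLen q N).toNat : ℤ) * φ (A ⧸ q.asIdeal) from (h hN).2.2
  clear hN
  induction ‹Module.Finite A N› using IsNoetherianRing.induction_on_isQuotientEquivQuotientPrime A with
  | subsingleton N =>
    intro _
    have h0 : ∀ p : PrimeSpectrum A, SamuelAdd.locLen p N = 0 := fun p => Module.length_eq_zero_iff.2
      (Module.notMem_support_iff.1 (by simp [Module.support_eq_empty]))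
    refine ⟨fun p _ => by simp [h0], by simp [h0], ?_⟩
    rw [finsum_mem_congr rfl (g := fun _ => (0 : ℤ)) fun p _ => by simp [h0], finsum_mem_zero]
    exact hsub N
  | quotient N q eN =>
    intro hN
    have hqS : q ∈ S := hN (by
      rw [eN.support_eq, Module.support_eq_zeroLocus, Ideal.annihilator_quotient, PrimeSpectrum.mem_zeroLocus])
    have hiso : φ N = φ (A ⧸ q.asIdeal) := by
      have h := hadd N (A ⧸ q.asIdeal) PUnit.{u + 1} eN.toLinearMap 0 eN.injective
        (Function.surjective_to_subsingleton _) (fun y => ⟨fun _ => eN.surjective y, fun _ => Subsingleton.elim _ _⟩)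
        (eN.support_eq ▸ hN)
      rw [hsub PUnit.{u + 1}, add_zero] at h
      exact h.symm
    have hlen : ∀ p, SamuelAdd.locLen p N = SamuelAdd.locLen p (A ⧸ q.asIdeal) := fun p => LinearEquiv.length_eq
      (IsLocalizedModule.mapEquiv p.asIdeal.primeCompl (LocalizedModule.mkLinearMap p.asIdeal.primeCompl N)
        (LocalizedModule.mkLinearMap p.asIdeal.primeCompl (A ⧸ q.asIdeal)) (Localization.AtPrime p.asIdeal) eN)
    have h0 : ∀ p ∈ SamuelAdd.topPrimes A d, p ≠ q → SamuelAdd.locLen p N = 0 := fun p hp hne => by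
      rw [hlen]
      refine Module.length_eq_zero_iff.2 (Module.notMem_support_iff.1 fun hmem => ?_)
      rw [Module.support_eq_zeroLocus, Ideal.annihilator_quotient, PrimeSpectrum.mem_zeroLocus] at hmem
      exact SamuelAdd.quot_dim_lt hmem hne (hdim q hqS) hp
    have h1 : SamuelAdd.locLen q N = 1 := (hlen q).trans (SamuelAdd.locLen_quot_self q)
    refine ⟨fun p hp => ?_, (Set.finite_singleton q).subset fun p hp => ?_, ?_⟩
    · by_cases hne : p = q
      · subst hne; simp [h1]
      · simp [h0 p hp hne]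
    · by_contra hne
      exact hp.2 (h0 p hp.1 hne)
    rw [hiso]
    by_cases hq : q ∈ SamuelAdd.topPrimes A d
    · rw [finsum_mem_inter_support_eq _ _ ({q} : Set (PrimeSpectrum A)) ?_, finsum_mem_singleton, h1]
      · simp
      · ext p
        simp only [Set.mem_inter_iff, Function.mem_support, Set.mem_singleton_iff]
        exact ⟨fun h => ⟨by by_contra hne; exact h.2 (by simp [h0 p h.1 hne]), h.2⟩, fun h => ⟨h.1 ▸ hq, h.2⟩⟩
    · rw [finsum_mem_congr rfl (g := fun _ => (0 : ℤ)) fun p hp => by simp [h0 p hp (fun e' => hq (e' ▸ hp))],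
        finsum_mem_zero]
      exact hlow q hqS hq
  | exact N₁ N₂ N₃ f g hf hg hfg ih₁ ih₃ =>
    intro hN
    obtain ⟨ht₁, hS₁, e₁⟩ := ih₁ ((Module.support_subset_of_injective f hf).trans hN)
    obtain ⟨ht₃, hS₃, e₃⟩ := ih₃ ((Module.support_subset_of_surjective g hg).trans hN)
    have hl : ∀ p : PrimeSpectrum A, SamuelAdd.locLen p N₂ = SamuelAdd.locLen p N₁ + SamuelAdd.locLen p N₃ := fun p =>
      Module.length_eq_add_of_exact (LocalizedModule.map p.asIdeal.primeCompl f)
        (LocalizedModule.map p.asIdeal.primeCompl g) (LocalizedModule.map_injective _ f hf)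
        (LocalizedModule.map_surjective _ g hg) (LocalizedModule.map_exact _ f g hfg)
    refine ⟨fun p hp => by rw [hl]; exact WithTop.add_ne_top.2 ⟨ht₁ p hp, ht₃ p hp⟩,
      (hS₁.union hS₃).subset fun p hp => ?_, ?_⟩
    · by_contra hne
      simp only [Set.mem_union, Set.mem_setOf_eq, hp.1, true_and, not_or, not_not] at hne
      exact hp.2 (by rw [hl, hne.1, hne.2, add_zero])
    rw [hadd N₁ N₂ N₃ f g hf hg hfg hN, e₁, e₃, ← finsum_mem_add_distrib' (hS₁.subset fun p hp => ⟨hp.1, fun h => hp.2 (by simp [h])⟩)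
      (hS₃.subset fun p hp => ⟨hp.1, fun h => hp.2 (by simp [h])⟩)]
    refine finsum_mem_congr rfl fun p hp => ?_
    rw [hl, ENat.toNat_add (ht₁ p hp) (ht₃ p hp), Nat.cast_add, add_mul]

/-- Dévissage of the Euler characteristic of Tor. -/
theorem chi_devissage (M N : Type u) [AddCommGroup M] [Module A M] [Module.Finite A M] [AddCommGroup N] [Module A N]
    [Module.Finite A N] (h : Meet (A := A) M N) (v w : ℕ) (hv : Module.supportDim A M ≤ v) (hw : Module.supportDim A N ≤ w)
    (hvan : ∀ p ∈ Module.support A M, ∀ q ∈ Module.support A N, p ∉ SamuelAdd.topPrimes A v ∨ q ∉ SamuelAdd.topPrimes A w →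
      IntMult.chi A (A ⧸ p.asIdeal) (A ⧸ q.asIdeal) = 0) :
    IntMult.chi A M N = ∑ᶠ q ∈ SamuelAdd.topPrimes A w, ((SamuelAdd.locLen q N).toNat : ℤ) *
      ∑ᶠ p ∈ SamuelAdd.topPrimes A v, ((SamuelAdd.locLen p M).toNat : ℤ) * IntMult.chi A (A ⧸ p.asIdeal) (A ⧸ q.asIdeal) := by
  have dimle : ∀ (L : Type u) [AddCommGroup L] [Module A L] [Module.Finite A L] (d : ℕ), Module.supportDim A L ≤ d →
      ∀ p ∈ Module.support A L, ringKrullDim (A ⧸ p.asIdeal) ≤ d := by
    intro L _ _ _ d hd p hp
    refine le_trans ?_ hd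
    rw [Module.supportDim_eq_ringKrullDim_quotient_annihilator]
    rw [Module.support_eq_zeroLocus, PrimeSpectrum.mem_zeroLocus] at hp
    exact ringKrullDim_le_of_surjective (Ideal.Quotient.factor hp) (Ideal.Quotient.factor_surjective hp)
  have hsupp : ∀ q : PrimeSpectrum A, q ∈ Module.support A N → Module.support A (A ⧸ q.asIdeal) ⊆ Module.support A N := by
    intro q hq p hp
    rw [Module.support_eq_zeroLocus, Ideal.annihilator_quotient, PrimeSpectrum.mem_zeroLocus] at hp
    exact Module.mem_support_mono (show q ≤ p from hp) hq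
  have inner : ∀ q ∈ Module.support A N, IntMult.chi A M (A ⧸ q.asIdeal) =
      ∑ᶠ p ∈ SamuelAdd.topPrimes A v, ((SamuelAdd.locLen p M).toNat : ℤ) * IntMult.chi A (A ⧸ p.asIdeal) (A ⧸ q.asIdeal) := by
    intro q hq
    have key := fun hadd hlow => devissage (φ := fun (L : Type u) [AddCommGroup L] [Module A L] =>
      IntMult.chi A L (A ⧸ q.asIdeal)) (Module.support A M) v (dimle M v hv) hadd hlow M Set.Subset.rfl
    beta_reduce at key
    refine key ?_ ?_
    · intro N₁ N₂ N₃ _ _ _ _ _ _ _ _ _ f g hf hg hfg hN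
      show IntMult.chi A N₂ _ = IntMult.chi A N₁ _ + IntMult.chi A N₃ _
      rw [chi_comm N₂, chi_comm N₁, chi_comm N₃]
      exact chi_add _ f g hf hg hfg fun p hp => h ⟨hN hp.2, hsupp q hq hp.1⟩
    · exact fun p hp hpt => hvan p hp q hq (Or.inl hpt)
  have key := fun hadd hlow => devissage (φ := fun (L : Type u) [AddCommGroup L] [Module A L] =>
    IntMult.chi A M L) (Module.support A N) w (dimle N w hw) hadd hlow N Set.Subset.rfl
  beta_reduce at key
  refine (key ?_ ?_).trans ?_
  rotate_left 2
  · refine finsum_mem_congr rfl fun q hq => ?_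
    by_cases hqN : q ∈ Module.support A N
    · rw [inner q hqN]
    · rw [show SamuelAdd.locLen q N = 0 from Module.length_eq_zero_iff.2 (Module.notMem_support_iff.1 hqN)]
      simp
  · intro N₁ N₂ N₃ _ _ _ _ _ _ _ _ _ f g hf hg hfg hN
    exact chi_add M f g hf hg hfg fun p hp => h ⟨hp.1, hN hp.2⟩
  · intro q hq hqt
    show IntMult.chi A M (A ⧸ q.asIdeal) = 0
    rw [inner q hq]
    refine (finsum_mem_congr rfl fun p hp => ?_).trans (finsum_mem_zero _)
    by_cases hpM : p ∈ Module.support A M
    · rw [hvan p hpM q hq (Or.inr hqt), mul_zero]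
    · rw [show SamuelAdd.locLen p M = 0 from Module.length_eq_zero_iff.2 (Module.notMem_support_iff.1 hpM)]
      simp

end Groth.Agent.CycLib28.ChiCalc
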