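import Mathlib
import Groth.Agent.CycLib28.MultPos

/-!
# Vanishing of intersection multiplicities below the expected dimension
-/

set_option autoImplicit false
set_option backward.isDefEq.respectTransparency false

universe u

open CategoryTheory CategoryTheory.Limits AlgebraicGeometry IsLocalRing

namespace Groth.Agent.CycLib28

theorem mult_eq_zero {K : Type u} [Field K] [IsAlgClosed K] {X : Scheme.{u}} (f : X ⟶ Spec (CommRingCat.of K))
    [Smooth f] [IsSeparated f] [IsIntegral X] (IV IW : X.IdealSheafData) [IsIntegral IV.subscheme]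
    [IsIntegral IW.subscheme] {n r s : ℕ} (hn : topologicalKrullDim X = n)
    (hr : topologicalKrullDim IV.support = r) (hs : topologicalKrullDim IW.support = s) {ξ : X}
    (hV : ξ ∈ IV.support) (hW : ξ ∈ IW.support)
    (hmax : ∀ ξ' : X, ξ' ∈ IV.support → ξ' ∈ IW.support → ξ' ⤳ ξ → ξ' = ξ) {a v w : ℕ}
    (ha : ringKrullDim (X.presheaf.stalk ξ) = a)
    (hv : ringKrullDim (X.presheaf.stalk ξ ⧸ IntMult.stalkIdeal IV ξ) = v)
    (hw : ringKrullDim (X.presheaf.stalk ξ ⧸ IntMult.stalkIdeal IW ξ) = w) (hlt : v + w < a) :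
    IntMult.mult IV IW ξ = 0 := by
  haveI : IsLocallyNoetherian X := LocallyOfFiniteType.isLocallyNoetherian f
  haveI : GeometricallyIntegral f := AbVarLib.geometricallyIntegral_of_isAlgClosed f
  haveI : IsIntegral (pullback f f) := inferInstance
  set g := pullback.fst f f ≫ f with hg
  haveI : Smooth g := inferInstance
  haveI : IsLocallyNoetherian (pullback f f) := LocallyOfFiniteType.isLocallyNoetherian g
  haveI : IsLocallyNoetherian IW.subscheme := LocallyOfFiniteType.isLocallyNoetherian (IW.subschemeι ≫ f)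
  haveI : IsLocallyNoetherian IV.subscheme := LocallyOfFiniteType.isLocallyNoetherian (IV.subschemeι ≫ f)
  haveI : GeometricallyIntegral (IW.subschemeι ≫ f) := AbVarLib.geometricallyIntegral_of_isAlgClosed _
  haveI hVW : IsIntegral (pullback (IV.subschemeι ≫ f) (IW.subschemeι ≫ f)) := inferInstance
  set m := pullback.map (IV.subschemeι ≫ f) (IW.subschemeι ≫ f) f f IV.subschemeι IW.subschemeι (𝟙 _)
    (Category.comp_id _) (Category.comp_id _) with hm
  set j := pullback.diagonal f with hj
  haveI : IsClosedImmersion m := MorphismProperty.pullback_map (P := @IsClosedImmersion) inferInstance inferInstance rfl rfl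
  haveI : IsIntegral m.ker.subscheme := IsIntegral.of_isIso m.toImage
  have e1 : j ≫ pullback.fst f f = 𝟙 X := pullback.diagonal_fst f
  have e2 : j ≫ pullback.snd f f = 𝟙 X := pullback.diagonal_snd f
  have hp1 : ∀ x, pullback.fst f f (j x) = x := fun x => by rw [← Scheme.Hom.comp_apply, e1]; rfl
  have hp2 : ∀ x, pullback.snd f f (j x) = x := fun x => by rw [← Scheme.Hom.comp_apply, e2]; rfl
  have hmk : m.ker = IV.comap (pullback.fst f f) ⊔ IW.comap (pullback.snd f f) := ker_pullback_map f f IV IW
  have hmem : ∀ x, j x ∈ m.ker.support ↔ x ∈ IV.support ∧ x ∈ IW.support := fun x => by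
    rw [hmk, Scheme.IdealSheafData.support_sup, Scheme.IdealSheafData.support_comap,
      Scheme.IdealSheafData.support_comap]
    show pullback.fst f f (j x) ∈ IV.support ∧ pullback.snd f f (j x) ∈ IW.support ↔ _
    rw [hp1, hp2]
  have hjsupp : (j.ker.support : Set ↥(pullback f f)) = Set.range j := by
    rw [Scheme.Hom.support_ker]
    exact j.isClosedEmbedding.isClosed_range.closure_eq
  have hmsupp : (m.ker.support : Set ↥(pullback f f)) = Set.range m := by
    rw [Scheme.Hom.support_ker]
    exact m.isClosedEmbedding.isClosed_range.closure_eq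
  have hn' : topologicalKrullDim ↥(pullback f f) = ((n + n : ℕ) : WithBot ℕ∞) := topologicalKrullDim_product f f hn hn
  have hrV : topologicalKrullDim IV.subscheme = r := by
    rw [← hr]
    exact (Groth.Agent.EGA43.DimFormula.topologicalKrullDim_eq_of_range IV.subschemeι IV.subschemeι.isEmbedding _
      IV.range_subschemeι).symm
  have hsW : topologicalKrullDim IW.subscheme = s := by
    rw [← hs]
    exact (Groth.Agent.EGA43.DimFormula.topologicalKrullDim_eq_of_range IW.subschemeι IW.subschemeι.isEmbedding _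
      IW.range_subschemeι).symm
  have hs' : topologicalKrullDim m.ker.support = ((r + s : ℕ) : WithBot ℕ∞) := by
    rw [← topologicalKrullDim_product (IV.subschemeι ≫ f) (IW.subschemeι ≫ f) hrV hsW]
    exact Groth.Agent.EGA43.DimFormula.topologicalKrullDim_eq_of_range m m.isEmbedding _ hmsupp.symm
  have hξ' : j ξ ∈ m.ker.support := (hmem ξ).2 ⟨hV, hW⟩
  have hξj : j ξ ∈ j.ker.support := j.range_subset_ker_support ⟨ξ, rfl⟩
  have hmax' : ∀ p, p ∈ m.ker.support → p ∈ j.ker.support → p ⤳ j ξ → p = j ξ := by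
    intro p hp hpj hsp
    obtain ⟨x, rfl⟩ : p ∈ Set.range j := hjsupp.le hpj
    obtain ⟨hxV, hxW⟩ := (hmem x).1 hp
    rw [hmax x hxV hxW (j.isEmbedding.isInducing.specializes_iff.1 hsp)]
  haveI := isRegularLocalRing_stalk g (j ξ)
  haveI := isRegularLocalRing_stalk f ξ
  obtain ⟨d, a', ed, ea', hda⟩ := exists_nat_of_add_eq (hn.symm.trans (dim_stalk_add_closure f ξ))
  obtain ⟨d', b, ed', eb, hdb⟩ := exists_nat_of_add_eq (hn'.symm.trans (dim_stalk_add_closure g (j ξ)))
  obtain ⟨d'', z, ed'', ez, hdz⟩ := exists_nat_of_add_eq (hs'.symm.trans (dim_quot_add_closure g m.ker hξ'))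
  obtain ⟨d₁, v', ed₁, ev', hdv⟩ := exists_nat_of_add_eq (hr.symm.trans (dim_quot_add_closure f IV hV))
  obtain ⟨d₂, w', ed₂, ew', hdw⟩ := exists_nat_of_add_eq (hs.symm.trans (dim_quot_add_closure f IW hW))
  have hdd : topologicalKrullDim ↥(closure ({ξ} : Set X)) = topologicalKrullDim ↥(closure ({j ξ} : Set ↥(pullback f f))) :=
    (Groth.Agent.EGA43.DimFormula.topologicalKrullDim_eq_of_range (fun t : closure ({ξ} : Set X) => j t.1)
      (j.isEmbedding.comp Topology.IsEmbedding.subtypeVal) (closure ({j ξ} : Set ↥(pullback f f)))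
      (by rw [Set.range_comp' j Subtype.val, Subtype.range_coe, ← Set.image_singleton,
        j.isClosedEmbedding.closure_image_eq])).symm
  have hkerj : IntMult.stalkIdeal j.ker (j ξ) = RingHom.ker (j.stalkMap ξ).hom := stalkIdeal_ker j ξ
  let eΔ := (Ideal.quotEquivOfEq hkerj).trans (RingHom.quotientKerEquivOfSurjective (j.stalkMap_surjective ξ))
  haveI : IsRegularLocalRing ((pullback f f).presheaf.stalk (j ξ) ⧸ IntMult.stalkIdeal j.ker (j ξ)) :=
    IsRegularLocalRing.of_ringEquiv eΔ.symm
  obtain ⟨l, hl, hlI⟩ := exists_regular_gens (IntMult.stalkIdeal j.ker (j ξ))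
  have hdim := Module.supportDim_add_length_eq_supportDim_of_isRegular l hl
  rw [Module.supportDim_self_eq_ringKrullDim, smul_eq_mul, Ideal.mul_top, Module.supportDim_quotient_eq_ringKrullDim,
    hlI, ringKrullDim_eq_of_ringEquiv eΔ, eb, ha] at hdim
  have hb : a + l.length = b := by exact_mod_cast hdim
  have haa : a' = a := by exact_mod_cast ea'.symm.trans ha
  have hvv : v' = v := by exact_mod_cast ev'.symm.trans hv
  have hww : w' = w := by exact_mod_cast ew'.symm.trans hw
  have hd1 : d₁ = d := by exact_mod_cast ed₁.symm.trans ed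
  have hd2 : d₂ = d := by exact_mod_cast ed₂.symm.trans ed
  have hd3 : d' = d := by exact_mod_cast ed'.symm.trans (hdd.symm.trans ed)
  have hd4 : d'' = d := by exact_mod_cast ed''.symm.trans (hdd.symm.trans ed)
  rw [mult_diag f IV IW hV hW]
  show IntMult.mult m.ker j.ker (j ξ) = 0
  unfold IntMult.mult
  set J := IntMult.stalkIdeal m.ker (j ξ)
  have hlm : ∀ b ∈ l, b ∈ maximalIdeal ((pullback f f).presheaf.stalk (j ξ)) := fun b hb =>
    stalkIdeal_le_maximal j.ker hξj (hlI ▸ Ideal.subset_span hb)
  have hfl := finite_length_quot_sup m.ker j.ker hξ' hξj hmax'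
  rw [← hlI] at hfl ⊢
  rw [chi_tor l hl.toIsWeaklyRegular (ModuleCat.of _ ((pullback f f).presheaf.stalk (j ξ) ⧸ J))]
  refine Groth.Agent.CAlgH.KoszulEuler.chi_eq_zero_of_dim_lt _ _ ?_ ?_
  · exact IsFiniteLength.of_surjective hfl
      (f := (ringKrullDim_le_of_finite_length.quotSupEquiv J (Ideal.ofList l)).symm.toLinearMap)
      (LinearEquiv.surjective _)
  · rw [Module.supportDim_quotient_eq_ringKrullDim, ez]
    exact_mod_cast (show z < l.length by omega)

end Groth.Agent.CycLib28
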