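import Mathlib
import Groth.Agent.CycLib28.GysinSheaf
import Groth.Agent.ModStalk.Exact

/-!
# Stalks at generisations as localised modules; stalks of homology
-/

universe u

open CategoryTheory AlgebraicGeometry IsLocalRing Groth.Agent.CycLim28

namespace Groth.Agent.CycLib28

variable {X : Scheme.{u}} {F : X.Modules}

theorem isLocalizedModule_stalkSpecializes (hF : Coh.IsQCoh F) (x : X) (P : PrimeSpectrum (X.presheaf.stalk x)) :
    letI := Module.compHom (F.presheaf.stalk (X.fromSpecStalk x P))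
      (X.presheaf.stalkSpecializes (fromSpecStalk_specializes x P)).hom
    ∃ ρ : F.presheaf.stalk x →ₗ[X.presheaf.stalk x] F.presheaf.stalk (X.fromSpecStalk x P),
      (∀ m, ρ m = F.presheaf.stalkSpecializes (fromSpecStalk_specializes x P) m) ∧
        IsLocalizedModule P.asIdeal.primeCompl ρ := by
  haveI := hF
  let y : X := X.fromSpecStalk x P
  have h : y ⤳ x := fromSpecStalk_specializes x P
  letI := (X.presheaf.stalkSpecializes h).hom.toAlgebra
  letI := Module.compHom (F.presheaf.stalk y) (X.presheaf.stalkSpecializes h).hom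
  haveI : IsScalarTower (X.presheaf.stalk x) (X.presheaf.stalk y) (F.presheaf.stalk y) :=
    IsScalarTower.of_algebraMap_smul fun _ _ => rfl
  haveI := Misc15.isLocalization_stalkSpecializes h
  let S := (IsUnit.submonoid (X.presheaf.stalk y)).comap (X.presheaf.stalkSpecializes h).hom
  obtain ⟨_, ⟨U, hU, rfl⟩, hxU, -⟩ :=
    X.isBasis_affineOpens.exists_subset_of_mem_open (Set.mem_univ x) isOpen_univ
  have hyU : y ∈ U := h.mem_open U.isOpen hxU
  have hgerm : ∀ r : Γ(X, U), (X.presheaf.stalkSpecializes h).hom (X.presheaf.germ U x hxU r) =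
      X.presheaf.germ U y hyU r := fun r => TopCat.Presheaf.germ_stalkSpecializes_apply X.presheaf hxU h r
  have hgermF : ∀ m : Γ(F, U), F.presheaf.stalkSpecializes h (F.presheaf.germ U x hxU m) =
      F.presheaf.germ U y hyU m := fun m => TopCat.Presheaf.germ_stalkSpecializes_apply F.presheaf hxU h m
  let ρ : F.presheaf.stalk x →ₗ[X.presheaf.stalk x] F.presheaf.stalk y :=
    { toFun := F.presheaf.stalkSpecializes h
      map_add' := fun a b => map_add _ a b
      map_smul' := fun a v => by
        obtain ⟨Ua, hxa, r, rfl⟩ := X.presheaf.exists_germ_eq a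
        obtain ⟨Uv, hxv, m, rfl⟩ := F.presheaf.exists_germ_eq v
        rw [← TopCat.Presheaf.germ_res_apply X.presheaf (homOfLE (inf_le_left : Ua ⊓ Uv ≤ Ua)) x ⟨hxa, hxv⟩,
          ← TopCat.Presheaf.germ_res_apply F.presheaf (homOfLE (inf_le_right : Ua ⊓ Uv ≤ Uv)) x ⟨hxa, hxv⟩,
          ← QCohLoc.germ_smul', TopCat.Presheaf.germ_stalkSpecializes_apply,
          TopCat.Presheaf.germ_stalkSpecializes_apply, QCohLoc.germ_smul']
        exact congrArg₂ (· • ·)
          (TopCat.Presheaf.germ_stalkSpecializes_apply X.presheaf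
            (show x ∈ Ua ⊓ Uv from ⟨hxa, hxv⟩) h _).symm rfl }
  refine ⟨ρ, fun _ => rfl, ?_⟩
  have : IsLocalizedModule S ρ := by
    refine { map_units := fun a => ?_, surj := fun z => ?_, exists_of_eq := fun {a b} hab => ?_ }
    · exact EGA43.QcohFP.map_units_of_tower (R' := X.presheaf.stalk y) S a
    · obtain ⟨f, m, hf, hm⟩ := QCohLoc.exists_smul_stalk_eq_germ F hU hyU z
      refine ⟨⟨F.presheaf.germ U x hxU m, ⟨X.presheaf.germ U x hxU f, ?_⟩⟩, ?_⟩
      · show IsUnit ((X.presheaf.stalkSpecializes h).hom (X.presheaf.germ U x hxU f))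
        rw [hgerm]; exact (X.mem_basicOpen f y hyU).1 hf
      · show (X.presheaf.stalkSpecializes h).hom (X.presheaf.germ U x hxU f) • z = F.presheaf.stalkSpecializes h _
        exact (congrArg (fun t => t • z) (hgerm f)).trans (hm.trans (hgermF m).symm)
    · obtain ⟨g, m, hg, hm⟩ := QCohLoc.exists_smul_stalk_eq_germ F hU hxU (a - b)
      have h0 : F.presheaf.germ U y hyU m = 0 := by
        rw [← hgermF, ← hm]
        show ρ (_ • (a - b)) = 0
        rw [map_smul, map_sub, sub_eq_zero.2 hab, smul_zero]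
      obtain ⟨f, hf, hfm⟩ := QCohLoc.exists_smul_eq_zero_of_germ F hU hyU m h0
      refine ⟨⟨X.presheaf.germ U x hxU (f * g), ?_⟩, ?_⟩
      · show IsUnit ((X.presheaf.stalkSpecializes h).hom (X.presheaf.germ U x hxU (f * g)))
        rw [hgerm, map_mul]
        exact ((X.mem_basicOpen f y hyU).1 hf).mul
          ((X.mem_basicOpen g y hyU).1 (h.mem_open (X.basicOpen g).isOpen hg))
      · rw [Submonoid.smul_def, Submonoid.smul_def, ← sub_eq_zero, ← smul_sub]
        show X.presheaf.germ U x hxU (f * g) • (a - b) = 0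
        rw [map_mul, mul_smul, hm, ← QCohLoc.germ_smul', hfm, map_zero]
  have e : S = P.asIdeal.primeCompl := by
    ext a
    have h1 := congrArg PrimeSpectrum.asIdeal (eq_comap_closedPoint x P)
    rw [PrimeSpectrum.comap_asIdeal] at h1
    change IsUnit _ ↔ a ∉ P.asIdeal
    rw [h1, Ideal.mem_comap]
    exact IsLocalRing.notMem_maximalIdeal.symm
  rw [← e]
  exact this

theorem stalkMap_specializes {G : X.Modules} (φ : F ⟶ G) {z x : X} (h : z ⤳ x) (m : F.presheaf.stalk x) :
    (DerSch.stalkFunctor X z).map φ (F.presheaf.stalkSpecializes h m) =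
      G.presheaf.stalkSpecializes h ((DerSch.stalkFunctor X x).map φ m) := by
  obtain ⟨U, hx, s, rfl⟩ := F.presheaf.exists_germ_eq m
  rw [TopCat.Presheaf.germ_stalkSpecializes_apply, DerSch.stalkFunctor_map_germ, DerSch.stalkFunctor_map_germ,
    TopCat.Presheaf.germ_stalkSpecializes_apply]

theorem stalk_homology_equiv (φ ψ : F ⟶ F) (h : φ ≫ ψ = 0) (x : X) :
    Nonempty ((ShortComplex.mk φ ψ h).homology.presheaf.stalk x ≃ₗ[X.presheaf.stalk x]
      CycAlg.perH ((DerSch.stalkFunctor X x).map ψ).hom ((DerSch.stalkFunctor X x).map φ).hom) := by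
  let G := DerSch.stalkFunctor X x
  let S := ShortComplex.mk φ ψ h
  let e := ((S.mapHomologyIso G).symm ≪≫ (S.map G).moduleCatHomologyIso).toLinearEquiv
  refine ⟨e.trans (Submodule.quotEquivOfEq _ _ ?_)⟩
  ext ⟨v, hv⟩
  constructor
  · rintro ⟨w, hw⟩
    exact ⟨w, congrArg Subtype.val hw⟩
  · rintro ⟨w, hw⟩
    exact ⟨w, Subtype.ext hw⟩

end Groth.Agent.CycLib28
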