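import Mathlib
import Groth.Agent.CycLib28.StalkGen
import Groth.Agent.CycLib28.StalkLocal
import Groth.Agent.CycLib28.StalkIdeal
import Groth.Agent.CycLib28.SamuelSum
import Groth.Agent.EGA43.DimFormula.StalkSupport
import Groth.Agent.EGA43.DimFormula.Sub

/-!
# The ideal sheaf of the closure of a point; stalks of coherent modules at generisations
-/

set_option autoImplicit false
set_option backward.isDefEq.respectTransparency false
set_option linter.style.haveILetI false

universe u

open CategoryTheory AlgebraicGeometry IsLocalRing TopologicalSpace Groth.Agent.CycLim28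

namespace Groth.Agent.CycLib28

variable {X : Scheme.{u}}

theorem mem_support_ptIdeal {ξ x : X} : x ∈ (IntMult.ptIdeal ξ).support ↔ ξ ⤳ x := by
  rw [← SetLike.mem_coe, IntMult.ptIdeal, Scheme.IdealSheafData.coe_support_vanishingIdeal]
  exact specializes_iff_mem_closure.symm

theorem isIntegral_ptIdeal (ξ : X) : IsIntegral (IntMult.ptIdeal ξ).subscheme := by
  haveI : IsReduced (IntMult.ptIdeal ξ).subscheme := Props12.isReduced_subscheme_vanishingIdeal _
  set ι := (IntMult.ptIdeal ξ).subschemeι
  have hr : Set.range ι = closure {ξ} := by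
    rw [Scheme.IdealSheafData.range_subschemeι, IntMult.ptIdeal, Scheme.IdealSheafData.coe_support_vanishingIdeal]
    rfl
  obtain ⟨w, hw⟩ : ξ ∈ Set.range ι := hr.symm.le (subset_closure rfl)
  have hd : closure ({w} : Set (IntMult.ptIdeal ξ).subscheme) = Set.univ := by
    rw [ι.isEmbedding.isInducing.closure_eq_preimage_closure_image, Set.image_singleton, hw, ← hr,
      Set.preimage_range]
  haveI : IrreducibleSpace (IntMult.ptIdeal ξ).subscheme :=
    (irreducibleSpace_def _).2 (show IsIrreducible (Set.univ : Set (IntMult.ptIdeal ξ).subscheme) from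
      hd ▸ isIrreducible_singleton.closure)
  exact isIntegral_of_irreducibleSpace_of_isReduced _

theorem stalkIdeal_ptIdeal (ζ : X) (P : PrimeSpectrum (X.presheaf.stalk ζ)) :
    IntMult.stalkIdeal (IntMult.ptIdeal (X.fromSpecStalk ζ P)) ζ = P.asIdeal := by
  obtain ⟨U, hU, hζ, -⟩ := exists_isAffineOpen_mem_and_subset (x := ζ) (U := ⊤) (Set.mem_univ _)
  rw [stalkIdeal_eq_map _ (mem_support_ptIdeal.2 (fromSpecStalk_specializes ζ P)) ⟨U, hU⟩ hζ]
  letI := TopCat.Presheaf.algebra_section_stalk X.presheaf (⟨ζ, hζ⟩ : U)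
  haveI : IsLocalization.AtPrime (X.presheaf.stalk ζ) (hU.primeIdealOf ⟨ζ, hζ⟩).asIdeal :=
    hU.isLocalization_stalk ⟨ζ, hζ⟩
  set p := PrimeSpectrum.comap (algebraMap Γ(X, U) (X.presheaf.stalk ζ)) P with hp
  have hpt : hU.fromSpec p = X.fromSpecStalk ζ P := by
    rw [← hU.fromSpecStalk_eq_fromSpecStalk hζ]
    rfl
  have hid : (IntMult.ptIdeal (X.fromSpecStalk ζ P)).ideal ⟨U, hU⟩ = p.asIdeal := by
    rw [IntMult.ptIdeal, Scheme.IdealSheafData.vanishingIdeal_ideal]
    show PrimeSpectrum.vanishingIdeal (hU.fromSpec ⁻¹' closure {X.fromSpecStalk ζ P}) = _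
    have h := hU.fromSpec.isOpenEmbedding.isInducing.closure_eq_preimage_closure_image {p}
    rw [Set.image_singleton, hpt] at h
    rw [← h, PrimeSpectrum.vanishingIdeal_closure, PrimeSpectrum.vanishingIdeal_singleton]
  rw [hid]
  exact IsLocalization.map_comap (hU.primeIdealOf ⟨ζ, hζ⟩).asIdeal.primeCompl (X.presheaf.stalk ζ) P.asIdeal

theorem locLen_stalk [IsLocallyNoetherian X] {F : X.Modules} (hF : Coh.IsQCoh F) (ζ : X)
    (P : PrimeSpectrum (X.presheaf.stalk ζ)) :
    SamuelAdd.locLen P (F.presheaf.stalk ζ) =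
      Module.length (X.presheaf.stalk (X.fromSpecStalk ζ P)) (F.presheaf.stalk (X.fromSpecStalk ζ P)) := by
  set y := X.fromSpecStalk ζ P
  let h := fromSpecStalk_specializes ζ P
  letI := (X.presheaf.stalkSpecializes h).hom.toAlgebra
  letI := Module.compHom (F.presheaf.stalk y) (X.presheaf.stalkSpecializes h).hom
  haveI : IsScalarTower (X.presheaf.stalk ζ) (X.presheaf.stalk y) (F.presheaf.stalk y) :=
    IsScalarTower.of_algebraMap_smul fun _ _ => rfl
  haveI := Misc15.isLocalization_stalkSpecializes h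
  have hS : (IsUnit.submonoid (X.presheaf.stalk y)).comap (X.presheaf.stalkSpecializes h).hom =
      P.asIdeal.primeCompl := by
    ext a
    have h1 := congrArg PrimeSpectrum.asIdeal (eq_comap_closedPoint ζ P)
    rw [PrimeSpectrum.comap_asIdeal] at h1
    change IsUnit _ ↔ a ∉ P.asIdeal
    rw [h1, Ideal.mem_comap]
    exact IsLocalRing.notMem_maximalIdeal.symm
  haveI : IsLocalization P.asIdeal.primeCompl (X.presheaf.stalk y) := hS ▸ inferInstance
  obtain ⟨ρ, -, hρ⟩ := isLocalizedModule_stalkSpecializes hF ζ P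
  let eL : (Localization.AtPrime P.asIdeal) ≃ₐ[(X.presheaf.stalk ζ)] X.presheaf.stalk y := IsLocalization.algEquiv P.asIdeal.primeCompl (Localization.AtPrime P.asIdeal) (X.presheaf.stalk y)
  letI : Algebra (Localization.AtPrime P.asIdeal) (X.presheaf.stalk y) := eL.toRingEquiv.toRingHom.toAlgebra
  letI := Module.compHom (F.presheaf.stalk y) eL.toRingEquiv.toRingHom
  haveI : IsScalarTower (Localization.AtPrime P.asIdeal) (X.presheaf.stalk y) (F.presheaf.stalk y) :=
    IsScalarTower.of_algebraMap_smul fun _ _ => rfl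
  haveI : IsScalarTower (X.presheaf.stalk ζ) (Localization.AtPrime P.asIdeal) (F.presheaf.stalk y) := IsScalarTower.of_algebraMap_smul fun a m => by
    show eL (algebraMap (X.presheaf.stalk ζ) (Localization.AtPrime P.asIdeal) a) • m = _
    rw [eL.commutes, algebraMap_smul]
  let e := IsLocalizedModule.iso P.asIdeal.primeCompl ρ
  let e' : LocalizedModule P.asIdeal.primeCompl (F.presheaf.stalk ζ) ≃ₗ[(Localization.AtPrime P.asIdeal)] F.presheaf.stalk y :=
    { e.toLinearMap.extendScalarsOfIsLocalization P.asIdeal.primeCompl (Localization.AtPrime P.asIdeal), e with }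
  rw [SamuelAdd.locLen, e'.length_eq]
  exact Module.length_eq_of_surjective eL.surjective

end Groth.Agent.CycLib28
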