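import Mathlib
import Groth.Agent.CycLib28.PtIdeal
import Groth.Agent.CycLib28.ChiCalc
import Groth.Agent.CycLib28.MultVanish
import Groth.Agent.CycLib28.Jacobson
import Groth.Agent.EGA43.DimFormula.JacobsonDim
import Groth.Agent.AssSch12.Primary

/-!
# The intersection product of the cycles of two coherent sheaves
-/

set_option autoImplicit false
set_option backward.isDefEq.respectTransparency false
set_option linter.style.haveILetI false

universe u

open CategoryTheory CategoryTheory.Limits AlgebraicGeometry IsLocalRing Groth.Agent.CycLim28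

namespace Groth.Agent.CycLib28.InterSheaf

variable {K : Type u} [Field K] {X : Scheme.{u}} (f : X ⟶ Spec (CommRingCat.of K))

theorem delta_closed [LocallyOfFiniteType f] {δ : X → ℤ} (hδ : Cyc.DeltaCompat f δ (fun _ => 0)) {x : X}
    (hx : IsClosed ({x} : Set X)) : δ x = 0 := by
  obtain ⟨n, hn, hn'⟩ := hδ x
  have h : DimLib.trdegHom (f.residueFieldMap x).hom = 0 := EGA43.DimFormula.trdAt_eq_zero_of_isClosed f hx
  unfold DimLib.trdegHom at h
  rw [hn] at h
  simp only [Cardinal.toNat_natCast, Nat.cast_eq_zero] at h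
  simp [hn', h]

theorem dim_closure_pt [LocallyOfFiniteType f] {δ : X → ℤ} (hX : Cyc.IsSetup X δ)
    (hδ : Cyc.DeltaCompat f δ (fun _ => 0)) (x : X) :
    topologicalKrullDim ↥(closure ({x} : Set X)) = ((δ x).toNat : WithBot ℕ∞) := by
  haveI : JacobsonSpace X := LocallyOfFiniteType.jacobsonSpace f
  exact (dim_closure hX.2.2 (fun _ h => delta_closed f hδ h) x).1

theorem dim_space [IsIntegral X] [LocallyOfFiniteType f] {δ : X → ℤ} (hX : Cyc.IsSetup X δ)
    (hδ : Cyc.DeltaCompat f δ (fun _ => 0)) :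
    topologicalKrullDim X = ((δ (genericPoint X)).toNat : WithBot ℕ∞) := by
  rw [← dim_closure_pt f hX hδ, genericPoint_closure]
  exact ((Homeomorph.Set.univ X).isHomeomorph.topologicalKrullDim_eq).symm

theorem dim_support_ptIdeal [LocallyOfFiniteType f] {δ : X → ℤ} (hX : Cyc.IsSetup X δ)
    (hδ : Cyc.DeltaCompat f δ (fun _ => 0)) (x : X) :
    topologicalKrullDim ↥(IntMult.ptIdeal x).support = ((δ x).toNat : WithBot ℕ∞) := by
  rw [← dim_closure_pt f hX hδ x]
  refine (Homeomorph.setCongr (?_ : ((IntMult.ptIdeal x).support : Set X) = _)).isHomeomorph.topologicalKrullDim_eq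
  rw [IntMult.ptIdeal, Scheme.IdealSheafData.coe_support_vanishingIdeal]
  rfl

theorem mem_support_iff_stalk [IsLocallyNoetherian X] {F : X.Modules} (hF : Coh.IsQCoh F) (ζ : X)
    (P : PrimeSpectrum (X.presheaf.stalk ζ)) :
    P ∈ Module.support (X.presheaf.stalk ζ) (F.presheaf.stalk ζ) ↔
      Nontrivial (F.presheaf.stalk (X.fromSpecStalk ζ P)) := by
  rw [← Module.length_pos_iff (R := X.presheaf.stalk (X.fromSpecStalk ζ P)), ← locLen_stalk hF,
    Module.length_pos_iff, Module.mem_support_iff]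

theorem nontrivial_of_specializes [IsLocallyNoetherian X] {F : X.Modules} (hF : Coh.IsQCoh F) {ξ ζ : X}
    (h : ξ ⤳ ζ) (hξ : Nontrivial (F.presheaf.stalk ξ)) : Nontrivial (F.presheaf.stalk ζ) := by
  obtain ⟨P, rfl⟩ := exists_fromSpecStalk_eq h
  exact Module.nonempty_support_iff.1 ⟨P, (mem_support_iff_stalk hF ζ P).2 hξ⟩

theorem nontrivial_of_sheafFun_ne_zero {F : X.Modules} {δ : X → ℤ} {r : ℤ} {x : X}
    (h : Cyc.sheafFun δ r F x ≠ 0) : δ x = r ∧ Nontrivial (F.presheaf.stalk x) := by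
  unfold Cyc.sheafFun at h
  split_ifs at h with hd
  · refine ⟨hd, not_subsingleton_iff_nontrivial.1 fun hs => h ?_⟩
    rw [Module.length_eq_zero_iff.2 hs]
    rfl
  · exact absurd rfl h

theorem chi_of_subsingleton {A : Type u} [CommRing A] [IsRegularLocalRing A] (M N : Type u) [AddCommGroup M]
    [Module A M] [Module.Finite A M] [AddCommGroup N] [Module A N] [Subsingleton N] : IntMult.chi A M N = 0 := by
  haveI : Module.Finite A N := Module.Finite.of_finite
  have := ChiCalc.chi_add M (LinearMap.id : N →ₗ[A] N) (LinearMap.id : N →ₗ[A] N) Function.injective_id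
    Function.surjective_id (fun y => ⟨fun _ => ⟨y, rfl⟩, fun _ => Subsingleton.elim _ _⟩)
    (fun p hp => by rw [Module.support_eq_empty (M := N)] at hp; exact absurd hp.2 (Set.notMem_empty _))
  linarith

theorem finite_top_support {A : Type u} [CommRing A] [IsNoetherianRing A] [IsLocalRing A] (M : Type u) [AddCommGroup M]
    [Module A M] [Module.Finite A M] (d : ℕ) (hdim : ∀ p ∈ Module.support A M, ringKrullDim (A ⧸ p.asIdeal) ≤ d) :
    {p | p ∈ SamuelAdd.topPrimes A d ∧ p ∈ Module.support A M}.Finite := by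
  refine ((Module.annihilator A M).finite_minimalPrimes_of_isNoetherianRing.preimage
    (fun a _ b _ h => PrimeSpectrum.ext h)).subset fun p hp => ?_
  obtain ⟨hpt, hps⟩ := hp
  rw [Module.support_eq_zeroLocus, PrimeSpectrum.mem_zeroLocus] at hps
  refine ⟨⟨p.isPrime, hps⟩, fun q hq hqp => ?_⟩
  by_contra hne
  let Q : PrimeSpectrum A := ⟨q, hq.1⟩
  refine SamuelAdd.quot_dim_lt (q := Q) hqp (fun e => hne (e ▸ le_rfl)) (hdim Q ?_) hpt
  rw [Module.support_eq_zeroLocus, PrimeSpectrum.mem_zeroLocus]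
  exact hq.2

variable [IsAlgClosed K] [Smooth f] [IsSeparated f] [IsIntegral X]

/-- The coefficient of `[F]_r · [G]_s` at a point of the expected dimension. -/
theorem interProd_eq_chi {δ : X → ℤ} (hX : Cyc.IsSetup X δ) (hδ : Cyc.DeltaCompat f δ (fun _ => 0)) {n : ℤ}
    (hn : δ (genericPoint X) = n) {F G : X.Modules} (hF : Coh.IsCoh F) (hG : Coh.IsCoh G) {r s : ℤ}
    (hr : ∀ x : X, Nontrivial (F.presheaf.stalk x) → δ x ≤ r) (hs : ∀ x : X, Nontrivial (G.presheaf.stalk x) → δ x ≤ s)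
    (hrs : ∀ x : X, Nontrivial (F.presheaf.stalk x) → Nontrivial (G.presheaf.stalk x) → δ x ≤ r + s - n)
    {ζ : X} (hζ : δ ζ = r + s - n) :
    IntMult.interProd δ n (Cyc.sheafFun δ r F) (Cyc.sheafFun δ s G) ζ =
      IntMult.chi (X.presheaf.stalk ζ) (F.presheaf.stalk ζ) (G.presheaf.stalk ζ) := by
  haveI := hX.1
  haveI := isRegularLocalRing_stalk f ζ
  haveI := AssSch12.finite_stalk hF ζ
  haveI := AssSch12.finite_stalk hG ζ
  let A : Type u := X.presheaf.stalk ζ
  let pt : PrimeSpectrum A → X := fun p => X.fromSpecStalk ζ p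
  have hpt : ∀ p, pt p ⤳ ζ := fun p => fromSpecStalk_specializes ζ p
  by_cases hFG : Nontrivial (F.presheaf.stalk ζ) ∧ Nontrivial (G.presheaf.stalk ζ)
  swap
  · have hchi : IntMult.chi (X.presheaf.stalk ζ) (F.presheaf.stalk ζ) (G.presheaf.stalk ζ) = 0 := by
      rcases not_and_or.1 hFG with h | h
      · haveI := not_nontrivial_iff_subsingleton.1 h
        rw [chi_comm]
        exact chi_of_subsingleton _ _
      · haveI := not_nontrivial_iff_subsingleton.1 h
        exact chi_of_subsingleton _ _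
    rw [hchi]
    refine finsum_eq_zero_of_forall_eq_zero fun t => ?_
    by_contra hne
    have h1 := left_ne_zero_of_mul (left_ne_zero_of_mul hne)
    have h2 := right_ne_zero_of_mul (left_ne_zero_of_mul hne)
    exact hFG ⟨nontrivial_of_specializes hF.1 t.2.1 (nontrivial_of_sheafFun_ne_zero h1).2,
      nontrivial_of_specializes hG.1 t.2.2.1 (nontrivial_of_sheafFun_ne_zero h2).2⟩
  obtain ⟨hFz, hGz⟩ := hFG
  have hζr : δ ζ ≤ r := hr ζ hFz
  have hζs : δ ζ ≤ s := hs ζ hGz
  set v : ℕ := (r - δ ζ).toNat with hv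
  set w : ℕ := (s - δ ζ).toNat with hw
  have hdim : ∀ p : PrimeSpectrum A, ringKrullDim (A ⧸ p.asIdeal) = ((δ (pt p) - δ ζ).toNat : WithBot ℕ∞) :=
    fun p => dim_quotient hX.2.2 ζ p
  have hge : ∀ p : PrimeSpectrum A, δ ζ ≤ δ (pt p) := fun p => le_of_specializes hX.2.2 (hpt p)
  have htop : ∀ (p : PrimeSpectrum A) (d : ℕ), p ∈ SamuelAdd.topPrimes A d ↔ δ (pt p) = δ ζ + d := by
    intro p d
    show ringKrullDim (A ⧸ p.asIdeal) = (d : WithBot ℕ∞) ↔ _
    rw [hdim, Nat.cast_inj]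
    have := hge p
    omega
  have hle : ∀ (p : PrimeSpectrum A) (d : ℕ), δ (pt p) ≤ δ ζ + d → ringKrullDim (A ⧸ p.asIdeal) ≤ d := by
    intro p d h
    rw [hdim, Nat.cast_le]
    omega
  have hsM : ∀ p ∈ Module.support A (F.presheaf.stalk ζ), δ (pt p) ≤ δ ζ + v := fun p hp => by
    have := hr _ ((mem_support_iff_stalk hF.1 ζ p).1 hp)
    show δ (X.fromSpecStalk ζ p) ≤ _
    omega
  have hsN : ∀ q ∈ Module.support A (G.presheaf.stalk ζ), δ (pt q) ≤ δ ζ + w := fun q hq => by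
    have := hs _ ((mem_support_iff_stalk hG.1 ζ q).1 hq)
    show δ (X.fromSpecStalk ζ q) ≤ _
    omega
  have hmeet : ChiCalc.Meet (A := A) (F.presheaf.stalk ζ) (G.presheaf.stalk ζ) := by
    intro p hp
    have h := hrs _ ((mem_support_iff_stalk hF.1 ζ p).1 hp.1) ((mem_support_iff_stalk hG.1 ζ p).1 hp.2)
    have e : X.fromSpecStalk ζ p = ζ := eq_of_specializes_of_le hX.2.2 (hpt p) (by omega)
    exact fromSpecStalk_injective ζ (e.trans Scheme.fromSpecStalk_closedPoint.symm)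
  have hsd : ∀ (M : Type u) [AddCommGroup M] [Module A M] (d : ℕ),
      (∀ p ∈ Module.support A M, δ (pt p) ≤ δ ζ + d) → Module.supportDim A M ≤ d := by
    intro M _ _ d h
    refine iSup_le fun t => ?_
    have h1 := series_le hX.2.2 ζ (t.map Subtype.val fun _ _ h => h)
    have h2 := h t.head.1 t.head.2
    have h3 : (t.length : ℤ) ≤ δ (pt t.head.1) - δ ζ := h1
    exact_mod_cast (show t.length ≤ d by omega)
  have hchi : ∀ p q : PrimeSpectrum A, IntMult.mult (IntMult.ptIdeal (pt p)) (IntMult.ptIdeal (pt q)) ζ =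
      IntMult.chi A (A ⧸ p.asIdeal) (A ⧸ q.asIdeal) := by
    intro p q
    unfold IntMult.mult
    rw [stalkIdeal_ptIdeal, stalkIdeal_ptIdeal]
    exact chi_comm _ _
  have hvan : ∀ p ∈ Module.support A (F.presheaf.stalk ζ), ∀ q ∈ Module.support A (G.presheaf.stalk ζ),
      p ∉ SamuelAdd.topPrimes A v ∨ q ∉ SamuelAdd.topPrimes A w →
      IntMult.chi A (A ⧸ p.asIdeal) (A ⧸ q.asIdeal) = 0 := by
    intro p hp q hq hpq
    rw [← hchi p q]
    haveI := isIntegral_ptIdeal (pt p)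
    haveI := isIntegral_ptIdeal (pt q)
    refine mult_eq_zero f _ _ (dim_space f hX hδ) (dim_support_ptIdeal f hX hδ _) (dim_support_ptIdeal f hX hδ _)
      (mem_support_ptIdeal.2 (hpt p)) (mem_support_ptIdeal.2 (hpt q)) (fun ξ' h1 h2 hsp => ?_)
      (dim_stalk hX.2.2 ζ) ((congrArg (fun I => ringKrullDim (X.presheaf.stalk ζ ⧸ I)) (stalkIdeal_ptIdeal ζ p)).trans
        (hdim p)) ((congrArg (fun I => ringKrullDim (X.presheaf.stalk ζ ⧸ I)) (stalkIdeal_ptIdeal ζ q)).trans
        (hdim q)) ?_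
    · have hn1 := nontrivial_of_specializes hF.1 (mem_support_ptIdeal.1 h1) ((mem_support_iff_stalk hF.1 ζ p).1 hp)
      have hn2 := nontrivial_of_specializes hG.1 (mem_support_ptIdeal.1 h2) ((mem_support_iff_stalk hG.1 ζ q).1 hq)
      exact eq_of_specializes_of_le hX.2.2 hsp (by have := hrs _ hn1 hn2; omega)
    · have e1 := hsM p hp
      have e2 := hsN q hq
      have g1 := hge p
      have g2 := hge q
      rw [hn]
      rw [htop, htop] at hpq
      omega
  let a : PrimeSpectrum A → ℤ := fun p => Cyc.sheafFun δ r F (pt p)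
  let b : PrimeSpectrum A → ℤ := fun q => Cyc.sheafFun δ s G (pt q)
  let c : PrimeSpectrum A → PrimeSpectrum A → ℤ := fun p q => IntMult.chi A (A ⧸ p.asIdeal) (A ⧸ q.asIdeal)
  have ha : ∀ p, a p ≠ 0 → p ∈ SamuelAdd.topPrimes A v ∧ p ∈ Module.support A (F.presheaf.stalk ζ) := fun p h => by
    obtain ⟨h1, h2⟩ := nontrivial_of_sheafFun_ne_zero h
    exact ⟨(htop p v).2 (by omega), (mem_support_iff_stalk hF.1 ζ p).2 h2⟩
  have hb : ∀ q, b q ≠ 0 → q ∈ SamuelAdd.topPrimes A w ∧ q ∈ Module.support A (G.presheaf.stalk ζ) := fun q h => by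
    obtain ⟨h1, h2⟩ := nontrivial_of_sheafFun_ne_zero h
    exact ⟨(htop q w).2 (by omega), (mem_support_iff_stalk hG.1 ζ q).2 h2⟩
  have ha' : ∀ p ∈ SamuelAdd.topPrimes A v, ((SamuelAdd.locLen p (F.presheaf.stalk ζ)).toNat : ℤ) = a p := by
    intro p hp
    show _ = Cyc.sheafFun δ r F (pt p)
    rw [Cyc.sheafFun, if_pos (by rw [(htop p v).1 hp]; omega), locLen_stalk hF.1]
  have hb' : ∀ q ∈ SamuelAdd.topPrimes A w, ((SamuelAdd.locLen q (G.presheaf.stalk ζ)).toNat : ℤ) = b q := by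
    intro q hq
    show _ = Cyc.sheafFun δ s G (pt q)
    rw [Cyc.sheafFun, if_pos (by rw [(htop q w).1 hq]; omega), locLen_stalk hG.1]
  let SM := (finite_top_support (F.presheaf.stalk ζ) v fun p hp => hle p v (hsM p hp)).toFinset
  let SN := (finite_top_support (G.presheaf.stalk ζ) w fun q hq => hle q w (hsN q hq)).toFinset
  have haM : ∀ p, a p ≠ 0 → p ∈ SM := fun p h => (Set.Finite.mem_toFinset _).2 (ha p h)
  have hbN : ∀ q, b q ≠ 0 → q ∈ SN := fun q h => (Set.Finite.mem_toFinset _).2 (hb q h)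
  have hR : IntMult.chi A (F.presheaf.stalk ζ) (G.presheaf.stalk ζ) = ∑ pq ∈ SM ×ˢ SN, a pq.1 * b pq.2 * c pq.1 pq.2 := by
    rw [ChiCalc.chi_devissage _ _ hmeet v w (hsd _ v hsM) (hsd _ w hsN) hvan]
    have inner : ∀ q : PrimeSpectrum A, ∑ᶠ p ∈ SamuelAdd.topPrimes A v,
        ((SamuelAdd.locLen p (F.presheaf.stalk ζ)).toNat : ℤ) * IntMult.chi A (A ⧸ p.asIdeal) (A ⧸ q.asIdeal) =
        ∑ p ∈ SM, a p * c p q := by
      intro q
      rw [finsum_mem_congr rfl (g := fun p => a p * c p q) fun p hp => by rw [ha' p hp]]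
      exact finsum_mem_eq_sum_of_subset _
        (fun p hp => haM p (left_ne_zero_of_mul hp.2)) fun p hp => ((Set.Finite.mem_toFinset _).1 hp).1
    rw [finsum_mem_congr rfl (g := fun q => b q * ∑ p ∈ SM, a p * c p q) fun q hq => by rw [hb' q hq, inner q],
      finsum_mem_eq_sum_of_subset _ (fun q hq => hbN q (left_ne_zero_of_mul hq.2))
        (fun q hq => ((Set.Finite.mem_toFinset _).1 hq).1), Finset.sum_product, Finset.sum_comm]
    refine Finset.sum_congr rfl fun q _ => ?_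
    rw [Finset.mul_sum]
    exact Finset.sum_congr rfl fun p _ => by ring
  show _ = IntMult.chi A _ _
  rw [hR]
  let P := {pq : PrimeSpectrum A × PrimeSpectrum A // δ (pt pq.1) + δ (pt pq.2) - n = δ ζ}
  let e : P → {t : X × X // t.1 ⤳ ζ ∧ t.2 ⤳ ζ ∧ δ t.1 + δ t.2 - n = δ ζ} :=
    fun pq => ⟨(pt pq.1.1, pt pq.1.2), hpt _, hpt _, pq.2⟩
  have he : Function.Bijective e := by
    refine ⟨fun x y h => ?_, fun t => ?_⟩
    · obtain ⟨h1, h2⟩ := Prod.ext_iff.1 (congrArg Subtype.val h)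
      exact Subtype.ext (Prod.ext (fromSpecStalk_injective ζ h1) (fromSpecStalk_injective ζ h2))
    · obtain ⟨⟨x, y⟩, hx, hy, hxy⟩ := t
      obtain ⟨p, rfl⟩ := exists_fromSpecStalk_eq hx
      obtain ⟨q, rfl⟩ := exists_fromSpecStalk_eq hy
      exact ⟨⟨(p, q), hxy⟩, rfl⟩
  show ∑ᶠ t : {t : X × X // t.1 ⤳ ζ ∧ t.2 ⤳ ζ ∧ δ t.1 + δ t.2 - n = δ ζ}, _ = _
  rw [← finsum_eq_of_bijective e he (f := fun pq : P => a pq.1.1 * b pq.1.2 * c pq.1.1 pq.1.2)
    fun pq => congrArg (fun z => a pq.1.1 * b pq.1.2 * z) (hchi pq.1.1 pq.1.2).symm,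
    finsum_subtype_eq_finsum_cond (f := fun pq : PrimeSpectrum A × PrimeSpectrum A => a pq.1 * b pq.2 * c pq.1 pq.2)
      (fun pq => δ (pt pq.1) + δ (pt pq.2) - n = δ ζ)]
  rw [finsum_congr (g := fun pq : PrimeSpectrum A × PrimeSpectrum A => a pq.1 * b pq.2 * c pq.1 pq.2) fun pq => by
    rw [finsum_eq_if]
    split_ifs with hc
    · rfl
    · by_contra hne'
      have hne := Ne.symm hne'
      obtain ⟨h1, -⟩ := nontrivial_of_sheafFun_ne_zero (left_ne_zero_of_mul (left_ne_zero_of_mul hne))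
      obtain ⟨h2, -⟩ := nontrivial_of_sheafFun_ne_zero (right_ne_zero_of_mul (left_ne_zero_of_mul hne))
      omega]
  refine finsum_eq_sum_of_support_subset _ fun pq h => ?_
  rw [Finset.coe_product]
  exact ⟨haM _ (left_ne_zero_of_mul (left_ne_zero_of_mul h)), hbN _ (right_ne_zero_of_mul (left_ne_zero_of_mul h))⟩

end Groth.Agent.CycLib28.InterSheaf
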