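import Mathlib
import Groth.Agent.CycLib28.InterSheaf
import Groth.Agent.CycLib28.RelDim
import Groth.Agent.CycLib28.FlatDim
import Groth.Agent.DimLib.BaseChange
import Groth.Agent.EGA43.RectDepthJacobson
import Groth.Agent.EGA43.DimFormula.JacobsonDim

/-!
# Dimension functions of smooth varieties and their products
-/

set_option autoImplicit false
set_option backward.isDefEq.respectTransparency false
set_option linter.style.haveILetI false

universe u

open CategoryTheory CategoryTheory.Limits AlgebraicGeometry Groth.Agent.CycLim28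

namespace Groth.Agent.CycLib28.OverField

variable {K : Type u} [Field K] {X Y : Scheme.{u}}

theorem ptDim_id (z : ↥(Spec (CommRingCat.of K))) : DimLib.ptDim (𝟙 (Spec (CommRingCat.of K))) z = 0 :=
  (DimLib.ptDim_eq_zero_iff _ z).2 (by
    have : Subsingleton ↥(Spec (CommRingCat.of K)) := inferInstanceAs (Subsingleton (PrimeSpectrum K))
    rw [Set.eq_univ_of_forall (s := ({z} : Set ↥(Spec (CommRingCat.of K)))) (fun w => Subsingleton.elim _ _)]
    exact isClosed_univ)

theorem delta_eq_ptDim (f : X ⟶ Spec (CommRingCat.of K)) [LocallyOfFiniteType f] {δ : X → ℤ}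
    (hδ : Cyc.DeltaCompat f δ (fun _ => 0)) (x : X) : δ x = (DimLib.ptDim f x : ℤ) := by
  have h := DeltaCompat.eq f hδ x
  rw [zero_add] at h
  have e := DimLib.ptDim_comp (𝟙 (Spec (CommRingCat.of K))) f x
  rw [ptDim_id, zero_add, Category.comp_id] at e
  rw [h, e]

theorem isSetup_of_smooth (f : X ⟶ Spec (CommRingCat.of K)) [Smooth f] {δ : X → ℤ}
    (hδ : Cyc.DeltaCompat f δ (fun _ => 0)) : Cyc.IsSetup X δ := by
  refine ⟨LocallyOfFiniteType.isLocallyNoetherian f,
    Groth.Agent.EGA43.RectDepth.isUniversallyCatenary_stalk (fun x => isRegularLocalRing_stalk f x),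
    isDimFun_of_deltaCompat f (Groth.Agent.EGA43.RectDepth.isUniversallyCatenary_stalk
      (fun s => Groth.Agent.VarietyLib.isRegularLocalRing_stalk_of_smooth K _ (𝟙 _) s))
      (fun a b _ hne => absurd (Subsingleton.elim (α := PrimeSpectrum K) a b) hne) hδ⟩

variable (f : X ⟶ Spec (CommRingCat.of K)) (g : Y ⟶ Spec (CommRingCat.of K))

theorem delta_product_le [LocallyOfFiniteType f] [LocallyOfFiniteType g] {δX : X → ℤ} {δY : Y → ℤ}
    {δ : ↥(pullback f g) → ℤ} (hX : Cyc.DeltaCompat f δX (fun _ => 0)) (hY : Cyc.DeltaCompat g δY (fun _ => 0))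
    (hXY : Cyc.DeltaCompat (pullback.fst f g ≫ f) δ (fun _ => 0)) (z : ↥(pullback f g)) :
    δ z ≤ δX (pullback.fst f g z) + δY (pullback.snd f g z) := by
  rw [delta_eq_ptDim f hX, delta_eq_ptDim g hY, delta_eq_ptDim _ hXY]
  exact_mod_cast DimLib.ptDim_product_le f g z

theorem delta_nonneg [LocallyOfFiniteType f] {δX : X → ℤ} (hX : Cyc.DeltaCompat f δX (fun _ => 0)) (x : X) :
    0 ≤ δX x := by
  rw [delta_eq_ptDim f hX]
  positivity

variable [IsAlgClosed K] [Smooth f] [IsSeparated f] [IsIntegral X] [Smooth g] [IsSeparated g] [IsIntegral Y]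

omit [IsSeparated f] [IsSeparated g] in
theorem isIntegral_product : IsIntegral (pullback f g) := by
  haveI : IsLocallyNoetherian X := LocallyOfFiniteType.isLocallyNoetherian f
  haveI : GeometricallyIntegral g := AbVarLib.geometricallyIntegral_of_isAlgClosed g
  infer_instance

theorem smooth_product : Smooth (pullback.fst f g ≫ f) := inferInstance

theorem delta_genericPoint_product [IsIntegral (pullback f g)] {δX : X → ℤ} {δY : Y → ℤ} {δ : ↥(pullback f g) → ℤ}
    (hX : Cyc.DeltaCompat f δX (fun _ => 0)) (hY : Cyc.DeltaCompat g δY (fun _ => 0))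
    (hXY : Cyc.DeltaCompat (pullback.fst f g ≫ f) δ (fun _ => 0)) :
    δ (genericPoint ↥(pullback f g)) = δX (genericPoint X) + δY (genericPoint Y) := by
  haveI := smooth_product f g
  have h := InterSheaf.dim_space (pullback.fst f g ≫ f) (isSetup_of_smooth _ hXY) hXY
  rw [topologicalKrullDim_product f g (InterSheaf.dim_space f (isSetup_of_smooth f hX) hX)
    (InterSheaf.dim_space g (isSetup_of_smooth g hY) hY)] at h
  have h' : (δX (genericPoint X)).toNat + (δY (genericPoint Y)).toNat = (δ (genericPoint ↥(pullback f g))).toNat := by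
    exact_mod_cast h
  have := delta_nonneg f hX (genericPoint X)
  have := delta_nonneg g hY (genericPoint Y)
  have := delta_nonneg (pullback.fst f g ≫ f) hXY (genericPoint ↥(pullback f g))
  omega

/-- The projection has relative dimension `dim Y`. -/
theorem delta_fst {δX : X → ℤ} {δY : Y → ℤ} {δ : ↥(pullback f g) → ℤ}
    (hX : Cyc.DeltaCompat f δX (fun _ => 0)) (hY : Cyc.DeltaCompat g δY (fun _ => 0))
    (hXY : Cyc.DeltaCompat (pullback.fst f g ≫ f) δ (fun _ => 0)) (z : ↥(pullback f g))
    (hz : GenInFibre (pullback.fst f g) z) : δ z = δX (pullback.fst f g z) + δY (genericPoint Y) := by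
  haveI := isIntegral_product f g
  haveI := smooth_product f g
  have sX := isSetup_of_smooth f hX
  have sY := isSetup_of_smooth g hY
  have sP := isSetup_of_smooth _ hXY
  haveI := sX.1
  haveI := sP.1
  have h1 := delta_genericPoint_product f g hX hY hXY
  have h2 := height_closedPoint_eq (pullback.fst f g) z hz
  rw [dim_stalk sP.2.2, dim_stalk sX.2.2] at h2
  have h2' : (δ (genericPoint ↥(pullback f g)) - δ z).toNat = (δX (genericPoint X) - δX (pullback.fst f g z)).toNat := by
    exact_mod_cast h2
  have h3 := le_of_specializes sP.2.2 (genericPoint_specializes z)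
  have h4 := le_of_specializes sX.2.2 (genericPoint_specializes (pullback.fst f g z))
  omega

theorem delta_snd {δX : X → ℤ} {δY : Y → ℤ} {δ : ↥(pullback f g) → ℤ}
    (hX : Cyc.DeltaCompat f δX (fun _ => 0)) (hY : Cyc.DeltaCompat g δY (fun _ => 0))
    (hXY : Cyc.DeltaCompat (pullback.fst f g ≫ f) δ (fun _ => 0)) (z : ↥(pullback f g))
    (hz : GenInFibre (pullback.snd f g) z) : δ z = δY (pullback.snd f g z) + δX (genericPoint X) := by
  haveI := isIntegral_product f g
  haveI := smooth_product f g
  have sX := isSetup_of_smooth f hX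
  have sY := isSetup_of_smooth g hY
  have sP := isSetup_of_smooth _ hXY
  haveI := sY.1
  haveI := sP.1
  have h1 := delta_genericPoint_product f g hX hY hXY
  have h2 := height_closedPoint_eq (pullback.snd f g) z hz
  rw [dim_stalk sP.2.2, dim_stalk sY.2.2] at h2
  have h2' : (δ (genericPoint ↥(pullback f g)) - δ z).toNat = (δY (genericPoint Y) - δY (pullback.snd f g z)).toNat := by
    exact_mod_cast h2
  have h3 := le_of_specializes sP.2.2 (genericPoint_specializes z)
  have h4 := le_of_specializes sY.2.2 (genericPoint_specializes (pullback.snd f g z))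
  omega

end Groth.Agent.CycLib28.OverField
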