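import Mathlib
import Groth.Agent.CycLib28.TorBase

/-!
# Tor and the Euler characteristic under a flat local homomorphism
-/

set_option autoImplicit false
set_option backward.isDefEq.respectTransparency false
set_option linter.style.haveILetI false

universe u

open CategoryTheory CategoryTheory.Limits IsLocalRing TensorProduct

namespace Groth.Agent.CycLib28

variable {A B : Type u} [CommRing A] [CommRing B] [Algebra A B] [Module.Flat A B]

theorem distrib_natural {M K F : Type u} [AddCommGroup M] [Module A M] [AddCommGroup K] [Module A K] [AddCommGroup F]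
    [Module A F] (g : K →ₗ[A] F) (x : B ⊗[A] (M ⊗[A] K)) :
    (AlgebraTensorModule.lTensor B B g).lTensor (B ⊗[A] M) (AlgebraTensorModule.distribBaseChange A B M K x) =
      AlgebraTensorModule.distribBaseChange A B M F (AlgebraTensorModule.lTensor B B (g.lTensor M) x) := by
  induction x using TensorProduct.induction_on with
  | zero => simp
  | add a b ha hb => simp [map_add, ha, hb]
  | tmul b y =>
    induction y using TensorProduct.induction_on with
    | zero => simp
    | add p q hp hq => simp [TensorProduct.tmul_add, map_add, hp, hq]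
    | tmul m k => simp

variable [IsNoetherianRing A] [IsLocalRing A] [IsLocalRing B] [IsLocalHom (algebraMap A B)]

theorem length_tor_flat (M : Type u) [AddCommGroup M] [Module A M] :
    ∀ (i : ℕ) (N : Type u) [AddCommGroup N] [Module A N] [Module.Finite A N],
    Module.length B (DRing.Tor B i (ModuleCat.of B (B ⊗[A] M)) (ModuleCat.of B (B ⊗[A] N))) =
      Module.length A (DRing.Tor A i (ModuleCat.of A M) (ModuleCat.of A N)) *
        Module.length B (B ⧸ (maximalIdeal A).map (algebraMap A B)) := by
  have zero : ∀ (N : Type u) [AddCommGroup N] [Module A N],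
      Module.length B (DRing.Tor B 0 (ModuleCat.of B (B ⊗[A] M)) (ModuleCat.of B (B ⊗[A] N))) =
      Module.length A (DRing.Tor A 0 (ModuleCat.of A M) (ModuleCat.of A N)) *
        Module.length B (B ⧸ (maximalIdeal A).map (algebraMap A B)) := by
    intro N _ _
    obtain ⟨eB⟩ := HTor16.torZero (ModuleCat.of B (B ⊗[A] M)) (ModuleCat.of B (B ⊗[A] N))
    obtain ⟨eA⟩ := HTor16.torZero (ModuleCat.of A M) (ModuleCat.of A N)
    rw [eA.length_eq, ← IsLocalRing.length_baseChange A B (M ⊗[A] N), eB.length_eq]
    exact (AlgebraTensorModule.distribBaseChange A B M N).symm.length_eq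
  intro i
  induction i with
  | zero => exact fun N _ _ _ => zero N
  | succ i ih =>
    intro N _ _ _
    obtain ⟨n, f, hf⟩ := Module.Finite.exists_fin' A N
    have hS := LinearMap.shortExact_shortComplexKer hf
    have hSB := LocCoh.shortExact_of (f := AlgebraTensorModule.lTensor B B (LinearMap.ker f).subtype)
      (g := AlgebraTensorModule.lTensor B B f)
      (Module.Flat.lTensor_preserves_injective_linearMap _ Subtype.val_injective) (LinearMap.lTensor_surjective B hf)
      (lTensor_exact B (LinearMap.exact_subtype_ker_map f) hf)
    have hproj : ∀ q, IsZero (((HTor16.tens (ModuleCat.of B (B ⊗[A] M))).leftDerived (q + 1)).obj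
        (ModuleCat.of B (B ⊗[A] (Fin n → A)))) := fun q => by
      haveI : Projective (ModuleCat.of B (B ⊗[A] (Fin n → A))) := (IsProjective.iff_projective _).1 inferInstance
      exact Functor.isZero_leftDerived_obj_projective_succ _ q _
    rcases i with - | i
    · obtain ⟨eA⟩ := HTor16.torOne (ModuleCat.of A M) hS
      obtain ⟨eB⟩ := torOne_of_acyclic (ModuleCat.of B (B ⊗[A] M)) hSB (hproj 0)
      let φ := AlgebraTensorModule.distribBaseChange A B M (LinearMap.ker f)
      let h := AlgebraTensorModule.lTensor B B ((LinearMap.ker f).subtype.lTensor M)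
      let eK : LinearMap.ker h ≃ₗ[B] LinearMap.ker ((AlgebraTensorModule.lTensor B B (LinearMap.ker f).subtype).lTensor
          (B ⊗[A] M)) :=
        { toFun := fun x => ⟨φ x.1, by rw [LinearMap.mem_ker, distrib_natural, LinearMap.mem_ker.1 x.2, map_zero]⟩
          invFun := fun y => ⟨φ.symm y.1, (AlgebraTensorModule.distribBaseChange A B M (Fin n → A)).injective (by
            rw [← distrib_natural, LinearEquiv.apply_symm_apply, map_zero]
            exact y.2)⟩
          left_inv := fun x => Subtype.ext (φ.symm_apply_apply _)
          right_inv := fun x => Subtype.ext (φ.apply_symm_apply _)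
          map_add' := fun x y => Subtype.ext (map_add φ _ _)
          map_smul' := fun c x => Subtype.ext (map_smul φ c _) }
      exact (eB.trans (eK.symm.trans (LinearMap.tensorKerEquiv B B ((LinearMap.ker f).subtype.lTensor M)).symm)).length_eq.trans
        ((IsLocalRing.length_baseChange A B _).trans (congrArg (· * _) eA.length_eq.symm))
    · obtain ⟨eA⟩ := HTor16.torShift (ModuleCat.of A M) hS i
      obtain ⟨eB⟩ := torShift_of_acyclic (ModuleCat.of B (B ⊗[A] M)) hSB hproj i
      exact eB.length_eq.trans ((ih (LinearMap.ker f)).trans (congrArg (· * _) eA.length_eq.symm))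

theorem chi_flat (M N : Type u) [AddCommGroup M] [Module A M] [AddCommGroup N] [Module A N] [Module.Finite A N] :
    IntMult.chi B (B ⊗[A] M) (B ⊗[A] N) = IntMult.chi A M N *
      ((Module.length B (B ⧸ (maximalIdeal A).map (algebraMap A B))).toNat : ℤ) := by
  rw [IntMult.chi, IntMult.chi, finsum_mul]
  refine finsum_congr fun i => ?_
  rw [length_tor_flat (A := A) (B := B) M i N, ENat.toNat_mul, Nat.cast_mul, mul_assoc]

end Groth.Agent.CycLib28
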