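import Mathlib
import Groth.Agent.CycLib28.InterSheaf
import Groth.Agent.CycLib28.TorFlatLen
import Groth.Agent.CycLib28.Sheaf
import Groth.Agent.CycLib28.RelDim
import Groth.Agent.Coherent.SupportPullback
import Groth.Agent.EGA43.InjFibre.Scheme

/-!
# Flat pullback of the intersection product of two coherent sheaves
-/

set_option autoImplicit false
set_option backward.isDefEq.respectTransparency false
set_option linter.style.haveILetI false

universe u

open CategoryTheory CategoryTheory.Limits AlgebraicGeometry IsLocalRing TensorProduct Groth.Agent.CycLim28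
open Groth.Agent.ModStalk

namespace Groth.Agent.CycLib28.InterSheaf

variable {X Y : Scheme.{u}}

theorem isCoh_pullback (f : X ⟶ Y) {F : Y.Modules} (hF : Coh.IsCoh F) :
    Coh.IsCoh ((Scheme.Modules.pullback f).obj F) :=
  ⟨haveI := hF.1; EGA43.InjFibre.isQCoh_pullback f F, Groth.Agent.Coherent.isFT_pullback_qcoh f hF.1 hF.2⟩

theorem chi_pullback (f : X ⟶ Y) [Flat f] [IsLocallyNoetherian Y] (F G : Y.Modules) (hG : Coh.IsCoh G) (x : X) :
    IntMult.chi (X.presheaf.stalk x) (((Scheme.Modules.pullback f).obj F).presheaf.stalk x)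
      (((Scheme.Modules.pullback f).obj G).presheaf.stalk x) =
    IntMult.chi (Y.presheaf.stalk (f x)) (F.presheaf.stalk (f x)) (G.presheaf.stalk (f x)) *
      ((lenFibre f x).toNat : ℤ) := by
  haveI := AssSch12.finite_stalk hG (f x)
  algebraize [(f.stalkMap x).hom]
  haveI : Module.Flat (Y.presheaf.stalk (f x)) (X.presheaf.stalk x) := Flat.stalkMap f x
  haveI : IsLocalHom (algebraMap (Y.presheaf.stalk (f x)) (X.presheaf.stalk x)) :=
    inferInstanceAs (IsLocalHom (f.stalkMap x).hom)
  have e : ∀ M : Y.Modules, ((DerSch.stalkFunctor X x).obj ((Scheme.Modules.pullback f).obj M)) ≅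
      (ModuleCat.extendScalars (f.stalkMap x).hom).obj ((DerSch.stalkFunctor Y (f x)).obj M) :=
    fun M => (pullbackStalkIso f x).app M
  exact (chi_congr_both (e F).toLinearEquiv (e G).toLinearEquiv).trans
    (chi_flat (A := Y.presheaf.stalk (f x)) (B := X.presheaf.stalk x) (F.presheaf.stalk (f x)) (G.presheaf.stalk (f x)))

theorem nontrivial_of_pullback (f : X ⟶ Y) [Flat f] (F : Y.Modules) (x : X)
    (h : Nontrivial (((Scheme.Modules.pullback f).obj F).presheaf.stalk x)) : Nontrivial (F.presheaf.stalk (f x)) := by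
  by_contra hn
  rw [not_nontrivial_iff_subsingleton] at hn
  have hl := length_stalk_pullback f F x
  rw [Module.length_eq_zero_iff.mpr hn, zero_mul, Module.length_eq_zero_iff] at hl
  exact false_of_nontrivial_of_subsingleton (((Scheme.Modules.pullback f).obj F).presheaf.stalk x)

theorem delta_le_of_fibre (f : X ⟶ Y) {δX : X → ℤ} {δY : Y → ℤ} (hX : Cyc.IsDimFun X δX) (c : ℤ)
    (hc : ∀ x, GenInFibre f x → δX x = δY (f x) + c) (x : X) : δX x ≤ δY (f x) + c := by
  obtain ⟨g, hgx, hfg, hg⟩ := exists_genInFibre f x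
  have h1 := hc g hg
  rw [hfg] at h1
  have := le_of_specializes hX hgx
  omega

end Groth.Agent.CycLib28.InterSheaf
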