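import Mathlib
import Groth.Prelude.Def_P1
import Groth.Agent.P1Lib24.Basic
import Groth.Agent.CAlgH.CIImmersion

/-!
# The coordinate functions on the two charts of the projective line over a base
-/

universe u

open CategoryTheory CategoryTheory.Limits AlgebraicGeometry TopologicalSpace TensorProduct HomogeneousLocalization

namespace Groth.Agent.CycLib28

/-- The coordinate `T_{1-i}/T_i` on the chart `T_i ≠ 0`. -/
noncomputable def coordAway (i : Fin (1 + 1)) : Away P1.grading.{u} (P1.T i) :=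
  Away.mk P1.grading (P1.X_mem i) 1 (P1.T i.rev) (by simpa using P1.X_mem i.rev)

theorem val_coordAway (i : Fin (1 + 1)) :
    (coordAway.{u} i).val * algebraMap _ (Localization.Away (P1.T.{u} i)) (P1.T i) =
      algebraMap _ (Localization.Away (P1.T.{u} i)) (P1.T i.rev) := by
  rw [coordAway, Away.val_mk, Localization.mk_eq_mk', mul_comm]
  simp only [pow_one]
  exact IsLocalization.mk'_spec' (Localization.Away (P1.T.{u} i)) (P1.T i.rev)
    (⟨P1.T i, 1, pow_one _⟩ : Submonoid.powers (P1.T.{u} i))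

theorem evalAway_coordAway (i : Fin (1 + 1)) : P1.evalAway.{u} i (coordAway i) = 0 := by
  have hrev : i.rev ≠ i := by revert i; decide
  have h := congrArg (IsLocalization.Away.lift (S := Localization.Away (P1.T.{u} i)) (P1.T i)
      (g := (MvPolynomial.aeval (Pi.single i (1 : P1.R0.{u}) : Fin (1 + 1) → P1.R0)).toRingHom)
      (by simp)) (val_coordAway i)
  simp only [map_mul, IsLocalization.Away.lift_eq, AlgHom.toRingHom_eq_coe, RingHom.coe_coe,
    MvPolynomial.aeval_X, Pi.single_eq_same, Pi.single_eq_of_ne hrev, mul_one] at h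
  exact h

theorem r0_hom_ext {B : Type*} [CommRing B] (f g : P1.R0.{u} →+* B) : f = g :=
  RingHom.ext fun r ↦ RingHom.congr_fun
    (RingHom.ext_int (f.comp (ULift.ringEquiv (R := ℤ)).symm.toRingHom)
      (g.comp (ULift.ringEquiv (R := ℤ)).symm.toRingHom)) (ULift.ringEquiv r)

theorem chartEquiv_coordAway (i : Fin (1 + 1)) :
    P1Lib24.chartEquiv P1.R0.{u} i (coordAway i) = MvPolynomial.X PUnit.unit := by
  have hrev : i.rev ≠ i := by revert i; decide
  have h := congrArg (ProjLib.evalOne (f := P1.T.{u} i)) (val_coordAway i)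
  simp only [map_mul, ProjLib.evalOne, IsLocalization.Away.lift_eq] at h
  rw [show Ideal.Quotient.mk (Ideal.span {P1.T.{u} i - 1}) (P1.T i) = 1 from
    (Ideal.Quotient.eq.mpr (Ideal.mem_span_singleton_self _)).trans (map_one _), mul_one] at h
  show P1Lib24.dehomAlgEquiv P1.R0 i (ProjLib.evalOne (algebraMap _ _ (coordAway i))) = _
  rw [HomogeneousLocalization.algebraMap_apply]
  refine (congrArg (P1Lib24.dehomAlgEquiv P1.R0.{u} i) h).trans ?_
  simp [P1Lib24.dehomAlgEquiv, hrev]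

theorem sub_mem_span_coordAway (i : Fin (1 + 1)) (a : Away P1.grading.{u} (P1.T i)) :
    a - ProjLib.toAway 1 P1.R0 (P1.T i) (P1.evalAway i a) ∈ Ideal.span {coordAway i} := by
  let φ := P1Lib24.chartEquiv P1.R0.{u} i
  obtain ⟨g, hg⟩ : (MvPolynomial.X PUnit.unit : MvPolynomial PUnit.{u + 1} P1.R0.{u}) ∣
      φ a - MvPolynomial.C (MvPolynomial.constantCoeff (φ a)) := by
    generalize φ a = p
    induction p using MvPolynomial.induction_on with
    | C r => simp
    | add p q hp hq =>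
      rw [map_add, map_add, add_sub_add_comm]
      exact dvd_add hp hq
    | mul_X p j =>
      rw [map_mul, MvPolynomial.constantCoeff_X, mul_zero, map_zero, sub_zero, show j = PUnit.unit from rfl]
      exact dvd_mul_left _ _
  have he : a = ProjLib.toAway 1 P1.R0 (P1.T i) (MvPolynomial.constantCoeff (φ a)) + coordAway i * φ.symm g := by
    apply φ.injective
    rw [map_add, map_mul, φ.apply_symm_apply, P1Lib24.chartEquiv_toAway, chartEquiv_coordAway, ← hg]
    ring
  have h := congrArg (P1.evalAway i) he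
  rw [map_add, map_mul, evalAway_coordAway, zero_mul, add_zero,
    show P1.evalAway i (ProjLib.toAway 1 P1.R0 (P1.T i) (MvPolynomial.constantCoeff (φ a))) =
      MvPolynomial.constantCoeff (φ a) from RingHom.congr_fun
        (r0_hom_ext ((P1.evalAway i).comp (ProjLib.toAway 1 P1.R0 (P1.T i))) (RingHom.id _)) _] at h
  rw [h]
  refine (congrArg (fun z ↦ z ∈ Ideal.span {coordAway i}) (sub_eq_iff_eq_add'.mpr he)).mpr ?_
  exact Ideal.mul_mem_right _ _ (Ideal.mem_span_singleton_self _)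

theorem ker_lift_eq_span {R0 A R : Type u} [CommRing R0] [CommRing A] [CommRing R] [Algebra R0 A] [Algebra R0 R]
    (ev : A →ₐ[R0] R0) (e : A) (he : ev e = 0) (hker : ∀ a, a - algebraMap R0 A (ev a) ∈ Ideal.span {e}) :
    RingHom.ker (Algebra.TensorProduct.lift ((Algebra.ofId R0 R).comp ev) (AlgHom.id R0 R)
        (fun _ _ ↦ Commute.all _ _)).toRingHom = Ideal.span {e ⊗ₜ[R0] (1 : R)} := by
  set ε := Algebra.TensorProduct.lift ((Algebra.ofId R0 R).comp ev) (AlgHom.id R0 R) (fun _ _ ↦ Commute.all _ _)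
  refine le_antisymm (fun x hx ↦ ?_) ((Ideal.span_singleton_le_iff_mem _).mpr (by
    simp [ε, RingHom.mem_ker, he]))
  have key : ∀ x, x - (1 : A) ⊗ₜ[R0] ε x ∈ Ideal.span {e ⊗ₜ[R0] (1 : R)} := fun x ↦ by
    induction x with
    | zero => simp
    | tmul a r =>
      obtain ⟨c, hc⟩ := Ideal.mem_span_singleton'.mp (hker a)
      refine Ideal.mem_span_singleton'.mpr ⟨c ⊗ₜ r, ?_⟩
      rw [Algebra.TensorProduct.tmul_mul_tmul, mul_one, hc, sub_tmul]
      congr 1
      simp only [ε, Algebra.TensorProduct.lift_tmul, AlgHom.comp_apply, AlgHom.id_apply, Algebra.ofId_apply]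
      rw [Algebra.algebraMap_eq_smul_one, TensorProduct.smul_tmul, Algebra.smul_def]
    | add x y hx hy =>
      rw [map_add, tmul_add, add_sub_add_comm]
      exact add_mem hx hy
  have := key x
  rwa [show ε x = 0 from hx, tmul_zero, sub_zero] at this

section KerGerm

variable {A W P : Scheme.{u}}

/-- The stalk map of `m` at `v` has kernel generated by the germ of `a`. -/
def IsKerGerm (m : A ⟶ P) (v : A) (U : P.Opens) (a : Γ(P, U)) : Prop :=
  ∃ hm : m v ∈ U, RingHom.ker (m.stalkMap v).hom = Ideal.span {(P.presheaf.germ U (m v) hm).hom a}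

theorem IsKerGerm.congr {m m' : A ⟶ P} (e : m = m') {v : A} {U : P.Opens} {a : Γ(P, U)} :
    IsKerGerm m v U a ↔ IsKerGerm m' v U a := by
  subst e; rfl

theorem isKerGerm_comp_left {B : Scheme.{u}} (f : B ⟶ A) [IsOpenImmersion f] (m : A ⟶ P) (v : B) (U : P.Opens)
    (a : Γ(P, U)) : IsKerGerm (f ≫ m) v U a ↔ IsKerGerm m (f v) U a := by
  have hinj : Function.Injective (f.stalkMap v).hom := (ConcreteCategory.bijective_of_isIso (f.stalkMap v)).1
  have e : RingHom.ker ((f ≫ m).stalkMap v).hom = RingHom.ker (m.stalkMap (f v)).hom := by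
    rw [Scheme.Hom.stalkMap_comp]
    exact RingHom.ker_comp_of_injective _ hinj
  constructor
  · rintro ⟨hm, h⟩; exact ⟨hm, e.symm.trans h⟩
  · rintro ⟨hm, h⟩; exact ⟨hm, e.trans h⟩

theorem isKerGerm_comp_right (h : A ⟶ W) (j : W ⟶ P) [IsOpenImmersion j] (v : A) (U : P.Opens)
    (a : Γ(P, U)) (hk : IsKerGerm h v (j ⁻¹ᵁ U) (j.app U a)) : IsKerGerm (h ≫ j) v U a := by
  obtain ⟨hm, hk⟩ := hk
  refine ⟨hm, ?_⟩
  have hbij := ConcreteCategory.bijective_of_isIso (j.stalkMap (h v))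
  have e : (j.stalkMap (h v)).hom ((P.presheaf.germ U (j (h v)) hm).hom a) =
      (W.presheaf.germ (j ⁻¹ᵁ U) (h v) hm).hom (j.app U a) := Scheme.Hom.germ_stalkMap_apply j U (h v) hm a
  have e2 : RingHom.ker ((h ≫ j).stalkMap v).hom = (RingHom.ker (h.stalkMap v).hom).comap (j.stalkMap (h v)).hom := by
    rw [Scheme.Hom.stalkMap_comp]; rfl
  rw [e2, hk, ← e]
  conv_lhs => rw [← Set.image_singleton, ← Ideal.map_span]
  exact Ideal.comap_map_of_bijective _ hbij

end KerGerm

/-- The coordinate as a section over the chart of `P¹_ℤ`. -/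
noncomputable def coordZ (i : Fin (1 + 1)) :
    Γ(CohB1.ProjSpace 1 P1.R0.{u}, Proj.basicOpen P1.grading (P1.T i)) :=
  (Proj.awayToSection P1.grading (P1.T i)).hom (coordAway i)

theorem awayι_appLE_coordZ (i : Fin (1 + 1))
    (e : ⊤ ≤ Proj.awayι P1.grading.{u} (P1.T i) (P1.X_mem i) one_pos ⁻¹ᵁ Proj.basicOpen P1.grading (P1.T i)) :
    (Proj.awayι P1.grading.{u} (P1.T i) (P1.X_mem i) one_pos).appLE _ ⊤ e (coordZ i) =
      (Scheme.ΓSpecIso _).inv (coordAway i) := by
  let σ := Proj.basicOpenIsoSpec P1.grading.{u} (P1.T i) (P1.X_mem i) one_pos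
  refine (ConcreteCategory.bijective_of_isIso (σ.hom.app ⊤)).1 ?_
  have h1 : σ.hom ≫ Proj.awayι P1.grading.{u} (P1.T i) (P1.X_mem i) one_pos = (Proj.basicOpen P1.grading (P1.T i)).ι :=
    σ.hom_inv_id_assoc _
  have h2 : σ.hom.appLE ⊤ ⊤ le_top ((Proj.awayι P1.grading.{u} (P1.T i) (P1.X_mem i) one_pos).appLE _ ⊤ e (coordZ i)) =
      (Proj.basicOpen P1.grading (P1.T i)).ι.appLE _ ⊤ (by simp) (coordZ i) := by
    rw [← CommRingCat.comp_apply, Scheme.Hom.appLE_comp_appLE]
    simp only [h1]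
  rw [show σ.hom.appLE ⊤ ⊤ le_top = σ.hom.app ⊤ from Scheme.Hom.appLE_eq_app _] at h2
  refine h2.trans ?_
  rw [show σ.hom.app ⊤ = (Scheme.ΓSpecIso _).hom ≫ Proj.awayToSection P1.grading (P1.T i) ≫
      (Proj.basicOpen P1.grading (P1.T i)).topIso.inv from by
    rw [Proj.basicOpenIsoSpec_hom]; exact Proj.basicOpenToSpec_app_top _ _]
  simp only [Scheme.Opens.ι_appLE, coordZ, CommRingCat.hom_comp, RingHom.comp_apply]
  refine Eq.trans ?_ (congrArg (fun z ↦ (Proj.basicOpen P1.grading (P1.T i)).topIso.inv.hom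
      ((Proj.awayToSection P1.grading (P1.T i)).hom z))
    ((Scheme.ΓSpecIso (CommRingCat.of (Away P1.grading.{u} (P1.T i)))).inv_hom_id_apply (coordAway i))).symm
  rfl

theorem coord_mul_awayMap :
    awayMap P1.grading.{u} (P1.X_mem 1) (rfl : P1.T 0 * P1.T 1 = _) (coordAway 0) *
      awayMap P1.grading.{u} (P1.X_mem 0) (mul_comm (P1.T 0) (P1.T 1)) (coordAway 1) = 1 := by
  apply HomogeneousLocalization.val_injective
  rw [HomogeneousLocalization.val_mul, HomogeneousLocalization.val_one, coordAway, coordAway, Away.mk, Away.mk,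
    val_awayMap_mk, val_awayMap_mk, Localization.mk_mul, ← Localization.mk_one, Localization.mk_eq_mk_iff,
    Localization.r_iff_exists]
  refine ⟨1, ?_⟩
  simp [show Fin.rev (0 : Fin (1 + 1)) = 1 from rfl, show Fin.rev (1 : Fin (1 + 1)) = 0 from rfl]
  ring

theorem coordZ_mul (q : CohB1.ProjSpace 1 P1.R0.{u}) (h0 : q ∈ Proj.basicOpen P1.grading (P1.T 0))
    (h1 : q ∈ Proj.basicOpen P1.grading (P1.T 1)) :
    ((CohB1.ProjSpace 1 P1.R0).presheaf.germ _ q h0).hom (coordZ 0) *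
      ((CohB1.ProjSpace 1 P1.R0).presheaf.germ _ q h1).hom (coordZ 1) = 1 := by
  have hq : q ∈ Proj.basicOpen P1.grading (P1.T.{u} 0 * P1.T 1) := by
    rw [Proj.basicOpen_mul]; exact ⟨h0, h1⟩
  have key : ∀ (i j : Fin (1 + 1)) (hx : P1.T.{u} 0 * P1.T 1 = P1.T i * P1.T j)
      (hqi : q ∈ Proj.basicOpen P1.grading (P1.T i)),
      ((CohB1.ProjSpace 1 P1.R0).presheaf.germ _ q hqi).hom (coordZ i) =
        ((CohB1.ProjSpace 1 P1.R0).presheaf.germ _ q hq).hom
          ((Proj.awayToSection P1.grading (P1.T 0 * P1.T 1)).hom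
            (awayMap P1.grading (P1.X_mem j) hx (coordAway i))) := fun i j hx hqi ↦ by
    have h := congrArg (fun m ↦ m.hom (coordAway i))
      (Proj.awayMap_awayToSection P1.grading.{u} (f := P1.T i) (P1.X_mem j) hx)
    exact ((congrArg _ h).trans (TopCat.Presheaf.germ_res_apply _ _ _ hq _)).symm
  rw [key 0 1 rfl h0, key 1 0 (mul_comm _ _) h1, ← map_mul]
  refine (congrArg _ ?_).trans (map_one _)
  exact (map_mul _ _ _).symm.trans ((congrArg _ coord_mul_awayMap).trans (map_one _))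

variable (X : Scheme.{u})

/-- The chart `T_i ≠ 0` of `P¹_X`. -/
noncomputable def p1Open (i : Fin (1 + 1)) : (CohB1.ProjSpaceOver 1 X).Opens :=
  pullback.fst (CohB1.ProjSpace.toSpec 1 P1.R0.{u}) (specULiftZIsTerminal.from X) ⁻¹ᵁ
    Proj.basicOpen P1.grading (P1.T i)

/-- The coordinate on the chart `T_i ≠ 0` of `P¹_X`. -/
noncomputable def p1Coord (i : Fin (1 + 1)) : Γ(CohB1.ProjSpaceOver 1 X, p1Open X i) :=
  (pullback.fst (CohB1.ProjSpace.toSpec 1 P1.R0.{u}) (specULiftZIsTerminal.from X)).app _ (coordZ i)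

theorem exists_mem_p1Open (q : CohB1.ProjSpaceOver 1 X) : ∃ i, q ∈ p1Open X i := by
  obtain ⟨i, hi⟩ := Opens.mem_iSup.mp ((ProjLib.iSup_basicOpen_X 1 P1.R0.{u}).ge
    (Opens.mem_top (pullback.fst (CohB1.ProjSpace.toSpec 1 P1.R0.{u}) (specULiftZIsTerminal.from X) q)))
  exact ⟨i, hi⟩

theorem p1Coord_mul (q : CohB1.ProjSpaceOver 1 X) (h0 : q ∈ p1Open X 0) (h1 : q ∈ p1Open X 1) :
    ((CohB1.ProjSpaceOver 1 X).presheaf.germ _ q h0).hom (p1Coord X 0) *
      ((CohB1.ProjSpaceOver 1 X).presheaf.germ _ q h1).hom (p1Coord X 1) = 1 := by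
  let π := pullback.fst (CohB1.ProjSpace.toSpec 1 P1.R0.{u}) (specULiftZIsTerminal.from X)
  have h := congrArg (π.stalkMap q).hom (coordZ_mul (π q) h0 h1)
  rw [map_mul, map_one] at h
  refine Eq.trans ?_ h
  exact congrArg₂ (· * ·) (Scheme.Hom.germ_stalkMap_apply π _ q h0 _).symm
    (Scheme.Hom.germ_stalkMap_apply π _ q h1 _).symm

set_option backward.isDefEq.respectTransparency.types false in
theorem chart_affine (i : Fin (1 + 1)) {V : X.Opens} (hV : IsAffineOpen V) :
    (∀ v : Spec Γ(X, V), IsKerGerm (P1.sect X i) (hV.fromSpec v) (p1Open X i) (p1Coord X i)) ∧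
      ∀ (q : CohB1.ProjSpaceOver 1 X) (hq : q ∈ p1Open X i), CohB1.ProjSpaceOver.toBase 1 X q ∈ V →
        ¬ IsUnit (((CohB1.ProjSpaceOver 1 X).presheaf.germ (p1Open X i) q hq).hom (p1Coord X i)) →
        q ∈ Set.range (P1.sect X i) := by
  letI : Algebra P1.R0.{u} (Away P1.grading.{u} (P1.T i)) :=
    Algebra.ofModule
      (fun r a b ↦ show (r.down • a) * b = r.down • (a * b) from HomogeneousLocalization.val_injective _ (by
        simp only [HomogeneousLocalization.val_mul, HomogeneousLocalization.val_smul, smul_mul_assoc]))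
      (fun r a b ↦ show a * (r.down • b) = r.down • (a * b) from HomogeneousLocalization.val_injective _ (by
        simp only [HomogeneousLocalization.val_mul, HomogeneousLocalization.val_smul, mul_smul_comm]))
  letI : Algebra P1.R0.{u} Γ(X, V) :=
    Algebra.ofModule (fun r a b ↦ smul_mul_assoc r.down a b) (fun r a b ↦ mul_smul_comm r.down a b)
  let ev : Away P1.grading.{u} (P1.T i) →ₐ[P1.R0.{u}] P1.R0.{u} :=
    { P1.evalAway i with commutes' := fun r ↦
        RingHom.congr_fun (r0_hom_ext ((P1.evalAway i).comp (algebraMap P1.R0.{u} (Away P1.grading.{u} (P1.T i)))) (algebraMap _ _)) r }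
  let ε := Algebra.TensorProduct.lift ((Algebra.ofId P1.R0.{u} Γ(X, V)).comp ev) (AlgHom.id P1.R0.{u} Γ(X, V))
    (fun _ _ ↦ Commute.all _ _)
  have hεsur : Function.Surjective ε := fun r ↦ ⟨1 ⊗ₜ r, by simp [ε]⟩
  haveI : IsClosedImmersion (Spec.map (CommRingCat.ofHom ε.toRingHom)) :=
    IsClosedImmersion.spec_of_surjective _ hεsur
  let j : Spec (.of (Away P1.grading.{u} (P1.T i) ⊗[P1.R0.{u}] Γ(X, V))) ⟶ CohB1.ProjSpaceOver 1 X :=
    (pullbackSpecIso P1.R0.{u} (Away P1.grading.{u} (P1.T i)) Γ(X, V)).inv ≫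
      pullback.map _ _ _ _ (Proj.awayι P1.grading (P1.T i) (P1.X_mem i) one_pos) hV.fromSpec (𝟙 _)
        (specULiftZIsTerminal.hom_ext _ _) (specULiftZIsTerminal.hom_ext _ _)
  have hopen : IsOpenImmersion (Proj.awayι P1.grading.{u} (P1.T i) (P1.X_mem i) one_pos) := by
    unfold Proj.awayι; infer_instance
  haveI : IsOpenImmersion j := @IsOpenImmersion.comp _ _ _ _ _ inferInstance
    (@Scheme.pullback_map_isOpenImmersion _ _ _ _ _ _ _ _ _ _ _ _ _ _ _ hopen hV.isOpenImmersion_fromSpec inferInstance)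
  let π := pullback.fst (CohB1.ProjSpace.toSpec 1 P1.R0.{u}) (specULiftZIsTerminal.from X)
  have hjfst : j ≫ π = Spec.map (CommRingCat.ofHom Algebra.TensorProduct.includeLeftRingHom) ≫
      Proj.awayι P1.grading (P1.T i) (P1.X_mem i) one_pos := by
    refine (Category.assoc _ _ _).trans ((congrArg (_ ≫ ·) (pullback.lift_fst _ _ _)).trans ?_)
    exact pullbackSpecIso_inv_fst_assoc _ _ _ _
  have hto : hV.fromSpec ≫ specULiftZIsTerminal.from X =
      Spec.map (CommRingCat.ofHom (algebraMap P1.R0.{u} Γ(X, V))) := specULiftZIsTerminal.hom_ext _ _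
  have hcomm : Spec.map (CommRingCat.ofHom ε.toRingHom) ≫ j = hV.fromSpec ≫ P1.sect X i := by
    refine pullback.hom_ext ?_ ?_
    · refine (Category.assoc _ _ _).trans ((congrArg (_ ≫ ·) hjfst).trans ?_)
      refine Eq.trans ?_ ((Category.assoc _ _ _).trans (congrArg (hV.fromSpec ≫ ·) (pullback.lift_fst _ _ _))).symm
      rw [P1.point, reassoc_of% hto, ← Spec.map_comp_assoc]
      refine (Spec.map_comp_assoc _ _ _).symm.trans ?_
      refine congrArg (fun m ↦ Spec.map m ≫ Proj.awayι P1.grading.{u} (P1.T i) (P1.X_mem i) one_pos) ?_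
      ext a
      refine (Algebra.TensorProduct.lift_tmul _ _ (fun _ _ ↦ Commute.all _ _) a 1).trans ?_
      exact mul_one _
    · refine (Category.assoc _ _ _).trans ?_
      refine Eq.trans ?_ ((Category.assoc _ _ _).trans (congrArg (hV.fromSpec ≫ ·) (pullback.lift_snd _ _ _))).symm
      refine (congrArg (_ ≫ ·) ((Category.assoc _ _ _).trans ((congrArg (_ ≫ ·) (pullback.lift_snd _ _ _)).trans
        (pullbackSpecIso_inv_snd_assoc _ _ _ _)))).trans ?_
      rw [← Category.assoc, ← Spec.map_comp, Category.comp_id]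
      refine (congrArg (fun m ↦ Spec.map m ≫ hV.fromSpec) (?_ : _ = 𝟙 _)).trans (by rw [Spec.map_id]; exact Category.id_comp _)
      ext r
      refine (Algebra.TensorProduct.lift_tmul _ _ (fun _ _ ↦ Commute.all _ _) 1 r).trans ?_
      simp
      rfl
  have hle : ⊤ ≤ Proj.awayι P1.grading.{u} (P1.T i) (P1.X_mem i) one_pos ⁻¹ᵁ Proj.basicOpen P1.grading (P1.T i) :=
    fun w _ ↦ (Proj.opensRange_awayι P1.grading.{u} (P1.T i) (P1.X_mem i) one_pos).le ⟨w, rfl⟩
  have hje : ⊤ ≤ j ⁻¹ᵁ p1Open X i := fun w _ ↦ by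
    change π (j w) ∈ Proj.basicOpen P1.grading (P1.T i)
    rw [show π (j w) = _ from congrArg (fun f : Spec _ ⟶ CohB1.ProjSpace 1 P1.R0.{u} ↦ f w) hjfst]
    exact hle trivial
  have hfun : j.appLE (p1Open X i) ⊤ hje (p1Coord X i) =
      (Scheme.ΓSpecIso _).inv (coordAway i ⊗ₜ[P1.R0.{u}] (1 : Γ(X, V))) := by
    have h1 : j.appLE (p1Open X i) ⊤ hje (p1Coord X i) = (j ≫ π).appLE (Proj.basicOpen P1.grading (P1.T i)) ⊤ hje (coordZ i) := by
      exact (congrArg (fun m : Γ(CohB1.ProjSpace 1 P1.R0.{u}, Proj.basicOpen P1.grading (P1.T i)) ⟶ _ ↦ m.hom (coordZ i))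
        (Scheme.Hom.comp_appLE j π (Proj.basicOpen P1.grading (P1.T i)) ⊤ hje)).symm
    rw [h1]
    simp only [hjfst]
    refine (congrArg (fun m ↦ m.hom (coordZ i))
      (Scheme.Hom.appLE_comp_appLE (Spec.map (CommRingCat.ofHom (Algebra.TensorProduct.includeLeftRingHom (R := P1.R0.{u})
          (A := Away P1.grading.{u} (P1.T i)) (B := Γ(X, V)))))
        (Proj.awayι P1.grading.{u} (P1.T i) (P1.X_mem i) one_pos) (Proj.basicOpen P1.grading (P1.T i)) ⊤ ⊤ hle
        le_top)).symm.trans ?_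
    refine (congrArg (fun z ↦ ((Spec.map (CommRingCat.ofHom (Algebra.TensorProduct.includeLeftRingHom (R := P1.R0.{u})
      (A := Away P1.grading.{u} (P1.T i)) (B := Γ(X, V))))).appLE ⊤ ⊤
      le_top).hom z) (awayι_appLE_coordZ i hle)).trans ?_
    rw [Scheme.Hom.appLE]
    refine Eq.trans ?_ (congrArg (fun m ↦ m.hom (coordAway i))
      (Scheme.ΓSpecIso_inv_naturality (CommRingCat.ofHom (R := Away P1.grading.{u} (P1.T i))
        (Algebra.TensorProduct.includeLeftRingHom (R := P1.R0.{u}) (B := Γ(X, V)))))).symm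
    rfl
  refine ⟨fun v ↦ ?_, fun q hq hqV hnu ↦ ?_⟩
  swap
  · obtain ⟨w, rfl⟩ : q ∈ Set.range j := by
      have hmap : Set.range j = pullback.fst (CohB1.ProjSpace.toSpec 1 P1.R0.{u}) (specULiftZIsTerminal.from X) ⁻¹' Set.range (Proj.awayι P1.grading.{u} (P1.T i) (P1.X_mem i) one_pos) ∩
          pullback.snd (CohB1.ProjSpace.toSpec 1 P1.R0.{u}) (specULiftZIsTerminal.from X) ⁻¹' Set.range hV.fromSpec := by
        refine Eq.trans ?_ (Scheme.Pullback.range_map
          (f := Spec.map (CommRingCat.ofHom (algebraMap P1.R0.{u} (Away P1.grading.{u} (P1.T i)))))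
          (g := Spec.map (CommRingCat.ofHom (algebraMap P1.R0.{u} Γ(X, V))))
          (CohB1.ProjSpace.toSpec 1 P1.R0.{u}) (specULiftZIsTerminal.from X) _ _ (𝟙 _)
          (specULiftZIsTerminal.hom_ext _ _) (specULiftZIsTerminal.hom_ext _ _))
        exact (pullbackSpecIso _ _ _).inv.surjective.range_comp _
      rw [hmap]
      exact ⟨(Proj.opensRange_awayι P1.grading.{u} (P1.T i) (P1.X_mem i) one_pos).ge hq,
        hV.range_fromSpec.ge hqV⟩
    have hew : coordAway i ⊗ₜ[P1.R0.{u}] (1 : Γ(X, V)) ∈ w.asIdeal := by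
      by_contra hne
      refine hnu ((isUnit_map_iff (j.stalkMap w).hom _).mp ?_)
      have hu : IsUnit (((Spec (CommRingCat.of (Away P1.grading.{u} (P1.T i) ⊗[P1.R0.{u}] Γ(X, V)))).presheaf.germ ⊤ w
          trivial).hom ((Scheme.ΓSpecIso _).inv.hom (coordAway i ⊗ₜ[P1.R0.{u}] (1 : Γ(X, V))))) := by
        refine (Scheme.mem_basicOpen (U := ⊤) _ _ w trivial).mp ?_
        rw [basicOpen_eq_of_affine]
        exact hne
      convert hu using 1
      refine (Scheme.Hom.germ_stalkMap_apply j _ w hq _).trans ?_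
      refine ((TopCat.Presheaf.germ_res_apply _ (homOfLE hje) _ trivial _).symm.trans ?_)
      exact congrArg _ hfun
    obtain ⟨v, rfl⟩ : w ∈ Set.range (Spec.map (CommRingCat.ofHom ε.toRingHom)) := by
      change w ∈ Set.range (PrimeSpectrum.comap ε.toRingHom)
      rw [range_comap_of_surjective _ _ hεsur]
      refine (PrimeSpectrum.mem_zeroLocus w _).mpr ?_
      rw [show RingHom.ker ε.toRingHom = Ideal.span {coordAway i ⊗ₜ[P1.R0.{u}] (1 : Γ(X, V))} from
        ker_lift_eq_span ev (coordAway i) (evalAway_coordAway i) (fun a ↦ by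
          rw [r0_hom_ext (algebraMap P1.R0.{u} (Away P1.grading.{u} (P1.T i))) (ProjLib.toAway 1 P1.R0 (P1.T i))]
          exact sub_mem_span_coordAway i a)]
      exact (Ideal.span_singleton_le_iff_mem _).mpr hew
    exact ⟨hV.fromSpec v, (congrArg (fun f : Spec Γ(X, V) ⟶ _ ↦ f v) hcomm).symm⟩
  rw [← isKerGerm_comp_left, ← IsKerGerm.congr hcomm]
  refine isKerGerm_comp_right _ _ _ _ _ ⟨hje trivial, ?_⟩
  rw [CAlgH.CIImmersion.ker_stalkMap_eq (Spec.map (CommRingCat.ofHom ε.toRingHom)) v (isAffineOpen_top _) trivial]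
  have hk : RingHom.ker ((Spec.map (CommRingCat.ofHom ε.toRingHom)).app ⊤).hom =
      Ideal.span {(Scheme.ΓSpecIso _).inv.hom (coordAway i ⊗ₜ[P1.R0.{u}] (1 : Γ(X, V)))} := by
    have e : (Spec.map (CommRingCat.ofHom ε.toRingHom)).app ⊤ =
        (Scheme.ΓSpecIso _).hom ≫ CommRingCat.ofHom ε.toRingHom ≫ (Scheme.ΓSpecIso _).inv := by
      rw [← Scheme.ΓSpecIso_naturality_assoc, Iso.hom_inv_id, Category.comp_id]
    rw [e]
    change RingHom.ker ((Scheme.ΓSpecIso Γ(X, V)).inv.hom.comp (ε.toRingHom.comp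
      (Scheme.ΓSpecIso (CommRingCat.of (Away P1.grading.{u} (P1.T i) ⊗[P1.R0.{u}] Γ(X, V)))).hom.hom)) = _
    rw [RingHom.ker_comp_of_injective _ (ConcreteCategory.bijective_of_isIso (Scheme.ΓSpecIso Γ(X, V)).inv).1,
      ← RingHom.comap_ker,
      ker_lift_eq_span ev (coordAway i) (evalAway_coordAway i) (fun a ↦ by
        rw [r0_hom_ext (algebraMap P1.R0.{u} (Away P1.grading.{u} (P1.T i))) (ProjLib.toAway 1 P1.R0 (P1.T i))]
        exact sub_mem_span_coordAway i a)]
    conv_rhs => rw [← Set.image_singleton, ← Ideal.map_span]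
    exact (Ideal.map_symm (Scheme.ΓSpecIso
      (CommRingCat.of (Away P1.grading.{u} (P1.T i) ⊗[P1.R0.{u}] Γ(X, V)))).commRingCatIsoToRingEquiv).symm
  rw [hk, Ideal.map_span, Set.image_singleton, ← hfun]
  congr 2
  exact TopCat.Presheaf.germ_res_apply _ (homOfLE hje) _ trivial _

theorem sect_mem_p1Open (i : Fin (1 + 1)) (x : X) :
    P1.sect X i x ∈ p1Open X i ∧ IsKerGerm (P1.sect X i) x (p1Open X i) (p1Coord X i) := by
  obtain ⟨_, ⟨V, hV, rfl⟩, hxV, -⟩ :=
    X.isBasis_affineOpens.exists_subset_of_mem_open (Set.mem_univ x) isOpen_univ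
  replace hV : IsAffineOpen V := hV
  obtain ⟨v, rfl⟩ : x ∈ Set.range hV.fromSpec := by rw [hV.range_fromSpec]; exact hxV
  exact ⟨((chart_affine X i hV).1 v).choose, (chart_affine X i hV).1 v⟩

theorem mem_range_sect (i : Fin (1 + 1)) (q : CohB1.ProjSpaceOver 1 X) (hq : q ∈ p1Open X i)
    (hu : ¬ IsUnit (((CohB1.ProjSpaceOver 1 X).presheaf.germ (p1Open X i) q hq).hom (p1Coord X i))) :
    q ∈ Set.range (P1.sect X i) := by
  obtain ⟨_, ⟨V, hV, rfl⟩, hxV, -⟩ :=
    X.isBasis_affineOpens.exists_subset_of_mem_open (Set.mem_univ (CohB1.ProjSpaceOver.toBase 1 X q)) isOpen_univ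
  exact (chart_affine X i hV).2 q hq hxV hu

end Groth.Agent.CycLib28
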