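import Mathlib
import Groth.Agent.CycLib28.GysinSheaf

/-!
# The length of a quotient of a stalk by a section, as a sum of orders
-/

universe u

open CategoryTheory AlgebraicGeometry IsLocalRing Groth.Agent.CycLim28
open scoped Pointwise

namespace Groth.Agent.CycLib28

variable {X : Scheme.{u}}

open Classical in
theorem length_quot_toNat_eq_sum {δ : X → ℤ} [IsLocallyNoetherian X] (hδ : Cyc.IsDimFun X δ) (k : ℤ)
    {F : X.Modules} (hF : Coh.IsCoh F) (hdim : ∀ z : X, Nontrivial (F.presheaf.stalk z) → δ z ≤ k + 1)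
    (x : X) (hx : δ x = k) (f : X.presheaf.stalk x)
    (hinj : Function.Injective (fun m : F.presheaf.stalk x => f • m))
    (hnot : ∀ P ∈ Module.support (X.presheaf.stalk x) (F.presheaf.stalk x),
      P ≠ closedPoint (X.presheaf.stalk x) → f ∉ P.asIdeal) :
    ((Module.length (X.presheaf.stalk x)
        (F.presheaf.stalk x ⧸ f • (⊤ : Submodule (X.presheaf.stalk x) (F.presheaf.stalk x)))).toNat : ℤ) =
      ∑ᶠ ξ, Cyc.sheafFun δ (k + 1) F ξ *
        (if h : ξ ⤳ x ∧ δ x + 1 = δ ξ then Cyc.ordAt x ξ h.1 (Cyc.specMap x ξ h.1 f) else 0) := by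
  classical
  revert f
  set R := X.presheaf.stalk x
  set M := F.presheaf.stalk x
  intro f hinj hnot
  haveI : Module.Finite R M := AssSch12.finite_stalk hF x
  have hne : ∀ P : PrimeSpectrum R, P ≠ closedPoint R → X.fromSpecStalk x P ≠ x := fun P hP e ↦
    hP (fromSpecStalk_injective x (e.trans Scheme.fromSpecStalk_closedPoint.symm))
  have hδP : ∀ P ∈ Module.support R M, P ≠ closedPoint R → δ (X.fromSpecStalk x P) = k + 1 := by
    intro P hP hP'
    have h1 := (hδ _ _ (fromSpecStalk_specializes x P) (hne P hP')).1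
    have h2 := hdim _ ((localizedModule_stalk hF.1 x P).2.mp hP)
    omega
  have hmax : ∀ P ∈ Module.support R M, ∀ Q ∈ Module.support R M, Q < P → P = closedPoint R := by
    intro P hP Q hQ hlt
    by_contra hne'
    have h1 := drop_lt hδ x hlt
    have h2 := hδP P hP hne'
    have h3 := hdim _ ((localizedModule_stalk hF.1 x Q).2.mp hQ)
    simp only [drop] at h1
    omega
  have hSfin : {P : PrimeSpectrum R | P ∈ Module.support R M ∧ P ≠ closedPoint R}.Finite := by
    refine ((Ideal.finite_minimalPrimes_of_isNoetherianRing R (Module.annihilator R M)).preimage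
      (fun P _ Q _ e ↦ PrimeSpectrum.ext e)).subset fun P ⟨hP, hP'⟩ ↦ ?_
    have hann := Module.mem_support_iff_of_finite.mp hP
    obtain ⟨q, hq, hqP⟩ := Ideal.exists_minimalPrimes_le hann
    rcases eq_or_lt_of_le hqP with e | hlt
    · refine Set.mem_preimage.mpr ?_; rw [← e]; exact hq
    · exact absurd (hmax P hP ⟨q, hq.1.1⟩ (Module.mem_support_iff_of_finite.mpr hq.1.2) hlt) hP'
  have hsd1 : Module.supportDim R M ≤ 1 := by
    refine iSup_le fun σ ↦ ?_
    have h1 := series_le hδ x (σ.map Subtype.val (Subtype.strictMono_coe _))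
    have h2 := hdim _ ((localizedModule_stalk hF.1 x σ.head.1).2.mp σ.head.2)
    simp only [drop, LTSeries.head_map, LTSeries.map_length] at h1
    exact_mod_cast (show σ.length ≤ 1 by omega)
  have hQann : ∀ q : PrimeSpectrum R, Module.annihilator R (M ⧸ f • (⊤ : Submodule R M)) ≤ q.asIdeal →
      q = closedPoint R := by
    intro q hq
    by_contra hne'
    have hf' : f ∈ Module.annihilator R (M ⧸ f • (⊤ : Submodule R M)) := by
      refine Module.mem_annihilator.mpr ?_
      rintro ⟨m⟩
      exact (Submodule.Quotient.mk_eq_zero _).mpr ⟨m, trivial, rfl⟩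
    have hM : Module.annihilator R M ≤ Module.annihilator R (M ⧸ f • (⊤ : Submodule R M)) :=
      LinearMap.annihilator_le_of_surjective _ (Submodule.mkQ_surjective _)
    exact hnot q (Module.mem_support_iff_of_finite.mpr (hM.trans hq)) hne' (hq hf')
  have hsd0 : Module.supportDim R (M ⧸ f • (⊤ : Submodule R M)) ≤ 0 := by
    have : Subsingleton ↥(Module.support R (M ⧸ f • (⊤ : Submodule R M))) :=
      ⟨fun a b ↦ Subtype.ext ((hQann _ (Module.mem_support_iff_of_finite.mp a.2)).trans
        (hQann _ (Module.mem_support_iff_of_finite.mp b.2)).symm)⟩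
    exact Order.krullDim_nonpos_of_subsingleton
  have hmain := Groth.Agent.S1833.result R M f hsd1 hsd0
  have hne_top := length_ne_top_of_annihilator hQann
  rw [LinearMap.ker_eq_bot.mpr (show Function.Injective (LinearMap.lsmul R M f) from
      hinj), Module.length_bot, zero_add] at hmain
  let G : Finset (PrimeSpectrum R) := hSfin.toFinset
  have hsum : (∑ᶠ (p : PrimeSpectrum R) (_ : p ∈ Module.support R M ∧ p.asIdeal ≠ maximalIdeal R),
      Ring.ord (R ⧸ p.asIdeal) (Ideal.Quotient.mk p.asIdeal f) *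
        Module.length (Localization.AtPrime p.asIdeal) (LocalizedModule p.asIdeal.primeCompl M)) =
      ∑ p ∈ G, Ring.ord (R ⧸ p.asIdeal) (Ideal.Quotient.mk p.asIdeal f) *
        Module.length (Localization.AtPrime p.asIdeal) (LocalizedModule p.asIdeal.primeCompl M) := by
    refine finsum_cond_eq_sum_of_cond_iff _ fun {p} _ ↦ ?_
    simp only [G, Set.Finite.mem_toFinset, Set.mem_setOf_eq]
    exact and_congr_right fun _ ↦ ⟨fun h e ↦ h (e ▸ rfl), fun h e ↦ h (PrimeSpectrum.ext e)⟩
  rw [hsum] at hmain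
  rw [hmain] at hne_top ⊢
  rw [toNat_finsum G _ hne_top, Nat.cast_sum]
  have hvan : ∀ P : PrimeSpectrum R, P ∉ G → Cyc.sheafFun δ (k + 1) F (X.fromSpecStalk x P) = 0 := by
    intro P hP
    simp only [G, Set.Finite.mem_toFinset, Set.mem_setOf_eq, not_and_or, not_not] at hP
    simp only [Cyc.sheafFun]
    split_ifs with hh
    · rcases hP with hP | hP
      · haveI : Subsingleton (F.presheaf.stalk (X.fromSpecStalk x P)) :=
          not_nontrivial_iff_subsingleton.mp fun hn ↦ hP ((localizedModule_stalk hF.1 x P).2.mpr hn)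
        rw [Module.length_eq_zero_iff.mpr inferInstance]; rfl
      · subst hP
        rw [Scheme.fromSpecStalk_closedPoint] at hh
        omega
    · rfl
  rw [finsum_over_primes x (fun ξ ↦ Cyc.sheafFun δ (k + 1) F ξ *
      (if h : ξ ⤳ x ∧ δ x + 1 = δ ξ then Cyc.ordAt x ξ h.1 (Cyc.specMap x ξ h.1 f) else 0)) (fun ξ hξ ↦ by
      by_contra hns
      exact hξ (by rw [dif_neg (fun h ↦ hns h.1), mul_zero])),
    finsum_eq_sum_of_support_subset _ (s := G) (fun P hP ↦ by
      by_contra hPG
      exact hP (by change _ * _ = (0 : ℤ); rw [hvan P hPG, zero_mul]))]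
  refine Finset.sum_congr rfl fun P hP ↦ ?_
  obtain ⟨hPs, hP'⟩ : P ∈ Module.support R M ∧ P ≠ closedPoint R := by simpa [G] using hP
  have hd : δ x + 1 = δ (X.fromSpecStalk x P) := by rw [hδP P hPs hP', hx]
  have hsp : Cyc.specMap x (X.fromSpecStalk x P) (fromSpecStalk_specializes x P) f ≠ 0 := fun h0 ↦
    hnot P hPs hP' (by rw [← ker_specMap P (fromSpecStalk_specializes x P)]; exact h0)
  rw [Cyc.sheafFun, if_pos (hδP P hPs hP'), dif_pos ⟨fromSpecStalk_specializes x P, hd⟩,
    ordAt_formula hδ (fromSpecStalk_specializes x P) hd f hsp, ker_specMap,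
    ← (localizedModule_stalk hF.1 x P).1, ← Nat.cast_mul, ← ENat.toNat_mul, mul_comm]
  congr 3
  rw [Ring.ord, ← bot_sup_eq (Ideal.span {Ideal.Quotient.mk P.asIdeal f}),
    ord_eq_of_surjective (Ideal.Quotient.mk P.asIdeal) Ideal.Quotient.mk_surjective ⊥ _ f rfl,
    ← RingHom.ker_eq_comap_bot, Ideal.mk_ker]

end Groth.Agent.CycLib28
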