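import Mathlib
import Groth.Agent.CycLib28.P1Chart
import Groth.Agent.CycLib28.SheafQuot
import Groth.Agent.CycLib28.PushAny
import Groth.Agent.CycLib28.MayerVietoris
import Groth.Agent.CycLib28.Components
import Groth.Agent.CycLib28.RelDim
import Groth.Agent.RelVALib.PnImm

/-!
# The specialisations at zero and infinity of a coherent module on the projective line
-/

universe u

open CategoryTheory CategoryTheory.Limits AlgebraicGeometry IsLocalRing TopologicalSpace Groth.Agent.CycLim28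
open scoped Pointwise

namespace Groth.Agent.CycLib28

theorem exists_open_finite_top_points {P : Scheme.{u}} [IsLocallyNoetherian P] {δ : P → ℤ}
    (hδ : Cyc.IsDimFun P δ) {F : P.Modules} (hF : Coh.IsCoh F) (k : ℤ)
    (hdim : ∀ z : P, Nontrivial (F.presheaf.stalk z) → δ z ≤ k) (x : P) :
    ∃ U : Set P, IsOpen U ∧ x ∈ U ∧
      {ξ : {ξ : P // δ ξ = k ∧ Nontrivial (F.presheaf.stalk ξ)} | (closure {ξ.1} ∩ U).Nonempty}.Finite := by
  obtain ⟨_, ⟨V, hV, rfl⟩, hxV, -⟩ :=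
    P.isBasis_affineOpens.exists_subset_of_mem_open (Set.mem_univ x) isOpen_univ
  replace hV : IsAffineOpen V := hV
  have : IsNoetherianRing Γ(P, V) := IsLocallyNoetherian.component_noetherian ⟨V, hV⟩
  have hns : NoetherianSpace (V : Set P) := noetherianSpace_of_isAffineOpen V hV
  have hqs : QuasiSober (V : Set P) := (V.2.isOpenEmbedding_subtypeVal (X := P)).quasiSober
  refine ⟨V, V.2, hxV, ?_⟩
  have hfin := (finite_maximal_of_isClosed (Subtype.val ⁻¹' {z : P | Nontrivial (F.presheaf.stalk z)} : Set (V : Set P))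
    ((isClosed_nontrivial hF).preimage continuous_subtype_val)).image Subtype.val
  refine (hfin.preimage Subtype.val_injective.injOn).subset fun ξ hξ ↦ ?_
  obtain ⟨z, hz, hzV⟩ := hξ
  have hξV : ξ.1 ∈ V := (specializes_iff_mem_closure.mpr hz).mem_open V.2 hzV
  refine ⟨⟨ξ.1, hξV⟩, ⟨ξ.2.2, fun w hw hwξ ↦ Subtype.ext ?_⟩, rfl⟩
  by_contra hne
  have h1 := (hδ w.1 ξ.1 (hwξ.map continuous_subtype_val) hne).1
  have h2 := hdim w.1 hw
  have h3 := ξ.2.1
  omega

theorem nontrivial_pullback_closed {X D : Scheme.{u}} [IsLocallyNoetherian X] (i : D ⟶ X) [IsClosedImmersion i]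
    {F : X.Modules} (hF : Coh.IsCoh F) (d : D) (h : Nontrivial (F.presheaf.stalk (i d))) :
    Nontrivial (((Scheme.Modules.pullback i).obj F).presheaf.stalk d) := by
  by_contra hn
  rw [not_nontrivial_iff_subsingleton] at hn
  have hlen := length_stalk_pullback_closed i F d
  haveI := AssSch12.finite_stalk hF (i d)
  rw [Module.length_eq_zero_iff.mpr hn] at hlen
  have hsub := Submodule.Quotient.subsingleton_iff.mp (Module.length_eq_zero_iff.mp hlen.symm)
  exact Submodule.top_ne_ideal_smul_of_le_jacobson_annihilator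
    ((IsLocalRing.le_maximalIdeal (RingHom.ker_ne_top (i.stalkMap d).hom)).trans
      (IsLocalRing.maximalIdeal_le_jacobson _)) hsub.symm

open Classical in
theorem divFun_evaluation {P : Scheme.{u}} {δ : P → ℤ} {ξ q : P} {U : P.Opens} (hq : q ∈ U) (hξ : ξ ∈ U)
    (a : Γ(P, U)) : Cyc.divFun δ ξ (P.evaluation U ξ hξ a) q =
      if h : ξ ⤳ q ∧ δ q + 1 = δ ξ then Cyc.ordAt q ξ h.1 (Cyc.specMap q ξ h.1 (P.presheaf.germ U q hq a)) else 0 := by
  simp only [Cyc.divFun]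
  split_ifs with h
  · rw [specMap_germ]
  · rfl

variable {X : Scheme.{u}}

theorem delta_sect {δ : X → ℤ} {δP : ↥(CohB1.ProjSpaceOver 1 X) → ℤ}
    (hP : Cyc.DeltaCompat (CohB1.ProjSpaceOver.toBase 1 X) δP δ) (i : Fin (1 + 1)) [IsPreimmersion (P1.sect X i)]
    (x : X) : δP (P1.sect X i x) = δ x := by
  obtain ⟨n, hn, hδn⟩ := hP (P1.sect X i x)
  have he : CohB1.ProjSpaceOver.toBase 1 X (P1.sect X i x) = x :=
    congrArg (fun f : X ⟶ X ↦ f x) (P1Lib24.sect_toBase X i)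
  have h1 := trdeg_comp_preimmersion_left (P1.sect X i) (CohB1.ProjSpaceOver.toBase 1 X) x
  have h2 := trdeg_res_congr (P1Lib24.sect_toBase X i) x
  obtain ⟨m, hm, hδm⟩ := deltaCompat_preimmersion (𝟙 X) δ x
  have hm0 : m = 0 := by simp at hδm; omega
  rw [hn, h2, hm, hm0] at h1
  have hn0 : n = 0 := by exact_mod_cast h1.symm
  rw [hδn, he, hn0]
  simp

instance isProper_p1_toBase (X : Scheme.{u}) : IsProper (CohB1.ProjSpaceOver.toBase 1 X) :=
  RelVALib.isProper_toBase 1 X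

theorem mem_p1Open_one (ξ : ↥(CohB1.ProjSpaceOver 1 X)) (h : ξ ∉ p1Open X 0) : ξ ∈ p1Open X 1 := by
  obtain ⟨i, hi⟩ := exists_mem_p1Open X ξ
  fin_cases i
  · exact absurd hi h
  · exact hi

open Classical in
/-- The rational function `T₁/T₀` at a point of `P¹_X`, with a junk value at infinity. -/
noncomputable def p1Ratio (ξ : ↥(CohB1.ProjSpaceOver 1 X)) : (CohB1.ProjSpaceOver 1 X).residueField ξ :=
  if h : ξ ∈ p1Open X 0 then (CohB1.ProjSpaceOver 1 X).evaluation _ ξ h (p1Coord X 0)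
  else ((CohB1.ProjSpaceOver 1 X).evaluation _ ξ (mem_p1Open_one ξ h) (p1Coord X 1))⁻¹

theorem p1_sect_exists_div (δ : X → ℤ) (hX : Cyc.IsSetup X δ) (δP : ↥(CohB1.ProjSpaceOver 1 X) → ℤ)
    (hP : Cyc.DeltaCompat (CohB1.ProjSpaceOver.toBase 1 X) δP δ) (k : ℤ)
    (F : (CohB1.ProjSpaceOver 1 X).Modules) (hF : Coh.IsCoh F)
    (hsupp : ∀ p : ↥(CohB1.ProjSpaceOver 1 X), Nontrivial (F.presheaf.stalk p) → δP p ≤ k + 1)
    (h01 : ∀ (i : Fin (1 + 1)) (x : X),
      Nontrivial (((Scheme.Modules.pullback (P1.sect X i)).obj F).presheaf.stalk x) → δ x ≤ k)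
    (hemb : ∀ p : ↥(CohB1.ProjSpaceOver 1 X),
      IsAssociatedPrime (maximalIdeal ((CohB1.ProjSpaceOver 1 X).presheaf.stalk p)) (F.presheaf.stalk p) →
        p ∉ Set.range ⇑(P1.sect X 0) ∪ Set.range ⇑(P1.sect X 1) ∨ δP p < k)
    (c : Fin (1 + 1) → AlgebraicCycle X ℤ)
    (hc : ∀ i, ⇑(c i) = Cyc.sheafFun δ k ((Scheme.Modules.pullback (P1.sect X i)).obj F)) :
    ∃ D : AlgebraicCycle (CohB1.ProjSpaceOver 1 X) ℤ,
      Cyc.RatEquivZero δP k D ∧
      (∀ q, D q = ∑ᶠ ξ : {ξ : ↥(CohB1.ProjSpaceOver 1 X) // δP ξ = k + 1 ∧ Nontrivial (F.presheaf.stalk ξ)},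
        Cyc.divFun δP ξ.1 (p1Ratio ξ.1 ^ (Module.length ((CohB1.ProjSpaceOver 1 X).presheaf.stalk ξ.1)
          (F.presheaf.stalk ξ.1)).toNat) q) ∧
      AlgebraicCycle.map (CohB1.ProjSpaceOver.toBase 1 X) δP δ D = c 0 - c 1 := by
  classical
  haveI := hX.1
  haveI : IsProper (CohB1.ProjSpaceOver.toBase 1 X) := RelVALib.isProper_toBase 1 X
  haveI : IsLocallyNoetherian (CohB1.ProjSpaceOver 1 X) :=
    LocallyOfFiniteType.isLocallyNoetherian (CohB1.ProjSpaceOver.toBase 1 X)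
  haveI hcl : ∀ i, IsClosedImmersion (P1.sect X i) := fun i ↦ by
    have : IsClosedImmersion (P1.sect X i ≫ CohB1.ProjSpaceOver.toBase 1 X) := by
      rw [P1Lib24.sect_toBase]; infer_instance
    exact IsClosedImmersion.of_comp _ (CohB1.ProjSpaceOver.toBase 1 X)
  have hδP := isDimFun_of_deltaCompat (CohB1.ProjSpaceOver.toBase 1 X) hX.2.1 hX.2.2 hP
  have hδs : ∀ i x, δP (P1.sect X i x) = δ x := fun i x ↦ delta_sect hP i x
  set π := CohB1.ProjSpaceOver.toBase 1 X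
  have hS : ∀ (ξ : ↥(CohB1.ProjSpaceOver 1 X)), δP ξ = k + 1 → Nontrivial (F.presheaf.stalk ξ) →
      ∀ i, ξ ∉ Set.range (P1.sect X i) := by
    rintro _ hk hn i ⟨x, rfl⟩
    have := h01 i x (nontrivial_pullback_closed _ hF x hn)
    have := hδs i x
    omega
  have hunit : ∀ (ξ : ↥(CohB1.ProjSpaceOver 1 X)) (i : Fin (1 + 1)) (h : ξ ∈ p1Open X i),
      ξ ∉ Set.range (P1.sect X i) →
      IsUnit (((CohB1.ProjSpaceOver 1 X).presheaf.germ (p1Open X i) ξ h).hom (p1Coord X i)) := fun ξ i h hn ↦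
    by_contra fun hu ↦ hn (mem_range_sect X i ξ h hu)
  have hprod : ∀ (ξ : ↥(CohB1.ProjSpaceOver 1 X)) (h0 : ξ ∈ p1Open X 0) (h1 : ξ ∈ p1Open X 1),
      (CohB1.ProjSpaceOver 1 X).evaluation _ ξ h0 (p1Coord X 0) *
        (CohB1.ProjSpaceOver 1 X).evaluation _ ξ h1 (p1Coord X 1) = 1 := fun ξ h0 h1 ↦
    (map_mul ((CohB1.ProjSpaceOver 1 X).residue ξ).hom _ _).symm.trans
      ((congrArg _ (p1Coord_mul X ξ h0 h1)).trans (map_one _))
  have hmem1 : ∀ ξ : ↥(CohB1.ProjSpaceOver 1 X), ξ ∉ p1Open X 0 → ξ ∈ p1Open X 1 := mem_p1Open_one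
  let t : (ξ : ↥(CohB1.ProjSpaceOver 1 X)) → (CohB1.ProjSpaceOver 1 X).residueField ξ := p1Ratio
  have ht1 : ∀ (ξ : ↥(CohB1.ProjSpaceOver 1 X)) (h : ξ ∈ p1Open X 1),
      t ξ = ((CohB1.ProjSpaceOver 1 X).evaluation _ ξ h (p1Coord X 1))⁻¹ := fun ξ h ↦ by
    simp only [t, p1Ratio]
    split_ifs with h0
    · exact eq_inv_of_mul_eq_one_left (hprod ξ h0 h)
    · rfl
  let ι := {ξ : ↥(CohB1.ProjSpaceOver 1 X) // δP ξ = k + 1 ∧ Nontrivial (F.presheaf.stalk ξ)}
  have hev : ∀ (ξ : ι) (i : Fin (1 + 1)) (h : ξ.1 ∈ p1Open X i),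
      (CohB1.ProjSpaceOver 1 X).evaluation _ ξ.1 h (p1Coord X i) ≠ 0 := fun ξ i h h0 ↦
    (residue_ne_zero_iff_isUnit _).mpr (hunit ξ.1 i h (hS ξ.1 ξ.2.1 ξ.2.2 i)) h0
  have ht0 : ∀ ξ : ι, t ξ.1 ≠ 0 := fun ξ ↦ by
    simp only [t, p1Ratio]
    split_ifs with h0
    · exact hev ξ 0 h0
    · exact inv_ne_zero (hev ξ 1 _)
  let m : ι → ℕ := fun ξ ↦
    (Module.length ((CohB1.ProjSpaceOver 1 X).presheaf.stalk ξ.1) (F.presheaf.stalk ξ.1)).toNat
  let γ : Fin (1 + 1) → AlgebraicCycle (CohB1.ProjSpaceOver 1 X) ℤ := fun i ↦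
    AlgebraicCycle.map (P1.sect X i) (fun x ↦ δP (P1.sect X i x)) δP (c i)
  have hck : ∀ i x, δ x ≠ k → c i x = 0 := fun i x hx ↦ by rw [hc, Cyc.sheafFun, if_neg hx]
  have hγk : ∀ i q, δP q ≠ k → γ i q = 0 := fun i q hq ↦ by
    by_cases hr : q ∈ Set.range (P1.sect X i)
    · obtain ⟨x, rfl⟩ := hr
      simp only [γ, map_closedImmersion_apply]
      exact hck i x (by rwa [hδs] at hq)
    · exact map_closedImmersion_eq_zero _ _ _ _ _ hr
  have hother : ∀ (i j : Fin (1 + 1)) (q : ↥(CohB1.ProjSpaceOver 1 X)), i ≠ j → q ∈ p1Open X i →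
      q ∉ Set.range (P1.sect X j) := by
    rintro i j _ hij hqi ⟨x, rfl⟩
    obtain ⟨hj, _, hker⟩ := sect_mem_p1Open X j x
    have hmax : ((CohB1.ProjSpaceOver 1 X).presheaf.germ (p1Open X j) (P1.sect X j x) hj).hom (p1Coord X j) ∈
        maximalIdeal _ :=
      IsLocalRing.le_maximalIdeal (RingHom.ker_ne_top ((P1.sect X j).stalkMap x).hom)
        (hker.ge (Ideal.mem_span_singleton_self _))
    refine (IsLocalRing.mem_maximalIdeal _).mp hmax ?_
    fin_cases i <;> fin_cases j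
    · exact absurd rfl hij
    · exact IsUnit.of_mul_eq_one_right _ (p1Coord_mul X _ hqi hj)
    · exact IsUnit.of_mul_eq_one _ (p1Coord_mul X _ hj hqi)
    · exact absurd rfl hij
  have hmain : ∀ (q : ↥(CohB1.ProjSpaceOver 1 X)) (i : Fin (1 + 1)) (hq : q ∈ p1Open X i), δP q = k →
      ∑ᶠ ξ : ι, (m ξ : ℤ) * (if h : ξ.1 ⤳ q ∧ δP q + 1 = δP ξ.1 then Cyc.ordAt q ξ.1 h.1
          (Cyc.specMap q ξ.1 h.1 ((CohB1.ProjSpaceOver 1 X).presheaf.germ (p1Open X i) q hq (p1Coord X i))) else 0) =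
        γ i q := by
    intro q i hq hk
    let f : (CohB1.ProjSpaceOver 1 X).presheaf.stalk q :=
      (CohB1.ProjSpaceOver 1 X).presheaf.germ (p1Open X i) q hq (p1Coord X i)
    haveI := AssSch12.finite_stalk hF q
    have hnot : ∀ P ∈ Module.support ((CohB1.ProjSpaceOver 1 X).presheaf.stalk q) (F.presheaf.stalk q),
        P ≠ closedPoint _ → f ∉ P.asIdeal := fun P hP hne hfP ↦ by
      have hsp := fromSpecStalk_specializes q P
      have hn := (localizedModule_stalk hF.1 q P).2.mp hP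
      have hneq : (CohB1.ProjSpaceOver 1 X).fromSpecStalk q P ≠ q := fun e ↦
        hne (fromSpecStalk_injective q (e.trans Scheme.fromSpecStalk_closedPoint.symm))
      have h1 := (hδP _ _ hsp hneq).1
      have h2 := hsupp _ hn
      have hξk : δP ((CohB1.ProjSpaceOver 1 X).fromSpecStalk q P) = k + 1 := by omega
      rw [← ker_specMap P hsp, RingHom.mem_ker, specMap_germ] at hfP
      exact hev ⟨_, hξk, hn⟩ i (hsp.mem_open (p1Open X i).2 hq) hfP
    have hinj : Function.Injective (fun v : F.presheaf.stalk q => f • v) := by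
      intro u v huv
      by_contra hne
      obtain ⟨P, hP, hle⟩ := exists_le_isAssociatedPrime_of_isNoetherianRing
        ((CohB1.ProjSpaceOver 1 X).presheaf.stalk q) (u - v) (sub_ne_zero.mpr hne)
      have hfP : f ∈ P := hle (by
        rw [Submodule.mem_colon_singleton, Submodule.mem_bot, smul_sub, sub_eq_zero]; exact huv)
      by_cases hPm : P = maximalIdeal _
      · subst hPm
        rcases hemb q hP with hq' | hq'
        · refine (IsLocalRing.mem_maximalIdeal _).mp hfP (hunit q i hq fun hr ↦ hq' ?_)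
          fin_cases i
          · exact Or.inl hr
          · exact Or.inr hr
        · omega
      · refine hnot ⟨P, hP.1⟩ (Module.mem_support_iff_of_finite.mpr ?_) (fun e ↦ hPm (congrArg PrimeSpectrum.asIdeal e)) hfP
        exact (Submodule.annihilator_top (R := (CohB1.ProjSpaceOver 1 X).presheaf.stalk q)
          (M := F.presheaf.stalk q)).ge.trans hP.annihilator_le
    have hsum : (∑ᶠ ξ, Cyc.sheafFun δP (k + 1) F ξ *
        (if h : ξ ⤳ q ∧ δP q + 1 = δP ξ then Cyc.ordAt q ξ h.1 (Cyc.specMap q ξ h.1 f) else 0)) =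
      ∑ᶠ ξ : ι, (m ξ : ℤ) * (if h : ξ.1 ⤳ q ∧ δP q + 1 = δP ξ.1 then Cyc.ordAt q ξ.1 h.1
          (Cyc.specMap q ξ.1 h.1 f) else 0) := by
      have hmt : ∀ ξ : ι, (m ξ : ℤ) = Cyc.sheafFun δP (k + 1) F ξ.1 := fun ξ ↦ by
        rw [Cyc.sheafFun, if_pos ξ.2.1]
      simp only [hmt]
      rw [← finsum_mem_range Subtype.val_injective (f := fun ξ ↦ Cyc.sheafFun δP (k + 1) F ξ *
        (if h : ξ ⤳ q ∧ δP q + 1 = δP ξ then Cyc.ordAt q ξ h.1 (Cyc.specMap q ξ h.1 f) else 0))]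
      rw [finsum_mem_def]
      refine finsum_congr fun ξ ↦ ?_
      symm
      refine Set.indicator_apply_eq_self.mpr fun hξ ↦ ?_
      have h0 : Cyc.sheafFun δP (k + 1) F ξ = 0 := by
        rw [Cyc.sheafFun]
        split_ifs with hk'
        · haveI : Subsingleton (F.presheaf.stalk ξ) :=
            not_nontrivial_iff_subsingleton.mp fun hn ↦ hξ ⟨⟨ξ, hk', hn⟩, rfl⟩
          rw [Module.length_eq_zero_iff.mpr inferInstance]; rfl
        · rfl
      rw [h0, zero_mul]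
    rw [← hsum, ← length_quot_toNat_eq_sum hδP k hF hsupp q hk f hinj hnot]
    by_cases hr : q ∈ Set.range (P1.sect X i)
    · obtain ⟨x, rfl⟩ := hr
      obtain ⟨_, _, hker⟩ := sect_mem_p1Open X i x
      simp only [γ, map_closedImmersion_apply, hc]
      rw [Cyc.sheafFun, if_pos (by rw [← hδs i x, hk]), length_stalk_pullback_closed, hker,
        Submodule.ideal_span_singleton_smul]
    · have htop : f • (⊤ : Submodule ((CohB1.ProjSpaceOver 1 X).presheaf.stalk q) (F.presheaf.stalk q)) = ⊤ := by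
        refine eq_top_iff.mpr fun v _ ↦ ?_
        obtain ⟨b, hb⟩ := (hunit q i hq hr).exists_right_inv
        exact ⟨b • v, trivial, show f • b • v = v by rw [smul_smul, show f * b = 1 from hb, one_smul]⟩
      haveI : Subsingleton (F.presheaf.stalk q ⧸ f • (⊤ : Submodule ((CohB1.ProjSpaceOver 1 X).presheaf.stalk q)
          (F.presheaf.stalk q))) := Submodule.Quotient.subsingleton_iff.mpr htop
      rw [Module.length_eq_zero_iff.mpr inferInstance]
      exact (map_closedImmersion_eq_zero _ _ _ _ _ hr).symm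
  have hdiv : ∀ q, γ 0 q - γ 1 q = ∑ᶠ ξ : ι, Cyc.divFun δP ξ.1 (t ξ.1 ^ m ξ) q := by
    intro q
    rw [finsum_congr fun ξ : ι ↦ divFun_pow hδP (ht0 ξ) (m ξ) q]
    by_cases hk : δP q = k
    swap
    · rw [hγk 0 q hk, hγk 1 q hk, finsum_eq_zero_of_forall_eq_zero fun ξ : ι ↦ by
        rw [divFun_eq_zero_of_delta _ (by have := ξ.2.1; omega), mul_zero]]
      rfl
    by_cases hq : q ∈ p1Open X 0
    · rw [show γ 1 q = 0 from map_closedImmersion_eq_zero _ _ _ _ _ (hother 0 1 q (by decide) hq), sub_zero,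
        ← hmain q 0 hq hk]
      refine finsum_congr fun ξ ↦ ?_
      congr 1
      by_cases hsp : ξ.1 ⤳ q
      · have hξ0 := hsp.mem_open (p1Open X 0).2 hq
        rw [show t ξ.1 = (CohB1.ProjSpaceOver 1 X).evaluation _ ξ.1 hξ0 (p1Coord X 0) from dif_pos hξ0, divFun_evaluation hq hξ0]
      · rw [divFun_eq_zero_of_not_specializes _ hsp, dif_neg fun h ↦ hsp h.1]
    · have hq1 := hmem1 q hq
      rw [show γ 0 q = 0 from map_closedImmersion_eq_zero _ _ _ _ _ (hother 1 0 q (by decide) hq1), zero_sub,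
        ← hmain q 1 hq1 hk, ← finsum_neg_distrib]
      refine finsum_congr fun ξ ↦ ?_
      by_cases hsp : ξ.1 ⤳ q
      · have hξ1 := hsp.mem_open (p1Open X 1).2 hq1
        rw [ht1 ξ.1 hξ1, divFun_inv hδP (hev ξ 1 hξ1), divFun_evaluation hq1 hξ1, mul_neg]
      · rw [divFun_eq_zero_of_not_specializes _ hsp, dif_neg fun h ↦ hsp h.1, mul_zero, neg_zero]
  have hRE : Cyc.RatEquivZero δP k (γ 0 - γ 1) :=
    ⟨ι, fun ξ ↦ ξ.1, fun ξ ↦ t ξ.1 ^ m ξ, fun ξ ↦ ξ.2.1, fun ξ ↦ pow_ne_zero _ (ht0 ξ),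
      exists_open_finite_top_points hδP hF (k + 1) hsupp, hdiv⟩
  have hmap : ∀ (i : Fin (1 + 1)) (y : X), AlgebraicCycle.map π δP δ (γ i) y = c i y := fun i y ↦ by
    have hd : Cyc.DeltaCompat (P1.sect X i) (fun x ↦ δP (P1.sect X i x)) δP := deltaCompat_preimmersion _ _
    simp only [γ, map_map (P1.sect X i) π hd hP]
    rw [map_congr_hom (P1Lib24.sect_toBase X i), show (fun x ↦ δP (P1.sect X i x)) = δ from funext (hδs i)]
    exact map_closedImmersion_apply (𝟙 X) δ (c i) y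
  have e : AlgebraicCycle.map π δP δ (γ 0 - γ 1) = c 0 - c 1 := by
    refine eq_sub_of_add_eq (Function.locallyFinsuppWithin.ext fun y ↦ ?_)
    refine Eq.trans ?_ (hmap 0 y)
    rw [map_apply_add π δP δ (γ 0 - γ 1) (γ 1) (γ 0) (fun x ↦ by simp) y, hmap 1 y]
    rfl
  refine ⟨γ 0 - γ 1, hRE, fun q ↦ ?_, e⟩
  exact hdiv q

theorem p1_sect_ratEquiv (δ : X → ℤ) (hX : Cyc.IsSetup X δ) (δP : ↥(CohB1.ProjSpaceOver 1 X) → ℤ)
    (hP : Cyc.DeltaCompat (CohB1.ProjSpaceOver.toBase 1 X) δP δ) (k : ℤ)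
    (F : (CohB1.ProjSpaceOver 1 X).Modules) (hF : Coh.IsCoh F)
    (hsupp : ∀ p : ↥(CohB1.ProjSpaceOver 1 X), Nontrivial (F.presheaf.stalk p) → δP p ≤ k + 1)
    (h01 : ∀ (i : Fin (1 + 1)) (x : X),
      Nontrivial (((Scheme.Modules.pullback (P1.sect X i)).obj F).presheaf.stalk x) → δ x ≤ k)
    (hemb : ∀ p : ↥(CohB1.ProjSpaceOver 1 X),
      IsAssociatedPrime (maximalIdeal ((CohB1.ProjSpaceOver 1 X).presheaf.stalk p)) (F.presheaf.stalk p) →
        p ∉ Set.range ⇑(P1.sect X 0) ∪ Set.range ⇑(P1.sect X 1) ∨ δP p < k)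
    (c : Fin (1 + 1) → AlgebraicCycle X ℤ)
    (hc : ∀ i, ⇑(c i) = Cyc.sheafFun δ k ((Scheme.Modules.pullback (P1.sect X i)).obj F)) :
    Cyc.RatEquiv δ k (c 0) (c 1) := by
  haveI := hX.1
  haveI : IsProper (CohB1.ProjSpaceOver.toBase 1 X) := RelVALib.isProper_toBase 1 X
  haveI : IsLocallyNoetherian (CohB1.ProjSpaceOver 1 X) :=
    LocallyOfFiniteType.isLocallyNoetherian (CohB1.ProjSpaceOver.toBase 1 X)
  obtain ⟨D, hD, -, e⟩ := p1_sect_exists_div δ hX δP hP k F hF hsupp h01 hemb c hc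
  have h0 := map_ratEquivZero (isDimFun_of_deltaCompat (CohB1.ProjSpaceOver.toBase 1 X) hX.2.1 hX.2.2 hP)
    hX.2.2 (CohB1.ProjSpaceOver.toBase 1 X) hP k D hD
  rw [e] at h0
  exact h0

end Groth.Agent.CycLib28
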