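import Mathlib
import Groth.Agent.CycLib28.P1Cycle
import Groth.Agent.FSchLib.IdealSheaf

/-!
# Closed subschemes of the projective line and their fibres at zero and infinity
-/

universe u

open CategoryTheory CategoryTheory.Limits AlgebraicGeometry IsLocalRing Groth.Agent.CycLim28
open scoped Pointwise

namespace Groth.Agent.CycLib28

theorem length_quot_smul_of_equiv {A B M : Type u} [CommRing A] [CommRing B] [Algebra A B] [AddCommGroup M]
    [Module A M] (hs : Function.Surjective (algebraMap A B)) (e : M ≃ₗ[A] B) (K : Ideal A) :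
    Module.length A (M ⧸ (K • ⊤ : Submodule A M)) = Module.length A (A ⧸ (RingHom.ker (algebraMap A B) ⊔ K)) := by
  let g : A →ₗ[A] M := e.symm.toLinearMap ∘ₗ Algebra.linearMap A B
  have hg : Function.Surjective g := e.symm.surjective.comp hs
  have hker : LinearMap.ker ((K • ⊤ : Submodule A M).mkQ ∘ₗ g) = RingHom.ker (algebraMap A B) ⊔ K := by
    have hkg : LinearMap.ker g = RingHom.ker (algebraMap A B) := by
      ext a
      exact e.symm.map_eq_zero_iff
    rw [LinearMap.ker_comp, Submodule.ker_mkQ,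
      show (K • ⊤ : Submodule A M) = Submodule.map g K from by
        conv_rhs => rw [← Ideal.mul_top K, ← smul_eq_mul, Submodule.map_smul'',
          Submodule.map_top, LinearMap.range_eq_top.mpr hg],
      Submodule.comap_map_eq, hkg, sup_comm]
  exact ((Submodule.quotEquivOfEq _ _ hker.symm).trans (LinearMap.quotKerEquivOfSurjective _
    ((Submodule.mkQ_surjective _).comp hg))).length_eq.symm

theorem isAssociatedPrime_maximal_of_equiv {A B M : Type u} [CommRing A] [CommRing B] [Algebra A B] [IsLocalRing A]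
    [IsLocalRing B] [AddCommGroup M] [Module A M] (hs : Function.Surjective (algebraMap A B)) (e : M ≃ₗ[A] B)
    (h : IsAssociatedPrime (maximalIdeal A) M) : IsAssociatedPrime (maximalIdeal B) B := by
  obtain ⟨hp, v, hv⟩ := h
  refine ⟨(maximalIdeal.isMaximal B).isPrime, e v, ?_⟩
  have h1 : (⊥ : Submodule A M).colon {v} = ((⊥ : Submodule B B).colon {e v}).comap (algebraMap A B) := by
    ext a
    simp only [Submodule.mem_colon_singleton, Submodule.mem_bot, Ideal.mem_comap, smul_eq_mul]
    rw [← Algebra.smul_def, ← map_smul]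
    exact e.map_eq_zero_iff.symm
  rw [h1, ← Ideal.comap_radical] at hv
  rw [← Ideal.map_comap_of_surjective _ hs ((⊥ : Submodule B B).colon {e v}).radical, ← hv]
  haveI : IsLocalHom (algebraMap A B) := IsLocalHom.of_surjective _ hs
  refine le_antisymm (fun b hb ↦ ?_) (Ideal.map_le_iff_le_comap.mpr fun a ha ↦ map_nonunit _ a ha)
  obtain ⟨a, rfl⟩ := hs b
  exact Ideal.mem_map_of_mem _ ((IsLocalRing.mem_maximalIdeal _).mpr fun hu ↦
    (IsLocalRing.mem_maximalIdeal _).mp hb (hu.map _))

variable {X Z P : Scheme.{u}}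

/-- The stalk of the pushed-forward structure sheaf of a closed subscheme. -/
theorem exists_stalk_push_equiv (i : Z ⟶ P) [IsClosedImmersion i] (z : Z) :
    letI := (i.stalkMap z).hom.toAlgebra
    Nonempty (((Coh.push i).obj (Coh.structureModule Z)).presheaf.stalk (i z) ≃ₗ[P.presheaf.stalk (i z)]
      Z.presheaf.stalk z) := by
  letI : Algebra (P.presheaf.stalk (i z)) (Z.presheaf.stalk z) := (i.stalkMap z).hom.toAlgebra
  letI : Module (P.presheaf.stalk (i z)) ((Coh.structureModule Z).presheaf.stalk z) :=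
    Module.compHom _ (i.stalkMap z).hom
  haveI : IsScalarTower (P.presheaf.stalk (i z)) (Z.presheaf.stalk z) ((Coh.structureModule Z).presheaf.stalk z) :=
    IsScalarTower.of_algebraMap_smul fun _ _ ↦ rfl
  haveI : IsIso (pushStalkHom i (Coh.structureModule Z) z) :=
    TopCat.Presheaf.stalkPushforward.stalkPushforward_iso_of_isInducing Ab.{u} i.isClosedEmbedding.isInducing
      (Coh.structureModule Z).presheaf z
  let l : ((Coh.push i).obj (Coh.structureModule Z)).presheaf.stalk (i z) →ₗ[P.presheaf.stalk (i z)]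
      (Coh.structureModule Z).presheaf.stalk z :=
    { toFun := fun m ↦ pushStalkHom i (Coh.structureModule Z) z m
      map_add' := fun a b ↦ map_add (pushStalkHom i (Coh.structureModule Z) z).hom a b
      map_smul' := fun r m ↦ pushStalkHom_smul i (Coh.structureModule Z) z r m }
  exact ⟨(LinearEquiv.ofBijective l (ConcreteCategory.bijective_of_isIso (pushStalkHom i (Coh.structureModule Z) z))).trans
    ((LinearEquiv.ofBijective (LinearMap.toSpanSingleton (Z.presheaf.stalk z) _ (AssSch12.unitOne z))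
      (AssSch12.bijective_smul_unitOne z)).symm.restrictScalars (P.presheaf.stalk (i z)))⟩

theorem ker_stalkMap_eq_ker_map (f : Z ⟶ P) [IsClosedImmersion f] (y : Z) (V : P.affineOpens) (hy : f y ∈ V.1) :
    RingHom.ker (f.stalkMap y).hom = (f.ker.ideal V).map (P.presheaf.germ V.1 (f y) hy).hom := by
  rw [CAlgH.CIImmersion.ker_stalkMap_eq f y V.2 hy, Scheme.Hom.ker_apply]

theorem length_stalk_push_quot (ι : Z ⟶ P) [IsClosedImmersion ι] (z : Z) (q : P) (hz : ι z = q)
    (V : P.affineOpens) (hq : q ∈ V.1) (K : Ideal (P.presheaf.stalk q)) :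
    Module.length (P.presheaf.stalk q) (((Coh.push ι).obj (Coh.structureModule Z)).presheaf.stalk q ⧸
        (K • ⊤ : Submodule (P.presheaf.stalk q) (((Coh.push ι).obj (Coh.structureModule Z)).presheaf.stalk q))) =
      Module.length (P.presheaf.stalk q)
        (P.presheaf.stalk q ⧸ ((ι.ker.ideal V).map (P.presheaf.germ V.1 q hq).hom ⊔ K)) := by
  subst hz
  letI : Algebra (P.presheaf.stalk (ι z)) (Z.presheaf.stalk z) := (ι.stalkMap z).hom.toAlgebra
  obtain ⟨e⟩ := exists_stalk_push_equiv ι z
  rw [← ker_stalkMap_eq_ker_map ι z V hq]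
  exact length_quot_smul_of_equiv (ι.stalkMap_surjective z) e K

theorem ker_pullback_snd (ι : Z ⟶ P) [IsClosedImmersion ι] (s : X ⟶ P) :
    (pullback.snd ι s).ker = ι.ker.comap s := by
  rw [← Scheme.IdealSheafData.ker_fst_of_isClosedImmersion ι s, ← pullbackSymmetry_hom_comp_fst,
    Scheme.Hom.ker_comp_of_isIso]

theorem sheafFun_pullback_push_eq (δ : X → ℤ) (k : ℤ) (ι : Z ⟶ P) [IsClosedImmersion ι] (s : X ⟶ P)
    [IsClosedImmersion s] :
    Cyc.sheafFun δ k ((Scheme.Modules.pullback s).obj ((Coh.push ι).obj (Coh.structureModule Z))) =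
      Cyc.subschemeFun δ k (pullback.snd ι s) := by
  funext x
  simp only [Cyc.subschemeFun, Cyc.sheafFun]
  split_ifs with hx
  swap
  · rfl
  by_cases hr : x ∈ Set.range (pullback.snd ι s)
  · obtain ⟨w, rfl⟩ := hr
    rw [show {v | pullback.snd ι s v = pullback.snd ι s w} = {w} from Set.ext fun v ↦
      ⟨fun h ↦ (pullback.snd ι s).isClosedEmbedding.injective h, fun h ↦ congrArg _ h⟩, finsum_mem_singleton]
    congr 2
    have hz : ι (pullback.fst ι s w) = s (pullback.snd ι s w) :=
      congrArg (fun f : pullback ι s ⟶ P ↦ f w) pullback.condition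
    obtain ⟨_, ⟨V, hV, rfl⟩, hqV, -⟩ :=
      P.isBasis_affineOpens.exists_subset_of_mem_open (Set.mem_univ (s (pullback.snd ι s w))) isOpen_univ
    replace hV : IsAffineOpen V := hV
    obtain ⟨U, hU, hxU, hUV⟩ := exists_isAffineOpen_mem_and_subset (x := pullback.snd ι s w) (U := s ⁻¹ᵁ V) hqV
    rw [length_stalk_pullback_closed, length_stalk_push_quot ι _ _ hz ⟨V, hV⟩ hqV]
    have hker : RingHom.ker ((pullback.snd ι s).stalkMap w).hom =
        ((ι.ker.ideal ⟨V, hV⟩).map (P.presheaf.germ V (s (pullback.snd ι s w)) hqV).hom).map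
          (s.stalkMap (pullback.snd ι s w)).hom := by
      rw [ker_stalkMap_eq_ker_map (pullback.snd ι s) w ⟨U, hU⟩ hxU, ker_pullback_snd,
        FSchLib.ideal_comap_eq_map s ι.ker ⟨U, hU⟩ ⟨V, hV⟩ hUV, Ideal.map_map, Ideal.map_map]
      congr 1
      ext a
      exact ((Scheme.Hom.germ_stalkMap_apply s V _ hqV a).trans
        (TopCat.Presheaf.germ_res_apply _ (homOfLE hUV) _ hxU _).symm).symm
    have h1 := ord_eq_of_surjective ((pullback.snd ι s).stalkMap w).hom ((pullback.snd ι s).stalkMap_surjective w)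
      ⊥ 0 0 (map_zero _)
    rw [Ideal.span_singleton_zero, sup_bot_eq, Ideal.span_singleton_zero, sup_bot_eq, ← RingHom.ker_eq_comap_bot] at h1
    rw [← (Submodule.quotEquivOfEqBot (⊥ : Ideal ((pullback ι s).presheaf.stalk w)) rfl).length_eq, h1, hker]
    have h2 := ord_eq_of_surjective (s.stalkMap (pullback.snd ι s w)).hom (s.stalkMap_surjective _)
      (((ι.ker.ideal ⟨V, hV⟩).map (P.presheaf.germ V (s (pullback.snd ι s w)) hqV).hom).map
          (s.stalkMap (pullback.snd ι s w)).hom) 0 0 (map_zero _)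
    rw [Ideal.span_singleton_zero, sup_bot_eq, Ideal.span_singleton_zero, sup_bot_eq,
      Ideal.comap_map_of_surjective _ (s.stalkMap_surjective _), ← RingHom.ker_eq_comap_bot] at h2
    exact h2.symm
  · rw [show {v | pullback.snd ι s v = x} = ∅ from Set.eq_empty_of_forall_notMem fun v h ↦ hr ⟨v, h⟩,
      finsum_mem_empty]
    rw [Scheme.Pullback.range_snd] at hr
    haveI := subsingleton_stalk_push ι (Coh.structureModule Z) (x := s x) hr
    rw [length_stalk_pullback_closed, Module.length_eq_zero_iff.mpr inferInstance]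
    rfl

end Groth.Agent.CycLib28
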