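import Mathlib
import Groth.Agent.CycLib28.TorBase

/-!
# Tor over a local ring with values in a semilocal finite algebra
-/

set_option autoImplicit false
set_option backward.isDefEq.respectTransparency false
set_option linter.style.haveILetI false

universe u

open CategoryTheory CategoryTheory.Limits IsLocalRing TensorProduct

namespace Groth.Agent.CycLib28.TorSemilocal

variable {A S : Type u} [CommRing A] [CommRing S] [Algebra A S]
variable {ι : Type*} [Fintype ι] (q : ι → Ideal S) [∀ v, (q v).IsMaximal]
  (O : ι → Type u) [∀ v, CommRing (O v)] [∀ v, Algebra S (O v)] [∀ v, Algebra A (O v)]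
  [∀ v, IsScalarTower A S (O v)] [∀ v, IsLocalization.AtPrime (O v) (q v)]

theorem length_piece_simple (m : Ideal S) [m.IsMaximal] (v : ι) :
    Module.length A (O v ⊗[S] (S ⧸ m)) = if q v = m then Module.length A (S ⧸ m) else 0 := by
  let e := (Algebra.TensorProduct.quotIdealMapEquivTensorQuot (O v) m).symm.toLinearEquiv.restrictScalars A
  rw [e.length_eq]
  split_ifs with h
  · subst h
    haveI := IsLocalization.AtPrime.isLocalRing (O v) (q v)
    have hm : (q v).map (algebraMap S (O v)) = maximalIdeal (O v) := IsLocalization.AtPrime.map_eq_maximalIdeal (q v) (O v)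
    let r : S ⧸ q v ≃+* O v ⧸ (q v).map (algebraMap S (O v)) :=
      (IsLocalization.AtPrime.equivQuotMaximalIdeal (q v) (O v)).trans (Ideal.quotEquivOfEq hm.symm)
    let l : (S ⧸ q v) ≃ₗ[A] O v ⧸ (q v).map (algebraMap S (O v)) :=
      { r with
        map_smul' := fun a x => by
          obtain ⟨x, rfl⟩ := Ideal.Quotient.mk_surjective x
          show r (a • Ideal.Quotient.mk _ x) = a • r (Ideal.Quotient.mk _ x)
          simp only [r, RingEquiv.trans_apply, ← Ideal.Quotient.mk_eq_mk, ← Submodule.Quotient.mk_smul]
          simp only [Ideal.Quotient.mk_eq_mk, IsLocalization.AtPrime.equivQuotMaximalIdeal_apply_mk,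
            Ideal.quotEquivOfEq_mk, Algebra.smul_def a x, map_mul, ← IsScalarTower.algebraMap_apply]
          rw [← map_mul, ← Algebra.smul_def]
          rfl }
    exact l.length_eq.symm
  · have hle : ¬ m ≤ q v := fun hle => h (Ideal.IsMaximal.eq_of_le ‹m.IsMaximal› (Ideal.IsMaximal.ne_top inferInstance) hle).symm
    obtain ⟨x, hx, hxq⟩ := Set.not_subset.1 hle
    haveI : Subsingleton (O v ⧸ m.map (algebraMap S (O v))) := Ideal.Quotient.subsingleton_iff.2
      (Ideal.eq_top_of_isUnit_mem _ (Ideal.mem_map_of_mem _ hx)
        (IsLocalization.map_units (O v) (⟨x, hxq⟩ : (q v).primeCompl)))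
    exact Module.length_eq_zero

theorem length_pieces (hq : ∀ m : Ideal S, m.IsMaximal → ∃ v, q v = m) (hinj : Function.Injective q)
    {T : Type u} [AddCommGroup T] [Module S T] (h : IsFiniteLength S T) :
    ∀ [Module A T] [IsScalarTower A S T], Module.length A T = ∑ v, Module.length A (O v ⊗[S] T) := by
  induction h with
  | @of_subsingleton M _ _ _ =>
    intro _ _
    rw [Module.length_eq_zero]
    refine (Finset.sum_eq_zero fun v _ => ?_).symm
    exact Module.length_eq_zero
  | @of_simple_quotient M _ _ N _ hN ih =>
    intro _ _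
    obtain ⟨m, hm, ⟨e⟩⟩ := isSimpleModule_iff_quot_maximal.1 ‹IsSimpleModule S (M ⧸ N)›
    obtain ⟨w, rfl⟩ := hq m hm
    have hadd := Module.length_eq_add_of_exact (R := A) (N.subtype.restrictScalars A) (N.mkQ.restrictScalars A)
      Subtype.val_injective (Submodule.mkQ_surjective N) (LinearMap.exact_subtype_mkQ N)
    have hv : ∀ v, Module.length A (O v ⊗[S] M) = Module.length A (O v ⊗[S] N) + Module.length A (O v ⊗[S] (M ⧸ N)) := by
      intro v
      haveI : Module.Flat S (O v) := IsLocalization.flat (O v) (q v).primeCompl
      exact Module.length_eq_add_of_exact (R := A) ((AlgebraTensorModule.lTensor (O v) (O v) N.subtype).restrictScalars A)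
        ((AlgebraTensorModule.lTensor (O v) (O v) N.mkQ).restrictScalars A)
        (Module.Flat.lTensor_preserves_injective_linearMap N.subtype Subtype.val_injective)
        (LinearMap.lTensor_surjective (O v) (Submodule.mkQ_surjective N))
        (Module.Flat.lTensor_exact (O v) (LinearMap.exact_subtype_mkQ N))
    rw [hadd, ih, Finset.sum_congr rfl fun v _ => hv v, Finset.sum_add_distrib]
    congr 1
    rw [(e.restrictScalars A).length_eq]
    have he : ∀ v, Module.length A (O v ⊗[S] (M ⧸ N)) = if q v = q w then Module.length A (S ⧸ q w) else 0 := fun v => by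
      rw [((AlgebraTensorModule.congr (LinearEquiv.refl (O v) (O v)) e).restrictScalars A).length_eq]
      exact length_piece_simple q O (q w) v
    classical
    rw [Finset.sum_congr rfl fun v _ => he v, Finset.sum_eq_single w (fun v _ hv' => if_neg (fun h => hv' (hinj h)))
      (fun h => absurd (Finset.mem_univ w) h), if_pos rfl]

variable [IsNoetherianRing A]

set_option synthInstance.maxHeartbeats 200000 in
set_option maxHeartbeats 1000000 in
theorem length_tor_sum (hq : ∀ m : Ideal S, m.IsMaximal → ∃ v, q v = m) (hinj : Function.Injective q) :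
    ∀ (i : ℕ) (N : Type u) [AddCommGroup N] [Module A N] [Module.Finite A N],
      IsFiniteLength A (DRing.Tor A i (ModuleCat.of A S) (ModuleCat.of A N)) →
      Module.length A (DRing.Tor A i (ModuleCat.of A S) (ModuleCat.of A N)) =
        ∑ v, Module.length A (DRing.Tor A i (ModuleCat.of A (O v)) (ModuleCat.of A N)) := by
  have toS : ∀ (T : Type u) [AddCommGroup T] [Module S T] [Module A T] [IsScalarTower A S T],
      IsFiniteLength A T → IsFiniteLength S T := fun T _ _ _ _ h => by
    rw [← Module.length_ne_top_iff] at h ⊢
    refine ne_top_of_le_ne_top h ?_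
    rw [← Module.length_top (R := S), ← Module.length_top (R := A)]
    exact Submodule.length_le_length_restrictScalars A (⊤ : Submodule S T)
  intro i
  induction i with
  | zero =>
    intro N _ _ _ hfl
    obtain ⟨e⟩ := HTor16.torZero (ModuleCat.of A S) (ModuleCat.of A N)
    have hfl' : IsFiniteLength A (S ⊗[A] N) := hfl.of_surjective (f := e.toLinearMap) e.surjective
    rw [e.length_eq]
    refine (length_pieces q O hq hinj (toS _ hfl')).trans (Finset.sum_congr rfl fun v _ => ?_)
    obtain ⟨ev⟩ := HTor16.torZero (ModuleCat.of A (O v)) (ModuleCat.of A N)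
    rw [ev.length_eq]
    exact ((AlgebraTensorModule.cancelBaseChange A S (O v) (O v) N).restrictScalars A).length_eq
  | succ i ih =>
    intro N _ _ _ hfl
    obtain ⟨n, f, hf⟩ := Module.Finite.exists_fin' A N
    have hS := LinearMap.shortExact_shortComplexKer hf
    rcases i with - | i
    · obtain ⟨eA⟩ := HTor16.torOne (ModuleCat.of A S) hS
      let hs := AlgebraTensorModule.lTensor S S (LinearMap.ker f).subtype
      let eT : DRing.Tor A 1 (ModuleCat.of A S) (ModuleCat.of A N) ≃ₗ[A] LinearMap.ker hs :=
        eA.trans { toFun := fun x => ⟨x.1, x.2⟩, invFun := fun x => ⟨x.1, x.2⟩, left_inv := fun _ => rfl,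
                   right_inv := fun _ => rfl, map_add' := fun _ _ => rfl, map_smul' := fun _ _ => rfl }
      refine (LinearEquiv.length_eq (N := ↥(LinearMap.ker hs)) eT).trans ?_
      have hfl' : IsFiniteLength A ↥(LinearMap.ker hs) := Module.length_ne_top_iff.1
        ((LinearEquiv.length_eq (N := ↥(LinearMap.ker hs)) eT) ▸ Module.length_ne_top_iff.2 hfl)
      refine (length_pieces q O hq hinj (toS _ hfl')).trans (Finset.sum_congr rfl fun v _ => ?_)
      haveI : Module.Flat S (O v) := IsLocalization.flat (O v) (q v).primeCompl
      obtain ⟨ev⟩ := HTor16.torOne (ModuleCat.of A (O v)) hS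
      let cK := AlgebraTensorModule.cancelBaseChange A S (O v) (O v) (LinearMap.ker f)
      let cF := AlgebraTensorModule.cancelBaseChange A S (O v) (O v) (Fin n → A)
      have nat : ∀ x, cF (AlgebraTensorModule.lTensor (O v) (O v) hs x) =
          (LinearMap.ker f).subtype.lTensor (O v) (cK x) := fun x => by
        induction x using TensorProduct.induction_on with
        | zero => simp
        | add a b ha hb => rw [map_add, map_add, map_add, map_add, ha, hb]
        | tmul o y =>
          induction y using TensorProduct.induction_on with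
          | zero => simp
          | add a b ha hb => rw [TensorProduct.tmul_add, map_add, map_add, map_add, map_add, ha, hb]
          | tmul s k => simp [cK, cF, hs]
      let eK : LinearMap.ker (AlgebraTensorModule.lTensor (O v) (O v) hs) ≃ₗ[A]
          LinearMap.ker ((LinearMap.ker f).subtype.lTensor (O v)) :=
        { toFun := fun x => ⟨cK x.1, by rw [LinearMap.mem_ker, ← nat, LinearMap.mem_ker.1 x.2, map_zero]⟩
          invFun := fun y => ⟨cK.symm y.1, cF.injective (by
            rw [nat, LinearEquiv.apply_symm_apply, map_zero]
            exact y.2)⟩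
          left_inv := fun x => Subtype.ext (cK.symm_apply_apply _)
          right_inv := fun x => Subtype.ext (cK.apply_symm_apply _)
          map_add' := fun x y => Subtype.ext (map_add cK _ _)
          map_smul' := fun a x => Subtype.ext (LinearMap.map_smul_of_tower cK.toLinearMap a _) }
      exact ((((LinearMap.tensorKerEquiv (O v) (O v) hs).restrictScalars A).trans eK).trans ev.symm).length_eq
    · obtain ⟨eA⟩ := HTor16.torShift (ModuleCat.of A S) hS i
      rw [eA.length_eq, ih (LinearMap.ker f) (hfl.of_surjective (f := eA.toLinearMap) eA.surjective)]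
      refine Finset.sum_congr rfl fun v _ => ?_
      obtain ⟨ev⟩ := HTor16.torShift (ModuleCat.of A (O v)) hS i
      exact ev.length_eq.symm

end Groth.Agent.CycLib28.TorSemilocal
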