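import Mathlib
import Groth.Agent.CycLib28.TorSemilocal
import Groth.Agent.CycLib28.PushFinite
import Groth.Agent.CycLib28.FiniteNear
import Groth.Agent.AssSch12.Ass
import Groth.Agent.AssSch12.PullbackPoint
import Groth.Agent.Coherent.FinitePres
import Groth.Agent.Coherent.ProperFinite

/-!
# Tor of the stalk of a finite pushforward of a structure sheaf
-/

set_option autoImplicit false
set_option backward.isDefEq.respectTransparency false
set_option linter.style.haveILetI false

universe u

open CategoryTheory CategoryTheory.Limits AlgebraicGeometry IsLocalRing Groth.Agent.AssSch12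

namespace Groth.Agent.CycLib28

variable {V Y : Scheme.{u}}

theorem exists_finite_affine_nhd (g : V ⟶ Y) {V0 : Y.Opens} [IsFinite (g ∣_ V0)] {y : Y} (hy : y ∈ V0) :
    ∃ U : Y.Opens, IsAffineOpen U ∧ y ∈ U ∧ IsAffineOpen (g ⁻¹ᵁ U) ∧ (g.app U).hom.Finite := by
  obtain ⟨W0, hW0, hyW0, -⟩ :=
    exists_isAffineOpen_mem_and_subset (X := V0.toScheme) (x := ⟨y, hy⟩) (U := ⊤) (Set.mem_univ _)
  refine ⟨V0.ι ''ᵁ W0, hW0.image_of_isOpenImmersion V0.ι, ⟨⟨y, hy⟩, hyW0, rfl⟩, ?_, ?_⟩
  · rw [← image_morphismRestrict_preimage]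
    exact (hW0.preimage (g ∣_ V0)).image_of_isOpenImmersion _
  · have h := IsFinite.finite_app (g ∣_ V0) W0 hW0
    rw [morphismRestrict_app] at h
    have hb := ConcreteCategory.bijective_of_isIso
      (V.presheaf.map (eqToHom (image_morphismRestrict_preimage g V0 W0)).op)
    let b := RingEquiv.ofBijective (V.presheaf.map (eqToHom (image_morphismRestrict_preimage g V0 W0)).op).hom hb
    have h2 : (g.app (V0.ι ''ᵁ W0)).hom = b.symm.toRingHom.comp
        (g.app (V0.ι ''ᵁ W0) ≫ V.presheaf.map (eqToHom (image_morphismRestrict_preimage g V0 W0)).op).hom :=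
      RingHom.ext fun r => (b.symm_apply_apply _).symm
    rw [h2]
    exact RingHom.Finite.comp (RingHom.Finite.of_surjective _ b.symm.surjective) h

variable [IsLocallyNoetherian Y]

/-- the Tor lengths of the stalk of a pushforward, finite near `y`, split over the points above `y` -/
theorem length_tor_push (g : V ⟶ Y) [IsProper g] {V0 : Y.Opens} [IsFinite (g ∣_ V0)] (y : Y) (hy0 : y ∈ V0)
    (s : Finset V) (hs : ∀ v, v ∈ s ↔ g v = y) (i : ℕ) (N : Type u) [AddCommGroup N] [Module (Y.presheaf.stalk y) N]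
    [Module.Finite (Y.presheaf.stalk y) N]
    (hfl : IsFiniteLength (Y.presheaf.stalk y) (DRing.Tor (Y.presheaf.stalk y) i
      (ModuleCat.of (Y.presheaf.stalk y) (((Coh.push g).obj (Coh.structureModule V)).presheaf.stalk y))
      (ModuleCat.of (Y.presheaf.stalk y) N))) :
    Module.length (Y.presheaf.stalk y) (DRing.Tor (Y.presheaf.stalk y) i
      (ModuleCat.of (Y.presheaf.stalk y) (((Coh.push g).obj (Coh.structureModule V)).presheaf.stalk y))
      (ModuleCat.of (Y.presheaf.stalk y) N)) =
    ∑ v : s, (letI := (stalkTo g y v.1 ((hs v.1).1 v.2)).toAlgebra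
      Module.length (Y.presheaf.stalk y) (DRing.Tor (Y.presheaf.stalk y) i
        (ModuleCat.of (Y.presheaf.stalk y) (V.presheaf.stalk v.1)) (ModuleCat.of (Y.presheaf.stalk y) N))) := by
  obtain ⟨U, hU, hy, hW, hfin⟩ := exists_finite_affine_nhd g hy0
  let R : Type u := Γ(Y, U)
  let B : Type u := Γ(V, g ⁻¹ᵁ U)
  let A : Type u := Y.presheaf.stalk y
  let φ : R →+* B := (g.app U).hom
  letI : Algebra R B := φ.toAlgebra
  haveI : Module.Finite R B := hfin
  letI : Algebra R A := TopCat.Presheaf.algebra_section_stalk Y.presheaf (⟨y, hy⟩ : U)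
  haveI : IsLocalization.AtPrime A (primeAt hU hy) := hU.isLocalization_stalk ⟨y, hy⟩
  let p := primeAt hU hy
  let M := Algebra.algebraMapSubmonoid B p.primeCompl
  let S : Type u := Localization M
  have hunit : ∀ r : p.primeCompl, IsUnit ((algebraMap B S).comp (algebraMap R B) r.1) := fun r =>
    IsLocalization.map_units S (⟨algebraMap R B r.1, ⟨r.1, r.2, rfl⟩⟩ : M)
  letI : Algebra A S := (IsLocalization.lift (S := A) hunit).toAlgebra
  haveI : IsScalarTower R B S := inferInstance
  haveI : IsScalarTower R A S := IsScalarTower.of_algebraMap_eq fun r => by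
    rw [RingHom.algebraMap_toAlgebra (IsLocalization.lift (S := A) hunit), IsLocalization.lift_eq,
      IsScalarTower.algebraMap_apply R B S]
    rfl
  haveI : Module.Finite A S := Module.Finite.of_isLocalization R B p.primeCompl
  -- the stalk of the pushforward is `S`
  set P := (Coh.push g).obj (Coh.structureModule V)
  haveI := LocallyOfFiniteType.isLocallyNoetherian g
  haveI : Coh.IsQCoh (Coh.structureModule V) := (Coherent.isCoh_structureModule V).1
  haveI : P.IsQuasicoherent := Coherent.isQCoh_push g (Coh.structureModule V)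
  letI : Module R (P.presheaf.stalk y) := Module.compHom _ (algebraMap R A)
  haveI : IsScalarTower R A (P.presheaf.stalk y) := IsScalarTower.of_compHom _ _ _
  let η : B →ₗ[R] P.presheaf.stalk y :=
    { toFun := fun b => P.presheaf.germ U y hy (show Γ(P, U) from b)
      map_add' := fun a b => map_add (P.presheaf.germ U y hy).hom (show Γ(P, U) from a) (show Γ(P, U) from b)
      map_smul' := fun r b => QCohLoc.germ_smul' P hy r (show Γ(P, U) from b) }
  haveI : IsLocalizedModule p.primeCompl η := by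
    refine ⟨fun ⟨r, hr⟩ => ?_, fun z => ?_, fun {a b} hab => ?_⟩
    · rw [Module.End.isUnit_iff]
      exact (IsLocalization.map_units A (⟨r, hr⟩ : p.primeCompl)).smul_bijective
    · obtain ⟨f, m, hf, hm⟩ := QCohLoc.exists_smul_stalk_eq_germ P hU hy z
      exact ⟨⟨m, ⟨f, (notMem_primeAt_iff hU hy f).2 hf⟩⟩, hm⟩
    · obtain ⟨f, hf, hfm⟩ := QCohLoc.exists_smul_eq_zero_of_germ P hU hy
        ((show Γ(P, U) from a) - (show Γ(P, U) from b)) (by
          rw [map_sub]; exact sub_eq_zero.2 hab)
      refine ⟨⟨f, (notMem_primeAt_iff hU hy f).2 hf⟩, ?_⟩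
      exact sub_eq_zero.1 ((smul_sub f (show Γ(P, U) from a) (show Γ(P, U) from b)).symm.trans hfm)
  haveI : IsLocalizedModule p.primeCompl (IsScalarTower.toAlgHom R B S).toLinearMap :=
    isLocalizedModule_iff_isLocalization.2 inferInstance
  let eM : P.presheaf.stalk y ≃ₗ[A] S :=
    ((IsLocalizedModule.iso p.primeCompl η).symm.trans
      (IsLocalizedModule.iso p.primeCompl (IsScalarTower.toAlgHom R B S).toLinearMap)).extendScalarsOfIsLocalization
      p.primeCompl A
  -- the points above `y`
  have hv : ∀ v : s, v.1 ∈ g ⁻¹ᵁ U := fun v => show g v.1 ∈ U from ((hs v.1).1 v.2).symm ▸ hy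
  let qB : s → Ideal B := fun v => primeAt hW (hv v)
  have hcomap : ∀ v : s, (qB v).comap φ = p := by
    intro v
    have h := congrArg PrimeSpectrum.asIdeal
      (IsAffineOpen.comap_primeIdealOf_appLE (f := g) U hU (g ⁻¹ᵁ U) hW le_rfl (hv v))
    rw [PrimeSpectrum.comap_asIdeal, Scheme.Hom.appLE_eq_app] at h
    have e : (⟨g v.1, hv v⟩ : U) = ⟨y, hy⟩ := Subtype.ext ((hs v.1).1 v.2)
    exact h.trans (by rw [e])
  let O : s → Type u := fun v => V.presheaf.stalk v.1
  letI : ∀ v, Algebra B (O v) := fun v => TopCat.Presheaf.algebra_section_stalk V.presheaf (⟨v.1, hv v⟩ : g ⁻¹ᵁ U)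
  haveI : ∀ v, IsLocalization.AtPrime (O v) (qB v) := fun v => hW.isLocalization_stalk ⟨v.1, hv v⟩
  have hMq : ∀ v, M ≤ (qB v).primeCompl := by
    rintro v _ ⟨r, hr, rfl⟩
    show φ r ∉ qB v
    exact fun h => hr ((hcomap v).le h)
  letI : ∀ v, Algebra S (O v) := fun v => (IsLocalization.lift (S := S) (g := algebraMap B (O v))
    fun m : M => IsLocalization.map_units (O v) (⟨m.1, hMq v m.2⟩ : (qB v).primeCompl)).toAlgebra
  haveI : ∀ v, IsScalarTower B S (O v) := fun v => IsScalarTower.of_algebraMap_eq fun b => by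
    exact (IsLocalization.lift_eq (S := S) (fun m : M => IsLocalization.map_units (O v) (⟨m.1, hMq v m.2⟩ : (qB v).primeCompl)) b).symm
  let qS : s → Ideal S := fun v => (qB v).map (algebraMap B S)
  have hdisj : ∀ v, Disjoint (M : Set B) (qB v : Set B) := fun v =>
    Set.disjoint_left.2 fun b hb hq => hMq v hb hq
  haveI hqp : ∀ v, (qS v).IsPrime := fun v =>
    IsLocalization.isPrime_of_isPrime_disjoint M S (qB v) inferInstance (hdisj v)
  have hback : ∀ v, (qS v).comap (algebraMap B S) = qB v := fun v =>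
    IsLocalization.comap_map_of_isPrime_disjoint M S inferInstance (hdisj v)
  have hAS : ∀ Q : Ideal S, (Q.comap (algebraMap A S)).comap (algebraMap R A) =
      (Q.comap (algebraMap B S)).comap φ := fun Q => by
    rw [Ideal.comap_comap, Ideal.comap_comap, ← IsScalarTower.algebraMap_eq, IsScalarTower.algebraMap_eq R B S]
    rfl
  haveI : ∀ v, (qS v).IsMaximal := fun v => by
    refine Ideal.isMaximal_of_isIntegral_of_isMaximal_comap (R := A) _ ?_
    haveI : ((qS v).comap (algebraMap A S)).IsPrime := Ideal.comap_isPrime _ _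
    have h : (qS v).comap (algebraMap A S) = maximalIdeal A := by
      rw [← IsLocalization.map_comap p.primeCompl A ((qS v).comap (algebraMap A S)), Ideal.under_def, hAS, hback, hcomap]
      exact IsLocalization.AtPrime.map_eq_maximalIdeal p A
    rw [h]
    infer_instance
  haveI : ∀ v, IsLocalization.AtPrime (O v) (qS v) := fun v => by
    haveI := IsLocalization.isLocalization_of_submonoid_le S (O v) M (qB v).primeCompl (hMq v)
    refine IsLocalization.of_le ((qB v).primeCompl.map (algebraMap B S)) _ ?_ fun x hx => ?_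
    · rintro _ ⟨b, hb, rfl⟩ hmem
      exact hb ((hback v).le hmem)
    · obtain ⟨b, m, rfl⟩ := IsLocalization.exists_mk'_eq M x
      have hb : b ∉ qB v := fun hb => hx ((IsLocalization.mk'_mem_iff).2 (Ideal.mem_map_of_mem _ hb))
      have h1 : IsUnit (algebraMap S (O v) (IsLocalization.mk' S b m) * algebraMap S (O v) (algebraMap B S m.1)) := by
        rw [← map_mul, IsLocalization.mk'_spec, ← IsScalarTower.algebraMap_apply]
        exact IsLocalization.map_units (O v) (⟨b, hb⟩ : (qB v).primeCompl)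
      exact isUnit_of_mul_isUnit_left h1
  letI : ∀ v, Algebra A (O v) := fun v => (stalkTo g y v.1 ((hs v.1).1 v.2)).toAlgebra
  haveI : ∀ v, IsScalarTower A S (O v) := fun v => IsScalarTower.of_algebraMap_eq' <| by
    refine IsLocalization.ringHom_ext p.primeCompl (RingHom.ext fun r => ?_)
    show (g.stalkMap v.1).hom ((Y.presheaf.stalkSpecializes _).hom (Y.presheaf.germ U y hy r)) = _
    rw [RingHom.comp_apply, RingHom.comp_apply, ← IsScalarTower.algebraMap_apply R A S,
      IsScalarTower.algebraMap_apply R B S, ← IsScalarTower.algebraMap_apply B S (O v)]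
    erw [TopCat.Presheaf.germ_stalkSpecializes_apply, Scheme.Hom.germ_stalkMap_apply]
    rfl
  have hinj : Function.Injective qS := fun v w h => Subtype.ext <| by
    have h' : qB v = qB w := by rw [← hback v, ← hback w, h]
    have h'' : hW.primeIdealOf ⟨v.1, hv v⟩ = hW.primeIdealOf ⟨w.1, hv w⟩ := PrimeSpectrum.ext h'
    exact (hW.fromSpec_primeIdealOf ⟨v.1, hv v⟩).symm.trans
      ((congrArg hW.fromSpec h'').trans (hW.fromSpec_primeIdealOf ⟨w.1, hv w⟩))
  have hsurj : ∀ Q : Ideal S, Q.IsMaximal → ∃ v, qS v = Q := by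
    intro Q hQ
    have h1 : Q.comap (algebraMap A S) = maximalIdeal A :=
      IsLocalRing.eq_maximalIdeal (Ideal.isMaximal_comap_of_isIntegral_of_isMaximal Q)
    have h2 : (Q.comap (algebraMap B S)).comap φ = p := by
      rw [← hAS, h1]
      exact IsLocalization.AtPrime.comap_maximalIdeal A p
    let pt : PrimeSpectrum B := ⟨Q.comap (algebraMap B S), Ideal.comap_isPrime _ _⟩
    have hmem : hW.fromSpec pt ∈ g ⁻¹ᵁ U := hW.range_fromSpec.le ⟨pt, rfl⟩
    have hid : hW.primeIdealOf ⟨hW.fromSpec pt, hmem⟩ = pt :=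
      hW.fromSpec.isOpenEmbedding.injective (hW.fromSpec_primeIdealOf _)
    have hgy : g (hW.fromSpec pt) = y := by
      have h3 := congrArg PrimeSpectrum.asIdeal
        (IsAffineOpen.comap_primeIdealOf_appLE (f := g) U hU (g ⁻¹ᵁ U) hW le_rfl hmem)
      rw [PrimeSpectrum.comap_asIdeal, Scheme.Hom.appLE_eq_app, hid] at h3
      have h4 : hU.primeIdealOf ⟨g (hW.fromSpec pt), hmem⟩ = hU.primeIdealOf ⟨y, hy⟩ :=
        PrimeSpectrum.ext (h3.symm.trans h2)
      exact (hU.fromSpec_primeIdealOf ⟨g (hW.fromSpec pt), hmem⟩).symm.trans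
        ((congrArg hU.fromSpec h4).trans (hU.fromSpec_primeIdealOf ⟨y, hy⟩))
    refine ⟨⟨hW.fromSpec pt, (hs _).2 hgy⟩, ?_⟩
    show (primeAt hW _).map (algebraMap B S) = Q
    rw [show primeAt hW hmem = pt.asIdeal from congrArg PrimeSpectrum.asIdeal hid]
    exact IsLocalization.map_comap M S Q
  let eT := (((Tor (ModuleCat.{u} A) i).mapIso eM.toModuleIso).app (ModuleCat.of A N)).toLinearEquiv
  have hflS : IsFiniteLength A (DRing.Tor A i (ModuleCat.of A S) (ModuleCat.of A N)) :=
    hfl.of_surjective (f := eT.toLinearMap) eT.surjective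
  refine eT.length_eq.trans ?_
  exact TorSemilocal.length_tor_sum qS O hsurj hinj i N hflS

end Groth.Agent.CycLib28
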