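import Mathlib
import Groth.Agent.CycLib28.ProjLocal
import Groth.Agent.CycLib28.InterPull
import Groth.Agent.CycLib28.PushFinite

/-!
# The Euler characteristic of a finite pushforward against a coherent module
-/

set_option autoImplicit false
set_option backward.isDefEq.respectTransparency false
set_option linter.style.haveILetI false

universe u

open CategoryTheory CategoryTheory.Limits AlgebraicGeometry IsLocalRing TensorProduct
open Groth.Agent.ModStalk

namespace Groth.Agent.CycLib28

theorem nonempty_tor_congr {R : Type u} [CommRing R] (j : ℕ) {M M' N N' : ModuleCat.{u} R} (e : M ≅ M') (e' : N ≅ N') :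
    Nonempty (DRing.Tor R j M N ≃ₗ[R] DRing.Tor R j M' N') :=
  ⟨((((Tor (ModuleCat.{u} R) j).mapIso e).app N) ≪≫ ((Tor (ModuleCat.{u} R) j).obj M').mapIso e').toLinearEquiv⟩

variable {X Y V : Scheme.{u}}

theorem toNat_length_restrict (f : X ⟶ Y) (x : X) (T : Type u) [AddCommGroup T] [Module (X.presheaf.stalk x) T]
    [Module (Y.presheaf.stalk (f x)) T]
    (h : ∀ (a : Y.presheaf.stalk (f x)) (t : T), a • t = (f.stalkMap x).hom a • t) :
    (Module.length (Y.presheaf.stalk (f x)) T).toNat =
      (Module.length (X.presheaf.stalk x) T).toNat * f.residueDegree x := by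
  letI := (f.stalkMap x).hom.toAlgebra
  haveI : IsScalarTower (Y.presheaf.stalk (f x)) (X.presheaf.stalk x) T :=
    IsScalarTower.of_algebraMap_smul fun a t => (h a t).symm
  haveI : IsLocalHom (algebraMap (Y.presheaf.stalk (f x)) (X.presheaf.stalk x)) :=
    inferInstanceAs (IsLocalHom (f.stalkMap x).hom)
  rw [IsLocalRing.length_restrictScalars (Y.presheaf.stalk (f x)) (X.presheaf.stalk x) T,
    ENat.toNat_mul, Module.length_eq_rank, ← residueDegree_eq_finrank]
  congr 1

theorem nonempty_push_unit (i : V ⟶ X) [IsClosedImmersion i] (v : V) :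
    letI := (i.stalkMap v).hom.toAlgebra
    Nonempty (((Coh.push i).obj (Coh.structureModule V)).presheaf.stalk (i v) ≃ₗ[X.presheaf.stalk (i v)]
      V.presheaf.stalk v) := by
  letI := (i.stalkMap v).hom.toAlgebra
  letI : Module (X.presheaf.stalk (i v)) ((Coh.structureModule V).presheaf.stalk v) :=
    Module.compHom _ (i.stalkMap v).hom
  haveI : IsScalarTower (X.presheaf.stalk (i v)) (V.presheaf.stalk v) ((Coh.structureModule V).presheaf.stalk v) :=
    IsScalarTower.of_algebraMap_smul fun _ _ ↦ rfl
  haveI : IsIso (pushStalkHom i (Coh.structureModule V) v) :=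
    TopCat.Presheaf.stalkPushforward.stalkPushforward_iso_of_isInducing Ab.{u} i.isClosedEmbedding.isInducing
      (Coh.structureModule V).presheaf v
  let l : ((Coh.push i).obj (Coh.structureModule V)).presheaf.stalk (i v) →ₗ[X.presheaf.stalk (i v)]
      (Coh.structureModule V).presheaf.stalk v :=
    { toFun := fun m ↦ pushStalkHom i (Coh.structureModule V) v m
      map_add' := fun a b ↦ map_add (pushStalkHom i (Coh.structureModule V) v).hom a b
      map_smul' := fun r m ↦ pushStalkHom_smul i (Coh.structureModule V) v r m }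
  exact ⟨(LinearEquiv.ofBijective l (ConcreteCategory.bijective_of_isIso (pushStalkHom i (Coh.structureModule V) v))).trans
    ((LinearEquiv.ofBijective (LinearMap.toSpanSingleton (V.presheaf.stalk v) _ (AssSch12.unitOne v))
      (AssSch12.bijective_smul_unitOne v)).symm.restrictScalars _)⟩

variable [IsLocallyNoetherian X] [IsLocallyNoetherian Y]

theorem toNat_length_tor_point (f : X ⟶ Y) [Flat f] (i : V ⟶ X) [IsClosedImmersion i] (G : Y.Modules)
    (hG : Coh.IsCoh G) (v : V) (y : Y) (hy : (i ≫ f) v = y) (j : ℕ) :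
    (letI := (stalkTo (i ≫ f) y v hy).toAlgebra;
      Module.length (Y.presheaf.stalk y) (DRing.Tor (Y.presheaf.stalk y) j
        (ModuleCat.of (Y.presheaf.stalk y) (V.presheaf.stalk v))
        (ModuleCat.of (Y.presheaf.stalk y) (G.presheaf.stalk y)))).toNat =
      (Module.length (X.presheaf.stalk (i v)) (DRing.Tor (X.presheaf.stalk (i v)) j
        (ModuleCat.of (X.presheaf.stalk (i v)) (((Coh.push i).obj (Coh.structureModule V)).presheaf.stalk (i v)))
        (ModuleCat.of (X.presheaf.stalk (i v))
          (((Scheme.Modules.pullback f).obj G).presheaf.stalk (i v))))).toNat * f.residueDegree (i v) := by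
  subst hy
  haveI := AssSch12.finite_stalk hG ((i ≫ f) v)
  let A : Type u := Y.presheaf.stalk (f (i v))
  let B : Type u := X.presheaf.stalk (i v)
  let Q : Type u := V.presheaf.stalk v
  let N : Type u := G.presheaf.stalk (f (i v))
  have est : stalkTo (i ≫ f) ((i ≫ f) v) v rfl = (i.stalkMap v).hom.comp (f.stalkMap (i v)).hom := by
    rw [stalkTo, TopCat.Presheaf.stalkSpecializes_refl, Scheme.Hom.stalkMap_comp]
    rfl
  rw [est]
  letI : Algebra A B := (f.stalkMap (i v)).hom.toAlgebra
  letI : Algebra B Q := (i.stalkMap v).hom.toAlgebra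
  letI : Algebra A Q := ((i.stalkMap v).hom.comp (f.stalkMap (i v)).hom).toAlgebra
  haveI : IsScalarTower A B Q := IsScalarTower.of_algebraMap_eq' rfl
  haveI : Module.Finite B Q := Module.Finite.of_surjective (Algebra.linearMap B Q) (i.stalkMap_surjective v)
  haveI : Module.Flat A B := Flat.stalkMap f (i v)
  haveI : Module.Finite A N := AssSch12.finite_stalk hG (f (i v))
  obtain ⟨eQ⟩ := nonempty_push_unit i v
  have eG : (((Scheme.Modules.pullback f).obj G).presheaf.stalk (i v)) ≃ₗ[B] B ⊗[A] N :=
    (((pullbackStalkIso f (i v)).app G :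
      ((DerSch.stalkFunctor X (i v)).obj ((Scheme.Modules.pullback f).obj G)) ≅
        (ModuleCat.extendScalars (f.stalkMap (i v)).hom).obj ((DerSch.stalkFunctor Y (f (i v))).obj G))).toLinearEquiv
  obtain ⟨eT⟩ := nonempty_tor_congr (R := B) j eQ.toModuleIso eG.toModuleIso
  rw [eT.length_eq]
  change (Module.length A (DRing.Tor A j (ModuleCat.of A Q) (ModuleCat.of A N))).toNat = _
  rcases j with - | j
  · obtain ⟨eA⟩ := HTor16.torZero (ModuleCat.of A Q) (ModuleCat.of A N)
    obtain ⟨eB⟩ := HTor16.torZero (ModuleCat.of B Q) (ModuleCat.of B (B ⊗[A] N))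
    rw [eA.length_eq, eB.length_eq, (AlgebraTensorModule.cancelBaseChange A B B Q N).length_eq]
    exact toNat_length_restrict f (i v) _ fun a t => (algebraMap_smul B a t).symm
  · have hproj : ∀ q : ℕ, IsZero (((HTor16.tens (ModuleCat.of B Q)).leftDerived (q + 1)).obj (ModuleCat.of B B)) := by
      intro q
      haveI : Projective (ModuleCat.of B B) := (IsProjective.iff_projective _).1 inferInstance
      exact Functor.isZero_leftDerived_obj_projective_succ _ q _
    obtain ⟨e, he⟩ := exists_tor_base_change (A := A) Q B hproj j N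
    letI : Module A (DRing.Tor B (j + 1) (ModuleCat.of B Q) (ModuleCat.of B (B ⊗[A] N))) :=
      Module.compHom _ (algebraMap A B)
    let eL : DRing.Tor B (j + 1) (ModuleCat.of B Q) (ModuleCat.of B (B ⊗[A] N)) ≃ₗ[A]
        DRing.Tor A (j + 1) (ModuleCat.of A (Q ⊗[B] B)) (ModuleCat.of A N) :=
      { e with map_smul' := fun a t => he a t }
    obtain ⟨eR⟩ := nonempty_tor_congr (R := A) (j + 1)
      ((TensorProduct.rid B Q).restrictScalars A).toModuleIso (Iso.refl (ModuleCat.of A N))
    rw [← eR.length_eq, ← eL.length_eq]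
    exact toNat_length_restrict f (i v) _ fun a t => rfl

theorem chi_push (f : X ⟶ Y) [Flat f] (i : V ⟶ X) [IsClosedImmersion i] [IsProper (i ≫ f)] (G : Y.Modules)
    (hG : Coh.IsCoh G) (y : Y) {V0 : Y.Opens} [IsFinite ((i ≫ f) ∣_ V0)] (hy0 : y ∈ V0) (s : Finset V)
    (hs : ∀ v, v ∈ s ↔ (i ≫ f) v = y) [IsRegularLocalRing (Y.presheaf.stalk y)]
    (hreg : ∀ x : X, IsRegularLocalRing (X.presheaf.stalk x))
    [Module.Finite (Y.presheaf.stalk y) (((Coh.push (i ≫ f)).obj (Coh.structureModule V)).presheaf.stalk y)]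
    (hmeet : ChiCalc.Meet (A := Y.presheaf.stalk y) (((Coh.push (i ≫ f)).obj (Coh.structureModule V)).presheaf.stalk y)
      (G.presheaf.stalk y)) :
    IntMult.chi (Y.presheaf.stalk y) (((Coh.push (i ≫ f)).obj (Coh.structureModule V)).presheaf.stalk y)
        (G.presheaf.stalk y) =
      ∑ v ∈ s, IntMult.chi (X.presheaf.stalk (i v)) (((Coh.push i).obj (Coh.structureModule V)).presheaf.stalk (i v))
        (((Scheme.Modules.pullback f).obj G).presheaf.stalk (i v)) * (f.residueDegree (i v) : ℤ) := by
  haveI := AssSch12.finite_stalk hG y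
  let T : ℕ → V → ℤ := fun j v => (-1 : ℤ) ^ j * ((Module.length (X.presheaf.stalk (i v)) (DRing.Tor (X.presheaf.stalk (i v)) j
        (ModuleCat.of (X.presheaf.stalk (i v)) (((Coh.push i).obj (Coh.structureModule V)).presheaf.stalk (i v)))
        (ModuleCat.of (X.presheaf.stalk (i v))
          (((Scheme.Modules.pullback f).obj G).presheaf.stalk (i v))))).toNat : ℤ)
  have hTfin : ∀ v ∈ s, (Function.support fun j => T j v * (f.residueDegree (i v) : ℤ)).Finite := by
    intro v _
    haveI := hreg (i v)
    refine (Set.finite_Iic (maximalIdeal (X.presheaf.stalk (i v))).spanFinrank).subset fun j hj => ?_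
    by_contra hlt
    refine left_ne_zero_of_mul hj ?_
    have h0 := ChiCalc.tlen_eq_zero (A := X.presheaf.stalk (i v))
      (((Coh.push i).obj (Coh.structureModule V)).presheaf.stalk (i v))
      (((Scheme.Modules.pullback f).obj G).presheaf.stalk (i v)) j (not_le.1 hlt)
    show (-1 : ℤ) ^ j * _ = 0
    rw [show (Module.length (X.presheaf.stalk (i v)) _).toNat = 0 from h0, Nat.cast_zero, mul_zero]
  have hterm : ∀ j : ℕ, (-1 : ℤ) ^ j * ((Module.length (Y.presheaf.stalk y) (DRing.Tor (Y.presheaf.stalk y) j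
      (ModuleCat.of (Y.presheaf.stalk y) (((Coh.push (i ≫ f)).obj (Coh.structureModule V)).presheaf.stalk y))
      (ModuleCat.of (Y.presheaf.stalk y) (G.presheaf.stalk y)))).toNat : ℤ) =
      ∑ v ∈ s, T j v * (f.residueDegree (i v) : ℤ) := by
    intro j
    have hfl := ChiCalc.isFiniteLength_tor _ _ hmeet j
    have h := length_tor_push (i ≫ f) y hy0 s hs j (G.presheaf.stalk y) hfl
    have htop := Module.length_ne_top_iff.2 hfl
    rw [h] at htop ⊢
    rw [ENat.toNat_sum (fun v hv => (ENat.sum_ne_top.1 htop) v hv), Nat.cast_sum, Finset.mul_sum,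
      ← Finset.sum_coe_sort s]
    refine Finset.sum_congr rfl fun v _ => ?_
    rw [toNat_length_tor_point f i G hG v.1 y ((hs v.1).1 v.2) j, Nat.cast_mul, ← mul_assoc]
  rw [IntMult.chi, finsum_congr hterm, finsum_sum_comm s _ hTfin]
  refine Finset.sum_congr rfl fun v _ => ?_
  rw [IntMult.chi, finsum_mul]

end Groth.Agent.CycLib28
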