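import Mathlib
import Groth.Agent.CycLib28.ChiCalc
import Groth.Agent.CycLib28.TorBase
import Groth.Agent.S2428
import Groth.Agent.S3537
import Groth.Agent.CAlgH3.GrTopSocle
import Groth.Agent.S5673
import Groth.Agent.CAlgH3.RegularLocal
import Groth.Agent.CycLib28.ProjPoint
set_option linter.style.haveILetI false

/-!
# The Euler characteristic of Tor against a module cut by a regular element

If `t` is regular on `N` and the supports of `M`, `N` meet `V(t)` only at the closed point, then
`χ(M, N/tN) = Σ_q χ(A/q, A/t) χ_{A_q}(M_q, N_q)`, the sum over the primes `q` of coheight one.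
-/

set_option autoImplicit false
set_option backward.isDefEq.respectTransparency false

universe u

open CategoryTheory CategoryTheory.Limits IsLocalRing TensorProduct
open Groth.Agent

namespace Groth.Agent.CycLib28.DivisorChi

variable {A : Type u} [CommRing A]

/-- length of the cokernel of `t` minus length of its kernel -/
noncomputable def psi (t : A) (L : Type u) [AddCommGroup L] [Module A L] : ℤ :=
  ((Module.length A (L ⧸ LinearMap.range (LinearMap.lsmul A L t))).toNat : ℤ) -
    ((Module.length A (LinearMap.ker (LinearMap.lsmul A L t))).toNat : ℤ)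

theorem psi_congr (t : A) {L L' : Type u} [AddCommGroup L] [Module A L] [AddCommGroup L'] [Module A L']
    (e : L ≃ₗ[A] L') : psi t L = psi t L' := by
  have h1 : (LinearMap.range (LinearMap.lsmul A L t)).map e.toLinearMap = LinearMap.range (LinearMap.lsmul A L' t) := by
    ext y
    simp only [Submodule.mem_map, LinearMap.mem_range, LinearMap.lsmul_apply, LinearEquiv.coe_coe]
    constructor
    · rintro ⟨_, ⟨x, rfl⟩, rfl⟩
      exact ⟨e x, (map_smul e t x).symm⟩
    · rintro ⟨x, rfl⟩
      exact ⟨t • e.symm x, ⟨e.symm x, rfl⟩, by simp⟩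
  have h2 : (LinearMap.ker (LinearMap.lsmul A L t)).map e.toLinearMap = LinearMap.ker (LinearMap.lsmul A L' t) := by
    ext y
    simp only [Submodule.mem_map, LinearMap.mem_ker, LinearMap.lsmul_apply, LinearEquiv.coe_coe]
    constructor
    · rintro ⟨x, hx, rfl⟩
      rw [← map_smul, hx, map_zero]
    · intro hy
      exact ⟨e.symm y, by rw [← map_smul, hy, map_zero], by simp⟩
  unfold psi
  rw [(Submodule.Quotient.equiv _ _ e h1).length_eq, (e.submoduleMap _).length_eq,
    (LinearEquiv.ofEq _ _ h2).length_eq]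

theorem psi_of_subsingleton (t : A) (L : Type u) [AddCommGroup L] [Module A L] [Subsingleton L] : psi t L = 0 := by
  unfold psi
  rw [Module.length_eq_zero_iff.2 inferInstance, Module.length_eq_zero_iff.2 inferInstance]
  simp

variable [IsRegularLocalRing A]

/-- the long exact sequence of `N → N → N/tN` -/
theorem chi_quot_eq_sum_psi (t : A) (M N : Type u) [AddCommGroup M] [Module A M] [Module.Finite A M] [AddCommGroup N]
    [Module A N] [Module.Finite A N] (ht : Function.Injective (LinearMap.lsmul A N t))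
    (h : ChiCalc.Meet (A := A) M (N ⧸ LinearMap.range (LinearMap.lsmul A N t))) :
    IntMult.chi A M (N ⧸ LinearMap.range (LinearMap.lsmul A N t)) =
      ∑ i ∈ Finset.range ((maximalIdeal A).spanFinrank + 1), (-1 : ℤ) ^ i *
        psi t (DRing.Tor A i (ModuleCat.of A M) (ModuleCat.of A N)) := by
  set Q := N ⧸ LinearMap.range (LinearMap.lsmul A N t)
  set s := (maximalIdeal A).spanFinrank
  let f : ModuleCat.of A N ⟶ ModuleCat.of A N := ModuleCat.ofHom (LinearMap.lsmul A N t)
  let g : ModuleCat.of A N ⟶ ModuleCat.of A Q :=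
    ModuleCat.ofHom (Submodule.mkQ (LinearMap.range (LinearMap.lsmul A N t)))
  let S := ShortComplex.mk f g (by
    ext x
    exact (Submodule.Quotient.mk_eq_zero _).2 ⟨x, rfl⟩)
  have hS : S.ShortExact := LocCoh.shortExact_of ht (Submodule.mkQ_surjective _)
    (LinearMap.exact_iff.2 (Submodule.ker_mkQ _))
  set hM := ModuleCat.of A M
  haveI := HTor16.tens_preserves hM
  haveI : (HTor16.tens hM).Linear A := inferInstanceAs ((MonoidalCategory.tensorLeft hM).Linear A)
  let F := fun i => ((HTor16.tens hM).leftDerived i)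
  have hF : ∀ i, ((F i).map f).hom =
      LinearMap.lsmul A (DRing.Tor A i (ModuleCat.of A M) (ModuleCat.of A N)) t := by
    intro i
    have hf : f = t • 𝟙 (ModuleCat.of A N) := rfl
    rw [hf, S5673.leftDerived_map_smul_id (HTor16.tens hM) i (ModuleCat.of A N) t]
    rfl
  let C : ℕ → ℕ := fun i => (Module.length A (DRing.Tor A i (ModuleCat.of A M) (ModuleCat.of A N) ⧸
    LinearMap.range (LinearMap.lsmul A (DRing.Tor A i (ModuleCat.of A M) (ModuleCat.of A N)) t))).toNat
  let k : ℕ → ℕ := fun i => (Module.length A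
    (LinearMap.ker (LinearMap.lsmul A (DRing.Tor A i (ModuleCat.of A M) (ModuleCat.of A N)) t))).toNat
  have hfin : ∀ i, Module.length A (DRing.Tor A i (ModuleCat.of A M) (ModuleCat.of A Q)) ≠ ⊤ :=
    fun i => Module.length_ne_top_iff.2 (ChiCalc.isFiniteLength_tor M Q h i)
  have hrange : ∀ i, Nonempty (LinearMap.range ((F i).map S.g).hom ≃ₗ[A]
      DRing.Tor A i (ModuleCat.of A M) (ModuleCat.of A N) ⧸
        LinearMap.range (LinearMap.lsmul A (DRing.Tor A i (ModuleCat.of A M) (ModuleCat.of A N)) t)) := by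
    intro i
    obtain ⟨⟨w, hw⟩, -⟩ := CommAlg4.DerivedLES.les hS (HTor16.tens hM) i
    have hex : LinearMap.range ((F i).map S.f).hom = LinearMap.ker ((F i).map S.g).hom :=
      (ShortComplex.moduleCat_exact_iff_range_eq_ker _).1 hw
    refine ⟨(LinearMap.quotKerEquivRange ((F i).map S.g).hom).symm ≪≫ₗ Submodule.quotEquivOfEq _ _ ?_⟩
    exact hex.symm.trans (congrArg LinearMap.range (hF i))
  have h0 : (ChiCalc.tlen (A := A) M Q 0 : ℤ) = C 0 := by
    haveI : Epi ((F 0).map S.g) := CommAlg4.DerivedLES.epi_zero hS (HTor16.tens hM)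
    have hs : LinearMap.range ((F 0).map S.g).hom = ⊤ :=
      LinearMap.range_eq_top.2 ((ModuleCat.epi_iff_surjective _).1 inferInstance)
    obtain ⟨e⟩ := hrange 0
    have := e.length_eq
    rw [hs, Module.length_top] at this
    show ((Module.length A _).toNat : ℤ) = ((Module.length A _).toNat : ℤ)
    rw [← this]
    rfl
  have hsucc : ∀ i, (ChiCalc.tlen (A := A) M Q (i + 1) : ℤ) = C (i + 1) + k i := by
    intro i
    obtain ⟨-, δ, w₁, w₂, e₁, e₂⟩ := CommAlg4.DerivedLES.les hS (HTor16.tens hM) i
    have hex₁ : LinearMap.range ((F (i + 1)).map S.g).hom = LinearMap.ker δ.hom :=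
      (ShortComplex.moduleCat_exact_iff_range_eq_ker _).1 e₁
    have hex₂ : LinearMap.range δ.hom = LinearMap.ker ((F i).map S.f).hom :=
      (ShortComplex.moduleCat_exact_iff_range_eq_ker _).1 e₂
    have e := Module.length_eq_add_of_exact (LinearMap.ker δ.hom).subtype
      δ.hom.rangeRestrict Subtype.val_injective (LinearMap.surjective_rangeRestrict _)
      (by rw [LinearMap.exact_iff, LinearMap.ker_rangeRestrict, Submodule.range_subtype])
    have e' := congrArg ENat.toNat e
    rw [ENat.toNat_add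
      (ne_top_of_le_ne_top (hfin (i + 1)) (Module.length_le_of_injective (LinearMap.ker δ.hom).subtype Subtype.val_injective))
      (ne_top_of_le_ne_top (hfin (i + 1)) (Module.length_le_of_surjective _ (LinearMap.surjective_rangeRestrict _)))] at e'
    obtain ⟨eC⟩ := hrange (i + 1)
    have hC : Module.length A (LinearMap.ker δ.hom) = Module.length A _ :=
      ((LinearEquiv.ofEq _ _ hex₁).symm ≪≫ₗ eC).length_eq
    have hk : Module.length A (LinearMap.range δ.hom) = Module.length A
        (LinearMap.ker (LinearMap.lsmul A (DRing.Tor A i (ModuleCat.of A M) (ModuleCat.of A N)) t)) :=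
      (LinearEquiv.ofEq _ _ (hex₂.trans (congrArg LinearMap.ker (hF i)))).length_eq
    rw [hC, hk] at e'
    show ((Module.length A _).toNat : ℤ) = _
    exact_mod_cast e'
  let d : ℕ → ℤ := fun i => if i = 0 then 0 else (k (i - 1) : ℤ)
  have hd1 : ∀ i, d (i + 1) = k i := fun i => by simp [d]
  have hlast : d (s + 1) = 0 := by
    have h1 := hsucc s
    rw [ChiCalc.tlen_eq_zero (A := A) M Q (s + 1) (Nat.lt_succ_self _)] at h1
    rw [hd1]
    omega
  have key : ∀ i, (ChiCalc.tlen (A := A) M Q i : ℤ) -
      psi t (DRing.Tor A i (ModuleCat.of A M) (ModuleCat.of A N)) = d i + d (i + 1) := by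
    intro i
    show _ - ((C i : ℤ) - (k i : ℤ)) = _
    rw [hd1]
    rcases i with - | i
    · rw [h0]
      simp [d]
    · rw [hsucc, hd1]
      ring
  have hsum := ChiCalc.sum_alternating d (s + 1)
  rw [hlast, mul_zero, sub_zero] at hsum
  simp only [show d 0 = 0 from rfl, ← key, mul_sub, Finset.sum_sub_distrib] at hsum
  rw [ChiCalc.chi_eq_sum]
  linarith

/-- the Euler characteristic against `A/t` -/
theorem chi_span_eq_psi {t : A} (ht : t ≠ 0) (L : Type u) [AddCommGroup L] [Module A L] [Module.Finite A L]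
    (h : ChiCalc.Meet (A := A) L (A ⧸ Ideal.span {t})) : IntMult.chi A L (A ⧸ Ideal.span {t}) = psi t L := by
  haveI := CAlgH3.isDomain_of_isRegularLocalRing A
  have hinj : Function.Injective (LinearMap.lsmul A A t) := fun x y e => mul_left_cancel₀ ht e
  have hr : LinearMap.range (LinearMap.lsmul A A t) = Ideal.span {t} := by
    ext x
    simp only [LinearMap.mem_range, LinearMap.lsmul_apply, smul_eq_mul, Ideal.mem_span_singleton]
    exact ⟨fun ⟨y, hy⟩ => ⟨y, hy.symm⟩, fun ⟨y, hy⟩ => ⟨y, hy.symm⟩⟩
  let e := Submodule.quotEquivOfEq _ _ hr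
  have h' : ChiCalc.Meet (A := A) L (A ⧸ LinearMap.range (LinearMap.lsmul A A t)) := fun p hp =>
    h ⟨hp.1, e.support_eq ▸ hp.2⟩
  rw [← chi_congr_both (LinearEquiv.refl A L) e, chi_quot_eq_sum_psi t L A hinj h',
    Finset.sum_eq_single 0 ?_ (by simp)]
  · obtain ⟨e0⟩ := HTor16.torZero (ModuleCat.of A L) (ModuleCat.of A A)
    rw [pow_zero, one_mul, psi_congr t (e0 ≪≫ₗ TensorProduct.rid A L)]
  · intro i _ hi
    obtain ⟨j, rfl⟩ := Nat.exists_eq_succ_of_ne_zero hi
    haveI : Projective (ModuleCat.of A A) := (IsProjective.iff_projective _).1 inferInstance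
    haveI : Subsingleton (DRing.Tor A j.succ (ModuleCat.of A L) (ModuleCat.of A A)) := ModuleCat.subsingleton_of_isZero
      (Functor.isZero_leftDerived_obj_projective_succ (HTor16.tens (ModuleCat.of A L)) j (ModuleCat.of A A))
    rw [psi_of_subsingleton, mul_zero]

theorem tor_annihilated (M N : Type u) [AddCommGroup M] [Module A M] [Module.Finite A M] [AddCommGroup N]
    [Module A N] [Module.Finite A N] (i : ℕ) (a : A)
    (ha : a ∈ Module.annihilator A M ⊔ Module.annihilator A N)
    (y : DRing.Tor A i (ModuleCat.of A M) (ModuleCat.of A N)) : a • y = 0 := by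
  obtain ⟨b, hb, c, hc, rfl⟩ := Submodule.mem_sup.1 ha
  rcases i with - | i
  · obtain ⟨e⟩ := HTor16.torZero (ModuleCat.of A M) (ModuleCat.of A N)
    apply e.injective
    rw [map_smul, map_zero]
    generalize e y = z
    induction z using TensorProduct.induction_on with
    | zero => simp
    | add p q hp hq => rw [smul_add, hp, hq, add_zero]
    | tmul p q =>
      rw [add_smul, TensorProduct.smul_tmul', Module.mem_annihilator.1 hb p, TensorProduct.zero_tmul, zero_add,
        ← TensorProduct.tmul_smul, Module.mem_annihilator.1 hc q, TensorProduct.tmul_zero]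
  · rw [add_smul, (finite_and_annihilated_tor b i M N).2 (fun x => Module.mem_annihilator.1 hb x) y, zero_add]
    obtain ⟨e⟩ := nonempty_tor_comm (i + 1) (ModuleCat.of A M) (ModuleCat.of A N)
    apply e.injective
    rw [map_smul, map_zero]
    exact (finite_and_annihilated_tor c i N M).2 (fun x => Module.mem_annihilator.1 hc x) _

theorem finite_tor (M N : Type u) [AddCommGroup M] [Module A M] [Module.Finite A M] [AddCommGroup N]
    [Module A N] [Module.Finite A N] (i : ℕ) : Module.Finite A (DRing.Tor A i (ModuleCat.of A M) (ModuleCat.of A N)) := by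
  rcases i with - | i
  · obtain ⟨e⟩ := HTor16.torZero (ModuleCat.of A M) (ModuleCat.of A N)
    exact Module.Finite.equiv e.symm
  · exact (finite_and_annihilated_tor (0 : A) i M N).1

omit [IsRegularLocalRing A] in
/-- the localisation of Tor -/
theorem locLen_tor (M N : Type u) [AddCommGroup M] [Module A M] [AddCommGroup N] [Module A N]
    (q : PrimeSpectrum A) (i : ℕ) :
    SamuelAdd.locLen q (DRing.Tor A i (ModuleCat.of A M) (ModuleCat.of A N)) =
      Module.length (Localization.AtPrime q.asIdeal) (DRing.Tor (Localization.AtPrime q.asIdeal) i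
        (ModuleCat.of (Localization.AtPrime q.asIdeal) (LocalizedModule q.asIdeal.primeCompl M))
        (ModuleCat.of (Localization.AtPrime q.asIdeal) (LocalizedModule q.asIdeal.primeCompl N))) := by
  obtain ⟨e⟩ := S2428.result A (Localization.AtPrime q.asIdeal) M N i
  obtain ⟨e'⟩ := nonempty_tor_congr (R := Localization.AtPrime q.asIdeal) i
    (LocalizedModule.equivTensorProduct q.asIdeal.primeCompl M).symm.toModuleIso
    (LocalizedModule.equivTensorProduct q.asIdeal.primeCompl N).symm.toModuleIso
  exact ((LocalizedModule.equivTensorProduct q.asIdeal.primeCompl _) ≪≫ₗ e ≪≫ₗ e').length_eq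

/-- `χ(M, N/tN)` as a sum over the curves through the closed point. -/
theorem chi_quot_eq (t : A) (ht0 : t ≠ 0) (htm : t ∈ maximalIdeal A) (M N : Type u) [AddCommGroup M] [Module A M]
    [Module.Finite A M] [AddCommGroup N] [Module A N] [Module.Finite A N]
    (ht : Function.Injective (LinearMap.lsmul A N t))
    (hmeet : ∀ p : PrimeSpectrum A, p ∈ Module.support A M → p ∈ Module.support A N → t ∈ p.asIdeal →
      p = closedPoint A) :
    IntMult.chi A M (N ⧸ LinearMap.range (LinearMap.lsmul A N t)) =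
      ∑ᶠ q ∈ SamuelAdd.topPrimes A 1, IntMult.chi A (A ⧸ q.asIdeal) (A ⧸ Ideal.span {t}) *
        IntMult.chi (Localization.AtPrime q.asIdeal) (LocalizedModule q.asIdeal.primeCompl M)
          (LocalizedModule q.asIdeal.primeCompl N) := by
  have hQ : ChiCalc.Meet (A := A) M (N ⧸ LinearMap.range (LinearMap.lsmul A N t)) := by
    rintro p ⟨hpM, hpQ⟩
    refine hmeet p hpM (Module.support_subset_of_surjective _ (Submodule.mkQ_surjective _) hpQ) ?_
    rw [Module.support_eq_zeroLocus, PrimeSpectrum.mem_zeroLocus] at hpQ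
    refine hpQ (Module.mem_annihilator.2 fun x => ?_)
    obtain ⟨x, rfl⟩ := Submodule.Quotient.mk_surjective _ x
    exact (Submodule.Quotient.mk_eq_zero _).2 ⟨x, rfl⟩
  set s := (maximalIdeal A).spanFinrank
  set T := fun i => DRing.Tor A i (ModuleCat.of A M) (ModuleCat.of A N)
  set L := Module.annihilator A M ⊔ Module.annihilator A N
  let φ : PrimeSpectrum A → ℤ := fun q => IntMult.chi A (A ⧸ q.asIdeal) (A ⧸ Ideal.span {t})
  have hsuppT : ∀ i, ∀ p ∈ Module.support A (T i), L ≤ p.asIdeal := by
    intro i p hp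
    haveI := finite_tor M N i (A := A)
    rw [Module.support_eq_zeroLocus, PrimeSpectrum.mem_zeroLocus] at hp
    exact fun a ha => hp (Module.mem_annihilator.2 fun y => tor_annihilated M N i a ha y)
  have hLmeet : ∀ p : PrimeSpectrum A, L ≤ p.asIdeal → t ∈ p.asIdeal → p = closedPoint A := by
    intro p hp htp
    refine hmeet p ?_ ?_ htp <;> rw [Module.support_eq_zeroLocus, PrimeSpectrum.mem_zeroLocus]
    · exact fun a ha => hp (Submodule.mem_sup_left ha)
    · exact fun a ha => hp (Submodule.mem_sup_right ha)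
  have hdimL : ∀ q : PrimeSpectrum A, L ≤ q.asIdeal → ringKrullDim (A ⧸ q.asIdeal) ≤ (1 : ℕ) := by
    intro q hq
    refine (ringKrullDim_le_ringKrullDim_quotient_add_card {Ideal.Quotient.mk q.asIdeal t} ?_).trans ?_
    · intro x hx
      rw [Finset.coe_singleton, Set.mem_singleton_iff] at hx
      subst hx
      haveI : Nontrivial (A ⧸ q.asIdeal) := Ideal.Quotient.nontrivial_iff.2 q.2.ne_top
      haveI : IsLocalRing (A ⧸ q.asIdeal) :=
        IsLocalRing.of_surjective' (Ideal.Quotient.mk q.asIdeal) Ideal.Quotient.mk_surjective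
      rw [IsLocalRing.ringJacobson_eq_maximalIdeal]
      haveI := IsLocalHom.of_surjective (Ideal.Quotient.mk q.asIdeal) Ideal.Quotient.mk_surjective
      intro hu
      exact htm ((isUnit_map_iff (Ideal.Quotient.mk q.asIdeal) t).1 hu)
    · rw [Finset.coe_singleton, Finset.card_singleton]
      have h0 : Ring.KrullDimLE 0 ((A ⧸ q.asIdeal) ⧸ Ideal.span {Ideal.Quotient.mk q.asIdeal t}) := by
        refine Ring.KrullDimLE.mk₀ fun P hP => ?_
        let π := (Ideal.Quotient.mk (Ideal.span {Ideal.Quotient.mk q.asIdeal t})).comp (Ideal.Quotient.mk q.asIdeal)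
        have hπ : Function.Surjective π := Ideal.Quotient.mk_surjective.comp Ideal.Quotient.mk_surjective
        have hP' : (P.comap π).IsPrime := Ideal.comap_isPrime π P
        have he := hLmeet ⟨P.comap π, hP'⟩ (fun a ha => by
            show π a ∈ P
            rw [show π a = 0 by simp [π, Ideal.Quotient.eq_zero_iff_mem.2 (hq ha)]]
            exact P.zero_mem) (by
            show π t ∈ P
            rw [show π t = 0 from Ideal.Quotient.eq_zero_iff_mem.2 (Ideal.mem_span_singleton_self _)]
            exact P.zero_mem)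
        have hmax : (P.comap π).IsMaximal := by
          rw [show P.comap π = maximalIdeal A from congrArg PrimeSpectrum.asIdeal he]
          exact maximalIdeal.isMaximal A
        rw [← Ideal.map_comap_of_surjective π hπ P]
        exact (Ideal.map_eq_top_or_isMaximal_of_surjective π hπ hmax).resolve_left
          (by rw [Ideal.map_comap_of_surjective π hπ P]; exact hP.ne_top)
      have h1 := (Ring.krullDimLE_iff.1 h0)
      calc _ ≤ ((0 : ℕ) : WithBot ℕ∞) + ((1 : ℕ) : WithBot ℕ∞) := by
            exact add_le_add h1 le_rfl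
        _ = _ := by simp
  have hTmeet : ∀ i, ∀ (L' : Type u) [AddCommGroup L'] [Module A L'], Module.support A L' ⊆ Module.support A (T i) →
      ChiCalc.Meet (A := A) L' (A ⧸ Ideal.span {t}) := by
    intro i L' _ _ hL' p hp
    refine hLmeet p (hsuppT i p (hL' hp.1)) ?_
    have := hp.2
    rw [Module.support_eq_zeroLocus, Ideal.annihilator_quotient, PrimeSpectrum.mem_zeroLocus] at this
    exact this (Ideal.mem_span_singleton_self t)
  have hdev : ∀ i, psi t (T i) =
      ∑ᶠ q ∈ SamuelAdd.topPrimes A 1, ((SamuelAdd.locLen q (T i)).toNat : ℤ) * φ q := by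
    intro i
    haveI := finite_tor M N i (A := A)
    rw [← chi_span_eq_psi ht0 _ (hTmeet i _ Set.Subset.rfl)]
    have key := fun hdim hadd hlow => ChiCalc.devissage (A := A) (φ := fun (L' : Type u) [AddCommGroup L'] [Module A L'] =>
      IntMult.chi A L' (A ⧸ Ideal.span {t})) (Module.support A (T i)) 1 hdim hadd hlow (T i) Set.Subset.rfl
    beta_reduce at key
    refine key (fun q hq => hdimL q (hsuppT i q hq)) ?_ ?_
    · intro N₁ N₂ N₃ _ _ _ _ _ _ _ _ _ f g hf hg hfg hN
      show IntMult.chi A N₂ _ = IntMult.chi A N₁ _ + IntMult.chi A N₃ _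
      rw [chi_comm N₂, chi_comm N₁, chi_comm N₃]
      exact ChiCalc.chi_add _ f g hf hg hfg fun p hp => hTmeet i N₂ hN ⟨hp.2, hp.1⟩
    · intro q hq hqt
      show IntMult.chi A (A ⧸ q.asIdeal) _ = 0
      have hsq : Module.support A (A ⧸ q.asIdeal) ⊆ Module.support A (T i) := fun p hp => by
        rw [Module.support_eq_zeroLocus, Ideal.annihilator_quotient, PrimeSpectrum.mem_zeroLocus] at hp
        exact Module.mem_support_mono (show q ≤ p from hp) hq
      rw [chi_span_eq_psi ht0 _ (hTmeet i _ hsq)]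
      have htq : t ∈ q.asIdeal := by
        by_contra htq
        refine hqt (le_antisymm (hdimL q (hsuppT i q hq)) ?_)
        have hne : Ideal.Quotient.mk q.asIdeal t ≠ 0 := fun e => htq (Ideal.Quotient.eq_zero_iff_mem.1 e)
        have hsucc := ringKrullDim_succ_le_of_surjective (R := A ⧸ q.asIdeal)
          (Ideal.Quotient.factor (le_maximalIdeal q.2.ne_top)) (Ideal.Quotient.factor_surjective _)
          (mem_nonZeroDivisors_of_ne_zero hne) (by
            rw [Ideal.Quotient.factor_mk]; exact Ideal.Quotient.eq_zero_iff_mem.2 htm)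
        haveI : Nontrivial (A ⧸ maximalIdeal A) := Ideal.Quotient.nontrivial_iff.2 (maximalIdeal.isMaximal A).ne_top
        calc ((1 : ℕ) : WithBot ℕ∞) = 0 + 1 := by simp
          _ ≤ ringKrullDim (A ⧸ maximalIdeal A) + 1 := add_le_add ringKrullDim_nonneg_of_nontrivial le_rfl
          _ ≤ _ := hsucc
      have hz : LinearMap.lsmul A (A ⧸ q.asIdeal) t = 0 := by
        refine LinearMap.ext fun x => ?_
        obtain ⟨x, rfl⟩ := Submodule.Quotient.mk_surjective _ x
        exact (Submodule.Quotient.mk_eq_zero _).2 (q.asIdeal.mul_mem_right _ htq)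
      have e1 : Module.length A (LinearMap.ker (LinearMap.lsmul A (A ⧸ q.asIdeal) t)) =
          Module.length A (A ⧸ q.asIdeal) :=
        ((LinearEquiv.ofEq _ _ (LinearMap.ker_eq_top.2 hz)).trans Submodule.topEquiv).length_eq
      have e2 : Module.length A ((A ⧸ q.asIdeal) ⧸ LinearMap.range (LinearMap.lsmul A (A ⧸ q.asIdeal) t)) =
          Module.length A (A ⧸ q.asIdeal) :=
        (Submodule.quotEquivOfEqBot _ (LinearMap.range_eq_bot.2 hz)).length_eq
      rw [psi, e1, e2, sub_self]
  let P : Set (PrimeSpectrum A) := {q | q ∈ SamuelAdd.topPrimes A 1 ∧ L ≤ q.asIdeal}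
  have hPfin : P.Finite := by
    refine ((L.finite_minimalPrimes_of_isNoetherianRing A).preimage
      (f := PrimeSpectrum.asIdeal) (fun x _ y _ e => PrimeSpectrum.ext e)).subset ?_
    rintro q ⟨hq1, hqL⟩
    obtain ⟨p, hp, hpq⟩ := Ideal.exists_minimalPrimes_le hqL
    let p' : PrimeSpectrum A := ⟨p, hp.1.1⟩
    by_cases he : q = p'
    · rw [he]; exact hp
    · exact absurd hq1 (SamuelAdd.quot_dim_lt (q := p') hpq he (hdimL p' hp.1.2))
  have hzero : ∀ i, ∀ q : PrimeSpectrum A, ¬ L ≤ q.asIdeal → SamuelAdd.locLen q (T i) = 0 := fun i q hq =>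
    Module.length_eq_zero_iff.2 (Module.notMem_support_iff.1 fun hm => hq (hsuppT i q hm))
  have hres : ∀ g : PrimeSpectrum A → ℤ, (∀ q, ¬ L ≤ q.asIdeal → g q = 0) →
      ∑ᶠ q ∈ SamuelAdd.topPrimes A 1, g q = ∑ q ∈ hPfin.toFinset, g q := by
    intro g hg
    refine finsum_mem_eq_sum_of_inter_support_eq _ ?_
    rw [Set.Finite.coe_toFinset]
    ext q
    simp only [Set.mem_inter_iff, Function.mem_support, P, Set.mem_setOf_eq]
    exact ⟨fun ⟨h1, h2⟩ => ⟨⟨h1, by by_contra hc; exact h2 (hg q hc)⟩, h2⟩, fun ⟨h1, h2⟩ => ⟨h1.1, h2⟩⟩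
  have hlocal : ∀ q : PrimeSpectrum A, IntMult.chi (Localization.AtPrime q.asIdeal)
      (LocalizedModule q.asIdeal.primeCompl M) (LocalizedModule q.asIdeal.primeCompl N) =
        ∑ i ∈ Finset.range (s + 1), (-1 : ℤ) ^ i * ((SamuelAdd.locLen q (T i)).toNat : ℤ) := by
    intro q
    refine (finsum_congr fun i => ?_).trans (finsum_eq_sum_of_support_subset _ fun i hi => ?_)
    · rw [← locLen_tor M N q i]
    · rw [Finset.coe_range, Set.mem_Iio]
      by_contra hlt
      refine hi ?_
      haveI : Subsingleton (T i) := ModuleCat.subsingleton_of_isZero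
        (EGA41Lib.isZero_tor_of_pd (R := A) M N (CAlgH3.pd_all N) i (by omega))
      show (-1 : ℤ) ^ i * ((SamuelAdd.locLen q (T i)).toNat : ℤ) = 0
      rw [show SamuelAdd.locLen q (T i) = 0 from Module.length_eq_zero_iff.2 inferInstance]
      simp
  rw [chi_quot_eq_sum_psi t M N ht hQ, Finset.sum_congr rfl (fun i _ => by rw [hdev i, hres _ (fun q hq => by
    rw [hzero i q hq]; simp), Finset.mul_sum]), Finset.sum_comm]
  rw [hres (fun q => IntMult.chi A (A ⧸ q.asIdeal) (A ⧸ Ideal.span {t}) * IntMult.chi (Localization.AtPrime q.asIdeal)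
    (LocalizedModule q.asIdeal.primeCompl M) (LocalizedModule q.asIdeal.primeCompl N)) fun q hq => by
      rw [hlocal q, Finset.sum_eq_zero (fun i _ => by rw [hzero i q hq]; simp), mul_zero]]
  refine Finset.sum_congr rfl fun q _ => ?_
  rw [hlocal q, Finset.mul_sum]
  exact Finset.sum_congr rfl fun i _ => by simp only [φ]; ring

end Groth.Agent.CycLib28.DivisorChi

namespace Groth.Agent.CycLib28.DivisorChi

variable {A : Type u} [CommRing A]

theorem subsingleton_tor_span {t : A} (hA : Function.Injective (LinearMap.lsmul A A t)) (M : Type u) [AddCommGroup M]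
    [Module A M] (hM : Function.Injective (LinearMap.lsmul A M t)) (i : ℕ) :
    Subsingleton (DRing.Tor A (i + 1) (ModuleCat.of A M) (ModuleCat.of A (A ⧸ Ideal.span {t}))) := by
  let f : ModuleCat.of A A ⟶ ModuleCat.of A A := ModuleCat.ofHom (LinearMap.lsmul A A t)
  let g : ModuleCat.of A A ⟶ ModuleCat.of A (A ⧸ Ideal.span {t}) := ModuleCat.ofHom (Submodule.mkQ (Ideal.span {t}))
  have hr : LinearMap.range (LinearMap.lsmul A A t) = Ideal.span {t} := by
    ext x
    simp only [LinearMap.mem_range, LinearMap.lsmul_apply, smul_eq_mul, Ideal.mem_span_singleton]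
    exact ⟨fun ⟨y, hy⟩ => ⟨y, hy.symm⟩, fun ⟨y, hy⟩ => ⟨y, hy.symm⟩⟩
  let S := ShortComplex.mk f g (by
    ext
    exact (Submodule.Quotient.mk_eq_zero _).2 (hr.le ⟨1, rfl⟩))
  have hS : S.ShortExact := LocCoh.shortExact_of hA (Submodule.mkQ_surjective _)
    (LinearMap.exact_iff.2 ((Submodule.ker_mkQ _).trans hr.symm))
  set hh := ModuleCat.of A M
  haveI := HTor16.tens_preserves hh
  haveI : (HTor16.tens hh).Linear A := inferInstanceAs ((MonoidalCategory.tensorLeft hh).Linear A)
  haveI : Projective (ModuleCat.of A A) := (IsProjective.iff_projective _).1 inferInstance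
  obtain ⟨-, δ, w₁, w₂, e₁, e₂⟩ := CommAlg4.DerivedLES.les hS (HTor16.tens hh) i
  haveI : Mono δ := e₁.mono_g
    ((Functor.isZero_leftDerived_obj_projective_succ (HTor16.tens hh) i (ModuleCat.of A A)).eq_of_src _ _)
  rcases i with - | i
  · have hf : ((HTor16.tens hh).leftDerived 0).map S.f = t • 𝟙 _ :=
      S5673.leftDerived_map_smul_id (HTor16.tens hh) 0 (ModuleCat.of A A) t
    refine ⟨fun x y => (ModuleCat.mono_iff_injective δ).1 inferInstance ?_⟩
    have h0 : ∀ x, t • δ.hom x = 0 := fun x =>
      (ConcreteCategory.congr_hom hf _).symm.trans (ConcreteCategory.congr_hom w₂ x)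
    obtain ⟨e⟩ := HTor16.torZero hh (ModuleCat.of A A)
    have h1 : ∀ x, δ.hom x = 0 := fun x => (e ≪≫ₗ TensorProduct.rid A M).injective
      ((hM (show t • (e ≪≫ₗ TensorProduct.rid A M) (δ.hom x) = t • (0 : M) by
        rw [← map_smul, h0 x, map_zero, smul_zero])).trans (map_zero _).symm)
    exact (h1 x).trans (h1 y).symm
  · haveI := ModuleCat.subsingleton_of_isZero
      (Functor.isZero_leftDerived_obj_projective_succ (HTor16.tens hh) i (ModuleCat.of A A))
    exact ((ModuleCat.mono_iff_injective δ).1 inferInstance).subsingleton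

/-- change of rings along a regular element -/
theorem chi_change_ring {t : A} (hA : Function.Injective (LinearMap.lsmul A A t)) (M : Type u) [AddCommGroup M]
    [Module A M] (hM : Function.Injective (LinearMap.lsmul A M t)) (N' : Type u) [AddCommGroup N']
    [Module (A ⧸ Ideal.span {t}) N'] [Module A N'] [IsScalarTower A (A ⧸ Ideal.span {t}) N'] :
    IntMult.chi A M N' = IntMult.chi (A ⧸ Ideal.span {t}) ((A ⧸ Ideal.span {t}) ⊗[A] M) N' := by
  refine finsum_congr fun i => congrArg (fun l : ℕ∞ => (-1 : ℤ) ^ i * (l.toNat : ℤ)) ?_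
  set B := A ⧸ Ideal.span {t}
  obtain ⟨φ, hφ⟩ := S3537.result A B M N' (fun q hq => by
    obtain ⟨j, rfl⟩ := Nat.exists_eq_succ_of_ne_zero hq.ne'
    exact subsingleton_tor_span hA M hM j) i
  letI : Module A (DRing.Tor B i (ModuleCat.of B (B ⊗[A] M)) (ModuleCat.of B N')) :=
    Module.compHom _ (algebraMap A B)
  haveI : IsScalarTower A B (DRing.Tor B i (ModuleCat.of B (B ⊗[A] M)) (ModuleCat.of B N')) :=
    IsScalarTower.of_algebraMap_smul fun a x => rfl
  let e : DRing.Tor A i (ModuleCat.of A M) (ModuleCat.of A N') ≃ₗ[A]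
      DRing.Tor B i (ModuleCat.of B (B ⊗[A] M)) (ModuleCat.of B N') :=
    LinearEquiv.ofBijective
      (⟨φ.toAddMonoidHom.toAddHom, fun a x => φ.map_smulₛₗ a x⟩ : DRing.Tor A i (ModuleCat.of A M) (ModuleCat.of A N') →ₗ[A]
        DRing.Tor B i (ModuleCat.of B (B ⊗[A] M)) (ModuleCat.of B N')) hφ
  refine e.length_eq.trans (CAlgH3.GrTopSocle.length_restrict fun b x => ?_)
  obtain ⟨a, rfl⟩ := Ideal.Quotient.mk_surjective b
  exact ⟨a, rfl⟩

end Groth.Agent.CycLib28.DivisorChi
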