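import Mathlib
import Groth.Agent.P1Lib24.Basic
import Groth.Agent.CycLib28.P1Chart
import Groth.Agent.CycLib28.P1Cycle
import Groth.Agent.CycLib28.FlatDim
import Groth.Agent.CycLib28.MultLocal

/-!
# The projective line over a smooth variety: integrality and dimension
-/

set_option autoImplicit false
set_option backward.isDefEq.respectTransparency false
set_option linter.style.haveILetI false

universe u

open CategoryTheory CategoryTheory.Limits AlgebraicGeometry IsLocalRing
open Groth.Agent

namespace Groth.Agent.CycLib28.P1Irred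

theorem geometricallyIrreducible_toSpec (R : Type u) [CommRing R] :
    GeometricallyIrreducible (CohB1.ProjSpace.toSpec 1 R) := by
  rw [geometricallyIrreducible_iff, geometrically]
  intro L _ t Y a b hP
  letI : Algebra R L := (Spec.preimage t).hom.toAlgebra
  have ht : Spec.map (CommRingCat.ofHom (algebraMap R L)) = t := Spec.map_preimage t
  have h' := Coherent.isPullback_projSpace 1 R L
  rw [ht] at h'
  haveI : IrreducibleSpace (CohB1.ProjSpace 1 L) :=
    GeometricallyIrreducible.irreducibleSpace_of_subsingleton (CohB1.ProjSpace.toSpec 1 L)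
  haveI : IrreducibleSpace (Proj (CohB1.polyGrading 1 L)) := this
  exact (h'.isoIsPullback _ _ hP).hom.homeomorph.irreducibleSpace_iff.1 this

variable (S : Scheme.{u})

theorem geometricallyIrreducible_toBase : GeometricallyIrreducible (CohB1.ProjSpaceOver.toBase 1 S) := by
  unfold CohB1.ProjSpaceOver.toBase
  exact MorphismProperty.pullback_snd _ _ (geometricallyIrreducible_toSpec (ULift.{u} ℤ))

theorem irreducibleSpace [IrreducibleSpace S] : IrreducibleSpace (CohB1.ProjSpaceOver 1 S) :=
  haveI := geometricallyIrreducible_toBase S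
  GeometricallyIrreducible.irreducibleSpace (CohB1.ProjSpaceOver.toBase 1 S) (P1Lib24.isOpenMap_toBase S)

theorem smooth_toBase : Smooth (CohB1.ProjSpaceOver.toBase 1 S) := by
  haveI := P1Lib24.smooth_projLine (ULift.{u} ℤ)
  unfold CohB1.ProjSpaceOver.toBase
  exact MorphismProperty.pullback_snd _ _ this

theorem isClosedImmersion_sect (i : Fin (1 + 1)) : IsClosedImmersion (P1.sect S i) := by
  haveI : IsProper (CohB1.ProjSpaceOver.toBase 1 S) := RelVALib.isProper_toBase 1 S
  haveI : IsClosedImmersion (P1.sect S i ≫ CohB1.ProjSpaceOver.toBase 1 S) := by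
    rw [P1Lib24.sect_toBase]; infer_instance
  exact IsClosedImmersion.of_comp _ (CohB1.ProjSpaceOver.toBase 1 S)

theorem isIntegral {K : Type u} [Field K] (f : S ⟶ Spec (CommRingCat.of K)) [Smooth f] [IsIntegral S] :
    IsIntegral (CohB1.ProjSpaceOver 1 S) := by
  haveI := smooth_toBase S
  haveI := irreducibleSpace S
  haveI : ∀ x, _root_.IsReduced ((CohB1.ProjSpaceOver 1 S).presheaf.stalk x) := fun x => by
    haveI := isRegularLocalRing_stalk (CohB1.ProjSpaceOver.toBase 1 S ≫ f) x
    haveI := CAlgH3.isDomain_of_isRegularLocalRing ((CohB1.ProjSpaceOver 1 S).presheaf.stalk x)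
    infer_instance
  haveI : IsReduced (CohB1.ProjSpaceOver 1 S) := isReduced_of_isReduced_stalk _
  exact isIntegral_of_irreducibleSpace_of_isReduced _

theorem exists_span_eq_ker (i : Fin (1 + 1)) (x : S) : ∃ t : (CohB1.ProjSpaceOver 1 S).presheaf.stalk (P1.sect S i x),
    RingHom.ker ((P1.sect S i).stalkMap x).hom = Ideal.span {t} := by
  obtain ⟨-, hm, hk⟩ := sect_mem_p1Open S i x
  exact ⟨_, hk⟩

theorem delta_genericPoint {K : Type u} [Field K] (f : S ⟶ Spec (CommRingCat.of K)) [Smooth f] [IsIntegral S]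
    {δ : S → ℤ} (hS : Cyc.IsSetup S δ) {δP : ↥(CohB1.ProjSpaceOver 1 S) → ℤ}
    (hP : Cyc.DeltaCompat (CohB1.ProjSpaceOver.toBase 1 S) δP δ) [IrreducibleSpace (CohB1.ProjSpaceOver 1 S)] :
    δP (genericPoint (CohB1.ProjSpaceOver 1 S)) = δ (genericPoint S) + 1 := by
  haveI := smooth_toBase S
  haveI := hS.1
  haveI : IsLocallyNoetherian (CohB1.ProjSpaceOver 1 S) :=
    LocallyOfFiniteType.isLocallyNoetherian (CohB1.ProjSpaceOver.toBase 1 S)
  haveI := fun i => isClosedImmersion_sect S i
  have hδP := isDimFun_of_deltaCompat (CohB1.ProjSpaceOver.toBase 1 S) hS.2.1 hS.2.2 hP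
  set q := P1.sect S 0 (genericPoint S)
  set g := genericPoint (CohB1.ProjSpaceOver 1 S)
  have hq : δP q = δ (genericPoint S) := delta_sect hP 0 _
  have hne : g ≠ q := by
    intro e
    have h1 : P1.sect S 1 (genericPoint S) ∈ Set.range (P1.sect S 0) :=
      (genericPoint_specializes (P1.sect S 1 (genericPoint S))).mem_closed
        (P1.sect S 0).isClosedEmbedding.isClosed_range ⟨_, e.symm⟩
    obtain ⟨y, hy⟩ := h1
    obtain ⟨h0, hk0, hker0⟩ := sect_mem_p1Open S 0 y
    obtain ⟨h1, hk1, hker1⟩ := sect_mem_p1Open S 1 (genericPoint S)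
    have ha := IsLocalRing.le_maximalIdeal (RingHom.ker_ne_top ((P1.sect S 1).stalkMap (genericPoint S)).hom)
      (hker1.ge (Ideal.mem_span_singleton_self _))
    have hq0 : P1.sect S 1 (genericPoint S) ∈ p1Open S 0 := hy ▸ h0
    exact (IsLocalRing.mem_maximalIdeal _).mp ha (IsUnit.of_mul_eq_one_right _ (p1Coord_mul S _ hq0 h1))
  have hlt := (hδP g q (genericPoint_specializes q) hne).1
  haveI : Smooth (CohB1.ProjSpaceOver.toBase 1 S ≫ f) := inferInstance
  haveI := isRegularLocalRing_stalk (CohB1.ProjSpaceOver.toBase 1 S ≫ f) q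
  have hdim := dim_stalk_irreducible hδP q
  obtain ⟨t, ht⟩ := exists_span_eq_ker S 0 (genericPoint S)
  have hmax : maximalIdeal ((CohB1.ProjSpaceOver 1 S).presheaf.stalk q) = Ideal.span {t} := by
    rw [← ht]
    exact ((IsLocalRing.isMaximal_iff _).mp
      (RingHom.ker_isMaximal_of_surjective (K := S.functionField) ((P1.sect S 0).stalkMap (genericPoint S)).hom
        ((P1.sect S 0).stalkMap_surjective _))).symm
  have h1 : ringKrullDim ((CohB1.ProjSpaceOver 1 S).presheaf.stalk q) ≤ ((1 : ℕ) : WithBot ℕ∞) := by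
    refine (ringKrullDim_le_spanFinrank_maximalIdeal _).trans ?_
    rw [hmax]
    exact_mod_cast (Submodule.spanFinrank_span_le_ncard_of_finite (Set.finite_singleton t)).trans_eq (Set.ncard_singleton t)
  rw [hdim] at h1
  have h2 : (δP g - δP q).toNat ≤ 1 := by exact_mod_cast h1
  omega

end Groth.Agent.CycLib28.P1Irred
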