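import Mathlib
import Groth.Agent.CycLib28.InterSheaf
import Groth.Agent.CycLib28.PushStalk
import Groth.Agent.CycLib28.PushSupport
import Groth.Agent.Coherent.FinitePres
import Groth.Agent.Coherent.ProperFinite

/-!
# The coherent sheaf of a prime cycle; bilinearity of the intersection product
-/

set_option autoImplicit false
set_option linter.style.haveILetI false

universe u

open CategoryTheory AlgebraicGeometry IsLocalRing

namespace Groth.Agent.CycLib28.InterSheaf

variable {X : Scheme.{u}}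

/-- the structure sheaf of the closure of a point -/
noncomputable abbrev pointSheaf (ξ : X) : X.Modules :=
  (Coh.push (IntMult.ptIdeal ξ).subschemeι).obj (Coh.structureModule (IntMult.ptIdeal ξ).subscheme)

theorem isCoh_pointSheaf [IsLocallyNoetherian X] (ξ : X) : Coh.IsCoh (pointSheaf ξ) := by
  haveI : IsLocallyNoetherian (IntMult.ptIdeal ξ).subscheme :=
    LocallyOfFiniteType.isLocallyNoetherian (IntMult.ptIdeal ξ).subschemeι
  exact Coherent.isCoh_push_finite _ (Coherent.isCoh_structureModule _)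

theorem specializes_of_nontrivial_pointSheaf (ξ x : X) (h : Nontrivial ((pointSheaf ξ).presheaf.stalk x)) :
    ξ ⤳ x := by
  by_contra hn
  refine not_subsingleton_iff_nontrivial.mpr h (subsingleton_stalk_push _ _ ?_)
  rintro ⟨z, rfl⟩
  exact hn (mem_support_ptIdeal.1 ((IntMult.ptIdeal ξ).range_subschemeι.le ⟨z, rfl⟩))

theorem sheafFun_pointSheaf {δ : X → ℤ} (hδ : Cyc.IsDimFun X δ) {ξ : X} {r : ℤ} (hξ : δ ξ = r) :
    Cyc.sheafFun δ r (pointSheaf ξ) = Set.indicator {ξ} 1 := by
  rw [← subschemeFun_eq]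
  haveI := isIntegral_ptIdeal ξ
  set ι := (IntMult.ptIdeal ξ).subschemeι
  funext x
  simp only [Cyc.subschemeFun]
  have key : ∀ z, δ (ι z) = r → ι z = ξ := fun z hz =>
    (eq_of_specializes_of_le hδ (mem_support_ptIdeal.1 ((IntMult.ptIdeal ξ).range_subschemeι.le ⟨z, rfl⟩))
      (hξ.trans hz.symm).le).symm
  by_cases hx : x = ξ
  · subst hx
    obtain ⟨z, hz⟩ : x ∈ Set.range ι := (IntMult.ptIdeal x).range_subschemeι.ge (mem_support_ptIdeal.2 specializes_rfl)
    have hgen : z = genericPoint (IntMult.ptIdeal x).subscheme := by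
      have h1 : z ⤳ genericPoint (IntMult.ptIdeal x).subscheme := by
        rw [← ι.isEmbedding.isInducing.specializes_iff, hz]
        exact mem_support_ptIdeal.1 ((IntMult.ptIdeal x).range_subschemeι.le ⟨_, rfl⟩)
      exact (h1.antisymm (genericPoint_specializes z)).eq
    have hs : {w | ι w = x} = {z} := Set.ext fun w => ⟨fun hw => ι.isEmbedding.injective (hw.trans hz.symm),
      fun hw => hw ▸ hz⟩
    rw [if_pos hξ, hs, finsum_mem_singleton, hgen, Set.indicator_of_mem (Set.mem_singleton _)]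
    show ((Module.length (IntMult.ptIdeal x).subscheme.functionField
      (IntMult.ptIdeal x).subscheme.functionField).toNat : ℤ) = 1
    rw [Module.length_eq_one]
    rfl
  · rw [Set.indicator_of_notMem (show x ∉ ({ξ} : Set X) from hx)]
    split_ifs with h
    · have : {w | ι w = x} = ∅ := Set.eq_empty_of_forall_notMem fun w hw => hx (hw ▸ key w (hw ▸ h))
      rw [this, finsum_mem_empty]
    · rfl

theorem interProd_eq_sum (δ : X → ℤ) (n : ℤ) (α β : X → ℤ) (S T : Finset X) (hS : ∀ x, α x ≠ 0 → x ∈ S)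
    (hT : ∀ x, β x ≠ 0 → x ∈ T) (ζ : X) :
    IntMult.interProd δ n α β ζ = ∑ a ∈ S, ∑ b ∈ T, α a * β b *
      ({p : X × X | p.1 ⤳ ζ ∧ p.2 ⤳ ζ ∧ δ p.1 + δ p.2 - n = δ ζ}.indicator
        (fun p => IntMult.mult (IntMult.ptIdeal p.1) (IntMult.ptIdeal p.2) ζ) (a, b)) := by
  classical
  let C : Set (X × X) := {p | p.1 ⤳ ζ ∧ p.2 ⤳ ζ ∧ δ p.1 + δ p.2 - n = δ ζ}
  let g : X × X → ℤ := fun p => IntMult.mult (IntMult.ptIdeal p.1) (IntMult.ptIdeal p.2) ζ
  show ∑ᶠ p : C, α p.1.1 * β p.1.2 * g p.1 = _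
  rw [finsum_set_coe_eq_finsum_mem (f := fun p : X × X => α p.1 * β p.2 * g p) C, finsum_mem_def,
    ← Finset.sum_product']
  rw [finsum_congr (g := fun p => α p.1 * β p.2 * C.indicator g p) fun p => Set.indicator_mul_right C
    (fun p : X × X => α p.1 * β p.2) g]
  refine finsum_eq_sum_of_support_subset _ fun p h => ?_
  rw [Finset.coe_product]
  exact ⟨hS _ (left_ne_zero_of_mul (left_ne_zero_of_mul h)), hT _ (right_ne_zero_of_mul (left_ne_zero_of_mul h))⟩

/-- Bilinearity for finitely supported coefficient functions. -/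
theorem interProd_sum {ι κ : Type*} (δ : X → ℤ) (n : ℤ) (I : Finset ι) (J : Finset κ) (c : ι → ℤ) (d : κ → ℤ)
    (a : ι → X → ℤ) (b : κ → X → ℤ) (S T : Finset X) (hS : ∀ i ∈ I, ∀ x, a i x ≠ 0 → x ∈ S)
    (hT : ∀ j ∈ J, ∀ x, b j x ≠ 0 → x ∈ T) (ζ : X) :
    IntMult.interProd δ n (fun x => ∑ i ∈ I, c i * a i x) (fun x => ∑ j ∈ J, d j * b j x) ζ =
      ∑ i ∈ I, ∑ j ∈ J, c i * d j * IntMult.interProd δ n (a i) (b j) ζ := by
  rw [interProd_eq_sum δ n _ _ S T (fun x hx => by
      obtain ⟨i, hi, h⟩ := Finset.exists_ne_zero_of_sum_ne_zero hx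
      exact hS i hi x (right_ne_zero_of_mul h))
    (fun x hx => by
      obtain ⟨j, hj, h⟩ := Finset.exists_ne_zero_of_sum_ne_zero hx
      exact hT j hj x (right_ne_zero_of_mul h))]
  rw [Finset.sum_congr rfl fun i hi => Finset.sum_congr rfl fun j hj => congrArg (c i * d j * ·)
    (interProd_eq_sum δ n (a i) (b j) S T (hS i hi) (hT j hj) ζ)]
  simp only [Finset.sum_mul, Finset.mul_sum]
  simp only [← Finset.sum_product']
  refine Finset.sum_bij' (fun p _ => (p.2.2.2, p.2.2.1, p.1, p.2.1)) (fun q _ => (q.2.2.1, q.2.2.2, q.2.1, q.1))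
    (fun p hp => ?_) (fun q hq => ?_) (fun p _ => rfl) (fun q _ => rfl) (fun p _ => ?_)
  · simp only [Finset.mem_product] at hp ⊢; tauto
  · simp only [Finset.mem_product] at hq ⊢; tauto
  · ring

theorem sum_indicator_mul {α : X → ℤ} {S : Finset X} (hS : ∀ x, α x ≠ 0 → x ∈ S) (x : X) :
    ∑ ξ ∈ S, α ξ * Set.indicator ({ξ} : Set X) (1 : X → ℤ) x = α x := by
  classical
  rw [Finset.sum_eq_single x (fun ξ _ hne => by rw [Set.indicator_of_notMem (show x ∉ ({ξ} : Set X) from fun h => hne h.symm), mul_zero])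
    (fun hx => by rw [show α x = 0 from by_contra fun h => hx (hS x h), zero_mul])]
  rw [Set.indicator_of_mem (Set.mem_singleton _)]
  exact mul_one _

end Groth.Agent.CycLib28.InterSheaf
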