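import Mathlib
import Groth.Agent.CycLib28.P1Irred
import Groth.Agent.CycLib28.P1Subscheme
import Groth.Agent.CycLib28.PointSheaf
import Groth.Agent.CycLib28.DivisorChi
import Groth.Agent.CycLib28.InterSheaf
import Groth.Agent.CycLib28.RatAdd
import Groth.Agent.CycLib28.DegZero

/-!
# The intersection with a section of the projective line
-/

set_option autoImplicit false
set_option backward.isDefEq.respectTransparency false
set_option linter.style.haveILetI false

universe u

open CategoryTheory CategoryTheory.Limits AlgebraicGeometry IsLocalRing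
open Groth.Agent Groth.Agent.CycLim28 Groth.Agent.CycLib28.InterSheaf

namespace Groth.Agent.CycLib28.P1Inter

theorem deltaCompat_comp {X Y Z : Scheme.{u}} (f : X ⟶ Y) (g : Y ⟶ Z) [LocallyOfFiniteType f] [LocallyOfFiniteType g]
    {δX : X → ℤ} {δY : Y → ℤ} {δZ : Z → ℤ} (hf : Cyc.DeltaCompat f δX δY) (hg : Cyc.DeltaCompat g δY δZ) :
    Cyc.DeltaCompat (f ≫ g) δX δZ := by
  intro x
  refine ⟨DimLib.trdegHom ((f ≫ g).residueFieldMap x).hom, ?_, ?_⟩
  · exact (Cardinal.cast_toNat_of_lt_aleph0 (FlatMor12.trdeg_residueFieldMap_lt (f ≫ g) x)).symm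
  · rw [FlatMor12.trdegHom_comp_residueFieldMap f g x, DeltaCompat.eq f hf x, DeltaCompat.eq g hg (f x)]
    push_cast
    simp only [Scheme.Hom.comp_apply]
    ring

theorem sheafFun_push_integral {X Z : Scheme.{u}} (ι : Z ⟶ X) [IsClosedImmersion ι] [IsIntegral Z] {δ : X → ℤ}
    (hδ : Cyc.IsDimFun X δ) {r : ℤ} (hr : δ (ι (genericPoint Z)) = r) :
    Cyc.sheafFun δ r ((Coh.push ι).obj (Coh.structureModule Z)) = Set.indicator {ι (genericPoint Z)} 1 := by
  rw [← subschemeFun_eq]
  funext x
  simp only [Cyc.subschemeFun]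
  have key : ∀ z, δ (ι z) = r → z = genericPoint Z := fun z hz =>
    (ι.isEmbedding.injective (eq_of_specializes_of_le hδ ((genericPoint_specializes z).map ι.continuous)
      (hr.trans hz.symm).le)).symm
  by_cases hx : x = ι (genericPoint Z)
  · subst hx
    have hs : {w | ι w = ι (genericPoint Z)} = {genericPoint Z} := Set.ext fun w =>
      ⟨fun hw => ι.isEmbedding.injective hw, fun hw => congrArg _ hw⟩
    rw [if_pos hr, hs, finsum_mem_singleton, Set.indicator_of_mem (Set.mem_singleton _)]
    show ((Module.length Z.functionField Z.functionField).toNat : ℤ) = 1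
    rw [Module.length_eq_one]
    rfl
  · rw [Set.indicator_of_notMem (show x ∉ ({ι (genericPoint Z)} : Set X) from hx)]
    split_ifs with h
    · have : {w | ι w = x} = ∅ := Set.eq_empty_of_forall_notMem fun w hw =>
        hx (hw ▸ congrArg _ (key w (hw ▸ h)))
      rw [this, finsum_mem_empty]
    · rfl

theorem injective_or_annihilated {X Z : Scheme.{u}} (ι : Z ⟶ X) [IsClosedImmersion ι] [IsIntegral Z] (q : X)
    (t : X.presheaf.stalk q) :
    Function.Injective (LinearMap.lsmul (X.presheaf.stalk q)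
        (((Coh.push ι).obj (Coh.structureModule Z)).presheaf.stalk q) t) ∨
      ∀ v : ((Coh.push ι).obj (Coh.structureModule Z)).presheaf.stalk q, t • v = 0 := by
  by_cases hq : q ∈ Set.range ι
  swap
  · haveI := subsingleton_stalk_push ι (Coh.structureModule Z) hq
    exact Or.inl fun a b _ => Subsingleton.elim a b
  obtain ⟨z, rfl⟩ := hq
  letI : Algebra (X.presheaf.stalk (ι z)) (Z.presheaf.stalk z) := (ι.stalkMap z).hom.toAlgebra
  obtain ⟨e⟩ := exists_stalk_push_equiv ι z
  by_cases h : algebraMap _ (Z.presheaf.stalk z) t = 0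
  · exact Or.inr fun v => e.injective (by rw [map_smul, map_zero, Algebra.smul_def, h, zero_mul])
  · refine Or.inl fun a b hab => e.injective (mul_left_cancel₀ h ?_)
    rw [← Algebra.smul_def, ← Algebra.smul_def, ← map_smul, ← map_smul]
    exact congrArg e hab

variable {K : Type u} [Field K] [IsAlgClosed K] {X : Scheme.{u}} (f : X ⟶ Spec (CommRingCat.of K)) [Smooth f] [IsSeparated f]
  [QuasiCompact f] [IsIntegral X]
  {δ : X → ℤ} {δP : ↥(CohB1.ProjSpaceOver 1 X) → ℤ}

omit [IsAlgClosed K] [Smooth f] [IsSeparated f] [QuasiCompact f] in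
theorem interProd_sect_eq_zero (hP : Cyc.DeltaCompat (CohB1.ProjSpaceOver.toBase 1 X) δP δ)
    (i : Fin (1 + 1)) (N : ℤ) (α : ↥(CohB1.ProjSpaceOver 1 X) → ℤ) (q : ↥(CohB1.ProjSpaceOver 1 X))
    (hq : q ∉ Set.range (P1.sect X i)) :
    IntMult.interProd δP N α (Set.indicator {P1.sect X i (genericPoint X)} 1) q = 0 := by
  haveI := P1Irred.isClosedImmersion_sect X i
  refine finsum_eq_zero_of_forall_eq_zero fun p => ?_
  by_contra hne
  have h := Set.mem_of_indicator_ne_zero (right_ne_zero_of_mul (left_ne_zero_of_mul hne))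
  refine hq (Specializes.mem_closed ?_ (P1.sect X i).isClosedEmbedding.isClosed_range ⟨genericPoint X, rfl⟩)
  exact h ▸ p.2.2.1

theorem interProd_sect_eq (hX : Cyc.IsSetup X δ) (hδ : Cyc.DeltaCompat f δ (fun _ => 0)) {n : ℤ}
    (hn : δ (genericPoint X) = n) (hPX : Cyc.IsSetup (CohB1.ProjSpaceOver 1 X) δP)
    (hP : Cyc.DeltaCompat (CohB1.ProjSpaceOver.toBase 1 X) δP δ) (i : Fin (1 + 1)) {k : ℤ}
    (w : ↥(CohB1.ProjSpaceOver 1 X)) (hw : δP w = k + 1)
    (hprop : ∀ ζ, w ⤳ ζ → P1.sect X i (genericPoint X) ⤳ ζ → δP ζ ≤ k) (x : X) :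
    IntMult.interProd δP (n + 1) (Set.indicator {w} 1) (Set.indicator {P1.sect X i (genericPoint X)} 1) (P1.sect X i x) =
      Cyc.subschemeFun δ k (pullback.snd (IntMult.ptIdeal w).subschemeι (P1.sect X i)) x := by
  haveI := hX.1
  haveI := hPX.1
  haveI := P1Irred.isClosedImmersion_sect X i
  haveI := P1Irred.smooth_toBase X
  haveI := P1Irred.irreducibleSpace X
  haveI := P1Irred.isIntegral X f
  haveI := isIntegral_ptIdeal w
  set q := P1.sect X i x
  have hs : δP q = δ x := delta_sect hP i x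
  have hgs : δP (P1.sect X i (genericPoint X)) = n := (delta_sect hP i _).trans hn
  by_cases hk : δ x = k
  swap
  · rw [Cyc.subschemeFun, if_neg hk]
    refine finsum_eq_zero_of_forall_eq_zero fun p => ?_
    by_contra hne
    have h1 := Set.mem_of_indicator_ne_zero (left_ne_zero_of_mul (left_ne_zero_of_mul hne))
    have h2 := Set.mem_of_indicator_ne_zero (right_ne_zero_of_mul (left_ne_zero_of_mul hne))
    have h3 := p.2.2.2
    rw [(h1 : p.1.1 = w), (h2 : p.1.2 = _), hw, hgs, hs] at h3
    omega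
  haveI : IsLocallyNoetherian X := hX.1
  let G := (Coh.push (P1.sect X i)).obj (Coh.structureModule X)
  have hG : Coh.IsCoh G := Coherent.isCoh_push_finite _ (Coherent.isCoh_structureModule X)
  have hF : Coh.IsCoh (pointSheaf w) := isCoh_pointSheaf w
  have hmemG : ∀ z, Nontrivial (G.presheaf.stalk z) → P1.sect X i (genericPoint X) ⤳ z := fun z hz => by
    by_contra hn'
    refine not_subsingleton_iff_nontrivial.mpr hz (subsingleton_stalk_push _ _ ?_)
    rintro ⟨y, rfl⟩
    exact hn' ((genericPoint_specializes y).map (P1.sect X i).continuous)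
  have hgP : δP (genericPoint (CohB1.ProjSpaceOver 1 X)) = n + 1 := by
    rw [P1Irred.delta_genericPoint X f hX hP, hn]
  haveI : Smooth (CohB1.ProjSpaceOver.toBase 1 X ≫ f) := inferInstance
  haveI : IsProper (CohB1.ProjSpaceOver.toBase 1 X) := RelVALib.isProper_toBase 1 X
  have hboth : ∀ z, Nontrivial ((pointSheaf w).presheaf.stalk z) → Nontrivial (G.presheaf.stalk z) → δP z ≤ k :=
    fun z h1 h2 => hprop z (specializes_of_nontrivial_pointSheaf w z h1) (hmemG z h2)
  rw [← sheafFun_pointSheaf hPX.2.2 hw, ← sheafFun_push_integral (P1.sect X i) hPX.2.2 hgs,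
    InterSheaf.interProd_eq_chi (CohB1.ProjSpaceOver.toBase 1 X ≫ f) hPX (deltaCompat_comp _ f hP hδ) hgP hF hG
      (fun z hz => hw ▸ le_of_specializes hPX.2.2 (specializes_of_nontrivial_pointSheaf w z hz))
      (fun z hz => hgs ▸ le_of_specializes hPX.2.2 (hmemG z hz))
      (fun z h1 h2 => (hboth z h1 h2).trans (by omega)) (by omega),
    ← sheafFun_pullback_push_eq, Cyc.sheafFun, if_pos hk, length_stalk_pullback_closed]
  haveI := isRegularLocalRing_stalk (CohB1.ProjSpaceOver.toBase 1 X ≫ f) q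
  haveI := CAlgH3.isDomain_of_isRegularLocalRing ((CohB1.ProjSpaceOver 1 X).presheaf.stalk q)
  haveI := AssSch12.finite_stalk hF q
  obtain ⟨t, ht⟩ := P1Irred.exists_span_eq_ker X i x
  let A : Type u := (CohB1.ProjSpaceOver 1 X).presheaf.stalk q
  let M : Type u := (pointSheaf w).presheaf.stalk q
  have eG : Nonempty (G.presheaf.stalk q ≃ₗ[A] (A ⧸ Ideal.span {t})) := by
    letI : Algebra A (X.presheaf.stalk x) := ((P1.sect X i).stalkMap x).hom.toAlgebra
    obtain ⟨e⟩ := exists_stalk_push_equiv (P1.sect X i) x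
    let g : A →ₗ[A] X.presheaf.stalk x := Algebra.linearMap A (X.presheaf.stalk x)
    exact ⟨e ≪≫ₗ (g.quotKerEquivOfSurjective ((P1.sect X i).stalkMap_surjective x)).symm ≪≫ₗ
      Submodule.quotEquivOfEq _ _ (by ext a; exact SetLike.ext_iff.1 ht a)⟩
  obtain ⟨eG⟩ := eG
  have hPw' : ∀ P : PrimeSpectrum A, P ∈ Module.support A M → t ∈ P.asIdeal → P = closedPoint A := by
    intro P hPM htP
    have hn1 := (InterSheaf.mem_support_iff_stalk hF.1 q P).1 hPM
    have hn2 : Nontrivial (G.presheaf.stalk ((CohB1.ProjSpaceOver 1 X).fromSpecStalk q P)) :=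
      (InterSheaf.mem_support_iff_stalk hG.1 q P).1 (eG.support_eq.symm ▸ (by
        rw [Module.support_eq_zeroLocus, Ideal.annihilator_quotient, PrimeSpectrum.mem_zeroLocus]
        exact (Ideal.span_singleton_le_iff_mem _).2 htP))
    have hle := hboth _ hn1 hn2
    refine fromSpecStalk_injective q ((eq_of_specializes_of_le hPX.2.2 (fromSpecStalk_specializes q P) ?_).trans
      Scheme.fromSpecStalk_closedPoint.symm)
    omega
  have hmeet : ChiCalc.Meet (A := A) M (A ⧸ Ideal.span {t}) := fun P hP => by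
    refine hPw' P hP.1 ?_
    have := hP.2
    rw [Module.support_eq_zeroLocus, Ideal.annihilator_quotient, PrimeSpectrum.mem_zeroLocus] at this
    exact this (Ideal.mem_span_singleton_self t)
  have hinj : Function.Injective (LinearMap.lsmul A M t) := by
    by_cases hMt : Subsingleton M
    · exact fun a b _ => Subsingleton.elim a b
    have hMn : Nontrivial M := not_subsingleton_iff_nontrivial.1 hMt
    have hwq := specializes_of_nontrivial_pointSheaf w q hMn
    obtain ⟨P, hP⟩ := exists_fromSpecStalk_eq hwq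
    have hwn : Nontrivial ((pointSheaf w).presheaf.stalk w) := by
      refine (InterSheaf.nontrivial_of_sheafFun_ne_zero (δ := δP) (r := k + 1) ?_).2
      rw [sheafFun_pointSheaf hPX.2.2 hw, Set.indicator_of_mem (Set.mem_singleton w)]
      exact one_ne_zero
    have hPM : P ∈ Module.support A M :=
      (InterSheaf.mem_support_iff_stalk hF.1 q P).2 (hP ▸ hwn)
    have htP : t ∉ P.asIdeal := fun h => by
      have hq := hPw' P hPM h
      rw [hq, Scheme.fromSpecStalk_closedPoint] at hP
      rw [← hP] at hw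
      omega
    rcases injective_or_annihilated (IntMult.ptIdeal w).subschemeι q t with h | h
    · exact h
    · exact absurd ((Module.mem_support_iff_of_finite.1 hPM) (Module.mem_annihilator.2 h)) htP
  have ht0 : t ≠ 0 := by
    intro h0
    subst h0
    have htop := fun P (hP : P ∈ Module.support A M) => hPw' P hP P.asIdeal.zero_mem
    have hsub : Subsingleton M := ⟨fun a b => hinj (by simp)⟩
    obtain ⟨P, hP⟩ := exists_fromSpecStalk_eq
      (genericPoint_specializes q : genericPoint (CohB1.ProjSpaceOver 1 X) ⤳ q)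
    have hbot : RingHom.ker ((P1.sect X i).stalkMap x).hom = ⊥ := by rw [ht]; exact Ideal.span_singleton_zero
    have hmem : Nontrivial (G.presheaf.stalk ((CohB1.ProjSpaceOver 1 X).fromSpecStalk q P)) :=
      (InterSheaf.mem_support_iff_stalk hG.1 q P).1 (eG.support_eq.symm ▸ (by
        rw [Module.support_eq_zeroLocus, Ideal.annihilator_quotient, PrimeSpectrum.mem_zeroLocus]
        exact (Ideal.span_singleton_le_iff_mem _).2 P.asIdeal.zero_mem))
    rw [hP] at hmem
    have := le_of_specializes hPX.2.2 (hmemG _ hmem)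
    omega
  rw [chi_congr_both (LinearEquiv.refl A M) eG, DivisorChi.chi_span_eq_psi ht0 M hmeet, DivisorChi.psi]
  haveI : Subsingleton (LinearMap.ker (LinearMap.lsmul A M t)) := by
    rw [LinearMap.ker_eq_bot.2 hinj]; infer_instance
  rw [show Module.length A (LinearMap.ker (LinearMap.lsmul A M t)) = 0 from Module.length_eq_zero_iff.2 inferInstance,
    ENat.toNat_zero, Nat.cast_zero, sub_zero]
  congr 2
  refine (Submodule.quotEquivOfEq _ _ ?_).length_eq
  rw [ht, Submodule.ideal_span_singleton_smul]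
  ext v
  simp [Submodule.mem_smul_pointwise_iff_exists]

theorem finite_support_sheafFun {X : Scheme.{u}} [IsLocallyNoetherian X] [CompactSpace X] {δ : X → ℤ}
    (hδ : Cyc.IsDimFun X δ) {F : X.Modules} (hF : Coh.IsCoh F) (k : ℤ)
    (hdim : ∀ z : X, Nontrivial (F.presheaf.stalk z) → δ z ≤ k) : (Function.support (Cyc.sheafFun δ k F)).Finite := by
  choose U hU hxU hfin using exists_open_finite_top_points hδ hF k hdim
  obtain ⟨t, ht⟩ := isCompact_univ.elim_finite_subcover U hU (fun x _ => Set.mem_iUnion.2 ⟨x, hxU x⟩)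
  refine ((t.finite_toSet.biUnion fun i _ => (hfin i).image Subtype.val)).subset fun z hz => ?_
  obtain ⟨i, hi, hzi⟩ := Set.mem_iUnion₂.1 (ht (Set.mem_univ z))
  exact Set.mem_biUnion hi ⟨⟨z, nontrivial_of_sheafFun_ne_zero hz⟩, ⟨z, subset_closure rfl, hzi⟩, rfl⟩

/-- a function with finite support as a cycle -/
noncomputable def cycleOfFinite {X : Scheme.{u}} (F : X → ℤ) (h : (Function.support F).Finite) : AlgebraicCycle X ℤ where
  toFun := F
  supportWithinDomain' := Set.subset_univ _
  supportLocallyFiniteWithinDomain' := fun _ _ => ⟨Set.univ, Filter.univ_mem, h.subset Set.inter_subset_right⟩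

theorem subscheme_gen {X : Scheme.{u}} (w : X) [IrreducibleSpace (IntMult.ptIdeal w).subscheme] :
    (IntMult.ptIdeal w).subschemeι (genericPoint (IntMult.ptIdeal w).subscheme) = w := by
  obtain ⟨z, hz⟩ : w ∈ Set.range (IntMult.ptIdeal w).subschemeι :=
    (IntMult.ptIdeal w).range_subschemeι.ge (mem_support_ptIdeal.2 specializes_rfl)
  refine (Specializes.antisymm ?_ ?_).eq
  · conv_rhs => rw [← hz]
    exact (genericPoint_specializes z).map (IntMult.ptIdeal w).subschemeι.continuous
  · exact mem_support_ptIdeal.1 ((IntMult.ptIdeal w).range_subschemeι.le ⟨_, rfl⟩)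

/-- the pushforward of cycles as an additive map -/
noncomputable def mapHom {X Y : Scheme.{u}} (p : X ⟶ Y) [QuasiCompact p] (δX : X → ℤ) (δY : Y → ℤ) :
    AlgebraicCycle X ℤ →+ AlgebraicCycle Y ℤ :=
  AddMonoidHom.mk' (AlgebraicCycle.map p δX δY) fun a b =>
    Function.locallyFinsuppWithin.ext fun y => map_apply_add p δX δY a b (a + b) (fun _ => rfl) y

theorem ratEquivZero_zero {X : Scheme.{u}} {δ : X → ℤ} {k : ℤ} : Cyc.RatEquivZero δ k (0 : AlgebraicCycle X ℤ) :=
  ⟨PEmpty.{u + 1}, PEmpty.elim, fun i => i.elim, fun i => i.elim, fun i => i.elim,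
    fun _ => ⟨Set.univ, isOpen_univ, trivial, Set.toFinite _⟩, fun x => (finsum_of_isEmpty _).symm⟩

theorem ratEquivZero_zsmul {X : Scheme.{u}} [IsLocallyNoetherian X] {δ : X → ℤ} (hδ : Cyc.IsDimFun X δ) {k : ℤ} {a : AlgebraicCycle X ℤ}
    (h : Cyc.RatEquivZero δ k a) (m : ℤ) : Cyc.RatEquivZero δ k (m • a) := by
  induction m using Int.induction_on with
  | zero => rw [zero_smul]; exact ratEquivZero_zero
  | succ i ih => rw [add_smul, one_smul]; exact ratEquivZero_add ih h fun _ => rfl
  | pred i ih =>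
    rw [sub_smul, one_smul, sub_eq_add_neg]
    exact ratEquivZero_add ih (ratEquivZero_neg hδ h (β := -a) fun _ => rfl) fun _ => rfl

end Groth.Agent.CycLib28.P1Inter
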