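import Mathlib
import Groth.Agent.CycLib28.P1Subscheme
import Groth.Agent.Coherent.Chow
import Groth.Agent.S0019
import Groth.Agent.ZClosLib.Descent

/-!
# Principal divisors as fibres at zero and infinity of closed subschemes of the projective line
-/

universe u

open CategoryTheory CategoryTheory.Limits AlgebraicGeometry IsLocalRing Groth.Agent.CycLim28

namespace Groth.Agent.CycLib28

variable {X Y Z W : Scheme.{u}}

theorem residueFieldMap_congr_hom {m m' : X ⟶ Y} (e : m = m') (x : X) (c : Y.residueField (m' x)) :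
    (m.residueFieldMap x).hom
      ((Y.residueFieldCongr (congrArg (fun f : X ⟶ Y ↦ f x) e)).inv.hom c) = (m'.residueFieldMap x).hom c := by
  subst e; simp

theorem normGen_residueFieldMap (q : X ⟶ Y) (x : X) (hb : Function.Bijective (q.residueFieldMap x).hom)
    (a : Y.residueField (q x)) : Cyc.normGen q x ((q.residueFieldMap x).hom a) = a := by
  letI := (q.residueFieldMap x).hom.toAlgebra
  let e : Y.residueField (q x) ≃ₐ[Y.residueField (q x)] X.residueField x :=
    AlgEquiv.ofBijective (Algebra.ofId _ _) hb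
  change Algebra.norm (Y.residueField (q x)) (algebraMap (Y.residueField (q x)) (X.residueField x) a) = a
  rw [Algebra.norm_algebraMap, ← e.toLinearEquiv.finrank_eq, Module.finrank_self, pow_one]

theorem delta_eq_of_bijective {δX : X → ℤ} {δY : Y → ℤ} (p : X ⟶ Y) (hδ : Cyc.DeltaCompat p δX δY) (x : X)
    (hb : Function.Bijective (p.residueFieldMap x).hom) : δX x = δY (p x) := by
  obtain ⟨n, hn, h⟩ := hδ x
  letI := (p.residueFieldMap x).hom.toAlgebra
  haveI : Algebra.IsAlgebraic (Y.residueField (p x)) (X.residueField x) := ⟨fun s ↦ by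
    obtain ⟨r, rfl⟩ := hb.2 s
    exact isAlgebraic_algebraMap r⟩
  rw [trdeg_eq_zero] at hn
  have : n = 0 := by exact_mod_cast hn.symm
  omega

theorem map_divFun_bijective_aux [IsLocallyNoetherian X] [IsLocallyNoetherian Y]
    {δX : X → ℤ} {δY : Y → ℤ} (hX : Cyc.IsDimFun X δX) (hY : Cyc.IsDimFun Y δY) (p : X ⟶ Y) [IsProper p]
    (hδ : Cyc.DeltaCompat p δX δY) [IsIntegral Z] [IsIntegral W] (i : Z ⟶ X) (j : W ⟶ Y) [IsClosedImmersion i]
    [IsClosedImmersion j] (q : Z ⟶ W) (hq : q ≫ j = i ≫ p) (hqη : q (genericPoint Z) = genericPoint W)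
    (ξ : X) (hξ : i (genericPoint Z) = ξ)
    (g : Y.residueField (p ξ)) (hg : g ≠ 0) (hb : Function.Bijective (p.residueFieldMap ξ).hom)
    (α : AlgebraicCycle X ℤ) (hα : ⇑α = Cyc.divFun δX ξ ((p.residueFieldMap ξ).hom g)) (y : Y) :
    AlgebraicCycle.map p δX δY α y = Cyc.divFun δY (p ξ) g y := by
  subst hξ
  haveI : IsLocallyNoetherian Z := LocallyOfFiniteType.isLocallyNoetherian i
  haveI : IsLocallyNoetherian W := LocallyOfFiniteType.isLocallyNoetherian j
  haveI : IsProper (q ≫ j) := by rw [hq]; infer_instance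
  haveI : IsProper q := IsProper.of_comp q j
  have hZ := isDimFun_comp_closedImmersion i hX
  have hW := isDimFun_comp_closedImmersion j hY
  have hcq := deltaCompat_square i j q p hq hδ
  have hqz : ∀ z, j (q z) = p (i z) := fun z ↦ congrArg (fun m => m z) hq
  let gW : Y.residueField (j (q (genericPoint Z))) := (Y.residueFieldCongr (hqz (genericPoint Z))).inv.hom g
  have hgW : gW ≠ 0 := (map_ne_zero _).mpr hg
  have hcomp : (q.residueFieldMap (genericPoint Z)).hom ((j.residueFieldMap (q (genericPoint Z))).hom gW) =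
      (i.residueFieldMap (genericPoint Z)).hom ((p.residueFieldMap (i (genericPoint Z))).hom g) := by
    have h := residueFieldMap_congr_hom hq (genericPoint Z) g
    rw [Scheme.residueFieldMap_comp, Scheme.residueFieldMap_comp] at h
    exact h
  haveI := DimLib.isIso_residueFieldMap_of_isPreimmersion i (genericPoint Z)
  haveI := DimLib.isIso_residueFieldMap_of_isPreimmersion j (q (genericPoint Z))
  have hbq : Function.Bijective (q.residueFieldMap (genericPoint Z)).hom := by
    refine ⟨(q.residueFieldMap (genericPoint Z)).hom.injective, fun c ↦ ?_⟩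
    obtain ⟨c₁, rfl⟩ := (ConcreteCategory.bijective_of_isIso (i.residueFieldMap (genericPoint Z))).2 c
    obtain ⟨c₂, rfl⟩ := hb.2 c₁
    refine ⟨(j.residueFieldMap (q (genericPoint Z))).hom ((Y.residueFieldCongr (hqz (genericPoint Z))).inv.hom c₂), ?_⟩
    have h := residueFieldMap_congr_hom hq (genericPoint Z) c₂
    rw [Scheme.residueFieldMap_comp, Scheme.residueFieldMap_comp] at h
    exact h
  have hn : δX (i (genericPoint Z)) = δY (p (i (genericPoint Z))) := delta_eq_of_bijective p hδ (i (genericPoint Z)) hb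
  obtain ⟨αZ, hαZ⟩ := exists_divCycle hZ (genericPoint Z) ((q.residueFieldMap (genericPoint Z)).hom ((j.residueFieldMap (q (genericPoint Z))).hom gW))
    ((map_ne_zero _).mpr ((map_ne_zero _).mpr hgW))
  have hiα : AlgebraicCycle.map i (fun z ↦ δX (i z)) δX αZ = α := by
    refine Function.locallyFinsuppWithin.ext fun x ↦ ?_
    by_cases hx : x ∈ Set.range i
    · obtain ⟨z, rfl⟩ := hx
      rw [map_closedImmersion_apply, hαZ, hcomp,
        divFun_preimmersion i hX hZ 0 (fun _ ↦ (add_zero _).symm) _ _ _ ((map_ne_zero _).mpr hg), hα]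
    · rw [map_closedImmersion_eq_zero i _ _ _ x hx, hα, divFun_eq_zero_of_not_specializes]
      exact fun h ↦ hx (h.mem_closed i.isClosedEmbedding.isClosed_range ⟨(genericPoint Z), rfl⟩)
  rw [← hiα, map_map i p (deltaCompat_preimmersion i δX) hδ, ← map_congr_hom hq,
    ← map_map q j hcq (deltaCompat_preimmersion j δY)]
  have key : ∀ (y' : Y) (e : y' = p (i (genericPoint Z))) (g' : Y.residueField y'),
      g' = (Y.residueFieldCongr e).inv.hom g → Cyc.divFun δY (p (i (genericPoint Z))) g y = Cyc.divFun δY y' g' y := by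
    intro y' e g' hg'
    subst e
    simp [hg']
  rw [key (j (q (genericPoint Z))) (hqz (genericPoint Z)) gW rfl]
  by_cases hy : y ∈ Set.range j
  · obtain ⟨w, rfl⟩ := hy
    rw [map_closedImmersion_apply, pushDiv_coeff hZ hW q hcq
      (show δX (i (genericPoint Z)) = δY (j (q (genericPoint Z))) by rw [hqz]; exact hn) hqη _
      ((map_ne_zero _).mpr ((map_ne_zero _).mpr hgW)) αZ hαZ w, normGen_residueFieldMap q (genericPoint Z) hbq,
      divFun_preimmersion j hY hW 0 (fun _ ↦ (add_zero _).symm) _ _ _ hgW]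
  · rw [map_closedImmersion_eq_zero j _ _ _ y hy, divFun_eq_zero_of_not_specializes]
    exact fun h ↦ hy (h.mem_closed j.isClosedEmbedding.isClosed_range ⟨q (genericPoint Z), rfl⟩)

theorem map_divFun_bijective [IsLocallyNoetherian X] [IsLocallyNoetherian Y]
    {δX : X → ℤ} {δY : Y → ℤ} (hX : Cyc.IsDimFun X δX) (hY : Cyc.IsDimFun Y δY) (p : X ⟶ Y) [IsProper p]
    (hδ : Cyc.DeltaCompat p δX δY) (ξ : X) (g : Y.residueField (p ξ)) (hg : g ≠ 0)
    (hb : Function.Bijective (p.residueFieldMap ξ).hom) (α : AlgebraicCycle X ℤ)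
    (hα : ⇑α = Cyc.divFun δX ξ ((p.residueFieldMap ξ).hom g)) (y : Y) :
    AlgebraicCycle.map p δX δY α y = Cyc.divFun δY (p ξ) g y := by
  obtain ⟨q, hq⟩ := exists_closure_map p ξ
  have hiξ := genericPoint_clI ξ
  have hjξ := genericPoint_clI (p ξ)
  have hqη : q (genericPoint (AssSch12.clI ξ).subscheme) = genericPoint (AssSch12.clI (p ξ)).subscheme :=
    (AssSch12.clI (p ξ)).subschemeι.isClosedEmbedding.injective
      ((congrArg (fun m => m (genericPoint (AssSch12.clI ξ).subscheme)) hq).trans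
        ((congrArg p hiξ).trans hjξ.symm))
  exact map_divFun_bijective_aux hX hY p hδ _ _ q hq hqη ξ hiξ g hg hb α hα y

theorem exists_sheafFun_cycle [IsLocallyNoetherian X] {δ : X → ℤ} (hδ : Cyc.IsDimFun X δ) (F : X.Modules)
    (hF : Coh.IsCoh F) (k : ℤ) (hdim : ∀ x : X, Nontrivial (F.presheaf.stalk x) → δ x ≤ k) :
    ∃ c : AlgebraicCycle X ℤ, ⇑c = Cyc.sheafFun δ k F := by
  refine ⟨{ toFun := Cyc.sheafFun δ k F
            supportWithinDomain' := by simp
            supportLocallyFiniteWithinDomain' := fun x _ ↦ ?_ }, rfl⟩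
  obtain ⟨U, hU, hxU, hfin⟩ := exists_open_finite_top_points hδ hF k hdim x
  refine ⟨U, hU.mem_nhds hxU, (hfin.image Subtype.val).subset ?_⟩
  rintro z ⟨hzU, hz⟩
  rw [Function.mem_support, Cyc.sheafFun] at hz
  have hzk : δ z = k := by by_contra h; exact hz (if_neg h)
  refine ⟨⟨z, hzk, ?_⟩, ⟨z, subset_closure rfl, hzU⟩, rfl⟩
  by_contra hn
  rw [not_nontrivial_iff_subsingleton] at hn
  exact hz (by rw [if_pos hzk, Module.length_eq_zero_iff.mpr hn]; rfl)

/-- The formula `[W_0]_k - [W_∞]_k = div(g)` for an integral closed subscheme of the projective line. -/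
theorem subschemeFun_sub_eq_divFun {δ : X → ℤ} (hX : Cyc.IsSetup X δ) {δP : ↥(CohB1.ProjSpaceOver 1 X) → ℤ}
    (hP : Cyc.DeltaCompat (CohB1.ProjSpaceOver.toBase 1 X) δP δ) (k : ℤ) [IsIntegral W]
    (ι : W ⟶ CohB1.ProjSpaceOver 1 X) [IsClosedImmersion ι] (p : ↥(CohB1.ProjSpaceOver 1 X))
    (hp : ι (genericPoint W) = p) (hk : δP p = k + 1) (h0 : p ∈ p1Open X 0)
    (hs : ∀ i, p ∉ Set.range (P1.sect X i))
    (g : X.residueField (CohB1.ProjSpaceOver.toBase 1 X p)) (hg : g ≠ 0)
    (hb : Function.Bijective ((CohB1.ProjSpaceOver.toBase 1 X).residueFieldMap p).hom)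
    (hgt : ((CohB1.ProjSpaceOver.toBase 1 X).residueFieldMap p).hom g =
      (CohB1.ProjSpaceOver 1 X).evaluation _ p h0 (p1Coord X 0)) (x : X) :
    Cyc.subschemeFun δ k (pullback.snd ι (P1.sect X 0)) x - Cyc.subschemeFun δ k (pullback.snd ι (P1.sect X 1)) x =
      Cyc.divFun δ (CohB1.ProjSpaceOver.toBase 1 X p) g x := by
  classical
  haveI := hX.1
  haveI : IsLocallyNoetherian (CohB1.ProjSpaceOver 1 X) :=
    LocallyOfFiniteType.isLocallyNoetherian (CohB1.ProjSpaceOver.toBase 1 X)
  haveI : IsLocallyNoetherian W := LocallyOfFiniteType.isLocallyNoetherian ι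
  haveI hcl : ∀ i, IsClosedImmersion (P1.sect X i) := fun i ↦ by
    have : IsClosedImmersion (P1.sect X i ≫ CohB1.ProjSpaceOver.toBase 1 X) := by
      rw [P1Lib24.sect_toBase]; infer_instance
    exact IsClosedImmersion.of_comp _ (CohB1.ProjSpaceOver.toBase 1 X)
  have hδP := isDimFun_of_deltaCompat (CohB1.ProjSpaceOver.toBase 1 X) hX.2.1 hX.2.2 hP
  set F := (Coh.push ι).obj (Coh.structureModule W) with hFdef
  have hF : Coh.IsCoh F := Coherent.isCoh_push_finite ι (Coherent.isCoh_structureModule W)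
  have hmem : ∀ z, Nontrivial (F.presheaf.stalk z) → z ∈ Set.range ι := fun z hz ↦ by_contra fun h ↦ by
    haveI := subsingleton_stalk_push ι (Coh.structureModule W) h
    exact not_subsingleton (F.presheaf.stalk z) this
  have hlt : ∀ w : W, ι w ≠ p → δP (ι w) < k + 1 := fun w hw ↦ hk ▸
    (hδP p (ι w) (hp ▸ (genericPoint_specializes w).map ι.continuous) (Ne.symm hw)).1
  have hsupp : ∀ z, Nontrivial (F.presheaf.stalk z) → δP z ≤ k + 1 := fun z hz ↦ by
    obtain ⟨w, rfl⟩ := hmem z hz
    by_cases h : ι w = p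
    · rw [h, hk]
    · exact (hlt w h).le
  have htop : ∀ z, δP z = k + 1 → Nontrivial (F.presheaf.stalk z) → z = p := fun z hz hn ↦ by
    obtain ⟨w, rfl⟩ := hmem z hn
    by_contra h
    exact (hlt w h).ne hz
  have h01 : ∀ (i : Fin (1 + 1)) (y : X),
      Nontrivial (((Scheme.Modules.pullback (P1.sect X i)).obj F).presheaf.stalk y) → δ y ≤ k := by
    intro i y hy
    have hn : Nontrivial (F.presheaf.stalk (P1.sect X i y)) := by
      by_contra hn
      rw [not_nontrivial_iff_subsingleton] at hn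
      haveI := hn
      have hl := length_stalk_pullback_closed (P1.sect X i) F y
      have h0 : Module.length ((CohB1.ProjSpaceOver 1 X).presheaf.stalk (P1.sect X i y))
          (F.presheaf.stalk (P1.sect X i y) ⧸ (RingHom.ker ((P1.sect X i).stalkMap y).hom • ⊤ : Submodule
            ((CohB1.ProjSpaceOver 1 X).presheaf.stalk (P1.sect X i y)) (F.presheaf.stalk (P1.sect X i y)))) = 0 :=
        Module.length_eq_zero_iff.mpr inferInstance
      rw [h0, Module.length_eq_zero_iff] at hl
      exact not_subsingleton _ hl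
    obtain ⟨w, hw⟩ := hmem _ hn
    have h := hlt w (fun e ↦ hs i ⟨y, hw.symm.trans e⟩)
    rw [hw, delta_sect hP i y] at h
    omega
  have hemb : ∀ z : ↥(CohB1.ProjSpaceOver 1 X),
      IsAssociatedPrime (maximalIdeal ((CohB1.ProjSpaceOver 1 X).presheaf.stalk z)) (F.presheaf.stalk z) →
        z ∉ Set.range ⇑(P1.sect X 0) ∪ Set.range ⇑(P1.sect X 1) ∨ δP z < k := by
    intro z hz
    obtain ⟨w, rfl⟩ := hmem z (by
      by_contra hn
      rw [not_nontrivial_iff_subsingleton] at hn
      haveI := hn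
      exact not_isAssociatedPrime_of_subsingleton hz)
    letI := (ι.stalkMap w).hom.toAlgebra
    obtain ⟨e⟩ := exists_stalk_push_equiv ι w
    obtain ⟨hp', v, hv⟩ := isAssociatedPrime_maximal_of_equiv (ι.stalkMap_surjective w) e hz
    have hbot : maximalIdeal (W.presheaf.stalk w) = ⊥ := by
      by_cases hv0 : v = 0
      · refine absurd ?_ hp'.ne_top
        rw [hv, Ideal.radical_eq_top, eq_top_iff]
        intro a _
        simp [Submodule.mem_colon_singleton, hv0]
      · rw [hv, eq_bot_iff]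
        intro a ha
        obtain ⟨n, hn⟩ := ha
        rw [Submodule.mem_colon_singleton, Submodule.mem_bot, smul_eq_mul, mul_eq_zero] at hn
        exact (Submodule.mem_bot _).mpr (IsNilpotent.eq_zero ⟨n, hn.resolve_right hv0⟩)
    obtain ⟨r, hr⟩ := exists_fromSpecStalk_eq (genericPoint_specializes w)
    have : r = closedPoint (W.presheaf.stalk w) := PrimeSpectrum.ext (by
      change r.asIdeal = maximalIdeal _
      refine le_antisymm (IsLocalRing.le_maximalIdeal r.2.ne_top) ?_
      rw [hbot]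
      exact bot_le)
    rw [this, Scheme.fromSpecStalk_closedPoint] at hr
    left
    rw [hr, hp]
    rintro (h | h)
    · exact hs 0 h
    · exact hs 1 h
  obtain ⟨c, hc⟩ : ∃ c : Fin (1 + 1) → AlgebraicCycle X ℤ, ∀ i,
      ⇑(c i) = Cyc.sheafFun δ k ((Scheme.Modules.pullback (P1.sect X i)).obj F) := by
    choose c hc using fun i ↦ exists_sheafFun_cycle hX.2.2
      ((Scheme.Modules.pullback (P1.sect X i)).obj F) (ZClosLib.isCoh_pullback _ _ hF) k (h01 i)
    exact ⟨c, hc⟩
  obtain ⟨D, -, hD, hmap⟩ := p1_sect_exists_div δ hX δP hP k F hF hsupp h01 hemb c hc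
  have hDp : ⇑D = Cyc.divFun δP p (((CohB1.ProjSpaceOver.toBase 1 X).residueFieldMap p).hom g) := by
    funext q
    have hnp : Nontrivial (F.presheaf.stalk p) := by
      subst hp
      letI := (ι.stalkMap (genericPoint W)).hom.toAlgebra
      obtain ⟨e⟩ := exists_stalk_push_equiv ι (genericPoint W)
      exact e.toEquiv.nontrivial
    rw [hD, finsum_eq_single _ ⟨p, hk, hnp⟩ fun ξ hξ ↦ absurd (Subtype.ext (htop ξ.1 ξ.2.1 ξ.2.2)) hξ]
    have hm : (Module.length ((CohB1.ProjSpaceOver 1 X).presheaf.stalk p) (F.presheaf.stalk p)).toNat = 1 := by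
      subst hp
      rw [hFdef, length_stalk_push, ← (LinearEquiv.ofBijective (LinearMap.toSpanSingleton
        (W.presheaf.stalk (genericPoint W)) _ (AssSch12.unitOne (genericPoint W)))
        (AssSch12.bijective_smul_unitOne (genericPoint W))).length_eq]
      letI : Field (W.presheaf.stalk (genericPoint W)) := inferInstanceAs (Field W.functionField)
      rw [Module.length_eq_one]; rfl
    rw [hm, pow_one, hgt, p1Ratio, dif_pos h0]
  have h := map_divFun_bijective hδP hX.2.2 (CohB1.ProjSpaceOver.toBase 1 X) hP p g hg hb D hDp x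
  rw [hmap] at h
  rw [← h, ← sheafFun_pullback_push_eq δ k ι, ← sheafFun_pullback_push_eq δ k ι, ← hFdef, ← hc 0, ← hc 1]
  rfl

theorem not_mem_range_sect_of_ne_zero (q : ↥(CohB1.ProjSpaceOver 1 X)) (h0 : q ∈ p1Open X 0)
    (hne : (CohB1.ProjSpaceOver 1 X).evaluation _ q h0 (p1Coord X 0) ≠ 0) (i : Fin (1 + 1)) :
    q ∉ Set.range (P1.sect X i) := by
  have hu : IsUnit (((CohB1.ProjSpaceOver 1 X).presheaf.germ (p1Open X 0) q h0).hom (p1Coord X 0)) :=
    (residue_ne_zero_iff_isUnit _).mp hne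
  rintro ⟨x, rfl⟩
  obtain ⟨hj, _, hker⟩ := sect_mem_p1Open X i x
  have hmax : ((CohB1.ProjSpaceOver 1 X).presheaf.germ (p1Open X i) (P1.sect X i x) hj).hom (p1Coord X i) ∈
      maximalIdeal _ :=
    IsLocalRing.le_maximalIdeal (RingHom.ker_ne_top ((P1.sect X i).stalkMap x).hom)
      (hker.ge (Ideal.mem_span_singleton_self _))
  refine (IsLocalRing.mem_maximalIdeal _).mp hmax ?_
  fin_cases i
  · exact hu
  · exact IsUnit.of_mul_eq_one_right _ (p1Coord_mul X _ h0 hj)

theorem evaluation_top_surjective (K : Type u) [Field K] (pt : ↥(Spec (CommRingCat.of K))) :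
    Function.Surjective (fun a : K ↦ (Spec (CommRingCat.of K)).evaluation ⊤ pt trivial
      ((Scheme.ΓSpecIso (CommRingCat.of K)).inv.hom a)) := by
  intro d
  obtain ⟨z, rfl⟩ := (Spec (CommRingCat.of K)).residue_surjective pt d
  obtain ⟨W, hW, s, rfl⟩ := (Spec (CommRingCat.of K)).presheaf.exists_germ_eq z
  have hWt : W = ⊤ := by
    refine top_le_iff.mp fun q _ ↦ ?_
    rwa [Subsingleton.elim q pt]
  subst hWt
  obtain ⟨a, rfl⟩ := (ConcreteCategory.bijective_of_isIso (Scheme.ΓSpecIso (CommRingCat.of K)).inv).2 s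
  exact ⟨a, rfl⟩

theorem chartMap_coordAway (B : Type u) [CommRing B] (b : B) : P1.chartMap 0 B b (coordAway 0) = b := by
  have h := congrArg (IsLocalization.Away.lift (S := Localization.Away (P1.T.{u} 0)) (P1.T.{u} 0)
      (g := MvPolynomial.eval₂Hom ((Int.castRingHom B).comp ULift.ringEquiv.toRingHom)
        (Function.update (fun _ => b) 0 1))
      (by simp)) (val_coordAway 0)
  simp only [map_mul, IsLocalization.Away.lift_eq, MvPolynomial.eval₂Hom_X', Function.update_self,
    Function.update_of_ne (show Fin.rev (0 : Fin (1 + 1)) ≠ 0 by decide), mul_one] at h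
  exact h

set_option backward.isDefEq.respectTransparency.types false in
theorem exists_graph_point (ξ : X) (f : X.residueField ξ) (hf : f ≠ 0) :
    ∃ (p : ↥(CohB1.ProjSpaceOver 1 X)) (hξ : CohB1.ProjSpaceOver.toBase 1 X p = ξ) (h0 : p ∈ p1Open X 0),
      Function.Bijective ((CohB1.ProjSpaceOver.toBase 1 X).residueFieldMap p).hom ∧
      ((CohB1.ProjSpaceOver.toBase 1 X).residueFieldMap p).hom ((X.residueFieldCongr hξ).inv.hom f) =
        (CohB1.ProjSpaceOver 1 X).evaluation _ p h0 (p1Coord X 0) ∧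
      ∀ i, p ∉ Set.range (P1.sect X i) := by
  let pt : ↥(Spec (X.residueField ξ)) := IsLocalRing.closedPoint (X.residueField ξ)
  obtain ⟨f₀, hf₀⟩ := evaluation_top_surjective (X.residueField ξ) pt
    (((X.fromSpecResidueField ξ).residueFieldMap pt).hom
      ((X.residueFieldCongr (Scheme.fromSpecResidueField_apply ξ pt)).inv.hom f))
  let c : Spec (X.residueField ξ) ⟶ CohB1.ProjSpace 1 P1.R0.{u} :=
    Spec.map (CommRingCat.ofHom (P1.chartMap 0 (X.residueField ξ) f₀)) ≫
      Proj.awayι P1.grading.{u} (P1.T 0) (P1.X_mem 0) one_pos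
  let m : Spec (X.residueField ξ) ⟶ CohB1.ProjSpaceOver 1 X :=
    pullback.lift c (X.fromSpecResidueField ξ) (specULiftZIsTerminal.hom_ext _ _)
  have hm : m ≫ CohB1.ProjSpaceOver.toBase 1 X = X.fromSpecResidueField ξ := pullback.lift_snd _ _ _
  have hm1 : m ≫ pullback.fst (CohB1.ProjSpace.toSpec 1 P1.R0.{u}) (specULiftZIsTerminal.from X) = c :=
    pullback.lift_fst _ _ _
  have hle : ⊤ ≤ Proj.awayι P1.grading.{u} (P1.T 0) (P1.X_mem 0) one_pos ⁻¹ᵁ Proj.basicOpen P1.grading (P1.T 0) :=
    fun w _ ↦ (Proj.opensRange_awayι P1.grading.{u} (P1.T 0) (P1.X_mem 0) one_pos).le ⟨w, rfl⟩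
  have hc : c pt ∈ Proj.basicOpen P1.grading (P1.T 0) := hle trivial
  have h0 : m pt ∈ p1Open X 0 := by
    change pullback.fst (CohB1.ProjSpace.toSpec 1 P1.R0.{u}) (specULiftZIsTerminal.from X) (m pt) ∈
      Proj.basicOpen P1.grading (P1.T 0)
    rw [show pullback.fst (CohB1.ProjSpace.toSpec 1 P1.R0.{u}) (specULiftZIsTerminal.from X) (m pt) = c pt from
      congrArg (fun g : Spec _ ⟶ CohB1.ProjSpace 1 P1.R0.{u} ↦ g pt) hm1]
    exact hc
  have hξ : CohB1.ProjSpaceOver.toBase 1 X (m pt) = ξ :=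
    (congrArg (fun g : Spec (X.residueField ξ) ⟶ X ↦ g pt) hm).trans (Scheme.fromSpecResidueField_apply ξ pt)
  haveI := DimLib.isIso_residueFieldMap_of_isPreimmersion (X.fromSpecResidueField ξ) pt
  have hcompo : ∀ d, (m.residueFieldMap pt).hom (((CohB1.ProjSpaceOver.toBase 1 X).residueFieldMap (m pt)).hom
      ((X.residueFieldCongr (congrArg (fun g : Spec (X.residueField ξ) ⟶ X ↦ g pt) hm)).inv.hom d)) =
      ((X.fromSpecResidueField ξ).residueFieldMap pt).hom d := fun d ↦ by
    have h := residueFieldMap_congr_hom hm pt d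
    rw [Scheme.residueFieldMap_comp] at h
    exact h
  have hm0 : Function.Surjective (m.residueFieldMap pt).hom := fun e ↦ by
    obtain ⟨d, rfl⟩ := (ConcreteCategory.bijective_of_isIso ((X.fromSpecResidueField ξ).residueFieldMap pt)).2 e
    exact ⟨_, hcompo d⟩
  have hb : Function.Bijective ((CohB1.ProjSpaceOver.toBase 1 X).residueFieldMap (m pt)).hom := by
    refine ⟨((CohB1.ProjSpaceOver.toBase 1 X).residueFieldMap (m pt)).hom.injective, fun e ↦ ?_⟩
    obtain ⟨d, hd⟩ := (ConcreteCategory.bijective_of_isIso ((X.fromSpecResidueField ξ).residueFieldMap pt)).2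
      ((m.residueFieldMap pt).hom e)
    exact ⟨_, (m.residueFieldMap pt).hom.injective ((hcompo d).trans hd)⟩
  have key : (m.residueFieldMap pt).hom ((CohB1.ProjSpaceOver 1 X).evaluation _ (m pt) h0 (p1Coord X 0)) =
      (Spec (X.residueField ξ)).evaluation ⊤ pt trivial ((Scheme.ΓSpecIso (X.residueField ξ)).inv.hom f₀) := by
    refine (Scheme.evaluation_naturality_apply m pt h0 _).trans ?_
    have hT : (⊤ : (Spec (X.residueField ξ)).Opens) ≤ m ⁻¹ᵁ p1Open X 0 := fun q _ ↦ by
      rw [Subsingleton.elim q pt]; exact h0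
    have happ : m.appLE (p1Open X 0) ⊤ hT (p1Coord X 0) = (Scheme.ΓSpecIso (X.residueField ξ)).inv.hom f₀ := by
      refine ((congrArg (fun g : Γ(CohB1.ProjSpace 1 P1.R0.{u}, Proj.basicOpen P1.grading (P1.T 0)) ⟶ _ ↦
        g.hom (coordZ 0)) (Scheme.Hom.comp_appLE m (pullback.fst (CohB1.ProjSpace.toSpec 1 P1.R0.{u})
        (specULiftZIsTerminal.from X)) (Proj.basicOpen P1.grading (P1.T 0)) ⊤ hT)).symm).trans ?_
      simp only [hm1, c]
      refine (congrArg (fun g ↦ g.hom (coordZ 0))
        (Scheme.Hom.appLE_comp_appLE (Spec.map (CommRingCat.ofHom (P1.chartMap 0 (X.residueField ξ) f₀)))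
          (Proj.awayι P1.grading.{u} (P1.T 0) (P1.X_mem 0) one_pos) (Proj.basicOpen P1.grading (P1.T 0)) ⊤ ⊤ hle
          le_top)).symm.trans ?_
      refine (congrArg (fun z ↦ ((Spec.map (CommRingCat.ofHom (P1.chartMap 0 (X.residueField ξ) f₀))).appLE ⊤ ⊤
        le_top).hom z) (awayι_appLE_coordZ 0 hle)).trans ?_
      rw [Scheme.Hom.appLE]
      refine Eq.trans ?_ ((congrArg (fun g ↦ g.hom (coordAway 0))
        (Scheme.ΓSpecIso_inv_naturality (CommRingCat.ofHom (R := HomogeneousLocalization.Away P1.grading.{u} (P1.T 0))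
          (P1.chartMap 0 (X.residueField ξ) f₀)))).symm.trans
        (congrArg (Scheme.ΓSpecIso (CommRingCat.of (X.residueField ξ))).inv.hom (chartMap_coordAway (X.residueField ξ) f₀)))
      rfl
    rw [← happ]
    exact congrArg ((Spec (X.residueField ξ)).residue pt).hom
      (TopCat.Presheaf.germ_res_apply (Spec (X.residueField ξ)).presheaf (homOfLE hT) pt trivial
        (m.app (p1Open X 0) (p1Coord X 0))).symm
  have heq : ((CohB1.ProjSpaceOver.toBase 1 X).residueFieldMap (m pt)).hom ((X.residueFieldCongr hξ).inv.hom f) =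
      (CohB1.ProjSpaceOver 1 X).evaluation _ (m pt) h0 (p1Coord X 0) := by
    refine (m.residueFieldMap pt).hom.injective (Eq.trans ?_ key.symm)
    refine Eq.trans ?_ hf₀.symm
    rw [← hcompo]
    have aux : ∀ (a b : X) (e₁ : a = b) (e₂ : b = ξ) (e₃ : a = ξ) (v : X.residueField ξ),
        (X.residueFieldCongr e₃).inv.hom v =
          (X.residueFieldCongr e₁).inv.hom ((X.residueFieldCongr e₂).inv.hom v) := by
      intro a b e₁ e₂ e₃ v
      subst e₁; subst e₂; simp
    exact congrArg (fun v ↦ (m.residueFieldMap pt).hom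
      (((CohB1.ProjSpaceOver.toBase 1 X).residueFieldMap (m pt)).hom v))
      (aux _ _ (congrArg (fun g : Spec (X.residueField ξ) ⟶ X ↦ g pt) hm) (Scheme.fromSpecResidueField_apply ξ pt) hξ f)
  refine ⟨m pt, hξ, h0, hb, heq, not_mem_range_sect_of_ne_zero _ h0 ?_⟩
  rw [← heq]
  exact (map_ne_zero _).mpr ((map_ne_zero _).mpr hf)

end Groth.Agent.CycLib28
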