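import Mathlib
import Groth.Agent.CycLib28.PointSheaf
import Groth.Agent.CycLib28.PushFinite
import Groth.Agent.CycLib28.InterPull
import Groth.Agent.CycLib28.P1Graph
import Groth.Agent.CohExch.FlatBC0
import Groth.Agent.Coherent.Existence.Restrict

/-!
# Flat pullback commutes with proper pushforward of cycles
-/

set_option autoImplicit false
set_option linter.style.haveILetI false

universe u

open CategoryTheory CategoryTheory.Limits AlgebraicGeometry Groth.Agent.CycLim28

namespace Groth.Agent.CycLib28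

variable {X X' Y : Scheme.{u}}

theorem sheafFun_congr_iso {δ : X → ℤ} {k : ℤ} {F G : X.Modules} (e : F ≅ G) :
    Cyc.sheafFun δ k F = Cyc.sheafFun δ k G := by
  funext x
  simp only [Cyc.sheafFun]
  have e' : ((DerSch.stalkFunctor X x).obj F) ≅ ((DerSch.stalkFunctor X x).obj G) := (DerSch.stalkFunctor X x).mapIso e
  rw [show Module.length (X.presheaf.stalk x) (F.presheaf.stalk x) =
    Module.length (X.presheaf.stalk x) (G.presheaf.stalk x) from e'.toLinearEquiv.length_eq]

/-- Flat base change for the pushforward of cycles, any flat base change. -/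
theorem pullFun_map_baseChange (f : Y ⟶ X) (p : X' ⟶ X) [IsProper f] [Flat p] {δ : X → ℤ} {δ' : X' → ℤ}
    {δY : Y → ℤ} {δY' : ↥(pullback f p) → ℤ} (hX : Cyc.IsSetup X δ) (hX' : Cyc.IsSetup X' δ')
    (hY : Cyc.IsSetup Y δY) (hf : Cyc.DeltaCompat f δY δ) (hf' : Cyc.DeltaCompat (pullback.snd f p) δY' δ') (c : ℤ)
    (hc : ∀ x', GenInFibre p x' → δ' x' = δ (p x') + c)
    (hcY : ∀ y', GenInFibre (pullback.fst f p) y' → δY' y' = δY (pullback.fst f p y') + c) (k : ℤ)
    (α : AlgebraicCycle Y ℤ) (hα : α ∈ Cyc.Zk Y δY k) (α' : AlgebraicCycle (pullback f p) ℤ)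
    (hα' : ⇑α' = Cyc.pullFun (pullback.fst f p) δY' δY c ⇑α) :
    Cyc.pullFun p δ' δ c ⇑(AlgebraicCycle.map f δY δ α) =
      ⇑(AlgebraicCycle.map (pullback.snd f p) δY' δ' α') := by
  classical
  haveI := hX.1
  haveI := hX'.1
  haveI := hY.1
  set q := pullback.fst f p with hq
  set f' := pullback.snd f p with hf'def
  haveI : IsLocallyNoetherian (pullback f p) := LocallyOfFiniteType.isLocallyNoetherian f'
  have hY' : Cyc.IsDimFun (pullback f p) δY' := isDimFun_of_deltaCompat f' hX'.2.1 hX'.2.2 hf'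
  funext x'
  set s := (finite_fibre_inter_support f α (p x')).toFinset with hsdef
  have hs : ∀ a, a ∈ s ↔ f a = p x' ∧ α a ≠ 0 := fun a => by
    rw [hsdef, Set.Finite.mem_toFinset]; rfl
  have hk : ∀ a ∈ s, δY a = k := fun a ha => by
    by_contra h
    exact ((hs a).1 ha).2 (hα a h)
  -- one point
  have single : ∀ a ∈ s, ∃ c' : AlgebraicCycle (pullback f p) ℤ,
      ⇑c' = Cyc.pullFun q δY' δY c (Set.indicator {a} 1) ∧
      (AlgebraicCycle.mapCoeff f δY δ a : ℤ) * ((lenFibre p x').toNat : ℤ) =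
        AlgebraicCycle.map f' δY' δ' c' x' := by
    intro a ha
    set F := InterSheaf.pointSheaf a
    have hF : Coh.IsCoh F := InterSheaf.isCoh_pointSheaf a
    haveI : Coh.IsQCoh F := hF.1
    have hdim : ∀ x, Nontrivial (F.presheaf.stalk x) → δY x ≤ k := fun x hx =>
      hk a ha ▸ le_of_specializes hY.2.2 (InterSheaf.specializes_of_nontrivial_pointSheaf a x hx)
    have hsf : Cyc.sheafFun δY k F = Set.indicator {a} 1 := InterSheaf.sheafFun_pointSheaf hY.2.2 (hk a ha)
    let ca : AlgebraicCycle Y ℤ := Function.locallyFinsuppWithin.single a 1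
    have hca : ⇑ca = Cyc.sheafFun δY k F := by
      rw [hsf]
      funext x
      by_cases hx : x = a <;> simp [ca, hx]
    have hmap : AlgebraicCycle.map f δY δ ca (p x') = AlgebraicCycle.mapCoeff f δY δ a := by
      rw [map_apply_finset f δY δ ca (p x') {a} (fun x hx => by rw [Finset.mem_singleton.1 hx]; exact ((hs a).1 ha).1)
        (fun x _ hx => by simpa [ca] using hx), Finset.sum_singleton]
      simp [ca]
    have hrP : ∀ x, Nontrivial (((Coh.push f).obj F).presheaf.stalk x) → δ x ≤ k := fun x h =>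
      delta_le_of_push f f.isClosedMap hF (delta_le' f hf) k hdim x h
    obtain ⟨-, h1⟩ := pullFun_sheafFun p hX'.2.2 c hc k ((Coh.push f).obj F) hrP
    have hqF : Coh.IsCoh ((Scheme.Modules.pullback q).obj F) := InterSheaf.isCoh_pullback q hF
    obtain ⟨h2', h2⟩ := pullFun_sheafFun q hY' c hcY k F hdim
    obtain ⟨c', hc'⟩ : ∃ c' : AlgebraicCycle (pullback f p) ℤ,
        ⇑c' = Cyc.sheafFun δY' (k + c) ((Scheme.Modules.pullback q).obj F) :=
      exists_sheafFun_cycle hY' _ hqF _ h2'
    refine ⟨c', by rw [hc', ← h2, hsf], ?_⟩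
    haveI := Groth.Agent.CohExch.isIso_bc0_of_flat_morphism (IsPullback.of_hasPullback f p) F
    have h3 := sheafFun_congr_iso (δ := δ') (k := k + c)
      (asIso (CohBC.bc0 f p f' q (IsPullback.of_hasPullback f p).w F))
    rw [sheafFun_push f' hY' hf' (k + c) _ hqF h2' c' hc', ← h3, ← h1, pullFun_eq p δ' δ c hc,
      ← sheafFun_push f hY.2.2 hf k F hF hdim ca hca, hmap]
  choose! cy hcy hval using single
  rw [pullFun_eq p δ' δ c hc, map_apply_finset f δY δ α (p x') s (fun a ha => ((hs a).1 ha).1)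
    (fun a h1 h2 => (hs a).2 ⟨h1, h2⟩), Finset.sum_mul]
  set S := (finite_fibre_inter_support f' α' x').toFinset ∪
    s.biUnion (fun a => (finite_fibre_inter_support f' (cy a) x').toFinset) with hS
  have hSf : ∀ z ∈ S, f' z = x' := fun z hz => by
    rw [hS, Finset.mem_union, Finset.mem_biUnion, Set.Finite.mem_toFinset] at hz
    rcases hz with h | ⟨a, -, h⟩
    · exact h.1
    · exact ((Set.Finite.mem_toFinset _).1 h).1
  rw [map_apply_finset f' δY' δ' α' x' S hSf (fun z h1 h2 => Finset.mem_union_left _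
    ((Set.Finite.mem_toFinset _).2 ⟨h1, h2⟩))]
  have hexp : ∀ z ∈ S, α' z = ∑ a ∈ s, α a * cy a z := fun z hz => by
    have hfz : f (q z) = p x' := by
      rw [← hSf z hz, ← Scheme.Hom.comp_apply, hq, hf'def, pullback.condition]; rfl
    rw [hα', pullFun_eq q δY' δY c hcY, Finset.sum_congr rfl fun a ha => by
      rw [hcy a ha, pullFun_eq q δY' δY c hcY, ← mul_assoc]]
    rw [← Finset.sum_mul]
    congr 1
    by_cases h0 : α (q z) = 0
    · rw [h0, Finset.sum_eq_zero]
      intro a _
      by_cases e : q z = a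
      · rw [← e, h0, zero_mul]
      · rw [Set.indicator_of_notMem (show q z ∉ ({a} : Set Y) from e), mul_zero]
    · rw [Finset.sum_eq_single_of_mem (q z) ((hs _).2 ⟨hfz, h0⟩) fun a _ hne => by
          rw [Set.indicator_of_notMem (show q z ∉ ({a} : Set Y) from fun e => hne e.symm), mul_zero],
        Set.indicator_of_mem (Set.mem_singleton _), Pi.one_apply, mul_one]
  rw [show ∑ z ∈ S, α' z * (AlgebraicCycle.mapCoeff f' δY' δ' z : ℤ) =
      ∑ z ∈ S, ∑ a ∈ s, α a * cy a z * (AlgebraicCycle.mapCoeff f' δY' δ' z : ℤ) from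
    Finset.sum_congr rfl fun z hz => by rw [hexp z hz, Finset.sum_mul], Finset.sum_comm (s := S)]
  refine Finset.sum_congr rfl fun a ha => ?_
  rw [mul_assoc, hval a ha, map_apply_finset f' δY' δ' (cy a) x' S hSf (fun z h1 h2 => Finset.mem_union_right _
    (Finset.mem_biUnion.2 ⟨a, ha, (Set.Finite.mem_toFinset _).2 ⟨h1, h2⟩⟩)), Finset.mul_sum]
  exact Finset.sum_congr rfl fun z _ => (mul_assoc _ _ _).symm

end Groth.Agent.CycLib28
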