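import Groth.Agent.CycLib28.TorBase
import Groth.Agent.CycLib28.InterSheaf
import Groth.Agent.CycLib28.InterPull
import Groth.Agent.CycLib28.PointSheaf
import Groth.Agent.CycLib28.P1Subscheme
import Groth.Agent.CycLib28.FlatDim
import Groth.Agent.CycLib28.PB.Ops.Chow
import Groth.Agent.CycLib28.Sp.Fibre

/-!
# Intersection with a graph is flat pullback
-/

set_option autoImplicit false
set_option backward.isDefEq.respectTransparency false
set_option linter.style.haveILetI false
set_option linter.unusedSectionVars false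

universe u

open CategoryTheory CategoryTheory.Limits AlgebraicGeometry IsLocalRing TensorProduct
open Groth.Agent.CycLim28 Groth.Agent.CycLib28.InterSheaf

namespace Groth.Agent.CycLib28.GraphPull

section algebra

variable {A B C : Type u} [CommRing A] [IsNoetherianRing A] [CommRing B] [CommRing C] [Algebra A B] [Algebra A C]
  [Algebra B C] [IsScalarTower A B C] [Module.Flat A B] [Module.Flat A C]

/-- Higher Tor against a module pulled back from `A` vanishes for a quotient which is flat over `A`. -/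
theorem chi_section (hs : Function.Surjective (algebraMap B C)) (N : Type u) [AddCommGroup N] [Module A N]
    [Module.Finite A N] : IntMult.chi B C (B ⊗[A] N) = ((Module.length C (C ⊗[A] N)).toNat : ℤ) := by
  have hz : ∀ q : ℕ, IsZero (((HTor16.tens (ModuleCat.of B C)).leftDerived (q + 1)).obj (ModuleCat.of B B)) := by
    intro q
    haveI : Projective (ModuleCat.of B B) := (IsProjective.iff_projective _).1 inferInstance
    exact Functor.isZero_leftDerived_obj_projective_succ _ q _
  haveI : Module.Flat A (C ⊗[B] B) :=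
    Module.Flat.of_linearEquiv ((TensorProduct.rid B C).restrictScalars A)
  have hzero : ∀ i : ℕ, Subsingleton (DRing.Tor B (i + 1) (ModuleCat.of B C) (ModuleCat.of B (B ⊗[A] N))) := by
    intro i
    obtain ⟨e, -⟩ := exists_tor_base_change (A := A) C B hz i N
    haveI := ModuleCat.subsingleton_of_isZero (CAlgSmall.isZero_tor_of_flat (C ⊗[B] B)
      (ModuleCat.of A N) (i + 1) (Nat.succ_pos i))
    exact e.injective.subsingleton
  rw [IntMult.chi, finsum_eq_single _ 0 fun i hi => ?_]
  · obtain ⟨eB⟩ := HTor16.torZero (ModuleCat.of B C) (ModuleCat.of B (B ⊗[A] N))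
    rw [pow_zero, one_mul, eB.length_eq]
    refine congrArg (fun l : ℕ∞ => (l.toNat : ℤ)) (Eq.trans ?_ (Module.length_eq_of_surjective (S := B)
      (M := C ⊗[A] N) hs))
    exact (AlgebraTensorModule.cancelBaseChange A B B C N).length_eq
  · obtain ⟨j, rfl⟩ : ∃ j, i = j + 1 := ⟨i - 1, by omega⟩
    haveI := hzero j
    rw [Module.length_eq_zero_iff.2 (hzero j)]
    simp

end algebra

variable {X Y W : Scheme.{u}}

/-- The Euler characteristic of a graph and a cycle pulled back. -/
theorem chi_graph (pr : W ⟶ Y) [Flat pr] (j : X ⟶ W) [IsClosedImmersion j] [Flat (j ≫ pr)]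
    [IsLocallyNoetherian Y] (G : Y.Modules) (hG : Coh.IsCoh G) (x : X) :
    IntMult.chi (W.presheaf.stalk (j x)) (((Coh.push j).obj (Coh.structureModule X)).presheaf.stalk (j x))
      (((Scheme.Modules.pullback pr).obj G).presheaf.stalk (j x)) =
    ((Module.length (X.presheaf.stalk x) (((Scheme.Modules.pullback (j ≫ pr)).obj G).presheaf.stalk x)).toNat : ℤ) := by
  haveI := AssSch12.finite_stalk hG (pr (j x))
  have e2 : ((DerSch.stalkFunctor X x).obj ((Scheme.Modules.pullback (j ≫ pr)).obj G)) ≅
      (ModuleCat.extendScalars ((j ≫ pr).stalkMap x).hom).obj ((DerSch.stalkFunctor Y ((j ≫ pr) x)).obj G) :=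
    (ModStalk.pullbackStalkIso (j ≫ pr) x).app G
  have e1 : ((DerSch.stalkFunctor W (j x)).obj ((Scheme.Modules.pullback pr).obj G)) ≅
      (ModuleCat.extendScalars (pr.stalkMap (j x)).hom).obj ((DerSch.stalkFunctor Y (pr (j x))).obj G) :=
    (ModStalk.pullbackStalkIso pr (j x)).app G
  letI algAB : Algebra (Y.presheaf.stalk (pr (j x))) (W.presheaf.stalk (j x)) := (pr.stalkMap (j x)).hom.toAlgebra
  letI algBC : Algebra (W.presheaf.stalk (j x)) (X.presheaf.stalk x) := (j.stalkMap x).hom.toAlgebra
  letI algAC : Algebra (Y.presheaf.stalk (pr (j x))) (X.presheaf.stalk x) := ((j ≫ pr).stalkMap x).hom.toAlgebra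
  haveI : IsScalarTower (Y.presheaf.stalk (pr (j x))) (W.presheaf.stalk (j x)) (X.presheaf.stalk x) :=
    IsScalarTower.of_algebraMap_eq' (congrArg CommRingCat.Hom.hom (Scheme.Hom.stalkMap_comp j pr x))
  haveI : Module.Flat (Y.presheaf.stalk (pr (j x))) (W.presheaf.stalk (j x)) := Flat.stalkMap pr (j x)
  haveI : Module.Flat (Y.presheaf.stalk (pr (j x))) (X.presheaf.stalk x) := Flat.stalkMap (j ≫ pr) x
  obtain ⟨eF⟩ := exists_stalk_push_equiv j x
  refine (chi_congr_both eF e1.toLinearEquiv).trans ?_
  refine (chi_section (A := Y.presheaf.stalk (pr (j x))) (B := W.presheaf.stalk (j x)) (C := X.presheaf.stalk x)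
    (j.stalkMap_surjective x) (G.presheaf.stalk (pr (j x)))).trans ?_
  exact congrArg (fun l : ℕ∞ => (l.toNat : ℤ)) e2.toLinearEquiv.length_eq.symm

/-- Flat morphisms between varieties have the expected relative dimension. -/
theorem delta_of_flat [IrreducibleSpace X] [IrreducibleSpace Y] [IsLocallyNoetherian X] [IsLocallyNoetherian Y]
    (f : X ⟶ Y) [Flat f] {δX : X → ℤ} {δY : Y → ℤ} (hX : Cyc.IsDimFun X δX) (hY : Cyc.IsDimFun Y δY)
    {n m : ℤ} (hn : δX (genericPoint X) = n) (hm : δY (genericPoint Y) = m) {x : X} (hx : GenInFibre f x) :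
    δX x = δY (f x) + (n - m) := by
  have h := height_closedPoint_eq f x hx
  rw [dim_stalk_irreducible hX, dim_stalk_irreducible hY, hn, hm] at h
  have h' : (n - δX x).toNat = (m - δY (f x)).toNat := by exact_mod_cast h
  have := le_of_specializes hX (genericPoint_specializes x)
  have := le_of_specializes hY (genericPoint_specializes (f x))
  omega

theorem deltaCompat_unique (f : X ⟶ Y) {δ δ' : X → ℤ} {δY : Y → ℤ} (h : Cyc.DeltaCompat f δ δY)
    (h' : Cyc.DeltaCompat f δ' δY) : δ = δ' :=
  funext fun x => (DeltaCompat.eq f h x).trans (DeltaCompat.eq f h' x).symm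

/-- The intersection with the image of a section is pullback along the projection. -/
theorem interProd_graph (K : Type u) [Field K] [IsAlgClosed K] (gW : W ⟶ Spec (CommRingCat.of K)) [Smooth gW]
    [IsSeparated gW] [QuasiCompact gW] [IsIntegral W] [IsIntegral X] [CompactSpace Y]
    (pr : W ⟶ Y) [Flat pr] (j : X ⟶ W) [IsClosedImmersion j] [Flat (j ≫ pr)]
    {δW : W → ℤ} {δY : Y → ℤ} (hW : Cyc.IsSetup W δW) (hδW : Cyc.DeltaCompat gW δW (fun _ => 0))
    (hY : Cyc.IsSetup Y δY) {n dX c e : ℤ} (hn : δW (genericPoint W) = n) (hdX : δW (j (genericPoint X)) = dX)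
    (hc : ∀ w, GenInFibre pr w → δW w = δY (pr w) + c)
    (he : ∀ x, GenInFibre (j ≫ pr) x → δW (j x) = δY ((j ≫ pr) x) + e) (hce : dX + c = n + e)
    (k : ℤ) (α : AlgebraicCycle Y ℤ) (hα : α ∈ Cyc.Zk Y δY k) :
    IntMult.IntersectProperly δW n (Set.indicator {j (genericPoint X)} 1) (Cyc.pullFun pr δW δY c ⇑α) ∧
      IntMult.interProd δW n (Set.indicator {j (genericPoint X)} 1) (Cyc.pullFun pr δW δY c ⇑α) =
        Function.extend j (Cyc.pullFun (j ≫ pr) (fun x => δW (j x)) δY e ⇑α) 0 := by
  classical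
  haveI := hW.1
  haveI := hY.1
  haveI : CompactSpace W := QuasiCompact.compactSpace_of_compactSpace gW
  haveI : IsLocallyNoetherian X := LocallyOfFiniteType.isLocallyNoetherian j
  have hdj : Cyc.IsDimFun X (fun x => δW (j x)) := isDimFun_comp_closedImmersion j hW.2.2
  have hZ : ∀ b, α b ≠ 0 → δY b = k := fun b h => by_contra fun hh => h (hα b hh)
  have hle : ∀ x, δW (j x) ≤ dX := fun x =>
    hdX ▸ le_of_specializes hW.2.2 ((genericPoint_specializes x).map j.continuous)
  have hrng : ∀ z, j (genericPoint X) ⤳ z → z ∈ Set.range j := fun z h =>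
    h.mem_closed j.isClosedEmbedding.isClosed_range ⟨_, rfl⟩
  have hmeet : ∀ b (z : W), α b ≠ 0 → j (genericPoint X) ⤳ z → b ⤳ pr z → δW z ≤ k + e := by
    intro b z hb h1 h2
    obtain ⟨x, rfl⟩ := hrng z h1
    have h3 := delta_le_of_fibre (j ≫ pr) (δX := fun x => δW (j x)) (δY := δY) hdj e he x
    have h4 := le_of_specializes hY.2.2 h2
    rw [hZ b hb] at h4
    have : (j ≫ pr) x = pr (j x) := rfl
    simp only [this] at h3
    omega
  refine ⟨fun ξ η ζ hξ hη h1 h2 => ?_, funext fun ζ => ?_⟩
  · obtain rfl : ξ = j (genericPoint X) := Set.mem_singleton_iff.1 (Set.mem_of_indicator_ne_zero hξ)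
    rw [pullFun_eq pr δW δY c hc] at hη
    have hg : GenInFibre pr η := by
      by_contra hg
      rw [lenFibre_eq_top pr hg, ENat.toNat_top, Nat.cast_zero, mul_zero] at hη
      exact hη rfl
    have := hmeet (pr η) ζ (left_ne_zero_of_mul hη) h1 (h2.map pr.continuous)
    rw [hdX, hc η hg, hZ _ (left_ne_zero_of_mul hη)]
    omega
  -- expansion over the support of the cycle
  have hfin : (Function.support ⇑α).Finite := by
    simpa using (Function.locallyFinsupp.locallyFiniteSupport α).finite_inter_support_of_isCompact isCompact_univ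
  set S := hfin.toFinset with hSdef
  have hS : ∀ b, b ∈ S ↔ α b ≠ 0 := fun b => hfin.mem_toFinset
  have hαf : ⇑α = fun y' => ∑ b ∈ S, α b * Set.indicator {b} 1 y' :=
    funext fun y' => (sum_indicator_mul (fun x h => (hS x).2 h) y').symm
  have hαx : Cyc.pullFun pr δW δY c ⇑α =
      fun w => ∑ b ∈ S, α b * Cyc.pullFun pr δW δY c (Set.indicator {b} 1) w := by
    funext w
    simp only [pullFun_eq pr δW δY c hc]
    rw [← Finset.sum_congr rfl fun b _ => (mul_assoc _ _ _), ← Finset.sum_mul,
      sum_indicator_mul (fun x h => (hS x).2 h)]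
  have hαX : ∀ x, Cyc.pullFun (j ≫ pr) (fun x => δW (j x)) δY e ⇑α x =
      ∑ b ∈ S, α b * Cyc.pullFun (j ≫ pr) (fun x => δW (j x)) δY e (Set.indicator {b} 1) x := by
    intro x
    simp only [pullFun_eq (j ≫ pr) (fun x => δW (j x)) δY e he]
    rw [← Finset.sum_congr rfl fun b _ => (mul_assoc _ _ _), ← Finset.sum_mul,
      sum_indicator_mul (fun x h => (hS x).2 h)]
  have hT : {w : W | ∃ b ∈ S, Cyc.pullFun pr δW δY c (Set.indicator {b} 1) w ≠ 0}.Finite := by
    obtain ⟨U, hU, hcov⟩ := isCompact_and_isOpen_iff_finite_and_eq_biUnion_affineOpens.mp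
      ⟨isCompact_univ, isOpen_univ (X := W)⟩
    refine ((S.finite_toSet.biUnion fun b _ => hU.biUnion fun V _ => finite_genInFibre_over pr b V.2)).subset ?_
    rintro w ⟨b, hb, hw⟩
    rw [pullFun_eq pr δW δY c hc] at hw
    have hfw : pr w = b := by
      by_contra hh
      simp [hh] at hw
    obtain ⟨V, hV, hwV⟩ := Set.mem_iUnion₂.1 (hcov.le (Set.mem_univ w))
    refine Set.mem_biUnion hb (Set.mem_biUnion hV ⟨hwV, ?_, hfw⟩)
    by_contra hg
    rw [lenFibre_eq_top pr hg, ENat.toNat_top, Nat.cast_zero, mul_zero] at hw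
    exact hw rfl
  have hexp : IntMult.interProd δW n (Set.indicator {j (genericPoint X)} 1) (Cyc.pullFun pr δW δY c ⇑α) ζ =
      ∑ b ∈ S, α b * IntMult.interProd δW n (Set.indicator {j (genericPoint X)} 1)
        (Cyc.pullFun pr δW δY c (Set.indicator {b} 1)) ζ := by
    rw [hαx]
    have h := interProd_sum δW n ({()} : Finset Unit) S (fun _ => 1) (fun b => α b)
      (fun _ => Set.indicator {j (genericPoint X)} 1) (fun b => Cyc.pullFun pr δW δY c (Set.indicator {b} 1))
      {j (genericPoint X)} hT.toFinset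
      (fun _ _ z hz => Finset.mem_singleton.2 (Set.mem_singleton_iff.1 (Set.mem_of_indicator_ne_zero hz)))
      (fun b hb z hz => hT.mem_toFinset.2 ⟨b, hb, hz⟩) ζ
    simpa using h
  rw [hexp]
  set F := (Coh.push j).obj (Coh.structureModule X)
  have hF : Coh.IsCoh F := Coherent.isCoh_push_finite j (Coherent.isCoh_structureModule X)
  have hFr : ∀ z, Nontrivial (F.presheaf.stalk z) → z ∈ Set.range j := fun z hz => by
    by_contra hn
    haveI := subsingleton_stalk_push j (Coh.structureModule X) (x := z) hn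
    exact not_subsingleton (F.presheaf.stalk z) inferInstance
  have hrF : ∀ z, Nontrivial (F.presheaf.stalk z) → δW z ≤ dX := fun z hz => by
    obtain ⟨x, rfl⟩ := hFr z hz
    exact hle x
  have hsfF : Cyc.sheafFun δW dX F = Set.indicator {j (genericPoint X)} 1 := by
    rw [show F = (Coh.push j).obj (Coh.structureModule X) from rfl, P1Inter.sheafFun_push_integral j hW.2.2 hdX]
  by_cases hζ : δW ζ = k + e
  swap
  · have hz : ∀ b ∈ S, IntMult.interProd δW n (Set.indicator {j (genericPoint X)} 1)
        (Cyc.pullFun pr δW δY c (Set.indicator {b} 1)) ζ = 0 := by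
      intro b hb
      refine finsum_eq_zero_of_forall_eq_zero fun t => ?_
      by_contra hne
      have h1 := left_ne_zero_of_mul (left_ne_zero_of_mul hne)
      have h2 := right_ne_zero_of_mul (left_ne_zero_of_mul hne)
      rw [pullFun_eq pr δW δY c hc] at h2
      have hg : GenInFibre pr t.1.2 := by
        by_contra hg
        rw [lenFibre_eq_top pr hg, ENat.toNat_top, Nat.cast_zero, mul_zero] at h2
        exact h2 rfl
      have hb' : pr t.1.2 = b := Set.mem_singleton_iff.1 (Set.mem_of_indicator_ne_zero (left_ne_zero_of_mul h2))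
      have h3 := t.2.2.2
      rw [show t.1.1 = j (genericPoint X) from Set.mem_singleton_iff.1 (Set.mem_of_indicator_ne_zero h1), hdX,
        hc _ hg, hb', hZ b ((hS b).1 hb)] at h3
      exact hζ (by omega)
    rw [Finset.sum_eq_zero fun b hb => by rw [hz b hb, mul_zero]]
    symm
    by_cases hr : ζ ∈ Set.range j
    · obtain ⟨x, rfl⟩ := hr
      rw [j.isEmbedding.injective.extend_apply, hαX, Finset.sum_eq_zero]
      intro b hb
      rw [mul_eq_zero]
      right
      rw [Cyc.pullFun]
      split_ifs with h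
      · by_cases hbx : (j ≫ pr) x = b
        · rw [hbx, hZ b ((hS b).1 hb)] at h
          exact absurd h hζ
        · rw [Set.indicator_of_notMem (show (j ≫ pr) x ∉ ({b} : Set Y) from hbx), zero_mul]
      · rfl
    · exact Function.extend_apply' _ _ _ hr
  have key : ∀ b ∈ S, IntMult.interProd δW n (Set.indicator {j (genericPoint X)} 1)
      (Cyc.pullFun pr δW δY c (Set.indicator {b} 1)) ζ =
      Function.extend j (Cyc.pullFun (j ≫ pr) (fun x => δW (j x)) δY e (Set.indicator {b} 1)) 0 ζ := by
    intro b hb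
    set G := pointSheaf b
    have hG : Coh.IsCoh G := isCoh_pointSheaf b
    have hGb : ∀ y', Nontrivial (G.presheaf.stalk y') → b ⤳ y' := specializes_of_nontrivial_pointSheaf b
    have hsG : ∀ y', Nontrivial (G.presheaf.stalk y') → δY y' ≤ k := fun y' h =>
      hZ b ((hS b).1 hb) ▸ le_of_specializes hY.2.2 (hGb y' h)
    set Gp := (Scheme.Modules.pullback pr).obj G
    have hGp : Coh.IsCoh Gp := isCoh_pullback pr hG
    obtain ⟨hsGp, hpull⟩ := pullFun_sheafFun pr hW.2.2 c hc k G hsG
    obtain ⟨-, hpullX⟩ := pullFun_sheafFun (j ≫ pr) hdj e he k G hsG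
    have hsfG : Cyc.sheafFun δY k G = Set.indicator {b} 1 := sheafFun_pointSheaf hY.2.2 (hZ b ((hS b).1 hb))
    have hrs : ∀ z, Nontrivial (F.presheaf.stalk z) → Nontrivial (Gp.presheaf.stalk z) →
        δW z ≤ dX + (k + c) - n := fun z h1 h2 => by
      obtain ⟨x, rfl⟩ := hFr z h1
      have := hmeet b (j x) ((hS b).1 hb) ((genericPoint_specializes x).map j.continuous)
        (hGb _ (nontrivial_of_pullback pr G (j x) h2))
      omega
    rw [← hsfF, ← hsfG, hpull, hpullX,
      interProd_eq_chi (f := gW) hW hδW hn hF hGp hrF hsGp hrs (ζ := ζ) (by omega)]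
    by_cases hr : ζ ∈ Set.range j
    · obtain ⟨x, rfl⟩ := hr
      rw [j.isEmbedding.injective.extend_apply, Cyc.sheafFun, if_pos hζ]
      exact chi_graph pr j G hG x
    · haveI := subsingleton_stalk_push j (Coh.structureModule X) (x := ζ) hr
      haveI := AssSch12.finite_stalk hGp ζ
      haveI : IsRegularLocalRing (W.presheaf.stalk ζ) := isRegularLocalRing_stalk gW ζ
      rw [Function.extend_apply' _ _ _ hr, chi_comm, chi_of_subsingleton]
      rfl
  rw [Finset.sum_congr rfl fun b hb => congrArg (α b * ·) (key b hb)]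
  by_cases hr : ζ ∈ Set.range j
  · obtain ⟨x, rfl⟩ := hr
    rw [j.isEmbedding.injective.extend_apply, hαX]
    exact Finset.sum_congr rfl fun b _ => by rw [j.isEmbedding.injective.extend_apply]
  · rw [Function.extend_apply' _ _ _ hr]
    exact Finset.sum_eq_zero fun b _ => by rw [Function.extend_apply' _ _ _ hr]; simp

end Groth.Agent.CycLib28.GraphPull
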