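import Mathlib
import Groth.Agent.CycLib28.C1CommuteApp
import Groth.Agent.CycLib28.GysinBase
import Groth.Agent.CycLib28.PushAny

/-!
# Gysin maps commute with each other and with first Chern classes
-/

set_option autoImplicit false

universe u

open CategoryTheory CategoryTheory.Limits AlgebraicGeometry IsLocalRing Groth.Agent.CycLim28 TopologicalSpace
open Groth.Agent.Coherent Groth.Agent.PicLib

namespace Groth.Agent.CycLib28

variable {X : Scheme.{u}} [IsLocallyNoetherian X] {δ : X → ℤ}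

theorem symF_eq_one_of_gen' (hδ : Cyc.IsDimFun X δ) {L N : X.Modules} (hL : PicF.IsInvertible L)
    (hN : PicF.IsInvertible N) {η ξ : X} (h : η ⤳ ξ) (hd : δ ξ + 1 = δ η) {s : Cyc.secFibre L η}
    {t : Cyc.secFibre N η} (hs : s ≠ 0) (ht : t ≠ 0) {u : Cyc.secFibre N ξ} {v : Cyc.secFibre L ξ}
    (hu : u ≠ 0) (hv : v ≠ 0) {g' : N.presheaf.stalk ξ} (hg' : Submodule.span (X.presheaf.stalk ξ) {g'} = ⊤)
    (htg : t = Submodule.Quotient.mk (N.presheaf.stalkSpecializes h g')) (hug : u = Submodule.Quotient.mk g') :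
    symF hL hN h s t u v = 1 := by
  obtain ⟨g, hg⟩ := exists_gen_span hL ξ
  have hb : coef h g' t = 1 := by
    rw [coef_eq hN h hg' (φ := 1) (by rw [one_smul]; exact htg), map_one]
  have hU : coef (specializes_refl ξ) g' u = 1 := by
    rw [coef_eq hN _ hg' (φ := 1) (by rw [one_smul, TopCat.Presheaf.stalkSpecializes_refl]; exact hug), map_one]
  rw [symF_eq hδ hL hN h hd hs ht hu hv hg hg', symG, hb, hU, ← map_one (Cyc.specMap ξ η h),
    symAt_unit_right hδ h hd isUnit_one (coef_ne_zero hL h hg hs), ordAt_unit hδ h hd 1 isUnit_one]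
  simp

variable {D : Scheme.{u}}

theorem secDivFun_gysin_out (hδ : Cyc.IsDimFun X δ) {L : X.Modules} (hL : PicF.IsInvertible L)
    (s : L.presheaf.obj (Opposite.op ⊤)) (i : D ⟶ X) [IsClosedImmersion i] (hD : Cyc.IsZeroSchemeOf i L s)
    (w : (ξ : X) → Cyc.secFibre L ξ) (hw : ∀ ξ, w ξ ≠ 0) (η : X) {ξ : X} (hξ : ξ ∉ Set.range i) :
    Cyc.secDivFun δ L η (Cyc.gysinChoice L s w η) ξ = 0 := by
  simp only [Cyc.secDivFun]
  split_ifs with h
  · obtain ⟨hgen, hη, -⟩ := gysinChoice_gen hL s i hD w h.1 hξ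
    rw [secOrdAt_eq_coef hL hδ h.1 h.2 hgen (gysinChoice_ne_zero L s w hw η),
      coef_eq hL h.1 hgen (φ := 1) (by rw [one_smul]; exact hη), map_one]
    exact ordAt_one hδ h.1 h.2
  · rfl

omit [IsLocallyNoetherian X] in
theorem cycle_locallyFinite (α : AlgebraicCycle X ℤ) (x : X) :
    ∃ U : Set X, IsOpen U ∧ x ∈ U ∧ {i : {η // α η ≠ 0} | (closure {i.1} ∩ U).Nonempty}.Finite := by
  obtain ⟨U, ⟨hU, hUc⟩, hxU, -⟩ := (PrespectralSpace.isTopologicalBasis (X := X)).exists_subset_of_mem_open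
    (Set.mem_univ x) isOpen_univ
  refine ⟨U, hU, hxU, ?_⟩
  have h := (Function.locallyFinsupp.locallyFiniteSupport α).finite_inter_support_of_isCompact hUc
  refine (h.preimage Subtype.val_injective.injOn).subset fun ξ ⟨w, hw1, hw2⟩ ↦ ?_
  exact ⟨(specializes_iff_mem_closure.mpr hw1).mem_open hU hw2, ξ.2⟩

/-- the Gysin cycle of α on the zero scheme, pushed back into X -/
theorem exists_gysin_cycle (hδ : Cyc.IsDimFun X δ) {L : X.Modules} (hL : PicF.IsInvertible L)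
    (s : L.presheaf.obj (Opposite.op ⊤)) (i : D ⟶ X) [IsClosedImmersion i] (hD : Cyc.IsZeroSchemeOf i L s) (k : ℤ)
    (α : AlgebraicCycle X ℤ) (hα : α ∈ Cyc.Zk X δ k) (w : (ξ : X) → Cyc.secFibre L ξ) (hw : ∀ ξ, w ξ ≠ 0) :
    ∃ γ : AlgebraicCycle D ℤ, (∀ d, γ d = Cyc.c1CapFun δ L ⇑α (Cyc.gysinChoice L s w) (i d)) ∧
      γ ∈ Cyc.Zk D (fun d => δ (i d)) (k - 1) ∧
      ⇑(AlgebraicCycle.map i (fun d => δ (i d)) δ γ) = Cyc.c1CapFun δ L ⇑α (Cyc.gysinChoice L s w) := by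
  obtain ⟨c, hc⟩ := exists_c1Cap_cycle hδ hL α _ (gysinChoice_ne_zero L s w hw)
  obtain ⟨γ, hγ⟩ := exists_restrict_cycle i c
  refine ⟨γ, fun d ↦ by rw [hγ, hc], fun d hd ↦ ?_, funext fun ξ ↦ ?_⟩
  · rw [hγ, hc]
    refine finsum_eq_zero_of_forall_eq_zero fun η ↦ ?_
    by_contra hne
    have h1 : δ η = k := by
      by_contra hk
      exact left_ne_zero_of_mul hne (hα η hk)
    refine right_ne_zero_of_mul hne ?_
    rw [Cyc.secDivFun, dif_neg]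
    intro h
    have h2 := h.2
    change δ (i d) ≠ k - 1 at hd
    omega
  · by_cases hξ : ξ ∈ Set.range i
    · obtain ⟨d, rfl⟩ := hξ
      rw [map_closedImmersion_apply, hγ, hc]
    · rw [map_closedImmersion_eq_zero i _ _ _ ξ hξ]
      symm
      refine finsum_eq_zero_of_forall_eq_zero fun η ↦ ?_
      rw [secDivFun_gysin_out hδ hL s i hD w hw η hξ, mul_zero]

theorem gysin_c1 (hδ : Cyc.IsDimFun X δ) {L N : X.Modules} (hL : PicF.IsInvertible L) (hN : PicF.IsInvertible N)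
    (s : L.presheaf.obj (Opposite.op ⊤)) (i : D ⟶ X) [IsClosedImmersion i] (hD : Cyc.IsZeroSchemeOf i L s) (k : ℤ)
    (α : AlgebraicCycle X ℤ) (hα : α ∈ Cyc.Zk X δ k) (w : (ξ : X) → Cyc.secFibre L ξ) (hw : ∀ ξ, w ξ ≠ 0)
    (v : (ξ : X) → Cyc.secFibre N ξ) (hv : ∀ ξ, v ξ ≠ 0)
    (t : (d : D) → Cyc.secFibre ((Scheme.Modules.pullback i).obj N) d) (ht : ∀ d, t d ≠ 0)
    (β : AlgebraicCycle X ℤ) (hβ : ⇑β = Cyc.c1CapFun δ N ⇑α v) (γ : D → ℤ)
    (hγ : γ = fun d => Cyc.c1CapFun δ L ⇑α (Cyc.gysinChoice L s w) (i d)) (ζ₁ ζ₂ : AlgebraicCycle D ℤ)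
    (h₁ : ∀ d, ζ₁ d = Cyc.c1CapFun δ L ⇑β (Cyc.gysinChoice L s w) (i d))
    (h₂ : ⇑ζ₂ = Cyc.c1CapFun (fun d => δ (i d)) ((Scheme.Modules.pullback i).obj N) γ t) :
    Cyc.RatEquiv (fun d => δ (i d)) (k - 2) ζ₁ ζ₂ := by
  classical
  haveI : IsLocallyNoetherian D := LocallyOfFiniteType.isLocallyNoetherian i
  have hδD := isDimFun_comp_closedImmersion i hδ
  obtain ⟨γD, hγD, hγDk, hmapD⟩ := exists_gysin_cycle hδ hL s i hD k α hα w hw
  obtain ⟨w', γw, hw', hγw, hmap⟩ := c1Cap_push hδD hδ i (deltaCompat_preimmersion i δ) hN γD v hv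
  have hG := gysinChoice_ne_zero L s w hw
  obtain ⟨J, ζ, f, h1, h2, h3, h4, h5⟩ := exists_commute_family hδ (fun i : {η // α η ≠ 0} ↦ i.1) (fun i ↦ α i.1)
    (k - 2) (fun i ↦ by
      have : δ i.1 = k := by
        by_contra hh
        exact i.2 (hα i.1 hh)
      omega)
    (fun i ↦ Cyc.gysinChoice L s w i.1) (fun i ↦ v i.1) (fun i ↦ hG _) (fun i ↦ hv _) (cycle_locallyFinite α)
    v (Cyc.gysinChoice L s w) hv hG hL hN
  have hJ := h4 (Set.range i) fun η ξ hξ h hd ↦ by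
    obtain ⟨hgen, hη, hvg⟩ := gysinChoice_gen hL s i hD w h hξ
    exact symF_eq_one_of_gen hδ hL hN h hd (hG _) (hv _) (hv ξ) (hG ξ) hgen hη hvg
  obtain ⟨E, hE, -, hE'⟩ := exists_lift_family i hδ ζ f h2 hJ h3 (k - 2) h1
  have h0 := c1CapFun_indep hδD (PicLoc.isInvertible_pullback i hN) (k - 2) γD
    (by rwa [show k - 2 + 1 = k - 1 by ring]) w' t (fun d _ ↦ hw' d) (fun d _ ↦ ht d) γw ζ₂ hγw
    (by rw [h₂, show ⇑γD = γ from funext fun d ↦ by rw [hγ, hγD]])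
  unfold Cyc.RatEquiv at h0 ⊢
  refine ratEquivZero_add (X := D) hE' h0 (fun (d : D) ↦ ?_)
  have e : γw d = Cyc.c1CapFun δ N (Cyc.c1CapFun δ L ⇑α (Cyc.gysinChoice L s w)) v (i d) := by
    rw [← map_closedImmersion_apply i δ γw d, hmap, hmapD]
  simp only [Function.locallyFinsuppWithin.coe_sub, Function.locallyFinsuppWithin.coe_neg, Pi.sub_apply, Pi.neg_apply]
  rw [hE, h5, e, h₁, hβ,
    show Cyc.c1CapFun δ L ⇑α (Cyc.gysinChoice L s w) = fun ξ ↦ ∑ᶠ i : {η // α η ≠ 0},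
      α i.1 * Cyc.secDivFun δ L i.1 (Cyc.gysinChoice L s w i.1) ξ from funext (c1Cap_support_eq α L _),
    show Cyc.c1CapFun δ N ⇑α v = fun ξ ↦ ∑ᶠ i : {η // α η ≠ 0}, α i.1 * Cyc.secDivFun δ N i.1 (v i.1) ξ from
      funext (c1Cap_support_eq α N v)]
  ring

omit [IsLocallyNoetherian X] in
theorem isZeroSchemeOf_iso_comp {P Q : Scheme.{u}} (e : P ⟶ Q) [IsIso e] (i : Q ⟶ X) {L : X.Modules}
    {s : L.presheaf.obj (Opposite.op ⊤)} (h : Cyc.IsZeroSchemeOf i L s) : Cyc.IsZeroSchemeOf (e ≫ i) L s := by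
  refine ⟨?_, fun d ↦ ?_⟩
  · rw [← h.1]
    ext x
    refine ⟨fun ⟨p, hp⟩ ↦ ⟨e p, hp⟩, fun ⟨q, hq⟩ ↦ ?_⟩
    obtain ⟨p, rfl⟩ := e.homeomorph.surjective q
    exact ⟨p, hq⟩
  · obtain ⟨t, f, ht, hf, hker⟩ := h.2 (e d)
    refine ⟨t, f, ht, hf, ?_⟩
    rw [Scheme.Hom.stalkMap_comp]
    refine Eq.trans ?_ hker
    ext c
    have hinj : Function.Injective (e.stalkMap d).hom := (ConcreteCategory.bijective_of_isIso (e.stalkMap d)).1
    exact ⟨fun hc ↦ hinj (hc.trans (map_zero (e.stalkMap d).hom).symm),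
      fun hc ↦ (congrArg (e.stalkMap d).hom hc).trans (map_zero _)⟩

/-- the Gysin map of a pulled back section against that of the section itself -/
theorem gysin_restrict (hδ : Cyc.IsDimFun X δ) {D' P : Scheme.{u}} (i : D ⟶ X) [IsClosedImmersion i]
    (i' : D' ⟶ X) [IsClosedImmersion i'] {L' : X.Modules} (hL' : PicF.IsInvertible L')
    (s' : L'.presheaf.obj (Opposite.op ⊤)) (hD' : Cyc.IsZeroSchemeOf i' L' s')
    (σ' : ((Scheme.Modules.pullback i).obj L').presheaf.obj (Opposite.op ⊤))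
    (hσ' : Cyc.IsZeroSchemeOf (pullback.fst i i') ((Scheme.Modules.pullback i).obj L') σ')
    (p : P ⟶ D) [IsClosedImmersion p] (hp : ∀ d, d ∈ Set.range p ↔ d ∈ Set.range (pullback.fst i i')) (k : ℤ)
    (γD : AlgebraicCycle D ℤ) (hγD : γD ∈ Cyc.Zk D (fun d => δ (i d)) (k + 1))
    (w' : (ξ : X) → Cyc.secFibre L' ξ) (hw' : ∀ ξ, w' ξ ≠ 0)
    (w₁ : (d : D) → Cyc.secFibre ((Scheme.Modules.pullback i).obj L') d) (hw₁ : ∀ d, w₁ d ≠ 0)
    (ζ : AlgebraicCycle P ℤ)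
    (hζ : ∀ z, ζ z = Cyc.c1CapFun (fun d => δ (i d)) ((Scheme.Modules.pullback i).obj L') ⇑γD
      (Cyc.gysinChoice ((Scheme.Modules.pullback i).obj L') σ' w₁) (p z)) :
    ∃ γP : AlgebraicCycle P ℤ, (∀ z, γP z = Cyc.c1CapFun δ L' ⇑(AlgebraicCycle.map i (fun d => δ (i d)) δ γD)
        (Cyc.gysinChoice L' s' w') (i (p z))) ∧
      Cyc.RatEquiv (fun z => δ (i (p z))) k γP ζ := by
  haveI : IsLocallyNoetherian D := LocallyOfFiniteType.isLocallyNoetherian i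
  have hδD := isDimFun_comp_closedImmersion i hδ
  obtain ⟨u, γ₁, hu, hword, hγ₁, hmap⟩ := c1Cap_push_section hδD hδ i (deltaCompat_preimmersion i δ) hL' γD
    (Cyc.gysinChoice L' s' w') (gysinChoice_ne_zero L' s' w' hw')
  obtain ⟨γP, hγP⟩ := exists_restrict_cycle p γ₁
  refine ⟨γP, fun z ↦ by rw [hγP, ← map_closedImmersion_apply i δ γ₁ (p z), hmap], ?_⟩
  exact gysin_indep_closed hδD p (PicLoc.isInvertible_pullback i hL') k γD hγD u
    (Cyc.gysinChoice ((Scheme.Modules.pullback i).obj L') σ' w₁)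
    (fun ξ _ ↦ hu ξ) (fun ξ _ ↦ gysinChoice_ne_zero _ σ' w₁ hw₁ ξ) (fun ξ hξ x ↦
      (secDivFun_gysin_pullback hδD i hL' s' i' hD' σ' hσ' w' w₁
        (fun h ↦ hξ ((hp ξ).mpr ((not_mem_range_fst i i' ξ).mpr h))) (u ξ) (fun x' h hd U e he hx hU φ hφ ↦
          hword ξ x' h hd U e he hx hU φ hφ) x).symm) γP ζ (fun z ↦ by rw [hγP, hγ₁]) hζ

theorem gysin_gysin (hδ : Cyc.IsDimFun X δ) {D' : Scheme.{u}} {L L' : X.Modules} (hL : PicF.IsInvertible L)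
    (hL' : PicF.IsInvertible L') (s : L.presheaf.obj (Opposite.op ⊤)) (s' : L'.presheaf.obj (Opposite.op ⊤))
    (i : D ⟶ X) (i' : D' ⟶ X) [IsClosedImmersion i] [IsClosedImmersion i'] (hD : Cyc.IsZeroSchemeOf i L s)
    (hD' : Cyc.IsZeroSchemeOf i' L' s') (σ' : ((Scheme.Modules.pullback i).obj L').presheaf.obj (Opposite.op ⊤))
    (hσ' : Cyc.IsZeroSchemeOf (pullback.fst i i') ((Scheme.Modules.pullback i).obj L') σ')
    (σ : ((Scheme.Modules.pullback i').obj L).presheaf.obj (Opposite.op ⊤))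
    (hσ : Cyc.IsZeroSchemeOf (pullback.snd i i') ((Scheme.Modules.pullback i').obj L) σ) (k : ℤ)
    (α : AlgebraicCycle X ℤ) (hα : α ∈ Cyc.Zk X δ k) (w : (ξ : X) → Cyc.secFibre L ξ) (hw : ∀ ξ, w ξ ≠ 0)
    (w' : (ξ : X) → Cyc.secFibre L' ξ) (hw' : ∀ ξ, w' ξ ≠ 0)
    (w₁ : (d : D) → Cyc.secFibre ((Scheme.Modules.pullback i).obj L') d) (hw₁ : ∀ d, w₁ d ≠ 0)
    (w₂ : (d : D') → Cyc.secFibre ((Scheme.Modules.pullback i').obj L) d) (hw₂ : ∀ d, w₂ d ≠ 0)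
    (γ : D → ℤ) (hγ : γ = fun d => Cyc.c1CapFun δ L ⇑α (Cyc.gysinChoice L s w) (i d)) (γ' : D' → ℤ)
    (hγ' : γ' = fun d => Cyc.c1CapFun δ L' ⇑α (Cyc.gysinChoice L' s' w') (i' d))
    (ζ₁ ζ₂ : AlgebraicCycle (pullback i i') ℤ)
    (h₁ : ∀ z, ζ₁ z = Cyc.c1CapFun (fun d => δ (i d)) ((Scheme.Modules.pullback i).obj L') γ
      (Cyc.gysinChoice ((Scheme.Modules.pullback i).obj L') σ' w₁) (pullback.fst i i' z))
    (h₂ : ∀ z, ζ₂ z = Cyc.c1CapFun (fun d => δ (i' d)) ((Scheme.Modules.pullback i').obj L) γ'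
      (Cyc.gysinChoice ((Scheme.Modules.pullback i').obj L) σ w₂) (pullback.snd i i' z)) :
    Cyc.RatEquiv (fun z => δ (i (pullback.fst i i' z))) (k - 2) ζ₁ ζ₂ := by
  classical
  haveI : IsLocallyNoetherian D := LocallyOfFiniteType.isLocallyNoetherian i
  haveI : IsLocallyNoetherian (pullback i i') := LocallyOfFiniteType.isLocallyNoetherian (pullback.fst i i')
  have hδP := isDimFun_comp_closedImmersion (pullback.fst i i') (isDimFun_comp_closedImmersion i hδ)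
  have hcond : ∀ z, i (pullback.fst i i' z) = i' (pullback.snd i i' z) :=
    fun z ↦ congrArg (fun f : pullback i i' ⟶ X ↦ f z) pullback.condition
  obtain ⟨γD, hγD, hγDk, hmapD⟩ := exists_gysin_cycle hδ hL s i hD k α hα w hw
  obtain ⟨γD', hγD', hγDk', hmapD'⟩ := exists_gysin_cycle hδ hL' s' i' hD' k α hα w' hw'
  have hk1 : k - 2 + 1 = k - 1 := by ring
  obtain ⟨γ₁, hγ₁, hr₁⟩ := gysin_restrict hδ i i' hL' s' hD' σ' hσ' (pullback.fst i i') (fun d ↦ Iff.rfl) (k - 2)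
    γD (by rwa [hk1]) w' hw' w₁ hw₁ ζ₁ (fun z ↦ by rw [h₁, show γ = ⇑γD from funext fun d ↦ by rw [hγ, hγD]])
  have hσ2 : Cyc.IsZeroSchemeOf (pullback.fst i' i) ((Scheme.Modules.pullback i').obj L) σ := by
    rw [← pullbackSymmetry_hom_comp_snd i' i]
    exact isZeroSchemeOf_iso_comp _ _ hσ
  obtain ⟨γ₂, hγ₂, hr₂⟩ := gysin_restrict hδ i' i hL s hD σ hσ2 (pullback.snd i i') (fun d ↦ by
      rw [Scheme.Pullback.range_snd, Scheme.Pullback.range_fst]) (k - 2)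
    γD' (by rwa [hk1]) w hw w₂ hw₂ ζ₂ (fun z ↦ by rw [h₂, show γ' = ⇑γD' from funext fun d ↦ by rw [hγ', hγD']])
  rw [show (fun z => δ (i' (pullback.snd i i' z))) = fun z => δ (i (pullback.fst i i' z)) from
    funext fun z ↦ by rw [hcond]] at hr₂
  have hG := gysinChoice_ne_zero L s w hw
  have hG' := gysinChoice_ne_zero L' s' w' hw'
  obtain ⟨J, ζ, f, h1, h2, h3, h4, h5⟩ := exists_commute_family hδ (fun i : {η // α η ≠ 0} ↦ i.1) (fun i ↦ α i.1)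
    (k - 2) (fun i ↦ by
      have : δ i.1 = k := by
        by_contra hh
        exact i.2 (hα i.1 hh)
      omega)
    (fun i ↦ Cyc.gysinChoice L s w i.1) (fun i ↦ Cyc.gysinChoice L' s' w' i.1) (fun i ↦ hG _) (fun i ↦ hG' _)
    (cycle_locallyFinite α) (Cyc.gysinChoice L' s' w') (Cyc.gysinChoice L s w) hG' hG hL hL'
  have hJ := h4 (Set.range (pullback.fst i i' ≫ i)) fun η ξ hξ h hd ↦ by
    by_cases hξi : ξ ∈ Set.range i
    · have hξi' : ξ ∉ Set.range i' := by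
        rintro ⟨d', rfl⟩
        obtain ⟨d, hd⟩ := hξi
        obtain ⟨z, hz, -⟩ := Scheme.Pullback.exists_preimage_pullback (f := i) (g := i') d d' hd
        exact hξ ⟨z, (congrArg i hz).trans hd⟩
      obtain ⟨hgen, hη, hug⟩ := gysinChoice_gen hL' s' i' hD' w' h hξi'
      exact symF_eq_one_of_gen' hδ hL hL' h hd (hG _) (hG' _) (hG' ξ) (hG ξ) hgen hη hug
    · obtain ⟨hgen, hη, hvg⟩ := gysinChoice_gen hL s i hD w h hξi
      exact symF_eq_one_of_gen hδ hL hL' h hd (hG _) (hG' _) (hG' ξ) (hG ξ) hgen hη hvg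
  obtain ⟨E, hE, hE', -⟩ := exists_lift_family (pullback.fst i i' ≫ i) hδ ζ f h2 hJ h3 (k - 2) h1
  -- ζ₁ - ζ₂ = (γ₁ - γ₂) + (γ₂ - ζ₂) - (γ₁ - ζ₁)
  have hE'' : Cyc.RatEquivZero (fun z => δ (i (pullback.fst i i' z))) (k - 2) E := hE'
  have hmid : Cyc.RatEquivZero (fun z => δ (i (pullback.fst i i' z))) (k - 2) (γ₁ - γ₂) := by
    refine (show γ₁ - γ₂ = E from Function.locallyFinsuppWithin.ext fun z ↦ ?_) ▸ hE''
    rw [Function.locallyFinsuppWithin.coe_sub, Pi.sub_apply, hγ₁, hγ₂, hE, h5, hmapD, hmapD',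
      show Cyc.c1CapFun δ L ⇑α (Cyc.gysinChoice L s w) = fun ξ ↦ ∑ᶠ i : {η // α η ≠ 0},
        α i.1 * Cyc.secDivFun δ L i.1 (Cyc.gysinChoice L s w i.1) ξ from funext (c1Cap_support_eq α L _),
      show Cyc.c1CapFun δ L' ⇑α (Cyc.gysinChoice L' s' w') = fun ξ ↦ ∑ᶠ i : {η // α η ≠ 0},
        α i.1 * Cyc.secDivFun δ L' i.1 (Cyc.gysinChoice L' s' w' i.1) ξ from funext (c1Cap_support_eq α L' _),
      ← hcond]
    rfl
  unfold Cyc.RatEquiv at hr₁ hr₂ ⊢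
  have hneg : Cyc.RatEquivZero (fun z => δ (i (pullback.fst i i' z))) (k - 2) (ζ₁ - γ₁) :=
    ratEquivZero_neg hδP hr₁ fun z ↦ by
      simp only [Function.locallyFinsuppWithin.coe_sub, Pi.sub_apply]; ring
  have hsum : Cyc.RatEquivZero (fun z => δ (i (pullback.fst i i' z))) (k - 2) (ζ₁ - γ₂) :=
    ratEquivZero_add hneg hmid fun z ↦ by
      simp only [Function.locallyFinsuppWithin.coe_sub, Pi.sub_apply]; ring
  exact ratEquivZero_add hsum hr₂ fun z ↦ by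
      simp only [Function.locallyFinsuppWithin.coe_sub, Pi.sub_apply]; ring

end Groth.Agent.CycLib28
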