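import Mathlib
import Groth.Agent.CycLib28.GysinSheaf
import Groth.Agent.CycLib28.C1Flat
import Groth.Agent.CycLib28.RelDim
import Groth.Agent.CycLib28.PushAny

/-!
# The Gysin map of a relative effective Cartier divisor
-/

universe u

open CategoryTheory CategoryTheory.Limits AlgebraicGeometry IsLocalRing Groth.Agent.CycLim28
open scoped Pointwise

namespace Groth.Agent.CycLib28

/-- A nonzerodivisor with flat quotient stays a nonzerodivisor modulo ideals of the base. -/
theorem mem_map_of_mul_mem {A B : Type u} [CommRing A] [CommRing B] [Algebra A B] (f : B)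
    (hinj : Function.Injective (fun b : B ↦ f * b)) [Module.Flat A (B ⧸ Ideal.span {f})] (I : Ideal A) (b : B)
    (h : f * b ∈ I.map (algebraMap A B)) : b ∈ I.map (algebraMap A B) := by
  obtain ⟨n, c, v, hv⟩ : ∃ (n : ℕ) (c : Fin n → A) (v : Fin n → B), (∀ i, c i ∈ I) ∧ f * b = ∑ i, c i • v i := by
    rw [Ideal.map, Ideal.span] at h
    obtain ⟨n, r, g, hg⟩ := Submodule.mem_span_set'.mp h
    choose c hc hcg using fun i ↦ (g i).2
    refine ⟨n, c, r, hc, ?_⟩
    rw [← hg]
    refine Finset.sum_congr rfl fun i _ ↦ ?_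
    rw [smul_eq_mul, Algebra.smul_def, hcg i, mul_comm]
  obtain ⟨hc, hv⟩ := hv
  have hrel : ∑ i, c i • Ideal.Quotient.mk (Ideal.span {f}) (v i) = 0 := by
    have : (∑ i, c i • v i) ∈ Ideal.span {f} := hv ▸ Ideal.mul_mem_right b _ (Ideal.mem_span_singleton_self f)
    simpa only [map_sum, ← Ideal.Quotient.mkₐ_eq_mk A, map_smul] using Ideal.Quotient.eq_zero_iff_mem.mpr this
  obtain ⟨k, a, y, hy, ha⟩ := Module.Flat.isTrivialRelation_of_sum_smul_eq_zero (R := A)
    (M := B ⧸ Ideal.span {f}) (f := c) (x := fun i ↦ Ideal.Quotient.mk (Ideal.span {f}) (v i)) hrel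
  choose z hz using fun j ↦ Ideal.Quotient.mk_surjective (y j)
  have hdiff : ∀ i, ∃ e : B, v i = ∑ j, a i j • z j + f * e := by
    intro i
    obtain ⟨e, he⟩ := Ideal.mem_span_singleton.mp
      (show v i - ∑ j, a i j • z j ∈ Ideal.span {f} from by
        rw [← Ideal.Quotient.mk_eq_mk_iff_sub_mem, show Ideal.Quotient.mk (Ideal.span {f}) (v i) = _ from hy i]
        simp only [← Ideal.Quotient.mkₐ_eq_mk A, map_sum, map_smul]
        exact Finset.sum_congr rfl fun j _ ↦ by rw [Ideal.Quotient.mkₐ_eq_mk, hz])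
    exact ⟨e, by rw [← he]; abel⟩
  choose e he using hdiff
  have hz0 : ∑ i, c i • ∑ j, a i j • z j = 0 := by
    simp only [Finset.smul_sum, smul_smul]
    rw [Finset.sum_comm]
    exact Finset.sum_eq_zero fun j _ ↦ by rw [← Finset.sum_smul, ha j, zero_smul]
  have hb : b = ∑ i, c i • e i := by
    refine hinj ?_
    change f * b = f * _
    rw [hv, Finset.mul_sum]
    calc ∑ i, c i • v i = ∑ i, (c i • (∑ j, a i j • z j) + c i • (f * e i)) :=
          Finset.sum_congr rfl fun i _ ↦ by rw [he i, smul_add]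
      _ = _ := by
          rw [Finset.sum_add_distrib, hz0, zero_add]
          exact Finset.sum_congr rfl fun i _ ↦ (mul_smul_comm _ _ _).symm
  rw [hb]
  exact Ideal.sum_mem _ fun i _ ↦ by
    rw [Algebra.smul_def]; exact Ideal.mul_mem_right _ _ (Ideal.mem_map_of_mem _ (hc i))

variable {X Y D : Scheme.{u}}

/-- every point generises within its fibre to a generic point of the fibre -/
theorem exists_genInFibre_specializes (p : X ⟶ Y) (x : X) :
    ∃ g : X, g ⤳ x ∧ p g = p x ∧ GenInFibre p g := by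
  obtain ⟨P, hP, -⟩ := Ideal.exists_minimalPrimes_le (I := Ideal.map (p.stalkMap x).hom (maximalIdeal _))
    (J := maximalIdeal (X.presheaf.stalk x))
    (Ideal.map_le_iff_le_comap.mpr (IsLocalRing.maximalIdeal_comap (p.stalkMap x).hom).ge)
  let q : PrimeSpectrum (X.presheaf.stalk x) := ⟨P, hP.isPrime⟩
  refine ⟨X.fromSpecStalk x q, fromSpecStalk_specializes x q, (map_maximalIdeal_le_iff p x q).mp hP.1.2,
    fun y hy hyq ↦ ?_⟩
  obtain ⟨q', rfl⟩ := exists_fromSpecStalk_eq (hyq.trans (fromSpecStalk_specializes x q))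
  have hle : q' ≤ q := (specializes_iff_le x q' q).mp hyq
  have := hP.2 ⟨q'.2, (map_maximalIdeal_le_iff p x q').mpr (hy.trans ((map_maximalIdeal_le_iff p x q).mp hP.1.2))⟩ hle
  rw [le_antisymm hle this]

theorem delta_le_relDim (p : X ⟶ Y) [LocallyOfFiniteType p] {δX : X → ℤ} {δY : Y → ℤ}
    (hX : Cyc.IsDimFun X δX) (hδ : Cyc.DeltaCompat p δX δY) {r : ℕ} (hr : Cyc.HasRelDim p r) (x : X) :
    δX x ≤ δY (p x) + (r : ℤ) := by
  obtain ⟨g, hg, hgx, hgen⟩ := exists_genInFibre_specializes p x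
  have h1 := le_of_specializes hX hg
  have h2 := delta_of_hasRelDim p hr hδ g hgen
  rw [hgx] at h2
  omega

theorem gysin_relative [IsLocallyNoetherian X] {δX : X → ℤ} {δY : Y → ℤ} (hX : Cyc.IsDimFun X δX)
    (hY : Cyc.IsDimFun Y δY) (p : X ⟶ Y) [Flat p] [LocallyOfFiniteType p] (r : ℕ)
    (hr : Cyc.HasRelDim p (r + 1)) (hδ : Cyc.DeltaCompat p δX δY) {L : X.Modules} (hL : PicF.IsInvertible L)
    (s : L.presheaf.obj (Opposite.op ⊤))
    (hreg : ∀ x : X, Function.Injective (fun a : X.presheaf.stalk x => a • (L.presheaf.germ ⊤ x trivial) s))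
    (i : D ⟶ X) [IsClosedImmersion i] (hD : Cyc.IsZeroSchemeOf i L s) [Flat (i ≫ p)]
    (hrD : Cyc.HasRelDim (i ≫ p) r) (k : ℤ) (α : AlgebraicCycle Y ℤ) (hα : α ∈ Cyc.Zk Y δY (k + 1))
    (w : (ξ : X) → Cyc.secFibre L ξ) (d : D) :
    Cyc.c1CapFun δX L (Cyc.pullFun p δX δY ((r : ℤ) + 1) ⇑α) (Cyc.gysinChoice L s w) (i d) =
      Cyc.pullFun (i ≫ p) (fun d => δX (i d)) δY r ⇑α d := by
  classical
  have hc : ∀ x, GenInFibre p x → δX x = δY (p x) + ((r : ℤ) + 1) := fun x hx ↦ by
    rw [delta_of_hasRelDim p hr hδ x hx]; push_cast; ring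
  have hδD : Cyc.DeltaCompat (i ≫ p) (fun d => δX (i d)) δY := by
    intro e
    obtain ⟨n, h1, h2⟩ := hδ (i e)
    exact ⟨n, (trdeg_comp_preimmersion_left i p e).symm ▸ h1, by simpa using h2⟩
  haveI : IsLocallyNoetherian D := LocallyOfFiniteType.isLocallyNoetherian i
  have hleD : ∀ e : D, δX (i e) ≤ δY (p (i e)) + (r : ℤ) := fun e ↦ by
    simpa using delta_le_relDim (i ≫ p) (isDimFun_comp_closedImmersion i hX) hδD hrD e
  -- only the generic points over the image of `d` contribute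
  have hover : ∀ ξ : X, ξ ⤳ i d → δX (i d) + 1 = δX ξ → Cyc.pullFun p δX δY ((r : ℤ) + 1) ⇑α ξ ≠ 0 →
      δY (p (i d)) = k + 1 ∧ δX (i d) = δY (p (i d)) + r := by
    intro ξ hξ hd hne
    rw [Cyc.pullFun] at hne
    split_ifs at hne with h
    · have hk : δY (p ξ) = k + 1 := by_contra fun e ↦ hne (by rw [hα _ e, zero_mul])
      have h1 := le_of_specializes hY (hξ.map p.continuous)
      have h2 := hleD d
      omega
    · exact absurd rfl hne
  rw [Cyc.c1CapFun]
  by_cases hcond : δY (p (i d)) = k + 1 ∧ δX (i d) = δY (p (i d)) + r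
  swap
  · rw [finsum_eq_zero_of_forall_eq_zero fun ξ ↦ ?_]
    · rw [Cyc.pullFun]
      change 0 = if δX (i d) = δY (p (i d)) + (r : ℤ) then α (p (i d)) * _ else 0
      split_ifs with h
      · rw [hα _ (fun e ↦ hcond ⟨e, h⟩), zero_mul]
      · rfl
    · by_contra hne
      have h := right_ne_zero_of_mul hne
      rw [Cyc.secDivFun] at h
      split_ifs at h with hh
      · exact hcond (hover ξ hh.1 hh.2 (left_ne_zero_of_mul hne))
      · exact h rfl
  obtain ⟨hy, hx⟩ := hcond
  set B := X.presheaf.stalk (i d)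
  set J := Ideal.map (p.stalkMap (i d)).hom (maximalIdeal (Y.presheaf.stalk (p (i d))))
  obtain ⟨t₀, f₀, ht₀, hs₀, hker₀⟩ := hD.2 d
  obtain ⟨ht, f, hf⟩ := exists_choose_coeff hL (i d) ((L.presheaf.germ ⊤ (i d) trivial) s)
  obtain ⟨a, ha⟩ := (gen_bijective hL ht.choose_spec).1.2 t₀
  obtain ⟨b, hb⟩ := (gen_bijective hL ht₀).1.2 ht.choose
  have hfa : f = f₀ * a := (gen_bijective hL ht.choose_spec).1.1
    (show f • ht.choose = (f₀ * a) • ht.choose by rw [mul_smul]; exact hf.symm.trans (hs₀.trans (congrArg (f₀ • ·) ha.symm)))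
  have hfb : f₀ = f * b := (gen_bijective hL ht₀).1.1
    (show f₀ • t₀ = (f * b) • t₀ by rw [mul_smul]; exact hs₀.symm.trans (hf.trans (congrArg (f • ·) hb.symm)))
  have hspan : Ideal.span {f₀} = Ideal.span {f} :=
    le_antisymm (Ideal.span_singleton_le_span_singleton.mpr ⟨b, hfb⟩)
      (Ideal.span_singleton_le_span_singleton.mpr ⟨a, hfa⟩)
  rw [hspan] at hker₀
  -- the equation is a nonzerodivisor on the fibre
  have hinj : Function.Injective (fun b : B ↦ f * b) := fun b c hbc ↦ hreg (i d) (by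
    simp only [hf, smul_smul]
    rw [mul_comm b f, mul_comm c f, show f * b = f * c from hbc])
  letI : Algebra (Y.presheaf.stalk (p (i d))) B := (p.stalkMap (i d)).hom.toAlgebra
  letI : Algebra (Y.presheaf.stalk (p (i d))) (D.presheaf.stalk d) :=
    ((i.stalkMap d).hom.comp (p.stalkMap (i d)).hom).toAlgebra
  haveI : Module.Flat (Y.presheaf.stalk (p (i d))) (D.presheaf.stalk d) := by
    have h := Flat.stalkMap (i ≫ p) d
    rw [Scheme.Hom.stalkMap_comp] at h
    exact h
  let φ : B →ₐ[Y.presheaf.stalk (p (i d))] D.presheaf.stalk d := ⟨(i.stalkMap d).hom, fun _ ↦ rfl⟩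
  haveI : Module.Flat (Y.presheaf.stalk (p (i d))) (B ⧸ Ideal.span {f}) :=
    Module.Flat.of_linearEquiv (((Ideal.quotientEquivAlgOfEq _ (show Ideal.span {f} = RingHom.ker φ from hker₀.symm)).trans
      (Ideal.quotientKerAlgEquivOfSurjective (f := φ) (i.stalkMap_surjective d))).toLinearEquiv)
  have hM : Function.Injective (LinearMap.lsmul B (B ⧸ J) f) := by
    rw [← LinearMap.ker_eq_bot, eq_bot_iff]
    intro m hm
    obtain ⟨m, rfl⟩ := Ideal.Quotient.mk_surjective m
    have h1 : f * m ∈ J := Ideal.Quotient.eq_zero_iff_mem.mp (by rw [map_mul]; exact hm)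
    exact (Submodule.mem_bot _).mpr (Ideal.Quotient.eq_zero_iff_mem.mpr (mem_map_of_mul_mem f hinj _ m h1))
  -- the support of the fibre near `i d`
  have hsupp : ∀ P : PrimeSpectrum B, P ∈ Module.support B (B ⧸ J) ↔ p (X.fromSpecStalk (i d) P) = p (i d) := by
    intro P
    rw [Module.mem_support_iff_of_finite, Ideal.annihilator_quotient]
    exact map_maximalIdeal_le_iff p (i d) P
  have hne : ∀ P : PrimeSpectrum B, P ≠ closedPoint B → X.fromSpecStalk (i d) P ≠ i d := fun P hP e ↦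
    hP (fromSpecStalk_injective (i d) (e.trans Scheme.fromSpecStalk_closedPoint.symm))
  have hδP : ∀ P ∈ Module.support B (B ⧸ J), P ≠ closedPoint B → δX (X.fromSpecStalk (i d) P) = δX (i d) + 1 := by
    intro P hP hP'
    have h1 := (hX _ _ (fromSpecStalk_specializes (i d) P) (hne P hP')).1
    have h2 := delta_le_relDim p hX hδ hr (X.fromSpecStalk (i d) P)
    rw [(hsupp P).mp hP] at h2
    push_cast at h2
    omega
  have hnot : ∀ P ∈ Module.support B (B ⧸ J), P ≠ closedPoint B → f ∉ P.asIdeal := by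
    intro P hP hP' hfP
    have h2 := (mk_eq_zero_iff hL (fromSpecStalk_specializes (i d) P) ht.choose_spec
      ((X.presheaf.stalkSpecializes (fromSpecStalk_specializes (i d) P)).hom f)).mpr (by
        rw [← ker_specMap P (fromSpecStalk_specializes (i d) P)] at hfP; exact hfP)
    rw [← (secOrdAt_germ hL (fromSpecStalk_specializes (i d) P) ht s f hf).1] at h2
    obtain ⟨e, he⟩ : X.fromSpecStalk (i d) P ∈ Set.range i := hD.1.symm ▸ h2
    have h3 := hleD e
    rw [he, (hsupp P).mp hP] at h3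
    have := hδP P hP hP'
    omega
  have hmax : ∀ P ∈ Module.support B (B ⧸ J), ∀ Q ∈ Module.support B (B ⧸ J), Q < P → P = closedPoint B := by
    intro P hP Q hQ hlt
    by_contra hne'
    have h1 := drop_lt hX (i d) hlt
    have h2 := hδP P hP hne'
    have h3 := delta_le_relDim p hX hδ hr (X.fromSpecStalk (i d) Q)
    rw [(hsupp Q).mp hQ] at h3
    push_cast at h3
    simp only [drop] at h1
    omega
  have hsd1 : Module.supportDim B (B ⧸ J) ≤ 1 := by
    refine iSup_le fun σ ↦ ?_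
    have h1 := series_le hX (i d) (σ.map Subtype.val (Subtype.strictMono_coe _))
    have h2 := delta_le_relDim p hX hδ hr (X.fromSpecStalk (i d) σ.head.1)
    rw [(hsupp _).mp σ.head.2] at h2
    push_cast at h2
    simp only [drop, LTSeries.head_map, LTSeries.map_length] at h1
    exact_mod_cast (show σ.length ≤ 1 by omega)
  have hQann : ∀ q : PrimeSpectrum B, Module.annihilator B ((B ⧸ J) ⧸ f • (⊤ : Submodule B (B ⧸ J))) ≤ q.asIdeal →
      q = closedPoint B := by
    intro q hq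
    by_contra hne'
    have hf' : f ∈ Module.annihilator B ((B ⧸ J) ⧸ f • (⊤ : Submodule B (B ⧸ J))) := by
      refine Module.mem_annihilator.mpr ?_
      rintro ⟨m⟩
      exact (Submodule.Quotient.mk_eq_zero _).mpr ⟨m, trivial, rfl⟩
    have hM' : Module.annihilator B (B ⧸ J) ≤ Module.annihilator B ((B ⧸ J) ⧸ f • (⊤ : Submodule B (B ⧸ J))) :=
      LinearMap.annihilator_le_of_surjective _ (Submodule.mkQ_surjective _)
    exact hnot q (Module.mem_support_iff_of_finite.mpr (hM'.trans hq)) hne' (hq hf')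
  have hsd0 : Module.supportDim B ((B ⧸ J) ⧸ f • (⊤ : Submodule B (B ⧸ J))) ≤ 0 := by
    have : Subsingleton ↥(Module.support B ((B ⧸ J) ⧸ f • (⊤ : Submodule B (B ⧸ J)))) :=
      ⟨fun a b ↦ Subtype.ext ((hQann _ (Module.mem_support_iff_of_finite.mp a.2)).trans
        (hQann _ (Module.mem_support_iff_of_finite.mp b.2)).symm)⟩
    exact Order.krullDim_nonpos_of_subsingleton
  have hmain := Groth.Agent.S1833.result B (B ⧸ J) f hsd1 hsd0
  rw [LinearMap.ker_eq_bot.mpr hM, Module.length_bot, zero_add] at hmain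
  have hne_top := length_ne_top_of_annihilator hQann
  have hS : {P : PrimeSpectrum B | P ∈ Module.support B (B ⧸ J) ∧ P ≠ closedPoint B}.Finite := by
    refine ((Ideal.finite_minimalPrimes_of_isNoetherianRing B (Module.annihilator B (B ⧸ J))).preimage
      (fun P _ Q _ e ↦ PrimeSpectrum.ext e)).subset fun P ⟨hP, hP'⟩ ↦ ?_
    obtain ⟨q, hq, hqP⟩ := Ideal.exists_minimalPrimes_le (Module.mem_support_iff_of_finite.mp hP)
    rcases eq_or_lt_of_le hqP with e | hlt
    · refine Set.mem_preimage.mpr ?_; rw [← e]; exact hq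
    · exact absurd (hmax P hP ⟨q, hq.1.1⟩ (Module.mem_support_iff_of_finite.mpr hq.1.2) hlt) hP'
  let G : Finset (PrimeSpectrum B) := hS.toFinset
  have hG : ∀ P, P ∈ G ↔ P ∈ Module.support B (B ⧸ J) ∧ P ≠ closedPoint B := fun P ↦ by simp [G]
  have hsum : (∑ᶠ (P : PrimeSpectrum B) (_ : P ∈ Module.support B (B ⧸ J) ∧ P.asIdeal ≠ maximalIdeal B),
      Ring.ord (B ⧸ P.asIdeal) (Ideal.Quotient.mk P.asIdeal f) *
        Module.length (Localization.AtPrime P.asIdeal) (LocalizedModule P.asIdeal.primeCompl (B ⧸ J))) =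
      ∑ P ∈ G, Ring.ord (B ⧸ P.asIdeal) (Ideal.Quotient.mk P.asIdeal f) *
        Module.length (Localization.AtPrime P.asIdeal) (LocalizedModule P.asIdeal.primeCompl (B ⧸ J)) := by
    refine finsum_cond_eq_sum_of_cond_iff _ fun {P} _ ↦ ?_
    rw [hG]
    exact and_congr_right fun _ ↦ ⟨fun h e ↦ h (e ▸ rfl), fun h e ↦ h (PrimeSpectrum.ext e)⟩
  rw [hsum] at hmain
  have hrhs : Cyc.pullFun (i ≫ p) (fun d => δX (i d)) δY r ⇑α d = α (p (i d)) *
      ((Module.length B ((B ⧸ J) ⧸ f • (⊤ : Submodule B (B ⧸ J)))).toNat : ℤ) := by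
    rw [Cyc.pullFun, if_pos (show δX (i d) = δY ((i ≫ p) d) + (r : ℤ) from hx), length_quot_quot]
    change α (p (i d)) * _ = _
    congr 3
    have h2 := ord_eq_of_surjective (i.stalkMap d).hom (i.stalkMap_surjective d)
      (Ideal.map ((i ≫ p).stalkMap d).hom (maximalIdeal (Y.presheaf.stalk ((i ≫ p) d)))) 0 0 (map_zero _)
    rw [Ideal.span_singleton_zero, sup_bot_eq, Ideal.span_singleton_zero, sup_bot_eq] at h2
    refine h2.trans (congrArg (fun I : Ideal B ↦ Module.length B (B ⧸ I)) ?_)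
    rw [Scheme.Hom.stalkMap_comp]
    change Ideal.comap _ (Ideal.map ((i.stalkMap d).hom.comp (p.stalkMap (i d)).hom)
      (maximalIdeal (Y.presheaf.stalk (p (i d))))) = _
    rw [← Ideal.map_map, Ideal.comap_map_of_surjective _ (i.stalkMap_surjective d), ← RingHom.ker_eq_comap_bot, hker₀]
  rw [hrhs]
  rw [hmain] at hne_top ⊢
  rw [toNat_finsum G _ hne_top, Nat.cast_sum, Finset.mul_sum]
  rw [finsum_over_primes (i d) (fun ξ ↦ Cyc.pullFun p δX δY ((r : ℤ) + 1) ⇑α ξ * Cyc.secDivFun δX L ξ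
      (Cyc.gysinChoice L s w ξ) (i d)) (fun ξ hξ ↦ by
      by_contra hns
      exact hξ (by rw [Cyc.secDivFun, dif_neg (fun h ↦ hns h.1), mul_zero])),
    finsum_eq_sum_of_support_subset _ (s := G) (fun P hP ↦ ?_)]
  swap
  · by_contra hPG
    refine hP ?_
    change _ * _ = (0 : ℤ)
    by_cases hz : Cyc.pullFun p δX δY ((r : ℤ) + 1) ⇑α (X.fromSpecStalk (i d) P) = 0
    · rw [hz, zero_mul]
    rw [Cyc.secDivFun, dif_neg, mul_zero]
    rintro ⟨hsp, hd⟩
    rw [Cyc.pullFun] at hz
    split_ifs at hz with hh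
    · have hk : δY (p (X.fromSpecStalk (i d) P)) = k + 1 := by_contra fun e ↦ hz (by rw [hα _ e, zero_mul])
      have hpy : p (X.fromSpecStalk (i d) P) = p (i d) := by
        by_contra hne'
        have := (hY _ _ ((fromSpecStalk_specializes (i d) P).map p.continuous) hne').1
        omega
      refine hPG (Finset.mem_coe.mpr ((hG P).mpr ⟨(hsupp P).mpr hpy, fun e ↦ ?_⟩))
      rw [e, Scheme.fromSpecStalk_closedPoint] at hd
      omega
    · exact hz rfl
  refine Finset.sum_congr rfl fun P hP ↦ ?_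
  obtain ⟨hPs, hP'⟩ := (hG P).mp hP
  have hd : δX (i d) + 1 = δX (X.fromSpecStalk (i d) P) := (hδP P hPs hP').symm
  have hsp : Cyc.specMap (i d) (X.fromSpecStalk (i d) P) (fromSpecStalk_specializes (i d) P) f ≠ 0 := fun h0 ↦
    hnot P hPs hP' (by rw [← ker_specMap P (fromSpecStalk_specializes (i d) P)]; exact h0)
  have hgz : (Submodule.Quotient.mk ((L.presheaf.germ ⊤ (X.fromSpecStalk (i d) P) trivial) s) :
      Cyc.secFibre L (X.fromSpecStalk (i d) P)) ≠ 0 := by
    rw [(secOrdAt_germ hL (fromSpecStalk_specializes (i d) P) ht s f hf).1]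
    exact fun h0 ↦ hsp ((mk_eq_zero_iff hL _ ht.choose_spec _).mp h0)
  have hlen : Module.length (Localization.AtPrime P.asIdeal) (LocalizedModule P.asIdeal.primeCompl (B ⧸ J)) =
      Module.length (X.presheaf.stalk (X.fromSpecStalk (i d) P)) (X.presheaf.stalk (X.fromSpecStalk (i d) P) ⧸
        Ideal.map (p.stalkMap (X.fromSpecStalk (i d) P)).hom (maximalIdeal _)) := by
    letI := (X.presheaf.stalkSpecializes (fromSpecStalk_specializes (i d) P)).hom.toAlgebra
    haveI := isLocalization_fromSpecStalk (i d) P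
    rw [length_localized_quotient (B := X.presheaf.stalk (X.fromSpecStalk (i d) P)) P.asIdeal J]
    refine congrArg (fun I : Ideal _ ↦ Module.length _ (_ ⧸ I)) ?_
    have hsq : (algebraMap B (X.presheaf.stalk (X.fromSpecStalk (i d) P))).comp (p.stalkMap (i d)).hom =
        (p.stalkMap (X.fromSpecStalk (i d) P)).hom.comp
          (Y.presheaf.stalkSpecializes ((fromSpecStalk_specializes (i d) P).map p.continuous)).hom :=
      RingHom.ext fun c ↦
        (Scheme.Hom.stalkSpecializes_stalkMap_apply p _ _ (fromSpecStalk_specializes (i d) P) c).symm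
    rw [Ideal.map_map, hsq, ← Ideal.map_map]
    congr 1
    have key : ∀ (η : Y) (h : η ⤳ p (i d)), η = p (i d) →
        Ideal.map (Y.presheaf.stalkSpecializes h).hom (maximalIdeal _) = maximalIdeal _ := by
      rintro η h rfl
      simp
    exact key _ _ ((hsupp P).mp hPs)
  rw [Cyc.pullFun, if_pos (show δX (X.fromSpecStalk (i d) P) = δY (p (X.fromSpecStalk (i d) P)) + ((r : ℤ) + 1) by
      rw [(hsupp P).mp hPs]; omega),
    Cyc.gysinChoice, if_pos hgz, Cyc.secDivFun, dif_pos ⟨fromSpecStalk_specializes (i d) P, hd⟩,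
    (secOrdAt_germ hL (fromSpecStalk_specializes (i d) P) ht s f hf).2,
    ordAt_formula hX (fromSpecStalk_specializes (i d) P) hd f hsp, ker_specMap, ← hlen, (hsupp P).mp hPs,
    mul_assoc, ← Nat.cast_mul, ← ENat.toNat_mul]
  congr 2
  rw [mul_comm]
  congr 2
  rw [Ring.ord, ← bot_sup_eq (Ideal.span {Ideal.Quotient.mk P.asIdeal f}),
    ord_eq_of_surjective (Ideal.Quotient.mk P.asIdeal) Ideal.Quotient.mk_surjective ⊥ _ f rfl,
    ← RingHom.ker_eq_comap_bot, Ideal.mk_ker]

end Groth.Agent.CycLib28
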