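import Mathlib
import Groth.Agent.CycLib28.P1Graph

/-!
# The closure of the graph of a rational function
-/

universe u

open CategoryTheory CategoryTheory.Limits AlgebraicGeometry IsLocalRing Groth.Agent.CycLim28

namespace Groth.Agent.CycLib28

variable {X : Scheme.{u}}

set_option backward.isDefEq.respectTransparency.types false in
theorem graphClosure_formula [IsIntegral X] {δ : X → ℤ} (hX : Cyc.IsSetup X δ)
    {δP : ↥(CohB1.ProjSpaceOver 1 X) → ℤ}
    (hP : Cyc.DeltaCompat (CohB1.ProjSpaceOver.toBase 1 X) δP δ) (n : ℤ) (hn : δ (genericPoint X) = n)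
    (U : X.Opens) (hη : genericPoint X ∈ U) (f : Γ(X, U)) (hf : IsUnit f) (x : X) :
    Cyc.divFun δ (genericPoint X) (X.evaluation U (genericPoint X) hη f) x =
      Cyc.subschemeFun δ (n - 1) (pullback.snd (P1.graphClosureι X U f) (P1.sect X 0)) x -
        Cyc.subschemeFun δ (n - 1) (pullback.snd (P1.graphClosureι X U f) (P1.sect X 1)) x := by
  haveI := hX.1
  haveI : Nonempty U.toScheme := ⟨⟨genericPoint X, hη⟩⟩
  haveI : IsIntegral U.toScheme := isIntegral_of_isOpenImmersion U.ι
  haveI : QuasiCompact U.ι := inferInstance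
  have hgπ : P1.graph X U f ≫ CohB1.ProjSpaceOver.toBase 1 X = U.ι := pullback.lift_snd _ _ _
  haveI : QuasiCompact (P1.graph X U f ≫ CohB1.ProjSpaceOver.toBase 1 X) := by rw [hgπ]; infer_instance
  haveI : QuasiCompact (P1.graph X U f) := QuasiCompact.of_comp _ (CohB1.ProjSpaceOver.toBase 1 X)
  haveI : IsReduced (P1.graph X U f).image := Coherent.isReduced_image _
  set η : U.toScheme := genericPoint U.toScheme with hηdef
  have hUη : U.ι η = genericPoint X := genericPoint_eq_of_isOpenImmersion U.ι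
  haveI : IrreducibleSpace (P1.graph X U f).image := by
    have h1 : _root_.IsPreirreducible (Set.univ : Set (P1.graph X U f).image) := by
      rw [← ((P1.graph X U f).toImage.denseRange).closure_range, ← Set.image_univ]
      exact ((IrreducibleSpace.isIrreducible_univ _).2.image _
        (P1.graph X U f).toImage.continuous.continuousOn).closure
    exact { toPreirreducibleSpace := ⟨h1⟩, toNonempty := ⟨(P1.graph X U f).toImage η⟩ }
  haveI : IsIntegral (P1.graph X U f).image := isIntegral_of_irreducibleSpace_of_isReduced _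
  have hgen : (P1.graph X U f).imageι (genericPoint (P1.graph X U f).image) = P1.graph X U f η := by
    have h : IsGenericPoint ((P1.graph X U f).toImage η) (Set.univ : Set (P1.graph X U f).image) := by
      refine isGenericPoint_iff_specializes.mpr fun y ↦ ⟨fun _ ↦ trivial, fun _ ↦ ?_⟩
      refine specializes_iff_mem_closure.mpr (closure_minimal ?_ isClosed_closure
        ((P1.graph X U f).toImage.denseRange y))
      rintro _ ⟨z, rfl⟩
      exact specializes_iff_mem_closure.mp ((genericPoint_specializes z).map (P1.graph X U f).toImage.continuous)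
    rw [(genericPoint_spec (P1.graph X U f).image).eq h]
    rw [← Scheme.Hom.comp_apply, Scheme.Hom.toImage_imageι]
  set m := P1.graph X U f with hmdef
  set p := m η with hpdef
  have hm1 : m ≫ pullback.fst (CohB1.ProjSpace.toSpec 1 P1.R0.{u}) (specULiftZIsTerminal.from X) =
      U.toSpecΓ ≫ Spec.map (CommRingCat.ofHom (P1.chartMap 0 Γ(X, U) f)) ≫
        Proj.awayι P1.grading.{u} (P1.T 0) (P1.X_mem 0) one_pos := pullback.lift_fst _ _ _
  have hle : ⊤ ≤ Proj.awayι P1.grading.{u} (P1.T 0) (P1.X_mem 0) one_pos ⁻¹ᵁ Proj.basicOpen P1.grading (P1.T 0) :=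
    fun w _ ↦ (Proj.opensRange_awayι P1.grading.{u} (P1.T 0) (P1.X_mem 0) one_pos).le ⟨w, rfl⟩
  have hT : (⊤ : U.toScheme.Opens) ≤ m ⁻¹ᵁ p1Open X 0 := fun q _ ↦ by
    change pullback.fst (CohB1.ProjSpace.toSpec 1 P1.R0.{u}) (specULiftZIsTerminal.from X) (m q) ∈
      Proj.basicOpen P1.grading (P1.T 0)
    rw [show pullback.fst (CohB1.ProjSpace.toSpec 1 P1.R0.{u}) (specULiftZIsTerminal.from X) (m q) =
      (U.toSpecΓ ≫ Spec.map (CommRingCat.ofHom (P1.chartMap 0 Γ(X, U) f)) ≫
        Proj.awayι P1.grading.{u} (P1.T 0) (P1.X_mem 0) one_pos) q from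
      congrArg (fun g : U.toScheme ⟶ CohB1.ProjSpace 1 P1.R0.{u} ↦ g q) hm1]
    exact hle trivial
  have h0 : p ∈ p1Open X 0 := hT trivial
  have hπp : CohB1.ProjSpaceOver.toBase 1 X p = genericPoint X :=
    (congrArg (fun g : U.toScheme ⟶ X ↦ g η) hgπ).trans hUη
  haveI := DimLib.isIso_residueFieldMap_of_isPreimmersion U.ι η
  have hcompo : ∀ d, (m.residueFieldMap η).hom (((CohB1.ProjSpaceOver.toBase 1 X).residueFieldMap p).hom
      ((X.residueFieldCongr (congrArg (fun g : U.toScheme ⟶ X ↦ g η) hgπ)).inv.hom d)) =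
      (U.ι.residueFieldMap η).hom d := fun d ↦ by
    have h := residueFieldMap_congr_hom hgπ η d
    rw [Scheme.residueFieldMap_comp] at h
    exact h
  have hb : Function.Bijective ((CohB1.ProjSpaceOver.toBase 1 X).residueFieldMap p).hom := by
    refine ⟨((CohB1.ProjSpaceOver.toBase 1 X).residueFieldMap p).hom.injective, fun e ↦ ?_⟩
    obtain ⟨d, hd⟩ := (ConcreteCategory.bijective_of_isIso (U.ι.residueFieldMap η)).2 ((m.residueFieldMap η).hom e)
    exact ⟨_, (m.residueFieldMap η).hom.injective ((hcompo d).trans hd)⟩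
  have happ : m.appLE (p1Open X 0) ⊤ hT (p1Coord X 0) = U.topIso.inv.hom f := by
    refine ((congrArg (fun g : Γ(CohB1.ProjSpace 1 P1.R0.{u}, Proj.basicOpen P1.grading (P1.T 0)) ⟶ _ ↦
      g.hom (coordZ 0)) (Scheme.Hom.comp_appLE m (pullback.fst (CohB1.ProjSpace.toSpec 1 P1.R0.{u})
      (specULiftZIsTerminal.from X)) (Proj.basicOpen P1.grading (P1.T 0)) ⊤ hT)).symm).trans ?_
    simp only [hm1]
    refine (congrArg (fun g ↦ g.hom (coordZ 0))
      (Scheme.Hom.appLE_comp_appLE U.toSpecΓ (Spec.map (CommRingCat.ofHom (P1.chartMap 0 Γ(X, U) f)) ≫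
        Proj.awayι P1.grading.{u} (P1.T 0) (P1.X_mem 0) one_pos) (Proj.basicOpen P1.grading (P1.T 0)) ⊤ ⊤
        (fun w _ ↦ hle trivial) le_top)).symm.trans ?_
    refine (congrArg (fun z ↦ (U.toSpecΓ.appLE ⊤ ⊤ le_top).hom z) ?_).trans
      (?_ : (U.toSpecΓ.appLE ⊤ ⊤ le_top).hom ((Scheme.ΓSpecIso Γ(X, U)).inv.hom f) = _)
    · refine (congrArg (fun g ↦ g.hom (coordZ 0))
        (Scheme.Hom.appLE_comp_appLE (Spec.map (CommRingCat.ofHom (P1.chartMap 0 Γ(X, U) f)))
          (Proj.awayι P1.grading.{u} (P1.T 0) (P1.X_mem 0) one_pos) (Proj.basicOpen P1.grading (P1.T 0)) ⊤ ⊤ hle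
          le_top)).symm.trans ?_
      refine (congrArg (fun z ↦ ((Spec.map (CommRingCat.ofHom (P1.chartMap 0 Γ(X, U) f))).appLE ⊤ ⊤
        le_top).hom z) (awayι_appLE_coordZ 0 hle)).trans ?_
      rw [Scheme.Hom.appLE]
      refine Eq.trans ?_ ((congrArg (fun g ↦ g.hom (coordAway 0))
        (Scheme.ΓSpecIso_inv_naturality (CommRingCat.ofHom (R := HomogeneousLocalization.Away P1.grading.{u} (P1.T 0))
          (P1.chartMap 0 Γ(X, U) f)))).symm.trans
        (congrArg (Scheme.ΓSpecIso (CommRingCat.of Γ(X, U))).inv.hom (chartMap_coordAway Γ(X, U) f)))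
      rfl
    · rw [show U.toSpecΓ.appLE ⊤ ⊤ le_top = U.toSpecΓ.app ⊤ from Scheme.Hom.appLE_eq_app _,
        show U.toSpecΓ.app ⊤ = (Scheme.ΓSpecIso Γ(X, U)).hom ≫ U.topIso.inv from Scheme.Opens.toSpecΓ_appTop U]
      exact congrArg U.topIso.inv.hom ((Scheme.ΓSpecIso Γ(X, U)).inv_hom_id_apply f)
  have hvalU : (U.ι.residueFieldMap η).hom ((X.residueFieldCongr hUη).inv.hom (X.evaluation U (genericPoint X) hη f)) =
      U.toScheme.evaluation ⊤ η trivial (U.topIso.inv.hom f) := by
    have aux : ∀ (y : X) (e : y = genericPoint X) (hy : y ∈ U),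
        (X.residueFieldCongr e).inv.hom (X.evaluation U (genericPoint X) hη f) = X.evaluation U y hy f := by
      intro y e hy; subst e; simp
    rw [aux _ hUη (show U.ι η ∈ U from η.2)]
    refine (Scheme.evaluation_naturality_apply U.ι η η.2 f).trans ?_
    refine congrArg (U.toScheme.residue η).hom ?_
    refine ((TopCat.Presheaf.germ_res_apply U.toScheme.presheaf
      (homOfLE (show (⊤ : U.toScheme.Opens) ≤ U.ι ⁻¹ᵁ U from fun q _ ↦ q.2)) η trivial (U.ι.app U f)).symm.trans ?_)
    refine congrArg _ ?_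
    simp [Scheme.Opens.topIso]
    refine (ConcreteCategory.comp_apply _ _ _).symm.trans ?_
    exact DFunLike.congr_fun (congrArg CommRingCat.Hom.hom ((X.presheaf.map_comp _ _).symm.trans (congrArg X.presheaf.map (Subsingleton.elim _ _)))) f
  have hval : ((CohB1.ProjSpaceOver.toBase 1 X).residueFieldMap p).hom
      ((X.residueFieldCongr hπp).inv.hom (X.evaluation U (genericPoint X) hη f)) =
      (CohB1.ProjSpaceOver 1 X).evaluation _ p h0 (p1Coord X 0) := by
    refine (m.residueFieldMap η).hom.injective (Eq.trans ?_ (Scheme.evaluation_naturality_apply m η h0 _).symm)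
    refine Eq.trans ?_ ((hvalU.trans (by rw [← happ]; rfl)).trans (congrArg (U.toScheme.residue η).hom
      (TopCat.Presheaf.germ_res_apply U.toScheme.presheaf (homOfLE hT) η trivial
        (m.app (p1Open X 0) (p1Coord X 0)))))
    rw [← hcompo]
    have aux : ∀ (a b : X) (e₁ : a = b) (e₂ : b = genericPoint X) (e₃ : a = genericPoint X)
        (v : X.residueField (genericPoint X)),
        (X.residueFieldCongr e₃).inv.hom v =
          (X.residueFieldCongr e₁).inv.hom ((X.residueFieldCongr e₂).inv.hom v) := by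
      intro a b e₁ e₂ e₃ v
      subst e₁; subst e₂; simp
    exact congrArg (fun v ↦ (m.residueFieldMap η).hom
      (((CohB1.ProjSpaceOver.toBase 1 X).residueFieldMap p).hom v))
      (aux _ _ (congrArg (fun g : U.toScheme ⟶ X ↦ g η) hgπ) hUη hπp _)
  have hne : X.evaluation U (genericPoint X) hη f ≠ 0 :=
    (hf.map (X.evaluation U (genericPoint X) hη).hom).ne_zero
  have hg0 : (X.residueFieldCongr hπp).inv.hom (X.evaluation U (genericPoint X) hη f) ≠ 0 :=
    (map_ne_zero _).mpr hne
  have hk : δP p = (n - 1) + 1 := by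
    rw [delta_eq_of_bijective _ hP p hb, hπp, hn]; ring
  have h := subschemeFun_sub_eq_divFun hX hP (n - 1) m.imageι p hgen hk h0
    (not_mem_range_sect_of_ne_zero p h0 (by rw [← hval]; exact (map_ne_zero _).mpr hg0)) _ hg0 hb hval x
  rw [divFun_congr hπp] at h
  exact h.symm

theorem exists_deltaCompat_of_locallyOfFiniteType {Y : Scheme.{u}} (f : X ⟶ Y) [LocallyOfFiniteType f] (δ : Y → ℤ) :
    ∃ δX : X → ℤ, Cyc.DeltaCompat f δX δ := by
  have h : ∀ x : X, ∃ n : ℕ, @Algebra.trdeg (Y.residueField (f x)) (X.residueField x) _ _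
      (f.residueFieldMap x).hom.toAlgebra = n := fun x ↦ by
    letI := (f.residueFieldMap x).hom.toAlgebra
    haveI : Algebra.EssFiniteType (Y.residueField (f x)) (X.residueField x) := by
      have h1 : (f.residueFieldMap x).hom.EssFiniteType := by
        refine RingHom.EssFiniteType.of_comp (f := (Y.residue (f x)).hom) ?_
        rw [← CommRingCat.hom_comp, Scheme.residue_residueFieldMap, CommRingCat.hom_comp]
        exact (LocallyOfFiniteType.stalkMap f x).comp
          (RingHom.FiniteType.essFiniteType (RingHom.FiniteType.of_surjective _ (X.residue_surjective x)))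
      exact h1
    exact Cardinal.lt_aleph0.mp (_root_.trdeg_lt_aleph0 (Y.residueField (f x)) (X.residueField x))
  choose n hn using h
  exact ⟨fun x ↦ δ (f x) + n x, fun x ↦ ⟨n x, hn x, rfl⟩⟩

end Groth.Agent.CycLib28
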