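import Groth.Agent.CycLib28.AlgEqGraph
import Groth.Agent.AmpleConn23.Basic
import Groth.Agent.S1627
import Groth.Agent.CubeLib.SmoothCurve
import Groth.Agent.DimLib.Components
import Groth.Agent.DimLib.Maximal
import Groth.Agent.WeilLib.Geom
import Groth.Agent.FlatMorWeight.GeomPoints
import Groth.Agent.CycLib28.Graph
import Groth.Agent.REqLib17.Line
import Mathlib

/-!
# Closed points of a projective variety are algebraically equivalent

Any two closed points of an integral closed subset are joined by connected ample divisors, down to curves.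
-/

set_option autoImplicit false
set_option linter.style.haveILetI false
set_option backward.isDefEq.respectTransparency.types false
set_option maxHeartbeats 1000000

universe u

open CategoryTheory CategoryTheory.Limits AlgebraicGeometry Opposite TopologicalSpace
open Groth.Agent.Coherent Groth.Agent.PicLib Groth.Agent.AmpleLib

namespace Groth.Agent.CycLib28.AlgEqChain

variable {k : Type u} [Field k]

/-- The class of a closed point. -/
noncomputable def G {X : Scheme.{u}} (z : X) : AlgebraicCycle X ℤ :=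
  open Classical in Function.locallyFinsuppWithin.single z (1 : ℤ)

theorem exists_point_over {C : Scheme.{u}} {Z : Scheme.{u}} (q : C ⟶ Spec (CommRingCat.of k))
    [LocallyOfFiniteType q] (ν : C ⟶ Z) (hsur : Function.Surjective ν.base) (z : Z)
    (hz : IsClosed ({z} : Set Z)) : ∃ c : C, IsClosed ({c} : Set C) ∧ ν c = z := by
  haveI : JacobsonSpace C := LocallyOfFiniteType.jacobsonSpace q
  obtain ⟨c₀, hc₀⟩ := hsur z
  obtain ⟨c, hc1, hc2⟩ := nonempty_inter_closedPoints (X := C) (Z := ν ⁻¹' {z}) ⟨c₀, hc₀⟩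
    (hz.preimage ν.continuous).isLocallyClosed
  exact ⟨c, hc2, hc1⟩

/-- Two closed points on the image of an integral projective curve. -/
theorem sub_mem_of_curve [IsAlgClosed k] {X Z : Scheme.{u}} (p : X ⟶ Spec (CommRingCat.of k))
    [IsSeparated p] (i : Z ⟶ X) [IsProper (i ≫ p)] [IsIntegral Z] (hd : topologicalKrullDim Z = 1)
    (z w : Z) (hz : IsClosed ({z} : Set Z)) (hw : IsClosed ({w} : Set Z)) :
    G (i z) - G (i w) ∈ AlgEqCyc.algTriv p := by
  classical
  let f := i ≫ p
  letI : Z.Over (Spec (CommRingCat.of k)) := ⟨f⟩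
  haveI : LocallyOfFiniteType (Z ↘ Spec (CommRingCat.of k)) := inferInstanceAs (LocallyOfFiniteType f)
  haveI : IsLocallyNoetherian Z := LocallyOfFiniteType.isLocallyNoetherian f
  obtain ⟨hfin, hdom, -, hint, hN⟩ := S1585.result k Z
  haveI := hfin
  haveI := hdom
  haveI := hint
  let ν := Curv2.normalizationι Z
  let C := Curv2.normalization Z
  let q : C ⟶ Spec (CommRingCat.of k) := ν ≫ f
  haveI : IsProper q := inferInstance
  have hsur : Function.Surjective ν.base :=
    Set.range_eq_univ.1 (ν.isClosedMap.isClosed_range.closure_eq.symm.trans hdom.1.closure_range)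
  have hdC : topologicalKrullDim C = 1 := by
    refine le_antisymm ?_ (hd.ge.trans (AmpleConn23.dim_le_of_surjective f ν hsur))
    rw [DimLib.topologicalKrullDim_eq_ptDim_genericPoint q, DimLib.ptDim_comp f ν,
      WeilLib.trdegHom_eq_zero_of_finite, add_zero]
    · exact (DimLib.ptDim_le_topologicalKrullDim f _).trans hd.le
    · exact FlatMorWeight.residueFieldMap_finite ν _
  letI : C.Over (Spec (CommRingCat.of k)) := ⟨q⟩
  haveI : IsProper (C ↘ Spec (CommRingCat.of k)) := ‹IsProper q›
  haveI : IsLocallyNoetherian C := LocallyOfFiniteType.isLocallyNoetherian q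
  have hsm : Smooth q := by
    refine CubeLib.smooth_of_normal_curve q hN fun x hx => ?_
    refine (GrpdField.ringKrullDim_stalk_of_equidim q (fun y hy => ?_) x hx).trans hdC
    rw [DimLib.topologicalKrullDim_eq_ptDim_genericPoint q, hy _ (genericPoint_specializes y)]
  have hproj : Neron.IsProjectiveOver k (Over.mk q) := by
    rcases S1627.result k C hdC with hA | ⟨d, c, hc, hcs⟩
    · exfalso
      haveI := hA
      haveI : IsFinite q := IsFinite.iff_isProper_and_isAffineHom.2 ⟨‹_›, inferInstance⟩
      have h0 : topologicalKrullDim C ≤ 0 := by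
        rw [DimLib.topologicalKrullDim_eq_iSup q]
        refine iSup_le fun x => le_of_eq ?_
        rw [← Category.comp_id q, DimLib.ptDim_comp (𝟙 _) q x, CycLib28.ptDim_id,
          WeilLib.trdegHom_eq_zero_of_finite]
        · rfl
        · exact FlatMorWeight.residueFieldMap_finite q _
      rw [hdC] at h0
      exact absurd h0 (by simp)
    · haveI := hc
      obtain ⟨e, he⟩ := REqLib17.exists_projOverIso d k
      refine ⟨d, c ≫ e.inv, inferInstance, ?_⟩
      rw [← he, Category.assoc, e.inv_hom_id_assoc]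
      exact hcs
  obtain ⟨a, ha, rfl⟩ := exists_point_over q ν hsur z hz
  obtain ⟨b, hb, rfl⟩ := exists_point_over q ν hsur w hw
  refine AddSubgroup.subset_closure ?_
  have h := AlgEqGraph.isElemAlgTriv_of_map p q hsm hproj hint hdC (ν ≫ i) (Category.assoc _ _ _)
    (pointOfClosedPoint q a ha) (pointOfClosedPoint q b hb)
    (pointOfClosedPoint_comp _ _ _) (pointOfClosedPoint_comp _ _ _)
  have ea := pointOfClosedPoint_apply q a ha (IsLocalRing.closedPoint k)
  have eb := pointOfClosedPoint_apply q b hb (IsLocalRing.closedPoint k)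
  erw [ea, eb] at h
  exact h

/-- Two closed points of the closure of a point of a projective scheme. -/
theorem sub_mem [IsAlgClosed k] {X : Scheme.{u}} (p : X ⟶ Spec (CommRingCat.of k)) [IsProper p]
    {L : X.Modules} (hL : CohB1.IsAmple L) (d : ℕ) :
    ∀ η : X, DimLib.ptDim p η ≤ d → ∀ z w : X, IsClosed ({z} : Set X) → IsClosed ({w} : Set X) →
      η ⤳ z → η ⤳ w → G z - G w ∈ AlgEqCyc.algTriv p := by
  induction d using Nat.strong_induction_on with
  | _ d ih =>
  intro η hη z w hz hw hηz hηw
  rcases Nat.eq_zero_or_pos (DimLib.ptDim p η) with h0 | hpos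
  · have hc := (DimLib.ptDim_eq_zero_iff p η).1 h0
    have h1 : z = η := hηz.mem_closed hc rfl
    have h2 : w = η := hηw.mem_closed hc rfl
    rw [h1, h2, sub_self]
    exact zero_mem _
  classical
  let T : Closeds X := ⟨closure {η}, isClosed_closure⟩
  let I := Scheme.IdealSheafData.vanishingIdeal T
  let Z := I.subscheme
  let i : Z ⟶ X := I.subschemeι
  have hrange : Set.range i = closure {η} := by
    rw [show Set.range i = (I.support : Set X) from I.range_subschemeι]
    simp [I, T]
  obtain ⟨η₀, hη₀⟩ : η ∈ Set.range i := hrange.ge (subset_closure rfl)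
  haveI : IrreducibleSpace Z := by
    haveI : Nonempty Z := ⟨η₀⟩
    haveI := Subtype.irreducibleSpace (isIrreducible_singleton.closure : IsIrreducible (closure ({η} : Set X)))
    exact ((i.isEmbedding.toHomeomorph.trans (Homeomorph.setCongr hrange)).isOpenEmbedding).irreducibleSpace
  haveI : IsReduced Z := inferInstance
  haveI : IsIntegral Z := isIntegral_of_irreducibleSpace_of_isReduced Z
  haveI : IsProper (i ≫ p) := inferInstance
  haveI : IsLocallyNoetherian X := LocallyOfFiniteType.isLocallyNoetherian p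
  haveI : IsLocallyNoetherian Z := LocallyOfFiniteType.isLocallyNoetherian (i ≫ p)
  have hgen : i (genericPoint Z) = η := by
    have h1 : IsGenericPoint (i (genericPoint Z)) (closure {η}) := by
      have := (genericPoint_spec Z).image i.continuous
      rwa [Set.image_univ, hrange, closure_closure] at this
    exact h1.eq isGenericPoint_closure
  have hdimZ : topologicalKrullDim Z = (DimLib.ptDim p η : WithBot ℕ∞) := by
    haveI := DimLib.isIso_residueFieldMap_of_isPreimmersion i (genericPoint Z)
    rw [DimLib.topologicalKrullDim_eq_ptDim_genericPoint (i ≫ p), DimLib.ptDim_of_isIso p i, hgen]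
  obtain ⟨z', rfl⟩ : z ∈ Set.range i := hrange.ge (specializes_iff_mem_closure.1 hηz)
  obtain ⟨w', rfl⟩ : w ∈ Set.range i := hrange.ge (specializes_iff_mem_closure.1 hηw)
  have hcl : ∀ {a : Z}, IsClosed ({i a} : Set X) → IsClosed ({a} : Set Z) := fun {a} ha => by
    have := ha.preimage i.continuous
    rwa [show i ⁻¹' {i a} = {a} from Set.ext fun b =>
      ⟨fun h => i.isClosedEmbedding.injective h, fun h => congrArg i h⟩] at this
  have hclX : ∀ {a : Z}, IsClosed ({a} : Set Z) → IsClosed ({i a} : Set X) := fun {a} ha => by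
    rw [← Set.image_singleton]
    exact i.isClosedEmbedding.isClosedMap _ ha
  rcases Nat.lt_or_ge (DimLib.ptDim p η) 2 with hlt | hge
  · exact sub_mem_of_curve p i (by rw [hdimZ]; exact_mod_cast (by omega : DimLib.ptDim p η = 1)) z' w' (hcl hz) (hcl hw)
  -- a section of a power of the ample module vanishing at both points
  have hLZ : CohB1.IsAmple ((Scheme.Modules.pullback i).obj L) := AmpleLib.isAmple_pullback_of_isAffineHom i hL
  have hne : ∀ {a : Z}, IsClosed ({a} : Set Z) → genericPoint Z ≠ a := fun {a} ha e => by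
    have h1 := hclX ha
    rw [← e, hgen, ← DimLib.ptDim_eq_zero_iff p] at h1
    omega
  let U : Z.Opens := ⟨({z'} ∪ {w'})ᶜ, ((hcl hz).union (hcl hw)).isOpen_compl⟩
  have hgU : genericPoint Z ∈ U := fun h => h.elim (hne (hcl hz)) (hne (hcl hw))
  obtain ⟨m, hm, b, hgb, hbU, -⟩ := affGlocus_of_mem (U := U) hLZ hgU
  let M := CohB1.tensorPow ((Scheme.Modules.pullback i).obj L) m
  have hMa : CohB1.IsAmple M := (AmpleLib.isAmple_pow_iff hLZ.1 m hm).2 hLZ
  let s : Coh.structureModule Z ⟶ M := unitDesc M b
  have hsb : unitVal s ⊤ = b := (unitVal_unitDesc _ _ ⊤).trans (PicLib.resM_self _ _ _)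
  have hs : Mono s := by
    refine VarietyLib.mono_of_ne_zero_invertible isInvertible_structureModule hMa.1 s fun h => ?_
    obtain ⟨U', hxU', g, hgn⟩ := exists_isGen hMa.1 (genericPoint Z)
    have h1 := (glocus_inf (unitVal s ⊤) hgn).le ⟨hsb.symm ▸ hgb, hxU'⟩
    have h0 : unitVal s ⊤ = 0 := by rw [h]; rfl
    rw [h0] at h1
    have h2 : hgn.coef le_rfl (resM _ (le_top : U' ≤ ⊤) (0 : Γ(M, ⊤))) = 0 :=
      hgn.coef_eq _ ((zero_smul _ _).trans (map_zero _).symm)
    rw [h2, Scheme.basicOpen_zero] at h1
    exact h1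
  haveI := AmpleConn23.connected_zeroScheme (i ≫ p) (hdimZ ▸ (by exact_mod_cast hge)) M hMa s hs
  let J := PicF2.zeroScheme M s
  let e : J.subscheme ⟶ X := J.subschemeι ≫ i
  haveI : IsClosedImmersion e := inferInstanceAs (IsClosedImmersion (J.subschemeι ≫ i))
  haveI : IsProper (e ≫ p) := inferInstance
  haveI : IsLocallyNoetherian J.subscheme := LocallyOfFiniteType.isLocallyNoetherian (e ≫ p)
  haveI : CompactSpace J.subscheme := QuasiCompact.compactSpace_of_compactSpace (e ≫ p)
  haveI : IsNoetherian J.subscheme := {}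
  have hmem : ∀ {a : Z}, a ∉ U → a ∈ Set.range J.subschemeι := fun {a} ha => by
    rw [show Set.range J.subschemeι = (J.support : Set Z) from J.range_subschemeι]
    exact (HodgeQ27.mem_support_zeroScheme_iff hMa.1 s a).2 fun h => ha (hbU (hsb ▸ h))
  obtain ⟨z₁, rfl⟩ := hmem (a := z') fun h => h (Or.inl rfl)
  obtain ⟨w₁, rfl⟩ := hmem (a := w') fun h => h (Or.inr rfl)
  change IsClosed ({e z₁} : Set X) at hz
  change IsClosed ({e w₁} : Set X) at hw
  change G (e z₁) - G (e w₁) ∈ AlgEqCyc.algTriv p
  -- points of the divisor lie in smaller dimension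
  have hsmall : ∀ a : J.subscheme, DimLib.ptDim p (e a) < DimLib.ptDim p η := fun a => by
    refine DimLib.ptDim_lt_of_specializes p (?_ : η ⤳ e a) ?_
    · rw [← hgen]
      exact (genericPoint_specializes (J.subschemeι a)).map i.continuous
    · intro h
      have h1 : J.subschemeι a = genericPoint Z := i.isClosedEmbedding.injective (h.symm.trans hgen.symm)
      have h2 : J.subschemeι a ∈ (J.support : Set Z) := by
        rw [← J.range_subschemeι]; exact ⟨a, rfl⟩
      rw [h1] at h2
      exact (HodgeQ27.mem_support_zeroScheme_iff hMa.1 s _).1 h2 (hsb.symm ▸ hgb)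
  have hone : ∀ C ∈ irreducibleComponents ↥J.subscheme, ∀ a ∈ C, ∀ b ∈ C, IsClosed ({e a} : Set X) →
      IsClosed ({e b} : Set X) → G (e a) - G (e b) ∈ AlgEqCyc.algTriv p := by
    intro C hC a ha b hb hac hbc
    obtain ⟨τ, hτ⟩ := QuasiSober.sober hC.1 (isClosed_of_mem_irreducibleComponents C hC)
    refine ih (DimLib.ptDim p (e τ)) (lt_of_lt_of_le (hsmall τ) hη) (e τ) le_rfl _ _ hac hbc ?_ ?_
    · exact (hτ.specializes ha).map e.continuous
    · exact (hτ.specializes hb).map e.continuous
  -- the closed points equivalent to the first one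
  let S : Set (Set ↥J.subscheme) := {C | C ∈ irreducibleComponents ↥J.subscheme ∧
    ∃ a ∈ C, IsClosed ({e a} : Set X) ∧ G (e z₁) - G (e a) ∈ AlgEqCyc.algTriv p}
  have hfinI : (irreducibleComponents ↥J.subscheme).Finite :=
    TopologicalSpace.NoetherianSpace.finite_irreducibleComponents
  haveI : JacobsonSpace ↥J.subscheme := LocallyOfFiniteType.jacobsonSpace (e ≫ p)
  have htrans : ∀ C ∈ S, ∀ C' ∈ irreducibleComponents ↥J.subscheme, (C ∩ C').Nonempty → C' ∈ S := by
    rintro C ⟨hC, a, ha, hac, hza⟩ C' hC' hne'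
    obtain ⟨b, hb, hbc⟩ := nonempty_inter_closedPoints hne'
      ((isClosed_of_mem_irreducibleComponents C hC).inter (isClosed_of_mem_irreducibleComponents C' hC')).isLocallyClosed
    have hbX : IsClosed ({e b} : Set X) := by
      rw [← Set.image_singleton]
      exact e.isClosedEmbedding.isClosedMap _ hbc
    refine ⟨hC', b, hb.2, hbX, ?_⟩
    have := AddSubgroup.add_mem _ hza (hone C hC a ha b hb.1 hac hbX)
    rwa [sub_add_sub_cancel] at this
  obtain ⟨C₀, hC₀, hzC₀⟩ : ∃ C ∈ irreducibleComponents ↥J.subscheme, z₁ ∈ C :=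
    ⟨irreducibleComponent z₁, irreducibleComponent_mem_irreducibleComponents _, mem_irreducibleComponent⟩
  obtain ⟨C₁, hC₁, hwC₁⟩ : ∃ C ∈ irreducibleComponents ↥J.subscheme, w₁ ∈ C :=
    ⟨irreducibleComponent w₁, irreducibleComponent_mem_irreducibleComponents _, mem_irreducibleComponent⟩
  have hC₀S : C₀ ∈ S := ⟨hC₀, z₁, hzC₀, hz, by rw [sub_self]; exact zero_mem _⟩
  obtain ⟨-, a, ha, hac, hza⟩ : C₁ ∈ S := by
    by_contra h
    have hA : IsClosed (⋃₀ S) := by
      rw [Set.sUnion_eq_biUnion]
      exact (hfinI.subset fun C hC => hC.1).isClosed_biUnion fun C hC => isClosed_of_mem_irreducibleComponents C hC.1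
    have hB : IsClosed (⋃₀ (irreducibleComponents ↥J.subscheme \ S)) := by
      rw [Set.sUnion_eq_biUnion]
      exact (hfinI.subset fun C hC => hC.1).isClosed_biUnion fun C hC => isClosed_of_mem_irreducibleComponents C hC.1
    obtain ⟨x, -, ⟨C, hCS, hxC⟩, C', ⟨hC', hC'S⟩, hxC'⟩ :=
      (isPreconnected_closed_iff.1 isPreconnected_univ) _ _ hA hB (fun x _ => by
        by_cases hx : irreducibleComponent x ∈ S
        · exact Or.inl ⟨_, hx, mem_irreducibleComponent⟩
        · exact Or.inr ⟨_, ⟨irreducibleComponent_mem_irreducibleComponents _, hx⟩, mem_irreducibleComponent⟩)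
        ⟨z₁, trivial, C₀, hC₀S, hzC₀⟩ ⟨w₁, trivial, C₁, ⟨hC₁, h⟩, hwC₁⟩
    exact hC'S (htrans C hCS C' hC' ⟨x, hxC, hxC'⟩)
  have := AddSubgroup.add_mem _ hza (hone C₁ hC₁ a ha w₁ hwC₁ hac hw)
  rwa [sub_add_sub_cancel] at this

end Groth.Agent.CycLib28.AlgEqChain
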