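import Mathlib
import Groth.Agent.CycLib28.InterSheaf
import Groth.Agent.CAlgH3.GrTopSocle

/-!
# Closed subschemes with regular local rings: the unique component through a point
-/

set_option autoImplicit false
set_option backward.isDefEq.respectTransparency false
set_option linter.style.haveILetI false

universe u

open CategoryTheory CategoryTheory.Limits AlgebraicGeometry IsLocalRing Groth.Agent.CycLim28

namespace Groth.Agent.CycLib28.TransInt

variable {X Y : Scheme.{u}}

theorem stalkIdeal_ker_le (i : Y ⟶ X) [IsClosedImmersion i] (y : Y) (P : PrimeSpectrum (X.presheaf.stalk (i y)))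
    (h : X.fromSpecStalk (i y) P ∈ Set.range i) : IntMult.stalkIdeal i.ker (i y) ≤ P.asIdeal := by
  obtain ⟨y', hy'⟩ := h
  obtain ⟨q, rfl⟩ := exists_fromSpecStalk_eq
    (i.isEmbedding.isInducing.specializes_iff.1 (hy' ▸ fromSpecStalk_specializes (i y) P : i y' ⤳ i y))
  have e : P = PrimeSpectrum.comap (i.stalkMap y).hom q := by
    refine fromSpecStalk_injective (i y) (hy'.symm.trans ?_)
    exact apply_fromSpecStalk i y q
  rw [stalkIdeal_ker, e, PrimeSpectrum.comap_asIdeal]
  exact Ideal.ker_le_comap _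

theorem mem_range_of_le (i : Y ⟶ X) [IsClosedImmersion i] (y : Y) (P : PrimeSpectrum (X.presheaf.stalk (i y)))
    (h : IntMult.stalkIdeal i.ker (i y) ≤ P.asIdeal) : X.fromSpecStalk (i y) P ∈ Set.range i := by
  have := fromSpecStalk_mem i.ker (i.range_subset_ker_support ⟨y, rfl⟩) P h
  rw [← SetLike.mem_coe, Scheme.Hom.support_ker, i.isClosedEmbedding.isClosed_range.closure_eq] at this
  exact this

theorem exists_mem_range_of_ne_zero {δ : X → ℤ} {r : ℤ} (i : Y ⟶ X) {x : X} (h : Cyc.subschemeFun δ r i x ≠ 0) :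
    δ x = r ∧ x ∈ Set.range i := by
  unfold Cyc.subschemeFun at h
  split_ifs at h with hd
  · obtain ⟨z, hz, -⟩ := exists_ne_zero_of_finsum_mem_ne_zero h
    exact ⟨hd, z, hz⟩
  · exact absurd rfl h

theorem le_dim_quot {δ : X → ℤ} (hδ : Cyc.IsDimFun X δ) (i : Y ⟶ X) [IsClosedImmersion i] (y : Y) {r : ℤ} {ξ : X}
    (hξ : Cyc.subschemeFun δ r i ξ ≠ 0) (h : ξ ⤳ i y) :
    ((r - δ (i y)).toNat : WithBot ℕ∞) ≤
      ringKrullDim (X.presheaf.stalk (i y) ⧸ IntMult.stalkIdeal i.ker (i y)) := by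
  obtain ⟨hd, hr⟩ := exists_mem_range_of_ne_zero i hξ
  obtain ⟨P, rfl⟩ := exists_fromSpecStalk_eq h
  have hle := stalkIdeal_ker_le i y P hr
  have := ringKrullDim_le_of_surjective (Ideal.Quotient.factor hle) (Ideal.Quotient.factor_surjective hle)
  rwa [dim_quotient hδ (i y) P, drop, hd] at this

/-- If the local ring of `Y` at `y` is a domain, its generic point is the only component through `y`. -/
theorem exists_component {δ : X → ℤ} (hδ : Cyc.IsDimFun X δ) [IsLocallyNoetherian X] (i : Y ⟶ X) [IsClosedImmersion i]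
    (y : Y) {r : ℤ} (hY : ∀ y : Y, δ (i y) ≤ r) [IsDomain (Y.presheaf.stalk y)] {ξ : X}
    (hξ : Cyc.subschemeFun δ r i ξ ≠ 0) (h : ξ ⤳ i y) :
    Cyc.subschemeFun δ r i ξ = 1 ∧
      IntMult.stalkIdeal (IntMult.ptIdeal ξ) (i y) = IntMult.stalkIdeal i.ker (i y) ∧
      ∀ x, Cyc.subschemeFun δ r i x ≠ 0 → x ⤳ i y → x = ξ := by
  set I := IntMult.stalkIdeal i.ker (i y) with hI
  haveI hIp : I.IsPrime := by
    rw [hI, stalkIdeal_ker]
    exact RingHom.ker_isPrime _
  let Q : PrimeSpectrum (X.presheaf.stalk (i y)) := ⟨I, hIp⟩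
  obtain ⟨yQ, hyQ⟩ := mem_range_of_le i y Q le_rfl
  have hQr : δ (X.fromSpecStalk (i y) Q) ≤ r := hyQ ▸ hY yQ
  have uniq : ∀ x, Cyc.subschemeFun δ r i x ≠ 0 → x ⤳ i y → x = X.fromSpecStalk (i y) Q := by
    intro x hx hxy
    obtain ⟨hd, hr⟩ := exists_mem_range_of_ne_zero i hx
    obtain ⟨P, rfl⟩ := exists_fromSpecStalk_eq hxy
    have hle : Q ≤ P := stalkIdeal_ker_le i y P hr
    exact (eq_of_specializes_of_le hδ ((specializes_iff_le (i y) Q P).2 hle) (hd ▸ hQr)).symm
  have hξQ := uniq ξ hξ h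
  refine ⟨?_, by rw [hξQ, stalkIdeal_ptIdeal], fun x hx hxy => (uniq x hx hxy).trans hξQ.symm⟩
  obtain ⟨hd, -⟩ := exists_mem_range_of_ne_zero i hξ
  have hzy : yQ ⤳ y := i.isEmbedding.isInducing.specializes_iff.1 (hyQ.symm ▸ fromSpecStalk_specializes (i y) Q)
  obtain ⟨q, rfl⟩ := exists_fromSpecStalk_eq hzy
  have hq : q.asIdeal = ⊥ := by
    have e : Q = PrimeSpectrum.comap (i.stalkMap y).hom q :=
      fromSpecStalk_injective (i y) (hyQ.symm.trans (apply_fromSpecStalk i y q))
    rw [← Ideal.map_comap_of_surjective _ (i.stalkMap_surjective y) q.asIdeal, ← PrimeSpectrum.comap_asIdeal, ← e]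
    show I.map _ = ⊥
    rw [hI, stalkIdeal_ker, Ideal.map_eq_bot_iff_le_ker]
  haveI : IsLocallyNoetherian Y := LocallyOfFiniteType.isLocallyNoetherian i
  set z := Y.fromSpecStalk y q with hz
  let hs := fromSpecStalk_specializes y q
  letI := (Y.presheaf.stalkSpecializes hs).hom.toAlgebra
  haveI := Misc15.isLocalization_stalkSpecializes hs
  haveI : IsDomain (Y.presheaf.stalk z) := IsLocalization.isDomain_of_le_nonZeroDivisors (Y.presheaf.stalk z)
    (M := (IsUnit.submonoid (Y.presheaf.stalk z)).comap (Y.presheaf.stalkSpecializes hs).hom)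
    (fun a ha => mem_nonZeroDivisors_of_ne_zero (fun e => (not_isUnit_zero : ¬ IsUnit (0 : Y.presheaf.stalk z))
      (by have h' : IsUnit ((Y.presheaf.stalkSpecializes hs).hom a) := ha
          rwa [e, map_zero] at h')))
  haveI : Ring.KrullDimLE 0 (Y.presheaf.stalk z) := by
    rw [Ring.krullDimLE_iff, ringKrullDim_stalk_eq_height, hq, Ideal.height_bot]
    simp
  have hf := Ring.KrullDimLE.isField_of_isDomain (R := Y.presheaf.stalk z)
  have hset : {w | i w = ξ} = {z} := Set.ext fun w =>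
    ⟨fun hw => i.isEmbedding.injective ((hw.trans hξQ).trans hyQ.symm), fun hw => hw ▸ hyQ.trans hξQ.symm⟩
  rw [Cyc.subschemeFun, if_pos hd, hset, finsum_mem_singleton]
  haveI : IsSimpleModule (Y.presheaf.stalk z) (Y.presheaf.stalk z) :=
    isSimpleModule_self_iff_isUnit.2 ⟨inferInstance, fun {x} hx =>
      let ⟨u, hu⟩ := hf.mul_inv_cancel hx
      IsUnit.of_mul_eq_one u hu⟩
  rw [Module.length_eq_one]
  rfl

theorem maximal_of_length_eq_one (ιY : Y ⟶ X) {Z : Scheme.{u}} (ιZ : Z ⟶ X) [IsClosedImmersion ιY] [IsClosedImmersion ιZ]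
    (w : ↥(pullback ιY ιZ))
    (h : Module.length ((pullback ιY ιZ).presheaf.stalk w) ((pullback ιY ιZ).presheaf.stalk w) = 1) :
    IntMult.stalkIdeal ιY.ker (ιY (pullback.fst ιY ιZ w)) ⊔ IntMult.stalkIdeal ιZ.ker (ιY (pullback.fst ιY ιZ w)) =
      maximalIdeal (X.presheaf.stalk (ιY (pullback.fst ιY ιZ w))) := by
  set y := pullback.fst ιY ιZ w with hy
  have hs1 := ιY.stalkMap_surjective y
  have hs2 := (pullback.fst ιY ιZ).stalkMap_surjective w
  have hmem : ιY y ∈ ιZ.ker.support := by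
    refine ιZ.range_subset_ker_support ⟨pullback.snd ιY ιZ w, ?_⟩
    rw [hy, ← Scheme.Hom.comp_apply, ← pullback.condition]
    rfl
  haveI := Module.length_eq_one_iff.1 h
  have hker : RingHom.ker ((pullback.fst ιY ιZ).stalkMap w).hom = maximalIdeal (Y.presheaf.stalk y) := by
    refine le_antisymm (IsLocalRing.le_maximalIdeal (RingHom.ker_ne_top _)) fun a ha => ?_
    by_contra hne
    exact ha (isUnit_of_map_unit ((pullback.fst ιY ιZ).stalkMap w).hom a
      ((isSimpleModule_self_iff_isUnit.1 inferInstance).2 _ (fun e => hne (RingHom.mem_ker.2 e))))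
  have e : RingHom.ker ((pullback.fst ιY ιZ).stalkMap w).hom =
      (IntMult.stalkIdeal ιZ.ker (ιY y)).map (ιY.stalkMap y).hom := by
    rw [← stalkIdeal_ker, Scheme.IdealSheafData.ker_fst_of_isClosedImmersion, stalkIdeal_comap _ _ hmem]
  have hc : (RingHom.ker ((pullback.fst ιY ιZ).stalkMap w).hom).comap (ιY.stalkMap y).hom =
      maximalIdeal (X.presheaf.stalk (ιY y)) :=
    hker ▸ IsLocalRing.maximalIdeal_comap _
  rw [← hc, e, Ideal.comap_map_of_surjective _ hs1, stalkIdeal_ker, sup_comm, RingHom.ker_eq_comap_bot]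

end Groth.Agent.CycLib28.TransInt

namespace Groth.Agent.CycLib28.TransInt

theorem length_residue {A : Type u} [CommRing A] [IsLocalRing A] :
    Module.length A (A ⧸ maximalIdeal A) = 1 :=
  Module.length_eq_one_iff.2 (isSimpleModule_iff_isCoatom.2 (Ideal.isMaximal_def.1 (maximalIdeal.isMaximal A)))

end Groth.Agent.CycLib28.TransInt
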