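import Groth.Prelude.Def_AlgEqCyc
import Groth.Agent.CycLib28.TransInt
import Groth.Agent.CycLib28.OrdRestrict
import Groth.Agent.CycLib28.SecOrd
import Groth.Agent.RelVALib.ChowPn
import Mathlib

/-!
# Two rational points of a smooth projective curve inside a scheme are algebraically equivalent
-/

set_option autoImplicit false
set_option linter.style.haveILetI false
set_option backward.isDefEq.respectTransparency false

universe u

open CategoryTheory CategoryTheory.Limits AlgebraicGeometry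

namespace Groth.Agent.CycLib28.AlgEqCurve

variable {k : Type u} [Field k]

theorem isSeparated_of_projective {C : Scheme.{u}} (q : C ⟶ Spec (CommRingCat.of k))
    (hp : Neron.IsProjectiveOver k (Over.mk q)) : IsSeparated q := by
  obtain ⟨n, ι, hι, hιq⟩ := id hp
  haveI := hι
  haveI : IsProper (CohB1.ProjSpaceOver.toBase n (Spec (CommRingCat.of k))) := RelVALib.isProper_toBase n _
  exact (show q = ι ≫ CohB1.ProjSpaceOver.toBase n (Spec (CommRingCat.of k)) from hιq.symm) ▸ inferInstance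

theorem isElemAlgTriv_of_curve {X C : Scheme.{u}} [DecidableEq ↥X] (p : X ⟶ Spec (CommRingCat.of k))
    (q : C ⟶ Spec (CommRingCat.of k)) (hs : Smooth q) (hp : Neron.IsProjectiveOver k (Over.mk q))
    (hi : IsIntegral C) (hd : topologicalKrullDim ↥C = 1) (ι : C ⟶ X) [IsClosedImmersion ι] (hιq : ι ≫ p = q)
    (P₁ P₂ : Spec (CommRingCat.of k) ⟶ C) (h₁ : P₁ ≫ q = 𝟙 _) (h₂ : P₂ ≫ q = 𝟙 _) :
    AlgEqCyc.IsElemAlgTriv p
      (Function.locallyFinsuppWithin.single (ι (P₁ (IsLocalRing.closedPoint k))) (1 : ℤ) -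
        Function.locallyFinsuppWithin.single (ι (P₂ (IsLocalRing.closedPoint k))) (1 : ℤ)) := by
  haveI := hs
  haveI := hi
  haveI := isSeparated_of_projective q hp
  let d : C ⟶ pullback p q := pullback.diagonal q ≫ pullback.map q q p q ι (𝟙 C) (𝟙 _) (by simp [hιq]) (by simp)
  haveI : IsClosedImmersion (pullback.map q q p q ι (𝟙 C) (𝟙 _) (by simp [hιq]) (by simp)) :=
    MorphismProperty.pullback_map (P := @IsClosedImmersion) inferInstance inferInstance hιq.symm (by simp)
  have hd1 : d ≫ pullback.fst p q = ι := by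
    simp [d, pullback.map]
  have hd2 : d ≫ pullback.snd p q = 𝟙 C := by
    simp [d, pullback.map]
  classical
  let W : AlgebraicCycle (pullback p q) ℤ := Function.locallyFinsuppWithin.single (d (genericPoint C)) 1
  have hW : ∀ w, W w ≠ 0 → w = d (genericPoint C) := fun w hw => by
    simpa [W] using hw
  refine ⟨C, q, hs, hp, hi, hd, W, fun w hw => ?_, P₁, P₂, h₁, h₂, fun x => ?_⟩
  · rw [hW w hw, show pullback.snd p q (d (genericPoint C)) = genericPoint C from
      congrArg (fun m : C ⟶ C => m (genericPoint C)) hd2]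
    exact genericPoint_spec C
  have key : ∀ (t : Spec (CommRingCat.of k) ⟶ C) (ht : t ≫ q = 𝟙 _),
      AlgEqCyc.fibreFun p q W t ht x =
        Function.locallyFinsuppWithin.single (ι (t (IsLocalRing.closedPoint k))) (1 : ℤ) x := by
    intro t ht
    set c₀ := t (IsLocalRing.closedPoint k) with hc₀
    set v := AlgEqCyc.slice p q t ht x with hv
    have hv1 : pullback.fst p q v = x :=
      congrArg (fun m : X ⟶ X => m x) (pullback.lift_fst _ _ _ : AlgEqCyc.slice p q t ht ≫ pullback.fst p q = 𝟙 X)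
    have hv2 : pullback.snd p q v = c₀ :=
      (congrArg (fun m : X ⟶ C => m x) (pullback.lift_snd _ _ _ : AlgEqCyc.slice p q t ht ≫ pullback.snd p q = p ≫ t)).trans
        (congrArg (⇑t) (Subsingleton.elim (α := PrimeSpectrum k) (p x) _))
    have hmem : d (genericPoint C) ⤳ v → x = ι c₀ := by
      intro h
      obtain ⟨c, hc⟩ := h.mem_closed d.isClosedEmbedding.isClosed_range ⟨_, rfl⟩
      have e1 : pullback.fst p q (d c) = ι c := congrArg (fun m : C ⟶ X => m c) hd1
      have e2 : pullback.snd p q (d c) = c := congrArg (fun m : C ⟶ C => m c) hd2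
      rw [hc, hv1] at e1
      rw [hc, hv2] at e2
      rw [e1, e2]
    by_cases hx : x = ι c₀
    swap
    · rw [AlgEqCyc.fibreFun, finsum_eq_zero_of_forall_eq_zero]
      · simp [hx]
      · rintro ⟨w, hw, hws⟩
        exact absurd (hmem (hW w hw ▸ hws)) hx
    have hvd : v = d c₀ := by
      have e : (t ≫ ι) ≫ AlgEqCyc.slice p q t ht = t ≫ d := by
        apply pullback.hom_ext
        · rw [Category.assoc, Category.assoc (f := t) (g := d), hd1, AlgEqCyc.slice, pullback.lift_fst, Category.comp_id]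
        · rw [Category.assoc, Category.assoc (f := t) (g := d), hd2, AlgEqCyc.slice, pullback.lift_snd,
            Category.assoc, reassoc_of% hιq, ← Category.assoc, ht, Category.id_comp, Category.comp_id]
      rw [hv, hx]
      exact congrArg (fun m : Spec (CommRingCat.of k) ⟶ pullback p q => m (IsLocalRing.closedPoint k)) e
    have hsp : d (genericPoint C) ⤳ v := by
      rw [hvd]; exact (genericPoint_specializes c₀).map d.continuous
    have hne : W (d (genericPoint C)) ≠ 0 := by simp [W]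
    rw [AlgEqCyc.fibreFun, finsum_eq_single _ (⟨d (genericPoint C), hne, hsp⟩ : {w : ↥(pullback p q) // W w ≠ 0 ∧ w ⤳ v})
      (fun a ha => absurd (Subtype.ext (hW a.1 a.2.1)) ha)]
    conv_rhs => rw [hx]
    show W (d (genericPoint C)) * (AlgEqCyc.fibreMult (pullback.snd p q) v (d (genericPoint C)) hsp : ℤ) = _
    have hmult : ∀ (v : ↥(pullback p q)) (_ : v = d c₀) (h : d (genericPoint C) ⤳ v),
        AlgEqCyc.fibreMult (pullback.snd p q) v (d (genericPoint C)) h = 1 := by
      rintro _ rfl h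
      have hker : RingHom.ker (Cyc.specMap (d c₀) (d (genericPoint C)) h) = RingHom.ker (d.stalkMap c₀).hom := by
        ext a
        rw [RingHom.mem_ker, RingHom.mem_ker, ← map_eq_zero (d.residueFieldMap (genericPoint C)).hom]
        have e := CycLib28.residueFieldMap_specMap d (genericPoint_specializes c₀) a
        refine ⟨fun h0 => ?_, fun h0 => ?_⟩
        · have h1 := e.symm.trans h0
          rwa [← RingHom.mem_ker, CycLib28.ker_specMap_genericPoint, Ideal.mem_bot] at h1
        · exact e.trans (by rw [h0, map_zero])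
      have hmax : RingHom.ker (d.stalkMap c₀).hom ⊔ (IsLocalRing.maximalIdeal (C.presheaf.stalk (pullback.snd p q (d c₀)))).map
          ((pullback.snd p q).stalkMap (d c₀)).hom = IsLocalRing.maximalIdeal _ := by
        have hs := d.stalkMap_surjective c₀
        have key : ∀ (m : C ⟶ C) (_ : m = 𝟙 C),
            (IsLocalRing.maximalIdeal (C.presheaf.stalk (m c₀))).map (m.stalkMap c₀).hom = IsLocalRing.maximalIdeal _ := by
          rintro m rfl
          rw [Scheme.Hom.stalkMap_id]
          exact Ideal.map_id _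
        have e := key _ hd2
        rw [Scheme.Hom.stalkMap_comp] at e
        have e' : ((IsLocalRing.maximalIdeal (C.presheaf.stalk (pullback.snd p q (d c₀)))).map
            ((pullback.snd p q).stalkMap (d c₀)).hom).map (d.stalkMap c₀).hom = IsLocalRing.maximalIdeal _ := by
          rw [Ideal.map_map]
          exact e
        have e2 := congrArg (Ideal.comap (d.stalkMap c₀).hom) e'
        rw [Ideal.comap_map_of_surjective _ hs, ← RingHom.ker_eq_comap_bot, IsLocalRing.maximalIdeal_comap,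
          sup_comm] at e2
        exact e2
      rw [AlgEqCyc.fibreMult, ← Ideal.map_map,
        (DoubleQuot.quotQuotEquivQuotSupₐ ((pullback p q).presheaf.stalk (d c₀)) _ _).toLinearEquiv.length_eq,
        hker]
      erw [hmax]
      rw [TransInt.length_residue]
      rfl
    rw [hmult v hvd hsp]
    simp [W]
  rw [key P₁ h₁, key P₂ h₂]
  rfl

/-- Rational points on a connected union of smooth projective curves are algebraically equivalent. -/
theorem isAlgEquiv_of_chain [IsAlgClosed k] {X : Scheme.{u}} [DecidableEq ↥X] (p : X ⟶ Spec (CommRingCat.of k))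
    {n : ℕ} (C : Fin n → Scheme.{u}) (q : (i : Fin n) → (C i ⟶ Spec (CommRingCat.of k)))
    (ι : (i : Fin n) → (C i ⟶ X)) (hι : ∀ i, IsClosedImmersion (ι i)) (hq : ∀ i, ι i ≫ p = q i)
    (hs : ∀ i, Smooth (q i)) (hpr : ∀ i, Neron.IsProjectiveOver k (Over.mk (q i)))
    (hint : ∀ i, IsIntegral (C i)) (hd : ∀ i, topologicalKrullDim ↥(C i) = 1)
    (hconn : _root_.IsConnected (⋃ i, Set.range ⇑(ι i)))
    (x y : X) (hx : IsClosed ({x} : Set X)) (hy : IsClosed ({y} : Set X))
    (hxC : x ∈ ⋃ i, Set.range ⇑(ι i)) (hyC : y ∈ ⋃ i, Set.range ⇑(ι i)) :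
    AlgEqCyc.IsAlgEquiv p (Function.locallyFinsuppWithin.single x (1 : ℤ))
      (Function.locallyFinsuppWithin.single y (1 : ℤ)) := by
  classical
  let G : X → AlgebraicCycle X ℤ := fun z => Function.locallyFinsuppWithin.single z (1 : ℤ)
  have hclosed : ∀ i, IsClosed (Set.range ⇑(ι i)) := fun i => by
    haveI := hι i
    exact (ι i).isClosedEmbedding.isClosed_range
  -- two closed points on one curve
  have hone : ∀ i (z w : X), IsClosed ({z} : Set X) → IsClosed ({w} : Set X) → z ∈ Set.range ⇑(ι i) →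
      w ∈ Set.range ⇑(ι i) → G z - G w ∈ AlgEqCyc.algTriv p := by
    rintro i z w hz hw ⟨a, rfl⟩ ⟨b, rfl⟩
    haveI := hι i
    haveI := hs i
    have hcl : ∀ c : ↥(C i), IsClosed ({ι i c} : Set X) → IsClosed ({c} : Set ↥(C i)) := fun c hc => by
      have := hc.preimage (ι i).continuous
      rwa [show (ι i) ⁻¹' {ι i c} = {c} from Set.ext fun d =>
        ⟨fun h => (ι i).isClosedEmbedding.injective h, fun h => congrArg (ι i) h⟩] at this
    refine AddSubgroup.subset_closure ?_
    have := isElemAlgTriv_of_curve p (q i) (hs i) (hpr i) (hint i) (hd i) (ι i) (hq i)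
      (pointOfClosedPoint (q i) a (hcl a hz)) (pointOfClosedPoint (q i) b (hcl b hw))
      (pointOfClosedPoint_comp _ _ _) (pointOfClosedPoint_comp _ _ _)
    have ea := pointOfClosedPoint_apply (q i) a (hcl a hz) (IsLocalRing.closedPoint k)
    have eb := pointOfClosedPoint_apply (q i) b (hcl b hw) (IsLocalRing.closedPoint k)
    erw [ea, eb] at this
    exact this
  -- the curves equivalent to the first point
  let S : Set (Fin n) := {i | ∃ z, IsClosed ({z} : Set X) ∧ z ∈ Set.range ⇑(ι i) ∧ G x - G z ∈ AlgEqCyc.algTriv p}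
  have htrans : ∀ i ∈ S, ∀ j, (Set.range ⇑(ι i) ∩ Set.range ⇑(ι j)).Nonempty → j ∈ S := by
    rintro i ⟨z, hz, hzi, hxz⟩ j hij
    haveI := hι i
    haveI := hs i
    obtain ⟨w, hwm, hw⟩ : ∃ w ∈ Set.range ⇑(ι i) ∩ Set.range ⇑(ι j), IsClosed ({w} : Set X) := by
      obtain ⟨_, ⟨a, rfl⟩, ha⟩ := hij
      have hA : IsClosed ((ι i) ⁻¹' Set.range ⇑(ι j)) := (hclosed j).preimage (ι i).continuous
      haveI : JacobsonSpace ↥(C i) := LocallyOfFiniteType.jacobsonSpace (q i)
      obtain ⟨b, hb1, hb2⟩ := nonempty_inter_closedPoints (X := ↥(C i)) (Z := (ι i) ⁻¹' Set.range ⇑(ι j))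
        ⟨a, ha⟩ hA.isLocallyClosed
      refine ⟨ι i b, ⟨⟨b, rfl⟩, hb1⟩, ?_⟩
      rw [← Set.image_singleton]
      exact (ι i).isClosedEmbedding.isClosedMap _ hb2
    refine ⟨w, hw, hwm.2, ?_⟩
    have := AddSubgroup.add_mem _ hxz (hone i z w hz hw hzi hwm.1)
    rwa [sub_add_sub_cancel] at this
  obtain ⟨i₀, hi₀⟩ := Set.mem_iUnion.1 hxC
  obtain ⟨j₀, hj₀⟩ := Set.mem_iUnion.1 hyC
  have hxx : i₀ ∈ S := ⟨x, hx, hi₀, by rw [sub_self]; exact AddSubgroup.zero_mem _⟩
  have hall : j₀ ∈ S := by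
    by_contra hj
    have hA : IsClosed (⋃ i : S, Set.range ⇑(ι i.1)) := isClosed_iUnion_of_finite fun i => hclosed i.1
    have hB : IsClosed (⋃ i : ↥Sᶜ, Set.range ⇑(ι i.1)) := isClosed_iUnion_of_finite fun i => hclosed i.1
    obtain ⟨z, -, hzA, hzB⟩ := (isPreconnected_closed_iff.1 hconn.isPreconnected) _ _ hA hB (fun z hz => by
        obtain ⟨i, hi⟩ := Set.mem_iUnion.1 hz
        by_cases h : i ∈ S
        · exact Or.inl (Set.mem_iUnion.2 ⟨⟨i, h⟩, hi⟩)
        · exact Or.inr (Set.mem_iUnion.2 ⟨⟨i, h⟩, hi⟩))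
      ⟨x, hxC, Set.mem_iUnion.2 ⟨⟨i₀, hxx⟩, hi₀⟩⟩ ⟨y, hyC, Set.mem_iUnion.2 ⟨⟨j₀, hj⟩, hj₀⟩⟩
    obtain ⟨⟨i, hi⟩, hzi⟩ := Set.mem_iUnion.1 hzA
    obtain ⟨⟨j, hj'⟩, hzj⟩ := Set.mem_iUnion.1 hzB
    exact hj' (htrans i hi j ⟨z, hzi, hzj⟩)
  obtain ⟨w, hw, hwj, hxw⟩ := hall
  have := AddSubgroup.add_mem _ hxw (hone j₀ w y hw hy hwj hj₀)
  rwa [sub_add_sub_cancel] at this

end Groth.Agent.CycLib28.AlgEqCurve
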