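import Groth.Agent.CycLib28.AlgEqCurve
import Mathlib

/-!
# Two points of a smooth projective curve mapped to a scheme give an elementary algebraically trivial cycle
-/

set_option autoImplicit false
set_option linter.style.haveILetI false
set_option backward.isDefEq.respectTransparency false

universe u

open CategoryTheory CategoryTheory.Limits AlgebraicGeometry

namespace Groth.Agent.CycLib28.AlgEqGraph

open AlgEqCurve

variable {k : Type u} [Field k]

/-- The family given by the graph of a morphism from a smooth projective curve. -/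
theorem isElemAlgTriv_of_map {X C : Scheme.{u}} [DecidableEq ↥X] (p : X ⟶ Spec (CommRingCat.of k))
    (q : C ⟶ Spec (CommRingCat.of k)) (hs : Smooth q) (hp : Neron.IsProjectiveOver k (Over.mk q))
    (hi : IsIntegral C) (hd : topologicalKrullDim ↥C = 1) [IsSeparated p] (ι : C ⟶ X) (hιq : ι ≫ p = q)
    (P₁ P₂ : Spec (CommRingCat.of k) ⟶ C) (h₁ : P₁ ≫ q = 𝟙 _) (h₂ : P₂ ≫ q = 𝟙 _) :
    AlgEqCyc.IsElemAlgTriv p
      (Function.locallyFinsuppWithin.single (ι (P₁ (IsLocalRing.closedPoint k))) (1 : ℤ) -
        Function.locallyFinsuppWithin.single (ι (P₂ (IsLocalRing.closedPoint k))) (1 : ℤ)) := by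
  haveI := hs
  haveI := hi
  haveI := isSeparated_of_projective q hp
  let d : C ⟶ pullback p q := pullback.lift ι (𝟙 C) (by simp [hιq])
  have hd1 : d ≫ pullback.fst p q = ι := by
    simp [d]
  have hd2 : d ≫ pullback.snd p q = 𝟙 C := by
    simp [d]
  haveI : IsClosedImmersion (d ≫ pullback.snd p q) := by rw [hd2]; infer_instance
  haveI : IsClosedImmersion d := IsClosedImmersion.of_comp d (pullback.snd p q)
  classical
  let W : AlgebraicCycle (pullback p q) ℤ := Function.locallyFinsuppWithin.single (d (genericPoint C)) 1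
  have hW : ∀ w, W w ≠ 0 → w = d (genericPoint C) := fun w hw => by
    simpa [W] using hw
  refine ⟨C, q, hs, hp, hi, hd, W, fun w hw => ?_, P₁, P₂, h₁, h₂, fun x => ?_⟩
  · rw [hW w hw, show pullback.snd p q (d (genericPoint C)) = genericPoint C from
      congrArg (fun m : C ⟶ C => m (genericPoint C)) hd2]
    exact genericPoint_spec C
  have key : ∀ (t : Spec (CommRingCat.of k) ⟶ C) (ht : t ≫ q = 𝟙 _),
      AlgEqCyc.fibreFun p q W t ht x =
        Function.locallyFinsuppWithin.single (ι (t (IsLocalRing.closedPoint k))) (1 : ℤ) x := by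
    intro t ht
    set c₀ := t (IsLocalRing.closedPoint k) with hc₀
    set v := AlgEqCyc.slice p q t ht x with hv
    have hv1 : pullback.fst p q v = x :=
      congrArg (fun m : X ⟶ X => m x) (pullback.lift_fst _ _ _ : AlgEqCyc.slice p q t ht ≫ pullback.fst p q = 𝟙 X)
    have hv2 : pullback.snd p q v = c₀ :=
      (congrArg (fun m : X ⟶ C => m x) (pullback.lift_snd _ _ _ : AlgEqCyc.slice p q t ht ≫ pullback.snd p q = p ≫ t)).trans
        (congrArg (⇑t) (Subsingleton.elim (α := PrimeSpectrum k) (p x) _))
    have hmem : d (genericPoint C) ⤳ v → x = ι c₀ := by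
      intro h
      obtain ⟨c, hc⟩ := h.mem_closed d.isClosedEmbedding.isClosed_range ⟨_, rfl⟩
      have e1 : pullback.fst p q (d c) = ι c := congrArg (fun m : C ⟶ X => m c) hd1
      have e2 : pullback.snd p q (d c) = c := congrArg (fun m : C ⟶ C => m c) hd2
      rw [hc, hv1] at e1
      rw [hc, hv2] at e2
      rw [e1, e2]
    by_cases hx : x = ι c₀
    swap
    · rw [AlgEqCyc.fibreFun, finsum_eq_zero_of_forall_eq_zero]
      · simp [hx]
      · rintro ⟨w, hw, hws⟩
        exact absurd (hmem (hW w hw ▸ hws)) hx
    have hvd : v = d c₀ := by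
      have e : (t ≫ ι) ≫ AlgEqCyc.slice p q t ht = t ≫ d := by
        apply pullback.hom_ext
        · rw [Category.assoc, Category.assoc (f := t) (g := d), hd1, AlgEqCyc.slice, pullback.lift_fst, Category.comp_id]
        · rw [Category.assoc, Category.assoc (f := t) (g := d), hd2, AlgEqCyc.slice, pullback.lift_snd,
            Category.assoc, reassoc_of% hιq, ← Category.assoc, ht, Category.id_comp, Category.comp_id]
      rw [hv, hx]
      exact congrArg (fun m : Spec (CommRingCat.of k) ⟶ pullback p q => m (IsLocalRing.closedPoint k)) e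
    have hsp : d (genericPoint C) ⤳ v := by
      rw [hvd]; exact (genericPoint_specializes c₀).map d.continuous
    have hne : W (d (genericPoint C)) ≠ 0 := by simp [W]
    rw [AlgEqCyc.fibreFun, finsum_eq_single _ (⟨d (genericPoint C), hne, hsp⟩ : {w : ↥(pullback p q) // W w ≠ 0 ∧ w ⤳ v})
      (fun a ha => absurd (Subtype.ext (hW a.1 a.2.1)) ha)]
    conv_rhs => rw [hx]
    show W (d (genericPoint C)) * (AlgEqCyc.fibreMult (pullback.snd p q) v (d (genericPoint C)) hsp : ℤ) = _
    have hmult : ∀ (v : ↥(pullback p q)) (_ : v = d c₀) (h : d (genericPoint C) ⤳ v),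
        AlgEqCyc.fibreMult (pullback.snd p q) v (d (genericPoint C)) h = 1 := by
      rintro _ rfl h
      have hker : RingHom.ker (Cyc.specMap (d c₀) (d (genericPoint C)) h) = RingHom.ker (d.stalkMap c₀).hom := by
        ext a
        rw [RingHom.mem_ker, RingHom.mem_ker, ← map_eq_zero (d.residueFieldMap (genericPoint C)).hom]
        have e := CycLib28.residueFieldMap_specMap d (genericPoint_specializes c₀) a
        refine ⟨fun h0 => ?_, fun h0 => ?_⟩
        · have h1 := e.symm.trans h0
          rwa [← RingHom.mem_ker, CycLib28.ker_specMap_genericPoint, Ideal.mem_bot] at h1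
        · exact e.trans (by rw [h0, map_zero])
      have hmax : RingHom.ker (d.stalkMap c₀).hom ⊔ (IsLocalRing.maximalIdeal (C.presheaf.stalk (pullback.snd p q (d c₀)))).map
          ((pullback.snd p q).stalkMap (d c₀)).hom = IsLocalRing.maximalIdeal _ := by
        have hs := d.stalkMap_surjective c₀
        have key : ∀ (m : C ⟶ C) (_ : m = 𝟙 C),
            (IsLocalRing.maximalIdeal (C.presheaf.stalk (m c₀))).map (m.stalkMap c₀).hom = IsLocalRing.maximalIdeal _ := by
          rintro m rfl
          rw [Scheme.Hom.stalkMap_id]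
          exact Ideal.map_id _
        have e := key _ hd2
        rw [Scheme.Hom.stalkMap_comp] at e
        have e' : ((IsLocalRing.maximalIdeal (C.presheaf.stalk (pullback.snd p q (d c₀)))).map
            ((pullback.snd p q).stalkMap (d c₀)).hom).map (d.stalkMap c₀).hom = IsLocalRing.maximalIdeal _ := by
          rw [Ideal.map_map]
          exact e
        have e2 := congrArg (Ideal.comap (d.stalkMap c₀).hom) e'
        rw [Ideal.comap_map_of_surjective _ hs, ← RingHom.ker_eq_comap_bot, IsLocalRing.maximalIdeal_comap,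
          sup_comm] at e2
        exact e2
      rw [AlgEqCyc.fibreMult, ← Ideal.map_map,
        (DoubleQuot.quotQuotEquivQuotSupₐ ((pullback p q).presheaf.stalk (d c₀)) _ _).toLinearEquiv.length_eq,
        hker]
      erw [hmax]
      rw [TransInt.length_residue]
      rfl
    rw [hmult v hvd hsp]
    simp [W]
  rw [key P₁ h₁, key P₂ h₂]
  rfl

end Groth.Agent.CycLib28.AlgEqGraph
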