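import Mathlib
import Groth.Agent.CycLib28.DegZero
import Groth.Agent.LatticeLib24.Dist

/-!
# Degree of divisors on curves via local rings
-/

universe u

open CategoryTheory AlgebraicGeometry IsLocalRing Groth.Agent.CycLim28

namespace Groth.Agent.CycLib28

variable {X : Scheme.{u}}

theorem ordAt_eq_ordFrac_stalk [IsIntegral X] [IsLocallyNoetherian X] {δ : X → ℤ} (hδ : Cyc.IsDimFun X δ)
    {x : X} (hd : δ x + 1 = δ (genericPoint X)) (f : X.functionField) (hf : f ≠ 0) :
    Cyc.ordAt x (genericPoint X) (genericPoint_specializes x) ((X.residue (genericPoint X)).hom f) =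
      CycAlg.ordFrac (X.presheaf.stalk x) X.functionField f := by
  have h := genericPoint_specializes (α := X) x
  have hker := ker_specMap_genericPoint x h
  haveI : Ring.KrullDimLE 1 (X.presheaf.stalk x) := by
    obtain ⟨-, h2, -, -⟩ := locQuot_conds hδ h hd
    rw [Ring.krullDimLE_iff] at h2 ⊢
    rwa [← ringKrullDim_eq_of_ringEquiv ((Ideal.quotEquivOfEq hker).trans (RingEquiv.quotientBot _))]
  have key : ∀ a : X.presheaf.stalk x, a ≠ 0 →
      Cyc.ordAt x (genericPoint X) h ((X.residue (genericPoint X)).hom (algebraMap _ X.functionField a)) =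
        CycAlg.ordFrac (X.presheaf.stalk x) X.functionField (algebraMap _ X.functionField a) := by
    intro a ha
    have e : (X.residue (genericPoint X)).hom (algebraMap _ X.functionField a) =
        Cyc.specMap x (genericPoint X) h a := rfl
    have hne : Cyc.specMap x (genericPoint X) h a ≠ 0 := fun h0 ↦ ha (by
      rw [← RingHom.mem_ker, hker, Ideal.mem_bot] at h0; exact h0)
    rw [LatticeLib24.ordFrac_algebraMap _ _ ha, e, ordAt_formula hδ h hd _ hne, hker, bot_sup_eq]
    rfl
  obtain ⟨a, b, hb, rfl⟩ := IsFractionRing.div_surjective (A := X.presheaf.stalk x) f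
  have hb0 : b ≠ 0 := nonZeroDivisors.ne_zero hb
  have hbK : algebraMap (X.presheaf.stalk x) X.functionField b ≠ 0 :=
    (map_ne_zero_iff _ (IsFractionRing.injective _ _)).mpr hb0
  have ha0 : a ≠ 0 := fun h0 ↦ hf (by rw [h0, map_zero, zero_div])
  have h1 := key a ha0
  rw [← div_mul_cancel₀ (algebraMap (X.presheaf.stalk x) X.functionField a) hbK, map_mul,
    ordAt_mul hδ h hd ((map_ne_zero _).mpr hf) ((map_ne_zero _).mpr hbK),
    LatticeLib24.ordFrac_mul _ _ hf hbK, key b hb0] at h1
  linarith

theorem finsum_deg_eq_zero (K : Type u) [Field K] [IsIntegral X] (c : X ⟶ Spec (CommRingCat.of K)) [IsProper c]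
    (hdim : topologicalKrullDim X = 1) (f : X.functionField) (hf : f ≠ 0) :
    ∑ᶠ (x : X) (_ : IsClosed ({x} : Set X)),
      (c.residueDegree x : ℤ) * CycAlg.ordFrac (X.presheaf.stalk x) X.functionField f = 0 := by
  classical
  haveI : IsLocallyNoetherian X := LocallyOfFiniteType.isLocallyNoetherian c
  have hη : DimLib.ptDim c (genericPoint X) = 1 := by
    have h1 := DimLib.topologicalKrullDim_eq_ptDim_genericPoint c
    rw [hdim] at h1
    exact_mod_cast h1.symm
  have hd := isDimFun_ptDim c
  have hres : (X.residue (genericPoint X)).hom f ≠ 0 := (map_ne_zero _).mpr hf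
  obtain ⟨α, hα⟩ := exists_divCycle hd (genericPoint X) ((X.residue (genericPoint X)).hom f) hres
  have hz := map_divFun_eq_zero_curve c (deltaCompat_ptDim_base c) (by rw [hη]; rfl) _ hres α hα
    (c (genericPoint X))
  let s := (finite_fibre_inter_support c α (c (genericPoint X))).toFinset
  rw [map_apply_finset c _ _ α _ s (fun x _ ↦ Subsingleton.elim _ _) (fun x h1 h2 ↦ by simp [s, h1, h2])] at hz
  have hterm : ∀ x : X, (∑ᶠ (_ : IsClosed ({x} : Set X)),
      (c.residueDegree x : ℤ) * CycAlg.ordFrac (X.presheaf.stalk x) X.functionField f) =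
      α x * (AlgebraicCycle.mapCoeff c (fun x ↦ (DimLib.ptDim c x : ℤ)) (fun _ ↦ (0 : ℤ)) x : ℤ) := by
    intro x
    by_cases hx : IsClosed ({x} : Set X)
    · have h0 : DimLib.ptDim c x = 0 := (DimLib.ptDim_eq_zero_iff c x).2 hx
      have hd' : (DimLib.ptDim c x : ℤ) + 1 = DimLib.ptDim c (genericPoint X) := by rw [h0, hη]; rfl
      rw [finsum_eq_if, if_pos hx, hα, Cyc.divFun, dif_pos ⟨genericPoint_specializes x, hd'⟩,
        ordAt_eq_ordFrac_stalk hd hd' f hf, AlgebraicCycle.mapCoeff, if_pos (by rw [h0]; rfl), mul_comm]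
    · have h0 : DimLib.ptDim c x ≠ 0 := fun h ↦ hx ((DimLib.ptDim_eq_zero_iff c x).1 h)
      rw [finsum_eq_if, if_neg hx, AlgebraicCycle.mapCoeff, if_neg (by exact_mod_cast h0), Nat.cast_zero, mul_zero]
  rw [finsum_congr hterm, finsum_eq_sum_of_support_subset _ (s := s) ?_]
  · exact hz
  · intro x hx
    simp only [Function.mem_support, ne_eq, mul_eq_zero, not_or] at hx
    simp [s, hx.1, Subsingleton.elim (c x) (c (genericPoint X))]

end Groth.Agent.CycLib28
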