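import Mathlib
import Groth.Agent.CycLib28.OverField
import Groth.Agent.CycLib28.PointSheaf
import Groth.Agent.CycLib28.MultDiag
import Groth.Agent.CycLib28.TransInt
import Groth.Agent.CycLib28.PushZero
import Groth.Agent.CycLib28.SerreTor
import Groth.Agent.CycLib28.PushAny

/-!
# Exterior products of prime cycles and the intersection with the diagonal
-/

set_option autoImplicit false
set_option backward.isDefEq.respectTransparency false
set_option linter.style.haveILetI false

universe u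

open CategoryTheory CategoryTheory.Limits AlgebraicGeometry IsLocalRing Groth.Agent.CycLim28
open Groth.Agent.CycLib28.TransInt

namespace Groth.Agent.CycLib28.DiagProd

section

variable {X Y : Scheme.{u}}

/-- The stalks of the kernel of a closed immersion of an integral scheme are those of the ideal of a point. -/
theorem stalkIdeal_ker_eq [IsIntegral Y] (i : Y ⟶ X) [IsClosedImmersion i] (y : Y) :
    IntMult.stalkIdeal i.ker (i y) = IntMult.stalkIdeal (IntMult.ptIdeal (i (genericPoint Y))) (i y) := by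
  set I := IntMult.stalkIdeal i.ker (i y) with hI
  haveI hIp : I.IsPrime := by
    rw [hI, stalkIdeal_ker]
    exact RingHom.ker_isPrime _
  let Q : PrimeSpectrum (X.presheaf.stalk (i y)) := ⟨I, hIp⟩
  obtain ⟨yQ, hyQ⟩ := mem_range_of_le i y Q le_rfl
  obtain ⟨P, hP⟩ := exists_fromSpecStalk_eq ((genericPoint_specializes y).map i.continuous)
  have h1 : P ≤ Q := (specializes_iff_le (i y) P Q).1 (by
    rw [hP, ← hyQ]; exact (genericPoint_specializes yQ).map i.continuous)
  have h2 : Q ≤ P := stalkIdeal_ker_le i y P ⟨genericPoint Y, hP.symm⟩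
  rw [← hP, stalkIdeal_ptIdeal, le_antisymm h1 h2]

theorem stalkIdeal_ptIdeal_self (a : X) :
    IntMult.stalkIdeal (IntMult.ptIdeal a) a = maximalIdeal (X.presheaf.stalk a) := by
  have h := stalkIdeal_ptIdeal a (closedPoint (X.presheaf.stalk a))
  rw [Scheme.fromSpecStalk_closedPoint] at h
  exact h

end

variable {K : Type u} [Field K] {X Y : Scheme.{u}} (f : X ⟶ Spec (CommRingCat.of K))
  (g : Y ⟶ Spec (CommRingCat.of K))

/-- the closed immersion of the product of the closures of two points -/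
noncomputable abbrev prodι (a : X) (b : Y) :=
  pullback.map ((IntMult.ptIdeal a).subschemeι ≫ f) ((IntMult.ptIdeal b).subschemeι ≫ g) f g
    (IntMult.ptIdeal a).subschemeι (IntMult.ptIdeal b).subschemeι (𝟙 _) (Category.comp_id _) (Category.comp_id _)

instance (a : X) (b : Y) : IsClosedImmersion (prodι f g a b) :=
  MorphismProperty.pullback_map (P := @IsClosedImmersion) inferInstance inferInstance rfl rfl

theorem range_prodι (a : X) (b : Y) (z : ↥(pullback f g)) :
    z ∈ Set.range (prodι f g a b) ↔ a ⤳ pullback.fst f g z ∧ b ⤳ pullback.snd f g z := by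
  rw [Scheme.Pullback.range_map, Set.mem_inter_iff, Set.mem_preimage, Set.mem_preimage,
    (IntMult.ptIdeal a).range_subschemeι, (IntMult.ptIdeal b).range_subschemeι]
  exact and_congr mem_support_ptIdeal mem_support_ptIdeal

variable [IsAlgClosed K] [LocallyOfFiniteType f] [LocallyOfFiniteType g]

theorem isIntegral_prod (a : X) (b : Y) :
    IsIntegral (pullback ((IntMult.ptIdeal a).subschemeι ≫ f) ((IntMult.ptIdeal b).subschemeι ≫ g)) := by
  haveI := isIntegral_ptIdeal a
  haveI := isIntegral_ptIdeal b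
  haveI : IsLocallyNoetherian (IntMult.ptIdeal a).subscheme :=
    LocallyOfFiniteType.isLocallyNoetherian ((IntMult.ptIdeal a).subschemeι ≫ f)
  haveI : GeometricallyIntegral ((IntMult.ptIdeal b).subschemeι ≫ g) :=
    AbVarLib.geometricallyIntegral_of_isAlgClosed _
  infer_instance

/-- the generic point of the product of the closures of two points -/
noncomputable def prodPt (a : X) (b : Y) : ↥(pullback f g) :=
  haveI := isIntegral_prod f g a b
  prodι f g a b (genericPoint _)

theorem prodPt_specializes (a : X) (b : Y) {z : ↥(pullback f g)} :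
    prodPt f g a b ⤳ z ↔ a ⤳ pullback.fst f g z ∧ b ⤳ pullback.snd f g z := by
  haveI := isIntegral_prod f g a b
  rw [← range_prodι f g a b z]
  constructor
  · exact fun h => h.mem_closed (prodι f g a b).isClosedEmbedding.isClosed_range ⟨_, rfl⟩
  · rintro ⟨w, rfl⟩
    exact (genericPoint_specializes w).map (prodι f g a b).continuous

variable {δX : X → ℤ} {δY : Y → ℤ} {δ : ↥(pullback f g) → ℤ}
  (hX : Cyc.DeltaCompat f δX (fun _ => 0)) (hY : Cyc.DeltaCompat g δY (fun _ => 0))
  (hXY : Cyc.DeltaCompat (pullback.fst f g ≫ f) δ (fun _ => 0))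
  (sX : Cyc.IsDimFun X δX) (sY : Cyc.IsDimFun Y δY) (sP : Cyc.IsDimFun (pullback f g) δ)

include hX hY hXY sX sY sP in
theorem prodPt_spec (a : X) (b : Y) :
    (pullback.fst f g (prodPt f g a b) = a ∧ pullback.snd f g (prodPt f g a b) = b ∧
      δ (prodPt f g a b) = δX a + δY b) ∧
    ∀ z, pullback.fst f g z = a → pullback.snd f g z = b → δ z = δX a + δY b → z = prodPt f g a b := by
  obtain ⟨z, h1, h2, h3⟩ := DimLib.exists_product_point f g a b
  have hz : δ z = δX a + δY b := by
    rw [OverField.delta_eq_ptDim _ hXY, OverField.delta_eq_ptDim f hX, OverField.delta_eq_ptDim g hY, h3]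
    push_cast
    ring
  have hle := OverField.delta_product_le f g hX hY hXY (prodPt f g a b)
  obtain ⟨s1, s2⟩ := (prodPt_specializes f g a b).1 specializes_rfl
  have l1 := le_of_specializes sX s1
  have l2 := le_of_specializes sY s2
  have uniq : ∀ z, pullback.fst f g z = a → pullback.snd f g z = b → δ z = δX a + δY b → z = prodPt f g a b :=
    fun z h1 h2 h3 => (eq_of_specializes_of_le sP ((prodPt_specializes f g a b).2
      ⟨specializes_of_eq h1.symm, specializes_of_eq h2.symm⟩) (by omega)).symm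
  have e := uniq z h1 h2 hz
  subst e
  exact ⟨⟨h1, h2, hz⟩, uniq⟩

include hX hY hXY sX sY sP in
theorem length_prodPt (a : X) (b : Y) (z : ↥(pullback f g)) (h1 : pullback.fst f g z = a)
    (h2 : pullback.snd f g z = b) (h3 : δ z = δX a + δY b) :
    Module.length ((pullback f g).presheaf.stalk z)
      (↑((pullback f g).presheaf.stalk z) ⧸
        ((maximalIdeal (X.presheaf.stalk (pullback.fst f g z))).map ((pullback.fst f g).stalkMap z).hom ⊔
          (maximalIdeal (Y.presheaf.stalk (pullback.snd f g z))).map ((pullback.snd f g).stalkMap z).hom)) = 1 := by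
  haveI := isIntegral_prod f g a b
  have e := (prodPt_spec f g hX hY hXY sX sY sP a b).2 z h1 h2 h3
  have hsup : z ∈ ((IntMult.ptIdeal a).comap (pullback.fst f g) ⊔
      (IntMult.ptIdeal b).comap (pullback.snd f g)).support := by
    rw [← ker_pullback_map]
    exact (prodι f g a b).range_subset_ker_support ⟨_, e.symm⟩
  have key : IntMult.stalkIdeal ((IntMult.ptIdeal a).comap (pullback.fst f g) ⊔
      (IntMult.ptIdeal b).comap (pullback.snd f g)) z = maximalIdeal _ := by
    rw [← ker_pullback_map, e]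
    show IntMult.stalkIdeal (prodι f g a b).ker (prodι f g a b (genericPoint _)) = _
    rw [stalkIdeal_ker_eq]
    exact stalkIdeal_ptIdeal_self _
  subst h1
  subst h2
  rw [stalkIdeal_sup _ _ hsup, stalkIdeal_comap _ _ (mem_support_ptIdeal.2 specializes_rfl),
    stalkIdeal_comap _ _ (mem_support_ptIdeal.2 specializes_rfl), stalkIdeal_ptIdeal_self,
    stalkIdeal_ptIdeal_self] at key
  rw [key]
  exact length_residue

open scoped Classical in
include hX hY hXY sX sY sP in
theorem extProd_apply (α : X → ℤ) (β : Y → ℤ) (z : ↥(pullback f g)) :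
    IntMult.extProd f g δX δY δ α β z =
      if z = prodPt f g (pullback.fst f g z) (pullback.snd f g z) then
        α (pullback.fst f g z) * β (pullback.snd f g z) else 0 := by
  rw [IntMult.extProd]
  by_cases h : δ z = δX (pullback.fst f g z) + δY (pullback.snd f g z)
  · rw [if_pos h, if_pos ((prodPt_spec f g hX hY hXY sX sY sP _ _).2 z rfl rfl h),
      length_prodPt f g hX hY hXY sX sY sP _ _ z rfl rfl h, ENat.toNat_one, Nat.cast_one, mul_one]
  · rw [if_neg h, if_neg]
    intro e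
    exact h ((congrArg δ e).trans (prodPt_spec f g hX hY hXY sX sY sP _ _).1.2.2)

omit g [IsAlgClosed K] [LocallyOfFiniteType f] [LocallyOfFiniteType g] in
theorem delta_diagonal {δ₂ : ↥(pullback f f) → ℤ} {δ' : X → ℤ} [IsSeparated f]
    (h : Cyc.DeltaCompat (pullback.fst f f) δ₂ δ') (x : X) :
    δ₂ (pullback.diagonal f x) = δ' x := by
  have h1 : Cyc.DeltaCompat (𝟙 X) (fun x => δ₂ (pullback.diagonal f x)) δ' :=
    deltaCompat_square (pullback.diagonal f) (𝟙 X) (𝟙 X) (pullback.fst f f) (by simp) h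
  have h2 := DeltaCompat.eq (𝟙 X) h1 x
  have h3 := DeltaCompat.eq (𝟙 X) (deltaCompat_preimmersion (𝟙 X) δ') x
  have e : (𝟙 X : X ⟶ X) x = x := rfl
  simp only [e] at h2 h3
  omega

omit g [IsAlgClosed K] [LocallyOfFiniteType f] [LocallyOfFiniteType g] in
theorem residueDegree_fst_diagonal [IsSeparated f] (x : X) :
    (pullback.fst f f).residueDegree (pullback.diagonal f x) = 1 := by
  have h := residueDegree_comp (pullback.diagonal f) (pullback.fst f f) x
  rw [residueDegree_preimmersion (pullback.diagonal f), mul_one, pullback.diagonal_fst,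
    residueDegree_preimmersion] at h
  exact h.symm

omit [LocallyOfFiniteType f] in
/-- Intersecting an exterior product with the diagonal. -/
theorem map_diagonal_extProd [Smooth f] [IsProper f] [IsIntegral X] {δ : X → ℤ} (hX : Cyc.IsSetup X δ)
    (hδ : Cyc.DeltaCompat f δ (fun _ => 0)) {n : ℤ} (hn : δ (genericPoint X) = n) {δ₂ : ↥(pullback f f) → ℤ}
    (h₂ : Cyc.DeltaCompat (pullback.fst f f ≫ f) δ₂ (fun _ => 0)) (h₂' : Cyc.DeltaCompat (pullback.fst f f) δ₂ δ)
    (r s : ℤ) (α β : AlgebraicCycle X ℤ) (_hα : α ∈ Cyc.Zk X δ r) (_hβ : β ∈ Cyc.Zk X δ s)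
    (hprop : IntMult.IntersectProperly δ n ⇑α ⇑β) (γ : AlgebraicCycle (pullback f f) ℤ)
    (hγ : ⇑γ = IntMult.interProd δ₂ (n + n) (Set.indicator {pullback.diagonal f (genericPoint X)} 1)
      (IntMult.extProd f f δ δ δ₂ ⇑α ⇑β)) :
    IntMult.IntersectProperly δ₂ (n + n) (Set.indicator {pullback.diagonal f (genericPoint X)} 1)
        (IntMult.extProd f f δ δ δ₂ ⇑α ⇑β) ∧
      ⇑(AlgebraicCycle.map (pullback.fst f f) δ₂ δ γ) = IntMult.interProd δ n ⇑α ⇑β := by
  classical
  haveI := hX.1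
  haveI : CompactSpace X := QuasiCompact.compactSpace_of_compactSpace f
  have sP := (OverField.isSetup_of_smooth (pullback.fst f f ≫ f) h₂).2.2
  set j := pullback.diagonal f with hj
  set D := j (genericPoint X) with hD
  have hj1 : ∀ x, pullback.fst f f (j x) = x := fun x => by
    rw [← Scheme.Hom.comp_apply, hj, pullback.diagonal_fst]; rfl
  have hj2 : ∀ x, pullback.snd f f (j x) = x := fun x => by
    rw [← Scheme.Hom.comp_apply, hj, pullback.diagonal_snd]; rfl
  have hext := extProd_apply f f hδ hδ h₂ hX.2.2 hX.2.2 sP ⇑α ⇑β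
  have hspec := prodPt_spec f f hδ hδ h₂ hX.2.2 hX.2.2 sP
  have hdD : δ₂ D = n := (delta_diagonal f h₂' _).trans hn
  have hDle : ∀ ζ, D ⤳ ζ → ∃ x, j x = ζ := fun ζ h => h.mem_closed j.isClosedEmbedding.isClosed_range ⟨_, rfl⟩
  have hsupp : ∀ z, IntMult.extProd f f δ δ δ₂ ⇑α ⇑β z ≠ 0 →
      z = prodPt f f (pullback.fst f f z) (pullback.snd f f z) ∧ α (pullback.fst f f z) ≠ 0 ∧
        β (pullback.snd f f z) ≠ 0 := fun z hz => by
    rw [hext] at hz
    split_ifs at hz with h
    · exact ⟨h, left_ne_zero_of_mul hz, right_ne_zero_of_mul hz⟩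
    · exact absurd rfl hz
  refine ⟨fun D' z ζ hD' hz hDz hzz => ?_, funext fun x => ?_⟩
  · obtain rfl := Set.mem_singleton_iff.1 (Set.mem_of_indicator_ne_zero hD')
    obtain ⟨x, rfl⟩ := hDle ζ hDz
    obtain ⟨e, ha, hb⟩ := hsupp z hz
    rw [e] at hzz
    obtain ⟨s1, s2⟩ := (prodPt_specializes f f _ _).1 hzz
    rw [hj1] at s1
    rw [hj2] at s2
    have := hprop _ _ x ha hb s1 s2
    have hdz := (congrArg δ₂ e).trans (hspec _ _).1.2.2
    rw [hdD, hdz, delta_diagonal f h₂']
    omega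
  rw [map_apply_finset (pullback.fst f f) δ₂ δ γ x {j x} (fun z hz => by rw [Finset.mem_singleton.1 hz, hj1])
    (fun z hz hne => ?_), Finset.sum_singleton, AlgebraicCycle.mapCoeff,
    if_pos (show δ₂ (j x) = δ (pullback.fst f f (j x)) by rw [hj1, delta_diagonal f h₂']),
    residueDegree_fst_diagonal f, Nat.cast_one, mul_one, hγ]
  swap
  · rw [hγ, IntMult.interProd] at hne
    obtain ⟨p, hp⟩ : ∃ p : {p : ↥(pullback f f) × ↥(pullback f f) //
        p.1 ⤳ z ∧ p.2 ⤳ z ∧ δ₂ p.1 + δ₂ p.2 - (n + n) = δ₂ z},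
        Set.indicator {D} (1 : ↥(pullback f f) → ℤ) p.1.1 ≠ 0 := by
      by_contra hh
      push Not at hh
      exact hne (finsum_eq_zero_of_forall_eq_zero fun p => by rw [hh p, zero_mul, zero_mul])
    obtain ⟨w, rfl⟩ := hDle z (Set.mem_singleton_iff.1 (Set.mem_of_indicator_ne_zero hp) ▸ p.2.1)
    rw [hj1] at hz
    rw [hz, Finset.mem_singleton]
  set A := (Groth.Agent.CycLim28.finite_support α).toFinset
  set B := (Groth.Agent.CycLim28.finite_support β).toFinset
  have hA : ∀ y, α y ≠ 0 → y ∈ A := fun y hy => (Set.Finite.mem_toFinset _).2 hy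
  have hB : ∀ y, β y ≠ 0 → y ∈ B := fun y hy => (Set.Finite.mem_toFinset _).2 hy
  have hinj : Function.Injective fun p : X × X => prodPt f f p.1 p.2 := fun p q e => by
    refine Prod.ext ?_ ?_
    · rw [← (hspec p.1 p.2).1.1, show prodPt f f p.1 p.2 = _ from e, (hspec q.1 q.2).1.1]
    · rw [← (hspec p.1 p.2).1.2.1, show prodPt f f p.1 p.2 = _ from e, (hspec q.1 q.2).1.2.1]
  rw [InterSheaf.interProd_eq_sum δ₂ (n + n) _ _ {D} ((A ×ˢ B).image fun p => prodPt f f p.1 p.2)
      (fun z hz => Finset.mem_singleton.2 (Set.mem_singleton_iff.1 (Set.mem_of_indicator_ne_zero hz)))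
      (fun z hz => by
        obtain ⟨e, ha, hb⟩ := hsupp z hz
        exact Finset.mem_image.2 ⟨(_, _), Finset.mem_product.2 ⟨hA _ ha, hB _ hb⟩, e.symm⟩),
    Finset.sum_singleton, Finset.sum_image hinj.injOn, Finset.sum_product,
    InterSheaf.interProd_eq_sum δ n _ _ A B hA hB]
  refine Finset.sum_congr rfl fun a _ => Finset.sum_congr rfl fun b _ => ?_
  obtain ⟨⟨ha, hb, hd⟩, -⟩ := hspec a b
  rw [hext, ha, hb, if_pos rfl, Set.indicator_of_mem (Set.mem_singleton _), Pi.one_apply, one_mul]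
  congr 1
  have hiff : (D ⤳ j x ∧ prodPt f f a b ⤳ j x ∧ δ₂ D + δ₂ (prodPt f f a b) - (n + n) = δ₂ (j x)) ↔
      (a ⤳ x ∧ b ⤳ x ∧ δ a + δ b - n = δ x) := by
    rw [prodPt_specializes, hj1, hj2, hdD, hd, delta_diagonal f h₂']
    exact ⟨fun ⟨_, ⟨h1, h2⟩, h3⟩ => ⟨h1, h2, by omega⟩,
      fun ⟨h1, h2, h3⟩ => ⟨(genericPoint_specializes x).map j.continuous, ⟨h1, h2⟩, by omega⟩⟩
  by_cases hc : a ⤳ x ∧ b ⤳ x ∧ δ a + δ b - n = δ x
  swap
  · rw [Set.indicator_of_notMem (show (D, prodPt f f a b) ∉ {p : ↥(pullback f f) × ↥(pullback f f) |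
        p.1 ⤳ j x ∧ p.2 ⤳ j x ∧ δ₂ p.1 + δ₂ p.2 - (n + n) = δ₂ (j x)} from fun h => hc (hiff.1 h)),
      Set.indicator_of_notMem (show (a, b) ∉ {p : X × X | p.1 ⤳ x ∧ p.2 ⤳ x ∧ δ p.1 + δ p.2 - n = δ x} from hc)]
  rw [Set.indicator_of_mem (show (D, prodPt f f a b) ∈ {p : ↥(pullback f f) × ↥(pullback f f) |
      p.1 ⤳ j x ∧ p.2 ⤳ j x ∧ δ₂ p.1 + δ₂ p.2 - (n + n) = δ₂ (j x)} from hiff.2 hc),
    Set.indicator_of_mem (show (a, b) ∈ {p : X × X | p.1 ⤳ x ∧ p.2 ⤳ x ∧ δ p.1 + δ p.2 - n = δ x} from hc),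
    mult_diag f _ _ (mem_support_ptIdeal.2 hc.1) (mem_support_ptIdeal.2 hc.2.1)]
  haveI := isIntegral_prod f f a b
  obtain ⟨w, hw⟩ := (range_prodι f f a b (j x)).2 ⟨(hj1 x).symm ▸ hc.1, (hj2 x).symm ▸ hc.2.1⟩
  have e1 : IntMult.stalkIdeal (prodι f f a b).ker (j x) =
      IntMult.stalkIdeal (IntMult.ptIdeal (prodPt f f a b)) (j x) := by
    rw [← hw]; exact stalkIdeal_ker_eq _ _
  unfold IntMult.mult
  rw [chi_comm, ← stalkIdeal_ker_eq j x, ← e1]

end Groth.Agent.CycLib28.DiagProd
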