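import Mathlib
import Groth.Agent.CycLib28.MultPos
import Groth.Agent.SDiv28.RegularImm
import Groth.Agent.CAlgH.RegImmStalk

/-!
# The diagonal of a nonsingular variety is a regular immersion of codimension its dimension
-/

set_option autoImplicit false
set_option backward.isDefEq.respectTransparency false

universe u

open CategoryTheory CategoryTheory.Limits AlgebraicGeometry IsLocalRing RingTheory.Sequence

namespace Groth.Agent.CycLib28

theorem diagonal_regular_codim {K : Type u} [Field K] [IsAlgClosed K] {X : Scheme.{u}}
    (f : X ⟶ Spec (CommRingCat.of K)) [Smooth f] [IsSeparated f] [IsIntegral X] {n : ℕ}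
    (hn : topologicalKrullDim X = n) :
    RegImm.IsRegularImmersionOfCodim RegImm.Kind.regular n (pullback.diagonal f) := by
  haveI : IsLocallyNoetherian X := LocallyOfFiniteType.isLocallyNoetherian f
  haveI : GeometricallyIntegral f := AbVarLib.geometricallyIntegral_of_isAlgClosed f
  haveI : IsIntegral (pullback f f) := inferInstance
  set g := pullback.fst f f ≫ f with hg
  haveI : Smooth g := inferInstance
  haveI : IsLocallyNoetherian (pullback f f) := LocallyOfFiniteType.isLocallyNoetherian g
  set j := pullback.diagonal f with hj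
  obtain ⟨hi, h⟩ := SDiv28.RegImm.isRegularImmersion j (fun x => isRegularLocalRing_stalk g x)
    (fun z => isRegularLocalRing_stalk f z)
  refine ⟨hi, fun z => ?_⟩
  obtain ⟨U, hz, hc, rs, hrs, hker⟩ := h z
  refine ⟨U, hz, hc, rs, ?_, hrs, hker⟩
  let := (pullback f f).presheaf.algebra_section_stalk ⟨j z, hz⟩
  have := U.2.isLocalization_stalk ⟨j z, hz⟩
  have : Module.Flat Γ(pullback f f, U.1) ((pullback f f).presheaf.stalk (j z)) :=
    IsLocalization.flat _ (U.2.primeIdealOf ⟨j z, hz⟩).asIdeal.primeCompl
  have hw : IsWeaklyRegular ((pullback f f).presheaf.stalk (j z))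
      (rs.map ((pullback f f).presheaf.germ U.1 (j z) hz).hom) :=
    IsWeaklyRegular.of_flat (S := (pullback f f).presheaf.stalk (j z)) hrs.toIsWeaklyRegular
  have hk : RingHom.ker (j.stalkMap z).hom = Ideal.ofList (rs.map ((pullback f f).presheaf.germ U.1 (j z) hz).hom) := by
    rw [CAlgH.RegImmStalk.ker_stalkMap_eq j z U.2 hz, hker, Ideal.map_ofList]
  have hl : IsRegular ((pullback f f).presheaf.stalk (j z)) (rs.map ((pullback f f).presheaf.germ U.1 (j z) hz).hom) := by
    refine ⟨hw, ?_⟩
    rw [smul_eq_mul, Ideal.mul_top, ← hk]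
    exact (RingHom.ker_ne_top _).symm
  have h2 := Module.supportDim_add_length_eq_supportDim_of_isRegular _ hl
  rw [Module.supportDim_self_eq_ringKrullDim, smul_eq_mul, Ideal.mul_top, Module.supportDim_quotient_eq_ringKrullDim,
    ringKrullDim_eq_of_ringEquiv ((Ideal.quotEquivOfEq hk.symm).trans
      (RingHom.quotientKerEquivOfSurjective (j.stalkMap_surjective z))), List.length_map] at h2
  obtain ⟨d, a, ed, ea, hda⟩ := exists_nat_of_add_eq (hn.symm.trans (dim_stalk_add_closure f z))
  obtain ⟨d', b, ed', eb, hdb⟩ := exists_nat_of_add_eq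
    ((topologicalKrullDim_product f f hn hn).symm.trans (dim_stalk_add_closure g (j z)))
  have hdd : topologicalKrullDim ↥(closure ({z} : Set X)) = topologicalKrullDim ↥(closure ({j z} : Set ↥(pullback f f))) := by
    have := Groth.Agent.EGA43.DimFormula.topologicalKrullDim_eq_of_range (fun t : closure ({z} : Set X) => j t.1)
      (j.isEmbedding.comp Topology.IsEmbedding.subtypeVal) (closure ({j z} : Set ↥(pullback f f)))
      (by rw [Set.range_comp' j Subtype.val, Subtype.range_coe, ← Set.image_singleton, j.isClosedEmbedding.closure_image_eq])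
    exact this.symm
  rw [ed, ed'] at hdd
  have hdd' : d = d' := by exact_mod_cast hdd
  rw [ea, eb] at h2
  have h3 : a + rs.length = b := by exact_mod_cast h2
  omega

end Groth.Agent.CycLib28
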