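import Mathlib
import Groth.Agent.CycLib28.OverField
import Groth.Agent.CycLib28.PointSheaf
import Groth.Agent.CycLib28.SerreTor
import Groth.Agent.CycLib28.Sheaf
import Groth.Agent.CycLib28.InterPull
import Groth.Agent.EGA41Lib.CMParameters

/-!
# The product of the pullbacks of two prime cycles to a product
-/

set_option autoImplicit false
set_option backward.isDefEq.respectTransparency false
set_option linter.style.haveILetI false

universe u

open CategoryTheory CategoryTheory.Limits AlgebraicGeometry IsLocalRing TensorProduct Groth.Agent.CycLim28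
open Groth.Agent.ModStalk

namespace Groth.Agent.CycLib28.ExtPair

section algebra

variable {A A' B : Type u} [CommRing A] [IsRegularLocalRing A] [CommRing A'] [IsRegularLocalRing A'] [CommRing B]
  [IsRegularLocalRing B]

theorem exists_regular_list (φ : A →+* B) (hφ : φ.Flat) [IsLocalHom φ] {a : ℕ} (ha : ringKrullDim A = a) :
    ∃ l : List B, l.length = a ∧ Ideal.ofList l = (maximalIdeal A).map φ ∧
      RingTheory.Sequence.IsWeaklyRegular B l ∧ ∀ b ∈ l, b ∈ maximalIdeal B := by
  obtain ⟨rs, hlen, hspan⟩ : ∃ rs : List A, rs.length = (maximalIdeal A).spanFinrank ∧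
      Ideal.ofList rs = maximalIdeal A := by
    have hfg : (maximalIdeal A).FG := IsNoetherian.noetherian _
    have hfin := Submodule.FG.finite_generators hfg
    refine ⟨hfin.toFinset.toList, ?_, ?_⟩
    · rw [Finset.length_toList, ← Set.ncard_eq_toFinset_card _ hfin, Submodule.FG.generators_ncard hfg]
    · rw [Ideal.ofList]
      simp only [Finset.mem_toList, Set.Finite.mem_toFinset, Set.setOf_mem_eq]
      exact Submodule.span_generators _
  letI := φ.toAlgebra
  haveI : Module.Flat A B := hφ
  refine ⟨rs.map φ, ?_, ?_, (CAlgH3.isRegular_of_ofList_eq_maximalIdeal rs hspan hlen).1.of_flat (S := B),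
    fun b hb => ?_⟩
  · rw [List.length_map, hlen]
    exact_mod_cast (IsRegularLocalRing.spanFinrank_maximalIdeal (R := A)).trans ha
  · rw [← hspan, Ideal.map_ofList]
  · obtain ⟨x, hx, rfl⟩ := List.mem_map.1 hb
    exact map_nonunit φ x (hspan ▸ Ideal.subset_span hx)

/-- Two flat maps from regular local rings with complementary dimensions are Tor independent. -/
theorem chi_fibres (φ : A →+* B) (ψ : A' →+* B) (hφ : φ.Flat) (hψ : ψ.Flat) [IsLocalHom φ] [IsLocalHom ψ]
    {a a' : ℕ} (ha : ringKrullDim A = a) (ha' : ringKrullDim A' = a') (hB : ((a + a' : ℕ) : WithBot ℕ∞) ≤ ringKrullDim B)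
    (hfl : IsFiniteLength B (B ⧸ ((maximalIdeal A).map φ ⊔ (maximalIdeal A').map ψ))) :
    IntMult.chi B (B ⧸ (maximalIdeal A).map φ) (B ⧸ (maximalIdeal A').map ψ) =
      ((Module.length B (B ⧸ ((maximalIdeal A).map φ ⊔ (maximalIdeal A').map ψ))).toNat : ℤ) := by
  obtain ⟨l, hl, hlI, hlr, hlm⟩ := exists_regular_list φ hφ ha
  obtain ⟨l', hl', hlI', hlr', hlm'⟩ := exists_regular_list ψ hψ ha'
  rw [← hlI, ← hlI'] at hfl ⊢
  have hJ : Ideal.ofList l' ≤ maximalIdeal B := Ideal.span_le.2 hlm'
  haveI := CAlgH3.isLocalRing_quotient hJ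
  have e : (Ideal.ofList l' • (⊤ : Submodule B B)) = Ideal.ofList l' := by rw [smul_eq_mul, Ideal.mul_top]
  obtain ⟨hd, hc⟩ := (EGA41Lib.cm_regular_sequence l' B
    ((CAlgH3.isCohenMacaulayLocalRing_iff B).1 (CAlgH3.isCohenMacaulayLocalRing_of_regular B)) hlm').1 hlr'
  have hW : LocCoh.IsCohenMacaulayLocalRing (B ⧸ Ideal.ofList l') := by
    rw [CAlgH3.isCohenMacaulayLocalRing_quotient_iff,
      ← CAlgH3.isCohenMacaulayModule_congr (Submodule.quotEquivOfEq _ _ e)]
    exact hc
  rw [Module.supportDim_eq_of_equiv (Submodule.quotEquivOfEq _ _ e), Module.supportDim_quotient_eq_ringKrullDim,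
    Module.supportDim_self_eq_ringKrullDim] at hd
  rw [chi_comm, chi_eq_length_of_cm _ hW l hlr hlm (by rwa [sup_comm] at hfl), sup_comm]
  obtain ⟨d, hd'⟩ := Groth.Agent.CommAlg6.exists_nat_ringKrullDim_eq (B ⧸ Ideal.ofList l')
  rw [hd'] at hd ⊢
  rw [← hd, hl'] at hB
  have : a + a' ≤ d + a' := by exact_mod_cast hB
  rw [hl]
  exact_mod_cast (show a ≤ d by omega)

theorem nonempty_equiv_residue {R M : Type u} [CommRing R] [IsLocalRing R] [AddCommGroup M] [Module R M]
    (h : Module.length R M = 1) : Nonempty (M ≃ₗ[R] R ⧸ maximalIdeal R) := by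
  haveI := Module.length_eq_one_iff.1 h
  obtain ⟨I, hI, ⟨e⟩⟩ := isSimpleModule_iff_quot_maximal.1 ‹IsSimpleModule R M›
  exact ⟨e.trans (Submodule.quotEquivOfEq _ _ (IsLocalRing.eq_maximalIdeal hI))⟩

end algebra

variable {X P : Scheme.{u}}

theorem nonempty_stalk_pullback_pointSheaf (p : P ⟶ X) {δ : X → ℤ} (hδ : Cyc.IsDimFun X δ) (z : P) {ξ : X}
    (hz : p z = ξ) :
    Nonempty ((((Scheme.Modules.pullback p).obj (InterSheaf.pointSheaf ξ)).presheaf.stalk z) ≃ₗ[P.presheaf.stalk z]
      (P.presheaf.stalk z ⧸ (maximalIdeal (X.presheaf.stalk (p z))).map (p.stalkMap z).hom)) := by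
  subst hz
  have h := congrFun (InterSheaf.sheafFun_pointSheaf hδ (ξ := p z) rfl) (p z)
  rw [Cyc.sheafFun, if_pos rfl, Set.indicator_of_mem (Set.mem_singleton _), Pi.one_apply, Nat.cast_eq_one,
    ENat.toNat_eq_iff one_ne_zero] at h
  obtain ⟨e⟩ := nonempty_equiv_residue (h.trans Nat.cast_one)
  algebraize [(p.stalkMap z).hom]
  have i : ((DerSch.stalkFunctor P z).obj ((Scheme.Modules.pullback p).obj (InterSheaf.pointSheaf (p z)))) ≅
      (ModuleCat.extendScalars (p.stalkMap z).hom).obj ((DerSch.stalkFunctor X (p z)).obj (InterSheaf.pointSheaf (p z))) :=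
    (pullbackStalkIso p z).app _
  have j : (((Scheme.Modules.pullback p).obj (InterSheaf.pointSheaf (p z))).presheaf.stalk z) ≃ₗ[P.presheaf.stalk z]
      TensorProduct (X.presheaf.stalk (p z)) (P.presheaf.stalk z) ((InterSheaf.pointSheaf (p z)).presheaf.stalk (p z)) :=
    i.toLinearEquiv
  exact ⟨j.trans ((AlgebraTensorModule.congr (LinearEquiv.refl (P.presheaf.stalk z) _) e).trans
    (Algebra.TensorProduct.quotIdealMapEquivTensorQuot (P.presheaf.stalk z)
      (maximalIdeal (X.presheaf.stalk (p z)))).symm.toLinearEquiv)⟩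

variable {K : Type u} [Field K] [IsAlgClosed K] {X Y : Scheme.{u}}
  (f : X ⟶ Spec (CommRingCat.of K)) (g : Y ⟶ Spec (CommRingCat.of K))
  [Smooth f] [IsSeparated f] [IsIntegral X] [Smooth g] [IsSeparated g] [IsIntegral Y]
  {δX : X → ℤ} {δY : Y → ℤ} {δ : ↥(pullback f g) → ℤ}
  (hX : Cyc.DeltaCompat f δX (fun _ => 0)) (hY : Cyc.DeltaCompat g δY (fun _ => 0))
  (hXY : Cyc.DeltaCompat (pullback.fst f g ≫ f) δ (fun _ => 0))

include hX hY hXY in
/-- The Euler characteristic at a point of maximal dimension over a pair of points. -/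
theorem chi_at {z : ↥(pullback f g)} (hz : δ z = δX (pullback.fst f g z) + δY (pullback.snd f g z)) :
    IntMult.chi ((pullback f g).presheaf.stalk z)
      (((Scheme.Modules.pullback (pullback.fst f g)).obj (InterSheaf.pointSheaf (pullback.fst f g z))).presheaf.stalk z)
      (((Scheme.Modules.pullback (pullback.snd f g)).obj (InterSheaf.pointSheaf (pullback.snd f g z))).presheaf.stalk z) =
      ((Module.length ((pullback f g).presheaf.stalk z)
        (↑((pullback f g).presheaf.stalk z) ⧸
          ((maximalIdeal (X.presheaf.stalk (pullback.fst f g z))).map ((pullback.fst f g).stalkMap z).hom ⊔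
            (maximalIdeal (Y.presheaf.stalk (pullback.snd f g z))).map ((pullback.snd f g).stalkMap z).hom))).toNat : ℤ) := by
  haveI := OverField.smooth_product f g
  haveI := OverField.isIntegral_product f g
  have sX := OverField.isSetup_of_smooth f hX
  have sY := OverField.isSetup_of_smooth g hY
  have sP := OverField.isSetup_of_smooth _ hXY
  haveI := sX.1
  haveI := sY.1
  haveI := sP.1
  haveI := isRegularLocalRing_stalk f (pullback.fst f g z)
  haveI := isRegularLocalRing_stalk g (pullback.snd f g z)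
  haveI := isRegularLocalRing_stalk (pullback.fst f g ≫ f) z
  obtain ⟨e₁⟩ := nonempty_stalk_pullback_pointSheaf (pullback.fst f g) sX.2.2 z rfl
  obtain ⟨e₂⟩ := nonempty_stalk_pullback_pointSheaf (pullback.snd f g) sY.2.2 z rfl
  rw [chi_congr_both e₁ e₂]
  refine chi_fibres _ _ (Flat.stalkMap _ z) (Flat.stalkMap _ z) (dim_stalk sX.2.2 _) (dim_stalk sY.2.2 _) ?_ ?_
  · rw [dim_stalk sP.2.2]
    have h1 := OverField.delta_genericPoint_product f g hX hY hXY
    have h2 := le_of_specializes sX.2.2 (genericPoint_specializes (pullback.fst f g z))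
    have h3 := le_of_specializes sY.2.2 (genericPoint_specializes (pullback.snd f g z))
    exact_mod_cast (show (δX (genericPoint X) - δX (pullback.fst f g z)).toNat +
      (δY (genericPoint Y) - δY (pullback.snd f g z)).toNat ≤ (δ (genericPoint ↥(pullback f g)) - δ z).toNat by omega)
  · rw [← Module.length_ne_top_iff]
    refine (Groth.Agent.CycAlgLib.length_lt_top_of_support_subset fun P hP => ?_).ne
    rw [Module.support_eq_zeroLocus, Ideal.annihilator_quotient, PrimeSpectrum.mem_zeroLocus] at hP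
    have h1 := (map_maximalIdeal_le_iff (pullback.fst f g) z P).1 (le_sup_left.trans hP)
    have h2 := (map_maximalIdeal_le_iff (pullback.snd f g) z P).1 (le_sup_right.trans hP)
    have h3 := OverField.delta_product_le f g hX hY hXY ((pullback f g).fromSpecStalk z P)
    rw [h1, h2, ← hz] at h3
    have h4 := eq_of_specializes_of_le sP.2.2 (fromSpecStalk_specializes z P) h3
    exact fromSpecStalk_injective z (h4.trans Scheme.fromSpecStalk_closedPoint.symm)

end Groth.Agent.CycLib28.ExtPair
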