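import Groth.Agent.CycLib28.DiagProd
import Groth.Agent.CycLib28.FlatRat
import Groth.Agent.CycLib28.C1Flat
import Groth.Agent.CycLib28.P1Inter
import Groth.Agent.CycLib28.PB.Indep
import Groth.Agent.CycLib28.Sp.Fibre
import Groth.Agent.RefHullLib.Extend

/-!
# Exterior products respect rational equivalence to zero
-/

set_option autoImplicit false
set_option backward.isDefEq.respectTransparency false
set_option linter.style.haveILetI false
set_option linter.unusedSectionVars false

universe u

open CategoryTheory CategoryTheory.Limits AlgebraicGeometry IsLocalRing Groth.Agent.CycLim28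
open Groth.Agent.CycLib28.TransInt Groth.Agent.CycLib28.DiagProd

namespace Groth.Agent.CycLib28.ExtProdRat

variable {K : Type u} [Field K] [IsAlgClosed K] {X Y : Scheme.{u}} (f : X ⟶ Spec (CommRingCat.of K))
  (g : Y ⟶ Spec (CommRingCat.of K)) [LocallyOfFiniteType f] [LocallyOfFiniteType g]
  {δX : X → ℤ} {δY : Y → ℤ} {δ : ↥(pullback f g) → ℤ}
  (hX : Cyc.DeltaCompat f δX (fun _ => 0)) (hY : Cyc.DeltaCompat g δY (fun _ => 0))
  (hXY : Cyc.DeltaCompat (pullback.fst f g ≫ f) δ (fun _ => 0))
  (sX : Cyc.IsDimFun X δX) (sY : Cyc.IsDimFun Y δY) (sP : Cyc.IsDimFun (pullback f g) δ)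

include hX hY hXY sX sY sP in
/-- A cycle rationally equivalent to zero times a point. -/
theorem ratEquivZero_prod_point [IsLocallyNoetherian X] (α : AlgebraicCycle X ℤ) {r : ℤ} (h : Cyc.RatEquivZero δX r α)
    (b : Y) :
    ∃ γ : AlgebraicCycle (pullback f g) ℤ, Cyc.RatEquivZero δ (r + δY b) γ ∧
      ⇑γ = IntMult.extProd f g δX δY δ ⇑α (Set.indicator {b} 1) := by
  classical
  let ιb := (IntMult.ptIdeal b).subschemeι
  let i := pullback.map f (ιb ≫ g) f g (𝟙 X) ιb (𝟙 _) (by simp) (by simp)
  haveI : IsClosedImmersion i := MorphismProperty.pullback_map (P := @IsClosedImmersion) inferInstance inferInstance rfl rfl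
  let q := pullback.fst f (ιb ≫ g)
  haveI : IsLocallyNoetherian (IntMult.ptIdeal b).subscheme := LocallyOfFiniteType.isLocallyNoetherian (ιb ≫ g)
  haveI : IsLocallyNoetherian (pullback f (ιb ≫ g)) := LocallyOfFiniteType.isLocallyNoetherian (pullback.fst f (ιb ≫ g))
  haveI : IsLocallyNoetherian (pullback f g) := LocallyOfFiniteType.isLocallyNoetherian (pullback.fst f g)
  haveI := isIntegral_ptIdeal b
  haveI : Flat (ιb ≫ g) := by
    haveI : GeometricallyIntegral (ιb ≫ g) := AbVarLib.geometricallyIntegral_of_isAlgClosed _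
    infer_instance
  have hrange : ∀ z, z ∈ Set.range i ↔ b ⤳ pullback.snd f g z := fun z => by
    rw [Scheme.Pullback.range_map, Set.mem_inter_iff, Set.mem_preimage, Set.mem_preimage,
      (IntMult.ptIdeal b).range_subschemeι]
    simp only [Scheme.Hom.id_base, TopCat.coe_id, Set.range_id, Set.mem_univ, true_and]
    exact mem_support_ptIdeal
  have hiq : ∀ w, pullback.fst f g (i w) = q w := fun w =>
    congrArg (fun m : pullback f (ιb ≫ g) ⟶ X => m w)
      ((pullback.lift_fst _ _ _).trans (Category.comp_id _) : i ≫ pullback.fst f g = q)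
  have hi2 : i ≫ pullback.snd f g = pullback.snd f (ιb ≫ g) ≫ ιb := pullback.lift_snd _ _ _
  have hspec := prodPt_spec f g hX hY hXY sX sY sP
  have hgen : ∀ w, GenInFibre q w → i w = prodPt f g (q w) b ∧ lenFibre q w = 1 := by
    intro w hw
    obtain ⟨⟨p1, p2, p3⟩, -⟩ := hspec (q w) b
    have hsp : prodPt f g (q w) b ⤳ i w :=
      (prodPt_specializes f g _ _).2 ⟨specializes_of_eq (hiq w).symm, (hrange _).1 ⟨w, rfl⟩⟩
    obtain ⟨w', hw'⟩ : prodPt f g (q w) b ∈ Set.range i :=
      (hrange _).2 (by rw [p2])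
    have hww : w' = w := hw w' (by rw [← hiq w', hw', p1])
      (i.isEmbedding.isInducing.specializes_iff.mp (hw' ▸ hsp))
    subst hww
    refine ⟨hw', ?_⟩
    have h1 := length_prodPt f g hX hY hXY sX sY sP (q w') b (i w') (hiq w') (by rw [hw', p2]) (by rw [hw', p3])
    have hmax : (maximalIdeal (X.presheaf.stalk (pullback.fst f g (i w')))).map ((pullback.fst f g).stalkMap (i w')).hom ⊔
        (maximalIdeal (Y.presheaf.stalk (pullback.snd f g (i w')))).map ((pullback.snd f g).stalkMap (i w')).hom =
          maximalIdeal _ := by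
      refine IsLocalRing.eq_maximalIdeal ?_
      rw [Ideal.isMaximal_def, ← isSimpleModule_iff_isCoatom]
      exact Module.length_eq_one_iff.1 h1
    have hsnd : pullback.snd f (ιb ≫ g) w' = genericPoint _ := by
      refine ιb.isEmbedding.injective (Eq.trans ?_ (Eq.trans (show pullback.snd f g (i w') = b by rw [hw', p2]) ?_))
      · exact congrArg (fun m : pullback f (ιb ≫ g) ⟶ Y => m w') hi2.symm
      · obtain ⟨w0, hw0⟩ : b ∈ Set.range ιb := by
          rw [(IntMult.ptIdeal b).range_subschemeι]; exact mem_support_ptIdeal.2 specializes_rfl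
        refine ((genericPoint_specializes w0).map ιb.continuous |>.trans (specializes_of_eq hw0)).antisymm ?_ |>.eq.symm
        exact mem_support_ptIdeal.1 ((IntMult.ptIdeal b).range_subschemeι.le ⟨genericPoint _, rfl⟩)
    have hker : ((maximalIdeal (Y.presheaf.stalk (pullback.snd f g (i w')))).map
        ((pullback.snd f g).stalkMap (i w')).hom).map (i.stalkMap w').hom = ⊥ := by
      have key : ∀ (m : pullback f (ιb ≫ g) ⟶ Y) (_ : m = pullback.snd f (ιb ≫ g) ≫ ιb),
          (maximalIdeal (Y.presheaf.stalk (m w'))).map (m.stalkMap w').hom = ⊥ := by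
        rintro m rfl
        rw [Scheme.Hom.stalkMap_comp, CommRingCat.hom_comp, ← Ideal.map_map]
        have hf : IsField ((IntMult.ptIdeal b).subscheme.presheaf.stalk (pullback.snd f (ιb ≫ g) w')) := by
          rw [hsnd]
          exact RefHullLib.isField_stalk_genericPoint
        refine (congrArg (Ideal.map _) (le_bot_iff.1 ?_)).trans Ideal.map_bot
        refine (Ideal.map_le_iff_le_comap).2 ?_
        rw [← IsLocalRing.isField_iff_maximalIdeal_eq.1 hf]
        exact (IsLocalRing.maximalIdeal_comap _).ge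
      have := key (i ≫ pullback.snd f g) hi2
      rw [Scheme.Hom.stalkMap_comp, CommRingCat.hom_comp, ← Ideal.map_map] at this
      exact this
    have hlen : (maximalIdeal (X.presheaf.stalk (q w'))).map (q.stalkMap w').hom = maximalIdeal _ := by
      have key : ∀ (m : pullback f (ιb ≫ g) ⟶ X) (_ : m = i ≫ pullback.fst f g),
          (maximalIdeal (X.presheaf.stalk (m w'))).map (m.stalkMap w').hom = maximalIdeal _ := by
        rintro m rfl
        rw [Scheme.Hom.stalkMap_comp, CommRingCat.hom_comp, ← Ideal.map_map]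
        have := congrArg (Ideal.map (i.stalkMap w').hom) hmax
        rw [Ideal.map_sup] at this
        erw [hker, sup_bot_eq] at this
        refine this.trans ?_
        rw [← IsLocalRing.maximalIdeal_comap (i.stalkMap w').hom,
          Ideal.map_comap_of_surjective _ (i.stalkMap_surjective w')]
      exact key q ((pullback.lift_fst _ _ _).trans (Category.comp_id _)).symm
    show Module.length _ (_ ⧸ Ideal.map _ _) = 1
    rw [hlen]
    exact length_residue
  let δb : ↥(pullback f (ιb ≫ g)) → ℤ := fun w => δ (i w)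
  have hc : ∀ w, GenInFibre q w → δb w = δX (q w) + δY b := fun w hw => by
    show δ (i w) = _
    rw [(hgen w hw).1, (hspec (q w) b).1.2.2]
  obtain ⟨α', hα'⟩ := exists_pullback_cycle q δb δX (δY b) hc α
  have hdb : Cyc.IsDimFun _ δb := isDimFun_comp_closedImmersion i sP
  refine ⟨AlgebraicCycle.map i δb δ α', map_ratEquivZero hdb sP i (deltaCompat_preimmersion i δ) _ _
    (pullFun_ratEquivZero q hdb sX (δY b) hc r α h α' hα'), funext fun z => ?_⟩
  rw [extProd_apply f g hX hY hXY sX sY sP]
  by_cases hz : z ∈ Set.range i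
  · obtain ⟨w, rfl⟩ := hz
    rw [show δb = fun w => δ (i w) from rfl, map_closedImmersion_apply, hα', pullFun_eq q δb δX (δY b) hc]
    by_cases hw : GenInFibre q w
    · obtain ⟨e1, e2⟩ := hgen w hw
      have e3 : pullback.snd f g (i w) = b := by rw [e1]; exact (hspec (q w) b).1.2.1
      rw [e2, if_pos (by rw [hiq, e3]; exact e1), hiq, e3, Set.indicator_of_mem (Set.mem_singleton b),
        ENat.toNat_one]
      simp
    · rw [lenFibre_eq_top q hw, ENat.toNat_top, Nat.cast_zero, mul_zero]
      split_ifs with he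
      · by_cases hb : pullback.snd f g (i w) = b
        · refine absurd ?_ hw
          intro w' hw' hsp
          rw [hb, hiq] at he
          refine i.isEmbedding.injective (((hsp.map i.continuous)).antisymm ?_).eq
          rw [he]
          exact (prodPt_specializes f g _ _).2 ⟨specializes_of_eq (by rw [hiq, hw']), (hrange _).1 ⟨w', rfl⟩⟩
        · rw [Set.indicator_of_notMem (show pullback.snd f g (i w) ∉ ({b} : Set Y) from hb), mul_zero]
      · rfl
  · rw [map_closedImmersion_eq_zero i δb δ α' z hz]
    have hb : pullback.snd f g z ∉ ({b} : Set Y) := fun e =>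
      hz ((hrange z).2 (specializes_of_eq (Set.mem_singleton_iff.1 e).symm))
    rw [Set.indicator_of_notMem hb, mul_zero, ite_self]

include hX hY hXY sX sY sP in
theorem ratEquivZero_extProd_left [IsLocallyNoetherian X] (α : AlgebraicCycle X ℤ) {r s : ℤ}
    (h : Cyc.RatEquivZero δX r α) (β : AlgebraicCycle Y ℤ) [CompactSpace Y] (hβ : β ∈ Cyc.Zk Y δY s)
    (γ : AlgebraicCycle (pullback f g) ℤ) (hγ : ⇑γ = IntMult.extProd f g δX δY δ ⇑α ⇑β) :
    Cyc.RatEquivZero δ (r + s) γ := by
  classical
  haveI : IsLocallyNoetherian (pullback f g) := by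
    haveI : IsLocallyNoetherian Y := LocallyOfFiniteType.isLocallyNoetherian g
    exact LocallyOfFiniteType.isLocallyNoetherian (pullback.fst f g)
  have hfin : (Function.support ⇑β).Finite := by
    simpa using (Function.locallyFinsupp.locallyFiniteSupport β).finite_inter_support_of_isCompact isCompact_univ
  choose c hc hc' using fun b => ratEquivZero_prod_point f g hX hY hXY sX sY sP α h b
  have e : γ = ∑ b ∈ hfin.toFinset, β b • c b := by
    refine Function.locallyFinsuppWithin.ext fun z => ?_
    have hz : (∑ b ∈ hfin.toFinset, β b • c b) z = ∑ b ∈ hfin.toFinset, β b * c b z := by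
      induction hfin.toFinset using Finset.induction_on with
      | empty => rfl
      | insert a t ha ih => rw [Finset.sum_insert ha, Finset.sum_insert ha, ← ih]; rfl
    rw [hz, hγ]
    simp only [hc', extProd_apply f g hX hY hXY sX sY sP]
    split_ifs
    · have hs : ∑ b ∈ hfin.toFinset, β b * Set.indicator ({b} : Set Y) (1 : Y → ℤ) (pullback.snd f g z) =
          β (pullback.snd f g z) := InterSheaf.sum_indicator_mul (fun y hy => hfin.mem_toFinset.2 hy) _
      rw [← hs, Finset.mul_sum]
      exact Finset.sum_congr rfl fun b _ => by ring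
    · simp
  rw [e]
  refine PB.ratEquivZero_sum _ _ fun b hb => ?_
  have hbs : δY b = s := by_contra fun hh => hfin.mem_toFinset.1 hb (hβ b hh)
  rw [← hbs]
  exact P1Inter.ratEquivZero_zsmul sP (hc b) _

include hX hY hXY in
theorem symm_extProd (sX : Cyc.IsDimFun X δX) (sY : Cyc.IsDimFun Y δY) (sP : Cyc.IsDimFun (pullback f g) δ)
    [IsLocallyNoetherian Y] [CompactSpace X] (α : AlgebraicCycle X ℤ) (β : AlgebraicCycle Y ℤ) {r s : ℤ}
    (h : Cyc.RatEquivZero δY s β) (hα : α ∈ Cyc.Zk X δX r) (γ : AlgebraicCycle (pullback f g) ℤ)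
    (hγ : ⇑γ = IntMult.extProd f g δX δY δ ⇑α ⇑β) : Cyc.RatEquivZero δ (r + s) γ := by
  classical
  let e := (pullbackSymmetry g f).hom
  haveI : IsLocallyNoetherian X := LocallyOfFiniteType.isLocallyNoetherian f
  haveI : IsLocallyNoetherian (pullback g f) := LocallyOfFiniteType.isLocallyNoetherian (pullback.fst g f)
  haveI : IsLocallyNoetherian (pullback f g) := LocallyOfFiniteType.isLocallyNoetherian (pullback.fst f g)
  have he1 : e ≫ pullback.fst f g = pullback.snd g f := pullbackSymmetry_hom_comp_fst g f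
  have he2 : e ≫ pullback.snd f g = pullback.fst g f := pullbackSymmetry_hom_comp_snd g f
  have hXY' : Cyc.DeltaCompat (pullback.fst g f ≫ g) (fun w => δ (e w)) (fun _ => 0) :=
    deltaCompat_square e (𝟙 (Spec (CommRingCat.of K))) (pullback.fst g f ≫ g) (pullback.fst f g ≫ f)
      (by rw [Category.comp_id, ← Category.assoc, he1, pullback.condition]) hXY
  have hd' : Cyc.IsDimFun (pullback g f) (fun w => δ (e w)) := isDimFun_comp_closedImmersion e sP
  obtain ⟨γ', hγ'⟩ : ∃ γ' : AlgebraicCycle (pullback g f) ℤ,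
      ⇑γ' = IntMult.extProd g f δY δX (fun w => δ (e w)) ⇑β ⇑α := by
    obtain ⟨c, hc⟩ := exists_pullback_cycle e (fun w => δ (e w)) δ 0 (fun w _ => by simp) γ
    refine ⟨c, funext fun w => ?_⟩
    have h1 : pullback.fst f g (e w) = pullback.snd g f w := congrArg (fun m : pullback g f ⟶ X => m w) he1
    have h2 : pullback.snd f g (e w) = pullback.fst g f w := congrArg (fun m : pullback g f ⟶ Y => m w) he2
    rw [hc, pullFun_eq e (fun w => δ (e w)) δ 0 (fun w _ => by simp), Sp.lenFibre_openImmersion e, hγ,
      extProd_apply f g hX hY hXY sX sY sP, extProd_apply g f hY hX hXY' sY sX hd', ENat.toNat_one,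
      Nat.cast_one, mul_one]
    have k1 : e w = prodPt f g (pullback.fst f g (e w)) (pullback.snd f g (e w)) ↔
        δ (e w) = δX (pullback.fst f g (e w)) + δY (pullback.snd f g (e w)) :=
      ⟨fun h => (congrArg δ h).trans (prodPt_spec f g hX hY hXY sX sY sP _ _).1.2.2,
        fun h => (prodPt_spec f g hX hY hXY sX sY sP _ _).2 _ rfl rfl h⟩
    have k2 : w = prodPt g f (pullback.fst g f w) (pullback.snd g f w) ↔
        δ (e w) = δY (pullback.fst g f w) + δX (pullback.snd g f w) :=
      ⟨fun h => (congrArg (fun w => δ (e w)) h).trans (prodPt_spec g f hY hX hXY' sY sX hd' _ _).1.2.2,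
        fun h => (prodPt_spec g f hY hX hXY' sY sX hd' _ _).2 _ rfl rfl h⟩
    rw [h1, h2] at k1 ⊢
    refine if_congr (k1.trans (Iff.trans (by rw [add_comm]) k2.symm)) (mul_comm _ _) rfl
  have key := map_ratEquivZero hd' sP e (deltaCompat_preimmersion e δ) _ _
    (ratEquivZero_extProd_left g f hY hX hXY' sY sX hd' β h α hα γ' hγ')
  have e' : AlgebraicCycle.map e (fun w => δ (e w)) δ γ' = γ := by
    refine Function.locallyFinsuppWithin.ext fun z => ?_
    obtain ⟨w, rfl⟩ := e.homeomorph.surjective z
    show AlgebraicCycle.map e (fun w => δ (e w)) δ γ' (e w) = γ (e w)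
    rw [map_closedImmersion_apply, hγ', hγ, extProd_apply g f hY hX hXY' sY sX hd',
      extProd_apply f g hX hY hXY sX sY sP]
    have h1 : pullback.fst f g (e w) = pullback.snd g f w := congrArg (fun m : pullback g f ⟶ X => m w) he1
    have h2 : pullback.snd f g (e w) = pullback.fst g f w := congrArg (fun m : pullback g f ⟶ Y => m w) he2
    have k1 : e w = prodPt f g (pullback.fst f g (e w)) (pullback.snd f g (e w)) ↔
        δ (e w) = δX (pullback.fst f g (e w)) + δY (pullback.snd f g (e w)) :=
      ⟨fun h => (congrArg δ h).trans (prodPt_spec f g hX hY hXY sX sY sP _ _).1.2.2,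
        fun h => (prodPt_spec f g hX hY hXY sX sY sP _ _).2 _ rfl rfl h⟩
    have k2 : w = prodPt g f (pullback.fst g f w) (pullback.snd g f w) ↔
        δ (e w) = δY (pullback.fst g f w) + δX (pullback.snd g f w) :=
      ⟨fun h => (congrArg (fun w => δ (e w)) h).trans (prodPt_spec g f hY hX hXY' sY sX hd' _ _).1.2.2,
        fun h => (prodPt_spec g f hY hX hXY' sY sX hd' _ _).2 _ rfl rfl h⟩
    rw [h1, h2] at k1 ⊢
    refine if_congr (k2.trans (Iff.trans (by rw [add_comm]) k1.symm)) (mul_comm _ _) rfl
  rw [e', add_comm] at key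
  exact key

end Groth.Agent.CycLib28.ExtProdRat
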