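import Mathlib
import Groth.Agent.FlatMor12.EquidimBC
import Groth.Agent.EGA43.FibDepth.Points

/-!
# Transcendence degree at generic points of fibres after base change
-/

universe u

set_option backward.isDefEq.respectTransparency false

open CategoryTheory CategoryTheory.Limits AlgebraicGeometry

namespace Groth.Agent.CycLib28

open Groth.Agent DimLib

theorem trdegHom_fibreMax_bc {X Y Y' : Scheme.{u}} (f : X ⟶ Y) [LocallyOfFiniteType f] (g : Y' ⟶ Y)
    (z : ↥(pullback f g)) (hz : FlatMor12.IsFibreMax (pullback.snd f g) z) (x : X)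
    (hx : pullback.fst f g z = x) :
    trdegHom ((pullback.snd f g).residueFieldMap z).hom = trdegHom (f.residueFieldMap x).hom := by
  subst hx
  let f' := pullback.snd f g
  let v := f' z
  let y := g v
  let b : Spec (Y'.residueField v) ⟶ Spec (Y.residueField y) := Spec.map (g.residueFieldMap v)
  have sq : IsPullback (f'.fiberι v ≫ pullback.fst f g) (f'.fiberToSpecResidueField v) f
      (Y'.fromSpecResidueField v ≫ g) :=
    (IsPullback.of_hasPullback f' (Y'.fromSpecResidueField v)).paste_horiz
      (IsPullback.of_hasPullback f g)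
  have hb : b ≫ Y.fromSpecResidueField y = Y'.fromSpecResidueField v ≫ g :=
    g.SpecMap_residueFieldMap_fromSpecResidueField v
  have hl : (f'.fiberι v ≫ pullback.fst f g) ≫ f = (f'.fiberToSpecResidueField v ≫ b) ≫ Y.fromSpecResidueField y := by
    rw [sq.w, Category.assoc, hb]
  let l : f'.fiber v ⟶ f.fiber y := pullback.lift _ _ hl
  have sq' : IsPullback l (f'.fiberToSpecResidueField v) (f.fiberToSpecResidueField y) b := by
    refine IsPullback.of_right ?_ (pullback.lift_snd _ _ _) (IsPullback.of_hasPullback f (Y.fromSpecResidueField y))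
    rw [hb, pullback.lift_fst]
    exact sq
  have : LocallyOfFiniteType (f.fiberToSpecResidueField y) :=
    inferInstanceAs (LocallyOfFiniteType (pullback.snd f (Y.fromSpecResidueField y)))
  obtain ⟨h1, -⟩ := FlatMor12.ptDim_maximal_of_isPullback (k := Y.residueField y) (K := Y'.residueField v)
    (f.fiberToSpecResidueField y) (g.residueFieldMap v).hom (f'.fiberToSpecResidueField v) l sq'
    (FlatMor12.fibreMax_asFiber f' hz)
  rw [EGA43.FibDepth.ptDim_fiber, EGA43.FibDepth.ptDim_fiber] at h1
  have e1 : f.fiberι y (l (f'.asFiber z)) = pullback.fst f g z :=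
    (congrArg (fun m : f'.fiber v ⟶ X ↦ m (f'.asFiber z)) (pullback.lift_fst _ _ hl)).trans
      (congrArg (pullback.fst f g) (f'.fiberι_asFiber z))
  have e2 : f'.fiberι v (f'.asFiber z) = z := f'.fiberι_asFiber z
  rwa [e1, e2] at h1

/-- A maximal point of a fibre product lies over a point generic in its fibre over the base. -/
theorem fibreMax_snd {X Y Y' : Scheme.{u}} (f : X ⟶ Y) (g : Y' ⟶ Y) (z : ↥(pullback f g))
    (hz : ∀ w, w ⤳ z → z = w) : FlatMor12.IsFibreMax g (pullback.snd f g z) := by
  let m := pullback.fst f g ≫ f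
  let s := m z
  let pS := Y.fromSpecResidueField s
  let fA : m.fiber s ⟶ f.fiber s := pullback.lift (m.fiberι s ≫ pullback.fst f g) (m.fiberToSpecResidueField s)
    (by rw [Category.assoc]; exact pullback.condition)
  let fG : m.fiber s ⟶ g.fiber s := pullback.lift (m.fiberι s ≫ pullback.snd f g) (m.fiberToSpecResidueField s)
    (by rw [Category.assoc, ← pullback.condition]; exact pullback.condition (f := m) (g := pS))
  have sqG : IsPullback (m.fiberι s) fG (pullback.snd f g) (g.fiberι s) := by
    refine IsPullback.of_bot (v₂₁ := g.fiberToSpecResidueField s) ?_ (pullback.lift_fst _ _ _).symm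
      (IsPullback.of_hasPullback g pS)
    rw [show fG ≫ g.fiberToSpecResidueField s = m.fiberToSpecResidueField s from pullback.lift_snd _ _ _,
      ← pullback.condition]
    exact IsPullback.of_hasPullback m pS
  have h1 := sqG.paste_horiz (IsPullback.of_hasPullback f g)
  have sq : IsPullback fA fG (f.fiberToSpecResidueField s) (g.fiberToSpecResidueField s) := by
    refine IsPullback.of_right (h₁₂ := f.fiberι s) (h₂₂ := pS) ?_ ?_ (IsPullback.of_hasPullback f pS)
    · rw [show fA ≫ f.fiberι s = m.fiberι s ≫ pullback.fst f g from pullback.lift_fst _ _ _,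
        show g.fiberToSpecResidueField s ≫ pS = g.fiberι s ≫ g from pullback.condition.symm]
      exact h1
    · exact (show fA ≫ f.fiberToSpecResidueField s = m.fiberToSpecResidueField s from pullback.lift_snd _ _ _).trans
        (show fG ≫ g.fiberToSpecResidueField s = m.fiberToSpecResidueField s from pullback.lift_snd _ _ _).symm
  have hm := FlatMor12.fibreMax_asFiber m fun w hw _ ↦ hz w hw
  have hmaxE : ∀ w, w ⤳ sq.isoPullback.hom (m.asFiber z) → sq.isoPullback.hom (m.asFiber z) = w := by
    intro w hw
    obtain ⟨b, rfl⟩ := sq.isoPullback.hom.homeomorph.surjective w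
    exact congrArg sq.isoPullback.hom (hm b (sq.isoPullback.hom.homeomorph.isInducing.specializes_iff.1 hw))
  have hG := DimLib.maximal_apply_snd (k := Y.residueField s) (f.fiberToSpecResidueField s)
    (g.fiberToSpecResidueField s) hmaxE
  have e1 : pullback.snd (f.fiberToSpecResidueField s) (g.fiberToSpecResidueField s)
      (sq.isoPullback.hom (m.asFiber z)) = fG (m.asFiber z) :=
    congrArg (fun h : m.fiber s ⟶ g.fiber s ↦ h (m.asFiber z)) sq.isoPullback_hom_snd
  rw [e1] at hG
  have e2 : g.fiberι s (fG (m.asFiber z)) = pullback.snd f g z :=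
    (congrArg (fun h : m.fiber s ⟶ Y' ↦ h (m.asFiber z)) (pullback.lift_fst _ _ _)).trans
      (congrArg (pullback.snd f g) (m.fiberι_asFiber z))
  rw [← e2]
  exact FlatMor12.fiberι_fibreMax g s hG

end Groth.Agent.CycLib28
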