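import Mathlib
import Groth.Agent.CycLib28.GenBaseChange
import Groth.Agent.CycLib28.RelDim
import Groth.Agent.EGA43.Chevalley.Fibre

/-!
# Relative dimension of base changes
-/

universe u

set_option backward.isDefEq.respectTransparency false

open CategoryTheory CategoryTheory.Limits AlgebraicGeometry

namespace Groth.Agent.CycLib28

open Groth.Agent DimLib

theorem fibreMax_fst_bc {X Y Y' : Scheme.{u}} (f : X ⟶ Y) [LocallyOfFiniteType f] (g : Y' ⟶ Y)
    (z : ↥(pullback f g)) (hz : FlatMor12.IsFibreMax (pullback.snd f g) z) (x : X)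
    (hx : pullback.fst f g z = x) :
    FlatMor12.IsFibreMax f x := by
  subst hx
  let f' := pullback.snd f g
  let v := f' z
  let y := g v
  let b : Spec (Y'.residueField v) ⟶ Spec (Y.residueField y) := Spec.map (g.residueFieldMap v)
  have sq : IsPullback (f'.fiberι v ≫ pullback.fst f g) (f'.fiberToSpecResidueField v) f
      (Y'.fromSpecResidueField v ≫ g) :=
    (IsPullback.of_hasPullback f' (Y'.fromSpecResidueField v)).paste_horiz
      (IsPullback.of_hasPullback f g)
  have hb : b ≫ Y.fromSpecResidueField y = Y'.fromSpecResidueField v ≫ g :=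
    g.SpecMap_residueFieldMap_fromSpecResidueField v
  have hl : (f'.fiberι v ≫ pullback.fst f g) ≫ f = (f'.fiberToSpecResidueField v ≫ b) ≫ Y.fromSpecResidueField y := by
    rw [sq.w, Category.assoc, hb]
  let l : f'.fiber v ⟶ f.fiber y := pullback.lift _ _ hl
  have sq' : IsPullback l (f'.fiberToSpecResidueField v) (f.fiberToSpecResidueField y) b := by
    refine IsPullback.of_right ?_ (pullback.lift_snd _ _ _) (IsPullback.of_hasPullback f (Y.fromSpecResidueField y))
    rw [hb, pullback.lift_fst]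
    exact sq
  have : LocallyOfFiniteType (f.fiberToSpecResidueField y) :=
    inferInstanceAs (LocallyOfFiniteType (pullback.snd f (Y.fromSpecResidueField y)))
  obtain ⟨-, h1⟩ := FlatMor12.ptDim_maximal_of_isPullback (k := Y.residueField y) (K := Y'.residueField v)
    (f.fiberToSpecResidueField y) (g.residueFieldMap v).hom (f'.fiberToSpecResidueField v) l sq'
    (FlatMor12.fibreMax_asFiber f' hz)
  have e1 : f.fiberι y (l (f'.asFiber z)) = pullback.fst f g z :=
    (congrArg (fun m : f'.fiber v ⟶ X ↦ m (f'.asFiber z)) (pullback.lift_fst _ _ hl)).trans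
      (congrArg (pullback.fst f g) (f'.fiberι_asFiber z))
  rw [← e1]
  exact FlatMor12.fiberι_fibreMax f y h1

theorem hasRelDim_snd {X Y Y' : Scheme.{u}} (f : X ⟶ Y) [LocallyOfFiniteType f] (g : Y' ⟶ Y) {r : ℕ}
    (hr : Cyc.HasRelDim f r) : Cyc.HasRelDim (pullback.snd f g) r := by
  rw [FlatMor12.hasRelDim_iff]
  intro z hz
  rw [trdegHom_fibreMax_bc f g z hz _ rfl]
  exact (FlatMor12.hasRelDim_iff f r).mp hr _ (fibreMax_fst_bc f g z hz _ rfl)

theorem hasRelDim_fst {X Y Y' : Scheme.{u}} (f : X ⟶ Y) (g : Y' ⟶ Y) [LocallyOfFiniteType g] {r : ℕ}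
    (hr : Cyc.HasRelDim g r) : Cyc.HasRelDim (pullback.fst f g) r := by
  rw [← pullbackSymmetry_hom_comp_snd]
  have h := hasRelDim_snd g f hr
  rw [FlatMor12.hasRelDim_iff] at h ⊢
  intro z hz
  rw [EGA43.Chevalley.trdegHom_residueFieldMap_comp]
  refine h _ fun w hw hfw => ?_
  obtain ⟨a, rfl⟩ := (pullbackSymmetry f g).hom.homeomorph.surjective w
  exact congrArg (pullbackSymmetry f g).hom (hz a ((pullbackSymmetry f g).hom.homeomorph.isInducing.specializes_iff.1 hw) hfw)

theorem trdegHom_congr {X Y : Scheme.{u}} {h h' : X ⟶ Y} (e : h = h') (x : X) :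
    trdegHom (h.residueFieldMap x).hom = trdegHom (h'.residueFieldMap x).hom := by
  subst e; rfl

/-- The shift of dimensions along the projection of a base change. -/
theorem delta_fst_bc {X Y Y' : Scheme.{u}} (f : X ⟶ Y) [LocallyOfFiniteType f] (g : Y' ⟶ Y) [LocallyOfFiniteType g]
    {r : ℕ} (hr : Cyc.HasRelDim g r) {δX : X → ℤ} {δY : Y → ℤ} {δY' : Y' → ℤ} {δX' : ↥(pullback f g) → ℤ}
    (hf : Cyc.DeltaCompat f δX δY) (hg : Cyc.DeltaCompat g δY' δY)
    (hX' : Cyc.DeltaCompat (pullback.snd f g) δX' δY') (z : ↥(pullback f g))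
    (hz : CycLim28.GenInFibre (pullback.fst f g) z) : δX' z = δX (pullback.fst f g z) + r := by
  have h1 := DeltaCompat.eq _ hX' z
  have h2 := DeltaCompat.eq _ hg (pullback.snd f g z)
  have h3 := DeltaCompat.eq _ hf (pullback.fst f g z)
  have h4 : trdegHom ((pullback.fst f g ≫ f).residueFieldMap z).hom =
      trdegHom ((pullback.snd f g ≫ g).residueFieldMap z).hom := trdegHom_congr pullback.condition z
  rw [FlatMor12.trdegHom_comp_residueFieldMap, FlatMor12.trdegHom_comp_residueFieldMap,
    (FlatMor12.hasRelDim_iff _ r).mp (hasRelDim_fst f g hr) z ((genInFibre_iff_isFibreMax _ z).mp hz)] at h4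
  have e : g (pullback.snd f g z) = f (pullback.fst f g z) := by
    rw [← Scheme.Hom.comp_apply, ← pullback.condition]; rfl
  have e' := congrArg δY e
  omega

end Groth.Agent.CycLib28
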