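import Groth.Agent.CycLib28.GraphPull
import Groth.Agent.CycLib28.P1Inter
import Groth.Agent.CurveLib.ProjLine

/-!
# The graph pullback of a flat morphism is flat pullback
-/

set_option autoImplicit false
set_option backward.isDefEq.respectTransparency false
set_option linter.style.haveILetI false
set_option linter.unusedSectionVars false

universe u

open CategoryTheory CategoryTheory.Limits AlgebraicGeometry
open Groth.Agent.CycLim28 Groth.Agent.CycLib28.InterSheaf

namespace Groth.Agent.CycLib28.GraphPull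

theorem map_section_apply {X W : Scheme.{u}} (p : W ⟶ X) [QuasiCompact p] (j : X ⟶ W) [IsPreimmersion j]
    (hjp : j ≫ p = 𝟙 X) (δW : W → ℤ) (δX : X → ℤ) (hδ : ∀ x, δW (j x) = δX x) (c : AlgebraicCycle W ℤ)
    (hc : ∀ w, c w ≠ 0 → w ∈ Set.range j) (x : X) :
    AlgebraicCycle.map p δW δX c x = c (j x) := by
  classical
  have hpx : ∀ x, p (j x) = x := fun x => congrArg (fun m : X ⟶ X => m x) hjp
  have hdeg : p.residueDegree (j x) = 1 := by
    have hc' : ∀ {m m' : X ⟶ X} (_ : m = m'), m.residueDegree x = m'.residueDegree x := fun e => by subst e; rfl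
    have h := hc' hjp
    rw [residueDegree_comp, residueDegree_preimmersion (𝟙 X), residueDegree_preimmersion j, mul_one] at h
    exact h
  rw [map_apply_finset p δW δX c x {j x} (fun w hw => by rw [Finset.mem_singleton.1 hw]; exact hpx x)
    (fun w hw hne => ?_), Finset.sum_singleton, AlgebraicCycle.mapCoeff,
    if_pos (by rw [hδ, show p.base (j x) = x from hpx x]), hdeg]
  · simp
  · obtain ⟨x', rfl⟩ := hc w hne
    rw [Finset.mem_singleton, show x' = x from (hpx x').symm.trans hw]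

theorem graphPull_flat (K : Type u) [Field K] [IsAlgClosed K] (X Y : Scheme.{u})
    (fX : X ⟶ Spec (CommRingCat.of K)) [Smooth fX] [IsSeparated fX] [QuasiCompact fX] [IsIntegral X] (δX : X → ℤ)
    (hX : Cyc.IsSetup X δX) (hδX : Cyc.DeltaCompat fX δX (fun _ => 0)) (dX : ℕ) (hdX : δX (genericPoint X) = dX)
    (fY : Y ⟶ Spec (CommRingCat.of K)) [Smooth fY] [IsSeparated fY] [QuasiCompact fY] [IsIntegral Y] [IsProper fY]
    (δY : Y → ℤ) (hY : Cyc.IsSetup Y δY) (dY : ℕ) (hdY : δY (genericPoint Y) = dY)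
    (f : X ⟶ Y) (hf : f ≫ fY = fX) [Flat f] [IsIntegral (pullback fX fY)] (δW : ↥(pullback fX fY) → ℤ)
    (hW : Cyc.IsSetup (pullback fX fY) δW)
    (hδW : Cyc.DeltaCompat (pullback.fst fX fY ≫ fX) δW (fun _ => 0))
    (hdW : δW (genericPoint ↥(pullback fX fY)) = (dX : ℤ) + (dY : ℤ))
    (mul : (r s : ℤ) → ChowOps.CH (pullback fX fY) δW r → ChowOps.CH (pullback fX fY) δW s →
      ChowOps.CH (pullback fX fY) δW (r + s - ((dX : ℤ) + (dY : ℤ))))
    (hmul : ChowOps.IsChowMul (pullback fX fY) δW ((dX : ℤ) + (dY : ℤ)) mul)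
    (γ : AlgebraicCycle (pullback fX fY) ℤ)
    (hγ : ⇑γ = Set.indicator {(pullback.lift (𝟙 X) f (Eq.trans (Category.id_comp fX) hf.symm)) (genericPoint X)} 1)
    (hγk : γ ∈ Cyc.Zk (pullback fX fY) δW (dX : ℤ)) (k : ℤ) (α : AlgebraicCycle Y ℤ) (hα : α ∈ Cyc.Zk Y δY k)
    (αW : AlgebraicCycle (pullback fX fY) ℤ)
    (hαW : ⇑αW = Cyc.pullFun (pullback.snd fX fY) δW δY (dX : ℤ) ⇑α)
    (hαWk : αW ∈ Cyc.Zk (pullback fX fY) δW (k + dX)) (ζ : AlgebraicCycle (pullback fX fY) ℤ)
    (hζk : ζ ∈ Cyc.Zk (pullback fX fY) δW ((dX : ℤ) + (k + dX) - ((dX : ℤ) + (dY : ℤ))))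
    (hζ : ChowOps.cl ζ hζk = mul (dX : ℤ) (k + dX) (ChowOps.cl γ hγk) (ChowOps.cl αW hαWk))
    (αX : AlgebraicCycle X ℤ) (hαX : ⇑αX = Cyc.pullFun f δX δY ((dX : ℤ) - (dY : ℤ)) ⇑α) :
    Cyc.RatEquiv δX (k + dX - dY) (AlgebraicCycle.map (pullback.fst fX fY) δW δX ζ) αX := by
  classical
  haveI := hX.1
  haveI := hY.1
  haveI := hW.1
  haveI : CompactSpace Y := QuasiCompact.compactSpace_of_compactSpace fY
  set j := pullback.lift (𝟙 X) f (Eq.trans (Category.id_comp fX) hf.symm) with hj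
  have hjp : j ≫ pullback.fst fX fY = 𝟙 X := pullback.lift_fst _ _ _
  have hjs : j ≫ pullback.snd fX fY = f := pullback.lift_snd _ _ _
  haveI : IsProper (pullback.fst fX fY) := inferInstance
  haveI : IsClosedImmersion j := by
    haveI : IsClosedImmersion (j ≫ pullback.fst fX fY) := by rw [hjp]; infer_instance
    exact IsClosedImmersion.of_comp j (pullback.fst fX fY)
  haveI : Flat (j ≫ pullback.snd fX fY) := by rw [hjs]; infer_instance
  have hδj : (fun x => δW (j x)) = δX := by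
    have h1 := deltaCompat_square j (𝟙 (Spec (CommRingCat.of K))) fX (pullback.fst fX fY ≫ fX)
      (by rw [Category.comp_id, ← Category.assoc, hjp, Category.id_comp]) hδW
    exact deltaCompat_unique fX h1 hδX
  have hfst : Cyc.DeltaCompat (pullback.fst fX fY) δW δX := by
    obtain ⟨δ', hδ'⟩ := exists_deltaCompat_of_locallyOfFiniteType (pullback.fst fX fY) δX
    rwa [deltaCompat_unique _ hδW (P1Inter.deltaCompat_comp (pullback.fst fX fY) fX hδ' hδX)]
  have hc : ∀ w, GenInFibre (pullback.snd fX fY) w → δW w = δY (pullback.snd fX fY w) + (dX : ℤ) := fun w hw => by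
    rw [delta_of_flat (pullback.snd fX fY) hW.2.2 hY.2.2 hdW hdY hw]
    ring
  have hdj : Cyc.IsDimFun X (fun x => δW (j x)) := isDimFun_comp_closedImmersion j hW.2.2
  have he : ∀ x, GenInFibre (j ≫ pullback.snd fX fY) x →
      δW (j x) = δY ((j ≫ pullback.snd fX fY) x) + ((dX : ℤ) - dY) := fun x hx =>
    delta_of_flat (j ≫ pullback.snd fX fY) hdj hY.2.2
      (show δW (j (genericPoint X)) = (dX : ℤ) from (congrFun hδj _).trans hdX) hdY hx
  obtain ⟨hprop, hinter⟩ := interProd_graph K (pullback.fst fX fY ≫ fX) (pullback.snd fX fY) j hW hδW hY hdW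
    ((congrFun hδj _).trans hdX) hc he (by ring) k α hα
  rw [← hγ, ← hαW] at hprop hinter
  obtain ⟨ζ₀, hζ₀⟩ := Sp.exists_extend_cycle j j.isEmbedding.injective αX
  have hext : ⇑ζ₀ = IntMult.interProd δW ((dX : ℤ) + dY) ⇑γ ⇑αW := by
    rw [hinter, hζ₀, hαX, hδj]
    have hcongr : ∀ {m m' : X ⟶ Y} (_ : m = m'),
        Cyc.pullFun m δX δY ((dX : ℤ) - dY) ⇑α = Cyc.pullFun m' δX δY ((dX : ℤ) - dY) ⇑α :=
      fun e => by subst e; rfl
    rw [hcongr hjs]
  have hαXk : ∀ x, αX x ≠ 0 → δX x = k + dX - dY := fun x hx => by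
    rw [hαX, Cyc.pullFun] at hx
    split_ifs at hx with h
    · rw [h, show δY (f x) = k from by_contra fun hh => left_ne_zero_of_mul hx (hα _ hh)]
      ring
    · exact absurd rfl hx
  have hζ₀k : ζ₀ ∈ Cyc.Zk (pullback fX fY) δW ((dX : ℤ) + (k + dX) - ((dX : ℤ) + (dY : ℤ))) := fun w hw => by
    by_contra hne
    rw [hζ₀] at hne
    obtain ⟨x, rfl⟩ : w ∈ Set.range j := by
      by_contra hn
      exact hne (Function.extend_apply' _ _ _ hn)
    rw [j.isEmbedding.injective.extend_apply] at hne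
    exact hw (by rw [show δW (j x) = δX x from congrFun hδj x, hαXk x hne]; ring)
  rw [hmul (dX : ℤ) (k + dX) γ αW hγk hαWk hprop ζ₀ hζ₀k hext, PB.Ops.cl_eq_iff hW.2.2] at hζ
  have h := map_ratEquivZero hW.2.2 hX.2.2 (pullback.fst fX fY) hfst _ _ hζ
  have hsub : AlgebraicCycle.map (pullback.fst fX fY) δW δX (ζ - ζ₀) =
      AlgebraicCycle.map (pullback.fst fX fY) δW δX ζ - αX := by
    have h1 := map_sub (P1Inter.mapHom (pullback.fst fX fY) δW δX) ζ ζ₀
    refine h1.trans (congrArg (AlgebraicCycle.map (pullback.fst fX fY) δW δX ζ - ·) ?_)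
    refine Function.locallyFinsuppWithin.ext fun x => ?_
    refine (map_section_apply (pullback.fst fX fY) j hjp δW δX (congrFun hδj) ζ₀ (fun w hw => ?_) x).trans ?_
    · by_contra hn
      exact hw (by rw [hζ₀]; exact Function.extend_apply' _ _ _ hn)
    · rw [hζ₀, j.isEmbedding.injective.extend_apply]
  rw [hsub, show (dX : ℤ) + (k + dX) - ((dX : ℤ) + (dY : ℤ)) = k + dX - dY by ring] at h
  exact h

end Groth.Agent.CycLib28.GraphPull
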