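import Mathlib
import Groth.Agent.CycDetLib.PeriodicSum
import Groth.Agent.CycDetLib.Transport
import Groth.Agent.CycLib28.StalkLocal
import Groth.Agent.CycLib28.Components
import Groth.Agent.CycLib28.DivFun
import Groth.Agent.CycLib28.SecOrd

/-!
# The cycle of the cohomology of a periodic complex of coherent modules
-/

set_option autoImplicit false

universe u

open CategoryTheory AlgebraicGeometry IsLocalRing Groth.Agent.CycLim28

namespace Groth.Agent.CycLib28

variable {X : Scheme.{u}} {δ : X → ℤ} {F : X.Modules}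

/-- the top points of the support -/
def topPoints (δ : X → ℤ) (k : ℤ) (F : X.Modules) : Set X :=
  {η | δ η = k + 1 ∧ Nontrivial (F.presheaf.stalk η)}

theorem exists_ratio_top [IsLocallyNoetherian X] (hδ : Cyc.IsDimFun X δ) (k : ℤ) (hF : Coh.IsCoh F)
    (hdim : ∀ x : X, Nontrivial (F.presheaf.stalk x) → δ x ≤ k + 1) (φ ψ : F ⟶ F) (hφψ : φ ≫ ψ = 0) (hψφ : ψ ≫ φ = 0)
    (h0 : ∀ x : X, Nontrivial ((ShortComplex.mk φ ψ hφψ).homology.presheaf.stalk x) → δ x ≤ k)
    (h1 : ∀ x : X, Nontrivial ((ShortComplex.mk ψ φ hψφ).homology.presheaf.stalk x) → δ x ≤ k)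
    (η : X) (hη : η ∈ topPoints δ k F) :
    ∃ r : X.residueField η, CycDetLib.IsPeriodicRatio ((DerSch.stalkFunctor X η).map ψ).hom
      ((DerSch.stalkFunctor X η).map φ).hom r := by
  have hlen : Module.length (X.presheaf.stalk η) (F.presheaf.stalk η) ≠ ⊤ :=
    length_stalk_ne_top hF η fun z hz hzη ↦ by
      by_contra hne
      have := (hδ z η hzη hne).1
      have := hdim z hz
      have := hη.1
      omega
  have key : ∀ (a b : F ⟶ F) (hab : a ≫ b = 0),
      (∀ x : X, Nontrivial ((ShortComplex.mk a b hab).homology.presheaf.stalk x) → δ x ≤ k) →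
      LinearMap.ker ((DerSch.stalkFunctor X η).map b).hom = LinearMap.range ((DerSch.stalkFunctor X η).map a).hom := by
    intro a b hab hh
    obtain ⟨e⟩ := stalk_homology_equiv a b hab η
    have : Subsingleton ((ShortComplex.mk a b hab).homology.presheaf.stalk η) :=
      not_nontrivial_iff_subsingleton.mp fun hn ↦ by
        have := hh η hn
        have := hη.1
        omega
    have := e.symm.toEquiv.subsingleton
    have h2 := Submodule.Quotient.subsingleton_iff.mp this
    refine le_antisymm (fun v hv ↦ ?_) ?_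
    · exact (h2.ge (Submodule.mem_top (x := (⟨v, hv⟩ : LinearMap.ker ((DerSch.stalkFunctor X η).map b).hom))))
    · rintro _ ⟨v, rfl⟩
      have h3 := congrArg (DerSch.stalkFunctor X η).map hab
      rw [Functor.map_comp, Functor.map_zero] at h3
      exact congrArg (fun g ↦ g.hom v) h3
  exact CycDetLib.exists_periodicRatio (Module.length_ne_top_iff.mp hlen) _ _ (key φ ψ hφψ h0) (key ψ φ hψφ h1)

theorem finite_support_top [IsLocallyNoetherian X] (hδ : Cyc.IsDimFun X δ) (k : ℤ) (hF : Coh.IsCoh F)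
    (hdim : ∀ x : X, Nontrivial (F.presheaf.stalk x) → δ x ≤ k + 1) (x : X) (hx : δ x = k) :
    {P : PrimeSpectrum (X.presheaf.stalk x) |
        P ∈ Module.support (X.presheaf.stalk x) (F.presheaf.stalk x) ∧ P ≠ closedPoint _}.Finite ∧
      ∀ P : PrimeSpectrum (X.presheaf.stalk x),
        (P ∈ Module.support (X.presheaf.stalk x) (F.presheaf.stalk x) ∧ P ≠ closedPoint _) ↔
          X.fromSpecStalk x P ∈ topPoints δ k F := by
  have := AssSch12.finite_stalk hF x
  have key : ∀ P : PrimeSpectrum (X.presheaf.stalk x),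
      (P ∈ Module.support (X.presheaf.stalk x) (F.presheaf.stalk x) ∧ P ≠ closedPoint _) ↔
        X.fromSpecStalk x P ∈ topPoints δ k F := by
    intro P
    refine ⟨fun ⟨hP, hne⟩ ↦ ?_, fun ⟨hd, hn⟩ ↦ ⟨(localizedModule_stalk hF.1 x P).2.mpr hn, fun e ↦ ?_⟩⟩
    · have hn := (localizedModule_stalk hF.1 x P).2.mp hP
      have hle := hdim _ hn
      have hlt := (hδ _ x (fromSpecStalk_specializes x P)
        fun e ↦ hne (fromSpecStalk_injective x (by rw [e, Scheme.fromSpecStalk_closedPoint]))).1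
      exact ⟨by omega, hn⟩
    · rw [e, Scheme.fromSpecStalk_closedPoint] at hd
      omega
  refine ⟨?_, key⟩
  refine ((Module.annihilator (X.presheaf.stalk x) (F.presheaf.stalk x)).finite_minimalPrimes_of_isNoetherianRing.preimage
    (f := PrimeSpectrum.asIdeal) fun a _ b _ h ↦ PrimeSpectrum.ext h).subset ?_
  rintro P ⟨hP, hne⟩
  refine ⟨⟨P.2, Module.mem_support_iff_of_finite.mp hP⟩, fun q ⟨hq, hqann⟩ hqP ↦ ?_⟩
  by_contra hle
  have hlt : (⟨q, hq⟩ : PrimeSpectrum (X.presheaf.stalk x)) < P := lt_of_le_not_ge hqP hle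
  have h2 := drop_lt hδ x hlt
  have h3 := ((key P).mp ⟨hP, hne⟩).1
  have h4 := hdim _ ((localizedModule_stalk hF.1 x ⟨q, hq⟩).2.mp (Module.mem_support_iff_of_finite.mpr hqann))
  simp only [drop] at h2
  omega

theorem sheafFun_sub_eq [IsLocallyNoetherian X] (hδ : Cyc.IsDimFun X δ) (k : ℤ) (hF : Coh.IsCoh F)
    (hdim : ∀ x : X, Nontrivial (F.presheaf.stalk x) → δ x ≤ k + 1) (φ ψ : F ⟶ F) (hφψ : φ ≫ ψ = 0) (hψφ : ψ ≫ φ = 0)
    (r : (η : X) → X.residueField η)
    (hr : ∀ η ∈ topPoints δ k F, CycDetLib.IsPeriodicRatio ((DerSch.stalkFunctor X η).map ψ).hom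
      ((DerSch.stalkFunctor X η).map φ).hom (r η)) (x : X) :
    Cyc.sheafFun δ k (ShortComplex.mk φ ψ hφψ).homology x - Cyc.sheafFun δ k (ShortComplex.mk ψ φ hψφ).homology x =
      ∑ᶠ η : topPoints δ k F, Cyc.divFun δ (η : X) (r η) x := by
  classical
  by_cases hx : δ x = k
  swap
  · rw [Cyc.sheafFun, if_neg hx, Cyc.sheafFun, if_neg hx, sub_zero,
      finsum_eq_zero_of_forall_eq_zero fun η ↦ divFun_eq_zero_of_delta _ (by have := η.2.1; omega)]
  haveI : Module.Finite (X.presheaf.stalk x) ((DerSch.stalkFunctor X x).obj F) := AssSch12.finite_stalk hF x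
  obtain ⟨hSfin, hSiff⟩ := finite_support_top hδ k hF hdim x hx
  let S : Finset (PrimeSpectrum (X.presheaf.stalk x)) := hSfin.toFinset
  have hS : ∀ P, P ∈ S ↔ X.fromSpecStalk x P ∈ topPoints δ k F := fun P ↦ hSfin.mem_toFinset.trans (hSiff P)
  have hd : ∀ P ∈ S, δ x + 1 = δ (X.fromSpecStalk x P) := fun P hP ↦ by rw [((hS P).mp hP).1, hx]
  have hdimP : ∀ P ∈ S, ringKrullDim ((X.presheaf.stalk x) ⧸ P.asIdeal) = 1 := fun P hP ↦ by
    have := hd P hP
    rw [dim_quotient hδ x P, show (drop δ x P).toNat = 1 by simp only [drop]; omega]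
    rfl
  letI : ∀ P : PrimeSpectrum (X.presheaf.stalk x), Algebra (X.presheaf.stalk x) (X.presheaf.stalk (X.fromSpecStalk x P)) := fun P ↦
    (X.presheaf.stalkSpecializes (fromSpecStalk_specializes x P)).hom.toAlgebra
  haveI hloc : ∀ P : PrimeSpectrum (X.presheaf.stalk x),
      IsLocalization P.asIdeal.primeCompl (X.presheaf.stalk (X.fromSpecStalk x P)) := fun P ↦ by
    have h := Misc15.isLocalization_stalkSpecializes (fromSpecStalk_specializes x P)
    convert h using 1
    ext a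
    have h1 := congrArg PrimeSpectrum.asIdeal (eq_comap_closedPoint x P)
    rw [PrimeSpectrum.comap_asIdeal] at h1
    change a ∉ P.asIdeal ↔ IsUnit _
    rw [h1, Ideal.mem_comap]
    exact IsLocalRing.notMem_maximalIdeal
  let σ : ∀ P : PrimeSpectrum (X.presheaf.stalk x), X.presheaf.stalk (X.fromSpecStalk x P) ≃ₐ[(X.presheaf.stalk x)] Localization.AtPrime P.asIdeal :=
    fun P ↦ IsLocalization.algEquiv P.asIdeal.primeCompl _ _
  let V : PrimeSpectrum (X.presheaf.stalk x) → Type u := fun P ↦ (DerSch.stalkFunctor X (X.fromSpecStalk x P)).obj F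
  letI : ∀ P, Module (X.presheaf.stalk x) (V P) := fun P ↦
    Module.compHom ((DerSch.stalkFunctor X (X.fromSpecStalk x P)).obj F) (algebraMap (X.presheaf.stalk x) (X.presheaf.stalk (X.fromSpecStalk x P)))
  letI : ∀ P : PrimeSpectrum (X.presheaf.stalk x), Module (Localization.AtPrime P.asIdeal) (V P) := fun P ↦
    Module.compHom ((DerSch.stalkFunctor X (X.fromSpecStalk x P)).obj F) (σ P).symm.toRingEquiv.toRingHom
  haveI : ∀ P : PrimeSpectrum (X.presheaf.stalk x), IsScalarTower (X.presheaf.stalk x) (Localization.AtPrime P.asIdeal) (V P) := fun P ↦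
    IsScalarTower.of_algebraMap_smul fun a v ↦ by
      change (σ P).symm (algebraMap (X.presheaf.stalk x) (Localization.AtPrime P.asIdeal) a) • v = _
      rw [AlgEquiv.commutes]
      rfl
  have hρ : ∀ P, ∃ ρ : ((DerSch.stalkFunctor X x).obj F) →ₗ[(X.presheaf.stalk x)] V P,
      (∀ m, ρ m = F.presheaf.stalkSpecializes (fromSpecStalk_specializes x P) m) ∧
        IsLocalizedModule P.asIdeal.primeCompl ρ := fun P ↦ isLocalizedModule_stalkSpecializes hF.1 x P
  choose ι hι hιloc using hρ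
  let ext : ∀ (P : PrimeSpectrum (X.presheaf.stalk x)), (F ⟶ F) → (V P →ₗ[Localization.AtPrime P.asIdeal] V P) := fun P a ↦
    { toFun := fun v ↦ ((DerSch.stalkFunctor X (X.fromSpecStalk x P)).map a).hom v
      map_add' := fun v w ↦ map_add _ v w
      map_smul' := fun c v ↦ map_smul ((DerSch.stalkFunctor X (X.fromSpecStalk x P)).map a).hom ((σ P).symm c) v }
  have hext : ∀ (a : F ⟶ F) (P : PrimeSpectrum (X.presheaf.stalk x)) (m : ((DerSch.stalkFunctor X x).obj F)),
      ext P a (ι P m) = ι P (((DerSch.stalkFunctor X x).map a).hom m) := fun a P m ↦ by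
    rw [hι, hι]
    exact stalkMap_specializes a (fromSpecStalk_specializes x P) m
  let r' : (P : PrimeSpectrum (X.presheaf.stalk x)) → P.asIdeal.ResidueField := fun P ↦
    ResidueField.mapEquiv (σ P).toRingEquiv (r (X.fromSpecStalk x P))
  have hr' : ∀ P ∈ S, CycDetLib.IsPeriodicRatio (ext P ψ) (ext P φ) (r' P) := fun P hP ↦
    (hr _ ((hS P).mp hP)).congr (σ P).toRingEquiv
      (fun c v ↦ by
        change (σ P).symm (σ P c) • v = c • v
        rw [AlgEquiv.symm_apply_apply])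
      (fun v ↦ rfl) (fun v ↦ rfl)
  have hper : CycAlg.IsPeriodic ((DerSch.stalkFunctor X x).map ψ).hom ((DerSch.stalkFunctor X x).map φ).hom := by
    constructor
    · rw [← ModuleCat.hom_comp, ← Functor.map_comp, hφψ, Functor.map_zero]; rfl
    · rw [← ModuleCat.hom_comp, ← Functor.map_comp, hψφ, Functor.map_zero]; rfl
  obtain ⟨-, hherb⟩ := CycDetLib.herbrand_eq_sum S ((DerSch.stalkFunctor X x).obj F) _ _ hper
    (fun p hp ↦ by
      by_cases e : p = closedPoint (X.presheaf.stalk x)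
      · exact Or.inl e
      · exact Or.inr (hSfin.mem_toFinset.mpr ⟨hp, e⟩))
    hdimP V ι (fun P _ ↦ hιloc P) (fun P ↦ ext P ψ) (fun P ↦ ext P φ) (fun P _ ↦ hext ψ P) (fun P _ ↦ hext φ P) r' hr'
  obtain ⟨e0⟩ := stalk_homology_equiv φ ψ hφψ x
  obtain ⟨e1⟩ := stalk_homology_equiv ψ φ hψφ x
  rw [Cyc.sheafFun, if_pos hx, Cyc.sheafFun, if_pos hx, e0.length_eq, e1.length_eq]
  refine hherb.trans ?_
  -- the right hand side as a sum over the primes of the local ring
  let g : X → ℤ := fun ξ ↦ if ξ ∈ topPoints δ k F then Cyc.divFun δ ξ (r ξ) x else 0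
  have hsum : ∑ᶠ η : topPoints δ k F, Cyc.divFun δ (η : X) (r η) x = ∑ᶠ ξ, g ξ := by
    rw [finsum_subtype_eq_finsum_cond (f := fun ξ ↦ Cyc.divFun δ ξ (r ξ) x) (· ∈ topPoints δ k F)]
    refine finsum_congr fun ξ ↦ ?_
    by_cases hξ : ξ ∈ topPoints δ k F <;> simp [g, hξ]
  rw [hsum, finsum_over_primes x g (fun ξ hξ ↦ by
    by_contra hns
    exact hξ (by simp only [g, divFun_eq_zero_of_not_specializes (r ξ) hns, ite_self])),
    finsum_eq_sum_of_support_subset _ (s := S) (fun P hP ↦ by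
      by_contra hPS
      exact hP (if_neg fun h ↦ hPS ((hS P).mpr h)))]
  refine Finset.sum_congr rfl fun P hP ↦ ?_
  simp only [g]
  rw [if_pos ((hS P).mp hP), Cyc.divFun, dif_pos ⟨fromSpecStalk_specializes x P, hd P hP⟩, Cyc.ordAt]
  refine (CycDetLib.ordFrac_congr (K := X.residueField (X.fromSpecStalk x P)) (L := P.asIdeal.ResidueField)
    (ker_specMap P (fromSpecStalk_specializes x P))
    (show X.residueField (X.fromSpecStalk x P) ≃+* P.asIdeal.ResidueField from
      ResidueField.mapEquiv (σ P).toRingEquiv) (fun a ↦ ?_) (r (X.fromSpecStalk x P))).symm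
  change residue (Localization.AtPrime P.asIdeal) (σ P (algebraMap (X.presheaf.stalk x) _ a)) = _
  rw [AlgEquiv.commutes]
  rfl

theorem ratEquiv_homology [IsLocallyNoetherian X] (hδ : Cyc.IsDimFun X δ) (k : ℤ) (hF : Coh.IsCoh F)
    (hdim : ∀ x : X, Nontrivial (F.presheaf.stalk x) → δ x ≤ k + 1) (φ ψ : F ⟶ F) (hφψ : φ ≫ ψ = 0) (hψφ : ψ ≫ φ = 0)
    (h0 : ∀ x : X, Nontrivial ((ShortComplex.mk φ ψ hφψ).homology.presheaf.stalk x) → δ x ≤ k)
    (h1 : ∀ x : X, Nontrivial ((ShortComplex.mk ψ φ hψφ).homology.presheaf.stalk x) → δ x ≤ k)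
    (γ₀ γ₁ : AlgebraicCycle X ℤ) (hγ₀ : ⇑γ₀ = Cyc.sheafFun δ k (ShortComplex.mk φ ψ hφψ).homology)
    (hγ₁ : ⇑γ₁ = Cyc.sheafFun δ k (ShortComplex.mk ψ φ hψφ).homology) : Cyc.RatEquiv δ k γ₀ γ₁ := by
  classical
  have hex := exists_ratio_top hδ k hF hdim φ ψ hφψ hψφ h0 h1
  let r : (η : X) → X.residueField η := fun η ↦ if hη : η ∈ topPoints δ k F then (hex η hη).choose else 1
  have hr : ∀ η ∈ topPoints δ k F, CycDetLib.IsPeriodicRatio ((DerSch.stalkFunctor X η).map ψ).hom
      ((DerSch.stalkFunctor X η).map φ).hom (r η) := fun η hη ↦ by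
    simp only [r, dif_pos hη]
    exact (hex η hη).choose_spec
  refine ⟨topPoints δ k F, Subtype.val, fun η ↦ r η, fun η ↦ η.2.1, fun η ↦ (hr η η.2).ne_zero, fun x ↦ ?_,
    fun x ↦ ?_⟩
  · obtain ⟨_, ⟨V, hV, rfl⟩, hxV, -⟩ :=
      X.isBasis_affineOpens.exists_subset_of_mem_open (Set.mem_univ x) isOpen_univ
    have hV' : IsAffineOpen V := hV
    have : IsNoetherianRing Γ(X, V) := IsLocallyNoetherian.component_noetherian ⟨V, hV⟩
    haveI hns : TopologicalSpace.NoetherianSpace (V : Set X) := noetherianSpace_of_isAffineOpen V hV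
    haveI : QuasiSober (V : Set X) := V.2.isOpenEmbedding_subtypeVal.quasiSober
    refine ⟨V, V.2, hxV, ?_⟩
    have hfin := finite_maximal_of_isClosed (α := (V : Set X))
      (Subtype.val ⁻¹' {z : X | Nontrivial (F.presheaf.stalk z)}) ((isClosed_nontrivial hF).preimage continuous_subtype_val)
    refine ((hfin.image Subtype.val).preimage (Subtype.val_injective.injOn (s := _))).subset ?_
    rintro η ⟨w, hw, hwV⟩
    have hηV : (η : X) ∈ V := (specializes_iff_mem_closure.mpr hw).mem_open V.2 hwV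
    refine ⟨⟨η, hηV⟩, ⟨η.2.2, fun y hy hyη ↦ ?_⟩, rfl⟩
    by_contra hne
    have h2 := (hδ y.1 η.1 (hyη.map continuous_subtype_val) fun e ↦ hne (Subtype.ext e)).1
    have h3 := hdim y.1 hy
    have h4 := η.2.1
    omega
  · rw [Function.locallyFinsuppWithin.coe_sub, Pi.sub_apply, hγ₀, hγ₁]
    exact sheafFun_sub_eq hδ k hF hdim φ ψ hφψ hψφ r hr x

end Groth.Agent.CycLib28
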