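import Groth.Agent.DQCoh.PscNoeth
import Groth.Agent.DQCoh.RHomQCoh
import Groth.Agent.DQCoh.PerfectClass

/-!
# Coherence of the derived tensor product of bounded above complexes with coherent cohomology
-/

set_option autoImplicit false
set_option backward.isDefEq.respectTransparency false
set_option backward.defeqAttrib.useBackward true
set_option linter.style.haveILetI false
set_option synthInstance.maxHeartbeats 100000
set_option backward.isDefEq.respectTransparency.types false

universe u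

open CategoryTheory CategoryTheory.Limits CategoryTheory.Pretriangulated DerivedCategory Opposite TopologicalSpace AlgebraicGeometry
open Groth.Agent.SiteDer16 Groth.Agent.DCat Groth.Agent.Coherent Groth.Agent.DCat.PerfLocal Groth.Agent.DCat.PullPerf

attribute [local instance] HasDerivedCategory.standard
attribute [-instance] Int.instConditionallyCompleteLinearOrder

namespace Groth.Agent.DQCoh

open ZeroObject

variable {X : Scheme.{u}}

instance isWeakSerre_coh (W : Scheme.{u}) [IsLocallyNoetherian W] : WSerre.IsWeakSerre (coh W) :=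
  haveI : (coh W).ContainsZero := ⟨⟨0, isZero_zero _, (coh_ops W).1 _ (isZero_zero _)⟩⟩
  haveI : (coh W).IsClosedUnderKernels := ⟨by
    rintro K ⟨f, k, hk, hM, hN⟩
    exact (coh W).prop_of_iso ((kernelIsKernel f).conePointUniqueUpToIso hk) ((coh_ops W).2.1 f hM hN)⟩
  haveI : (coh W).IsClosedUnderCokernels := ⟨by
    rintro K ⟨f, k, hk, hM, hN⟩
    exact (coh W).prop_of_iso ((cokernelIsCokernel f).coconePointUniqueUpToIso hk) ((coh_ops W).2.2.1 f hM hN)⟩
  haveI : (coh W).IsClosedUnderExtensions := ⟨fun {_} hT h₁ h₃ => (coh_ops W).2.2.2 hT h₁ h₃⟩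
  ⟨⟩

/-- A functor preserving triangles commutes with the shift up to an isomorphism. -/
theorem nonempty_map_shift {W : Scheme.{u}} (G : DCoh.D W ⥤ DCoh.D W) (hG0 : ∀ Z : DCoh.D W, IsZero Z → IsZero (G.obj Z))
    (hG : ∀ T ∈ distTriang (DCoh.D W), ∃ δ, Triangle.mk (G.map T.mor₁) (G.map T.mor₂) δ ∈ distTriang _) (Z : DCoh.D W) :
    Nonempty (G.obj (Z⟦(1 : ℤ)⟧) ≅ (G.obj Z)⟦(1 : ℤ)⟧) := by
  obtain ⟨δ, hδ⟩ := hG _ (rot_of_distTriang _ (contractible_distinguished Z))
  haveI : IsIso δ := (Triangle.isZero₂_iff_isIso₃ _ hδ).1 (hG0 _ (isZero_zero _))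
  exact ⟨asIso δ⟩

/-- Tensoring a bounded complex of free modules with an object with coherent cohomology. -/
theorem cohIn_LTensor_free {W : Scheme.{u}} [IsLocallyNoetherian W] (N : CochainComplex W.Modules ℤ)
    (hN : IsKFlatFor (shT W) N) [DCoh.HasLTensorCx N] (hNc : DCoh.IsCohD (DerivedCategory.Q.obj N))
    (E : CochainComplex W.Modules ℤ) {a b : ℤ} (hE : DCoh.VanishesOutside E a b)
    (hfree : ∀ i, ∃ n, Nonempty (E.X i ≅ FlatMod.freeMod W n)) :
    WSerre.cohIn (coh W) ((DCoh.LTensorCx N).obj (DerivedCategory.Q.obj E)) := by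
  haveI := RHomExist.hasRSheafHom N
  let G := DCoh.LTensorCx N
  let P : ObjectProperty (DCoh.D W) := fun K => WSerre.cohIn (coh W) (G.obj K)
  have htri : ∀ T ∈ distTriang (DCoh.D W), ∃ δ, Triangle.mk (G.map T.mor₁) (G.map T.mor₂) δ ∈ distTriang _ :=
    fun T hT => exists_triangle_LTensorCx N hN hT
  have hsucc : ∀ Z, P Z ↔ P (Z⟦(1 : ℤ)⟧) := fun Z => by
    obtain ⟨e⟩ := nonempty_map_shift G (fun Z h => G.map_isZero h) htri Z
    refine ⟨fun h i => (coh W).prop_of_iso (((homologyFunctor W.Modules i).mapIso e) ≪≫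
      ((homologyFunctor W.Modules 0).shiftIso 1 i (1 + i) rfl).app _).symm (h _), fun h i => ?_⟩
    exact (coh W).prop_of_iso (((homologyFunctor W.Modules (i - 1)).mapIso e) ≪≫
      ((homologyFunctor W.Modules 0).shiftIso 1 (i - 1) i (by omega)).app _) (h _)
  have hiso : ∀ {K L : DCoh.D W}, (K ≅ L) → P K → P L := fun e h i =>
    (coh W).prop_of_iso ((homologyFunctor W.Modules i).mapIso (G.mapIso e)) (h i)
  have hP : IsDev P :=
    { iso := fun e h => hiso e h
      zero := fun K hK i => (coh_ops W).1 _ ((homologyFunctor W.Modules i).map_isZero (G.map_isZero hK))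
      shift := fun K n h => by
        induction n using Int.induction_on with
        | zero => exact hiso ((shiftFunctorZero _ ℤ).app K).symm h
        | succ k ih => exact hiso ((shiftFunctorAdd' _ (k : ℤ) 1 _ rfl).app K).symm ((hsucc _).1 ih)
        | pred k ih =>
          refine (hsucc _).2 (hiso ?_ ih)
          exact (shiftFunctorAdd' _ (-(k : ℤ) - 1) 1 (-(k : ℤ)) (by omega)).app K
      ext := fun T hT h₁ h₃ => by
        obtain ⟨δ, hδ⟩ := htri T hT
        exact SiteDer16.cohIn_obj₂ (coh W) hδ h₁ h₃ }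
  refine hP.bounded E hE fun n => ?_
  obtain ⟨k, ⟨e⟩⟩ := hfree n
  refine hP.iso ((singleFunctor W.Modules 0).mapIso e.symm) (hP.sigma _ fun _ => ?_)
  obtain ⟨u⟩ := nonempty_unit_LTensor N
  refine hP.iso ((singleFunctor W.Modules 0).mapIso (topStructIso W)) (fun i => ?_)
  exact (coh W).prop_of_iso ((homologyFunctor W.Modules i).mapIso
    (u.symm ≪≫ G.mapIso (((SingleFunctors.evaluation _ _ 0).mapIso
      (DerivedCategory.singleFunctorsPostcompQIso W.Modules)).app _).symm)) (hNc i)

/-- `L ⊗^L N` has coherent cohomology and is bounded above. -/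
theorem isCohD_LTensor [IsLocallyNoetherian X] (N : CochainComplex X.Modules ℤ) (hN : IsKFlatFor (shT X) N) (b : ℤ)
    (hNb : ∀ n, b < n → IsZero (N.X n)) (hNc : DCoh.IsCohD (DerivedCategory.Q.obj N)) [DCoh.HasLTensorCx N]
    (L : DCoh.D X) (a : ℤ) [L.IsLE a] (hL : DCoh.IsCohD L) : DCoh.IsCohD ((DCoh.LTensorCx N).obj L) := fun i => by
  obtain ⟨n, hn⟩ : ∃ n : ℤ, n = i - b - 2 := ⟨_, rfl⟩
  have hpsc : DCoh.IsPseudoCoherentD n L := psc_of_isCoh L (fun j => (hL j).1) a n fun j _ => hL j
  choose W k hk E a' b' α hx hE hfree hα using exists_free_approx hpsc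
  haveI := hk
  have key : ∀ x, Coh.IsCoh ((Scheme.Modules.restrictFunctor (k x)).obj (DCoh.HD ((DCoh.LTensorCx N).obj L) i)) := by
    intro x
    haveI : IsLocallyNoetherian (W x) := isLocallyNoetherian_of_isOpenImmersion (k x)
    haveI : DCoh.HasLpull (k x) := hasLpull _
    let N' := ((Scheme.Modules.pullback (k x)).mapHomologicalComplex (ComplexShape.up ℤ)).obj N
    haveI := LTensorSheaf.hasLTensorCx N'
    have hN' : IsKFlatFor (shT (W x)) N' := PullTot.isKFlatFor_pullback (k x) hN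
    obtain ⟨eN⟩ := nonempty_Lpull_restrict (k x) (DerivedCategory.Q.obj N)
    have hN'c : DCoh.IsCohD (DerivedCategory.Q.obj N') := fun j =>
      Coherent.isCoh_iso ((homologyFunctor _ j).mapIso ((lpullIso (k x) hN).symm ≪≫ eN) ≪≫
        SuppOpen.hdMapIso (Scheme.Modules.restrictFunctor (k x)) (DerivedCategory.Q.obj N) j).symm
        (AmpleLib.isCoh_restrict (k x) _ (hNc j))
    obtain ⟨eL⟩ := nonempty_Lpull_restrict (k x) L
    obtain ⟨e⟩ := PullTot.nonempty_Lpull_LTensor (k x) hN L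
    obtain ⟨eT⟩ := nonempty_Lpull_restrict (k x) ((DCoh.LTensorCx N).obj L)
    let G := DCoh.LTensorCx N'
    have hmid : coh (W x) (DCoh.HD (G.obj ((rd (k x)).obj L)) i) := by
      obtain ⟨C, g, δ, hT⟩ := distinguished_cocone_triangle (α x)
      have hC : C.IsLE (n - 1) := (apx_iff_isLE n _ hT).1 (hα x)
      haveI := hC
      haveI := RHomExist.hasRSheafHom N'
      obtain ⟨δ', hδ'⟩ := exists_triangle_LTensorCx N' hN' hT
      have hGC : (G.obj C).IsLE (n + b - 1) := by
        have := isLE_LTensor N' hN' b (fun m hm => (Scheme.Modules.pullback (k x)).map_isZero (hNb m hm)) C (n - 1)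
        rwa [show n - 1 + b = n + b - 1 by ring] at this
      haveI : IsIso ((homologyFunctor (W x).Modules i).map (G.map (α x))) :=
        ((apx_iff_isLE (n + b) _ hδ').2 hGC).1 i (by omega)
      exact (coh (W x)).prop_of_iso (asIso ((homologyFunctor _ i).map (G.map (α x))))
        (cohIn_LTensor_free N' hN' hN'c (E x) (hE x) (hfree x) i)
    exact Coherent.isCoh_iso ((SuppOpen.hdMapIso (Scheme.Modules.restrictFunctor (k x)) ((DCoh.LTensorCx N).obj L) i).symm ≪≫
      (homologyFunctor _ i).mapIso (eT.symm ≪≫ e ≪≫ G.mapIso eL)).symm hmid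
  exact ⟨isQCoh_of_openImmersion_cover _ k (fun x => ⟨x, hx x⟩) fun x => (key x).1,
    isFT_of_local _ fun x => ⟨W x, k x, inferInstance, hx x, (key x).2⟩⟩

/-- Bounded above complexes with coherent cohomology are stable under the derived tensor product. -/
theorem isCohD_bddAbove_LTensor [IsLocallyNoetherian X] (F : CochainComplex X.Modules ℤ) [DCoh.HasLTensorCx F]
    (L : DCoh.D X) (hL : DCoh.IsCohD L) (hLb : ∃ a : ℤ, ∀ i, a < i → IsZero (DCoh.HD L i))
    (hF : DCoh.IsCohD (DerivedCategory.Q.obj F)) (hFb : ∃ b : ℤ, ∀ i, b < i → IsZero (DCoh.HD (DerivedCategory.Q.obj F) i)) :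
    DCoh.IsCohD ((DCoh.LTensorCx F).obj L) ∧ ∃ n : ℤ, ∀ i, n < i → IsZero (DCoh.HD ((DCoh.LTensorCx F).obj L) i) := by
  obtain ⟨a, ha⟩ := hLb
  obtain ⟨b, hb⟩ := hFb
  haveI : L.IsLE a := (DerivedCategory.isLE_iff L a).2 ha
  haveI : (DerivedCategory.Q.obj F).IsLE b := (DerivedCategory.isLE_iff _ b).2 hb
  obtain ⟨F', hF', ⟨eF⟩⟩ := DerivedCategory.exists_iso_Q_obj_of_isLE (DerivedCategory.Q.obj F) b
  obtain ⟨N, q, hNk, -, hq, hN⟩ := exists_kflat_sheaf_le F' b fun n hn => CochainComplex.isZero_of_isStrictlyLE F' b n hn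
  haveI := hq
  haveI := LTensorSheaf.hasLTensorCx N
  let eN : DerivedCategory.Q.obj F ≅ DerivedCategory.Q.obj N := eF ≪≫ (asIso (DerivedCategory.Q.map q)).symm
  obtain ⟨t⟩ := TensorCongr.nonempty_congr (E := F) (E' := N) eN
  have hNc : DCoh.IsCohD (DerivedCategory.Q.obj N) := fun j =>
    Coherent.isCoh_iso ((homologyFunctor _ j).mapIso eN) (hF j)
  refine ⟨fun i => Coherent.isCoh_iso ((homologyFunctor _ i).mapIso (t.app L).symm)
    (isCohD_LTensor N hNk b hN hNc L a hL i), a + b, fun i hi => ?_⟩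
  haveI := isLE_LTensor N hNk b hN L a
  exact (((DerivedCategory.isLE_iff ((DCoh.LTensorCx N).obj L) (a + b)).1 inferInstance) i hi).of_iso
    ((homologyFunctor _ i).mapIso (t.app L))

end Groth.Agent.DQCoh
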