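import Mathlib
import Groth.Prelude.Def_LiftSq

/-!
# Unique fillings of squares are stable under composition of the right side
-/

set_option autoImplicit false

universe v u v₂ u₂ v₃ u₃ v₄ u₄ v₅ u₅ v₆ u₆

open CategoryTheory

namespace Groth.Agent.CycLib28.LiftSqComp

open LiftSq

variable {C : Type u} [Category.{v} C]
  {𝒜 : BasedCategory.{v₂, u₂} C} {ℬ : BasedCategory.{v₃, u₃} C}
  {𝒳 : BasedCategory.{v₄, u₄} C} {𝒴 : BasedCategory.{v₅, u₅} C} {𝒵 : BasedCategory.{v₆, u₆} C}
  {j : 𝒜 ⥤ᵇ ℬ} {f : 𝒳 ⥤ᵇ 𝒴} {g : 𝒴 ⥤ᵇ 𝒵}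


/-- right whiskering of an isomorphism -/
def wrIso {F G : 𝒜 ⥤ᵇ 𝒳} (e : F ≅ G) (H : 𝒳 ⥤ᵇ 𝒴) : BasedFunctor.comp F H ≅ BasedFunctor.comp G H where
  hom := BasedCategory.whiskerRight e.hom H
  inv := BasedCategory.whiskerRight e.inv H
  hom_inv_id := by rw [← whiskerRight_comp', e.hom_inv_id, whiskerRight_id']
  inv_hom_id := by rw [← whiskerRight_comp', e.inv_hom_id, whiskerRight_id']

/-- the outer square -/
def outer (sq : Sq j (BasedFunctor.comp f g)) : Sq j g where
  top := BasedFunctor.comp sq.top f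
  bot := sq.bot
  iso := sq.iso

theorem liftsUniquely_comp (hf : LiftsUniquely j f) (hg : LiftsUniquely j g) :
    LiftsUniquely j (BasedFunctor.comp f g) := by
  intro sq
  obtain ⟨⟨d₁⟩, u₁⟩ := hg (outer sq)
  let sq₂ : Sq j f := { top := sq.top, bot := d₁.fn, iso := d₁.isoTop }
  obtain ⟨⟨d₂⟩, u₂⟩ := hf sq₂
  let wI : BasedFunctor.comp d₁.fn g ≅ BasedFunctor.comp (BasedFunctor.comp d₂.fn f) g :=
    { hom := BasedCategory.whiskerRight d₂.isoBot.hom g
      inv := BasedCategory.whiskerRight d₂.isoBot.inv g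
      hom_inv_id := by rw [← whiskerRight_comp', d₂.isoBot.hom_inv_id, whiskerRight_id']
      inv_hom_id := by rw [← whiskerRight_comp', d₂.isoBot.inv_hom_id, whiskerRight_id'] }
  refine ⟨⟨{ fn := d₂.fn, isoTop := d₂.isoTop, isoBot := d₁.isoBot.trans wI, w := ?_ }⟩, fun d d' ↦ ?_⟩
  · refine BasedNatTrans.homCategory.ext _ _ (NatTrans.ext (funext fun a ↦ ?_))
    have e1 := congrArg (fun η ↦ η.toNatTrans.app a) d₁.w
    have e2 := congrArg (fun η ↦ η.toNatTrans.app a) d₂.w
    change (d₁.isoBot.hom.toNatTrans.app (j.obj a) ≫ g.map (d₂.isoBot.hom.toNatTrans.app (j.obj a))) ≫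
      g.map (f.map (d₂.isoTop.hom.toNatTrans.app a)) = _
    change d₁.isoBot.hom.toNatTrans.app (j.obj a) ≫ g.map (d₁.isoTop.hom.toNatTrans.app a) = _ at e1
    change d₂.isoBot.hom.toNatTrans.app (j.obj a) ≫ f.map (d₂.isoTop.hom.toNatTrans.app a) =
      d₁.isoTop.hom.toNatTrans.app a at e2
    refine (Category.assoc _ _ _).trans (Eq.trans ?_ e1)
    exact congrArg (_ ≫ ·) ((g.toFunctor.map_comp _ _).symm.trans (congrArg g.toFunctor.map e2))
  · -- the two images in the outer square
    let im : ∀ c : sq.Lift, (outer sq).Lift := fun c ↦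
      { fn := BasedFunctor.comp c.fn f
        isoTop := wrIso c.isoTop f
        isoBot := c.isoBot
        w := c.w }
    obtain ⟨η⟩ := u₁ (im d) (im d')
    obtain ⟨η'⟩ := u₁ (im d') (im d)
    obtain ⟨ηd⟩ := u₁ (im d) (im d)
    obtain ⟨ηd'⟩ := u₁ (im d') (im d')
    let ε : BasedFunctor.comp d.fn f ≅ BasedFunctor.comp d'.fn f :=
      { hom := η.default.hom
        inv := η'.default.hom
        hom_inv_id := congrArg Sq.Lift.Hom.hom ((ηd.uniq (η.default ≫ η'.default)).trans (ηd.uniq (𝟙 (im d))).symm)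
        inv_hom_id := congrArg Sq.Lift.Hom.hom ((ηd'.uniq (η'.default ≫ η.default)).trans (ηd'.uniq (𝟙 (im d'))).symm) }
    -- both are fillings of the inner square with bottom `d ⋙ f`
    let sqd : Sq j f :=
      { top := sq.top
        bot := BasedFunctor.comp d.fn f
        iso := wrIso d.isoTop f }
    let c : sqd.Lift :=
      { fn := d.fn
        isoTop := d.isoTop
        isoBot := Iso.refl _
        w := by
          refine BasedNatTrans.homCategory.ext _ _ (NatTrans.ext (funext fun a ↦ ?_))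
          exact Category.id_comp _ }
    let c' : sqd.Lift :=
      { fn := d'.fn
        isoTop := d'.isoTop
        isoBot := ε
        w := η.default.w_top }
    obtain ⟨θ⟩ := (hf sqd).2 c c'
    have hbot : BasedCategory.whiskerRight θ.default.hom f = η.default.hom := by
      have h := θ.default.w_bot
      change 𝟙 _ ≫ BasedCategory.whiskerRight θ.default.hom f = η.default.hom at h
      rwa [Category.id_comp] at h
    refine ⟨{ default := ⟨θ.default.hom, θ.default.w_top, ?_⟩, uniq := fun ψ ↦ ?_ }⟩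
    · have h := η.default.w_bot
      rw [← hbot] at h
      exact h
    · have h1 : (⟨BasedCategory.whiskerRight ψ.hom f, ?_, ψ.w_bot⟩ : im d ⟶ im d') = η.default := η.uniq _
      · have h2 : (⟨ψ.hom, ψ.w_top, ?_⟩ : c ⟶ c') = θ.default := θ.uniq _
        · exact Sq.Lift.hom_ext (congrArg (fun z : c ⟶ c' ↦ z.hom) h2)
        · change 𝟙 _ ≫ BasedCategory.whiskerRight ψ.hom f = η.default.hom
          rw [Category.id_comp]
          exact congrArg (fun z : im d ⟶ im d' ↦ z.hom) h1
      · have h := congrArg (fun η ↦ BasedCategory.whiskerRight η f) ψ.w_top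
        change BasedCategory.whiskerRight (_ ≫ _) f = _ at h
        rw [whiskerRight_comp'] at h
        exact h

end Groth.Agent.CycLib28.LiftSqComp
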