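import Mathlib
import Groth.Agent.S6470
import Groth.Agent.CycLib28.ProjPoint
import Groth.Agent.CycLib28.PointSheaf
import Groth.Agent.CycLib28.PushFinite
import Groth.Agent.CycLib28.FiniteNear
import Groth.Agent.CycLib28.PushAny
import Groth.Agent.CycLib28.FlatRat
import Groth.Agent.Coherent.Existence.Restrict

/-!
# The projection formula for the intersection product
-/

set_option autoImplicit false
set_option linter.style.haveILetI false
set_option maxHeartbeats 800000

universe u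

open CategoryTheory CategoryTheory.Limits AlgebraicGeometry IsLocalRing Groth.Agent.CycLim28

attribute [local instance] HasDerivedCategory.standard

namespace Groth.Agent.CycLib28.InterSheaf

variable {X Y : Scheme.{u}}

/-- The intersection cycles in the two dimensions, for one point on either scheme. -/
theorem proj_pair (K : Type u) [Field K] [IsAlgClosed K] (f : X ⟶ Y) (gX : X ⟶ Spec (CommRingCat.of K))
    (gY : Y ⟶ Spec (CommRingCat.of K)) [Smooth gX] [IsSeparated gX] [QuasiCompact gX] [IsIntegral X] [Smooth gY]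
    [IsSeparated gY] [QuasiCompact gY] [IsIntegral Y] [Flat f] [IsProper f] {δX : X → ℤ} {δY : Y → ℤ}
    (hX : Cyc.IsSetup X δX) (hY : Cyc.IsSetup Y δY) (hδX : Cyc.DeltaCompat gX δX (fun _ => 0))
    (hδY : Cyc.DeltaCompat gY δY (fun _ => 0)) (hδ : Cyc.DeltaCompat f δX δY) {n m e : ℤ}
    (hn : δX (genericPoint X) = n) (hm : δY (genericPoint Y) = m) (he : e = n - m)
    (hc : ∀ x, GenInFibre f x → δX x = δY (f x) + e) {r s : ℤ} {a : X} {b : Y} (ha : δX a = r)
    (hb : δY b = s) (H : ∀ x, a ⤳ x → b ⤳ f x → δX x ≤ r + s - m) {y : Y} (hy : δY y = r + s - m)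
    (Q : Finset X) (hQ1 : ∀ x ∈ Q, f x = y) (hQ2 : ∀ x, f x = y → a ⤳ x → b ⤳ y → x ∈ Q) :
    IntMult.interProd δY m (fun y' => (AlgebraicCycle.mapCoeff f δX δY a : ℤ) * Set.indicator {f a} 1 y')
        (Set.indicator {b} 1) y =
      ∑ x ∈ Q, IntMult.interProd δX n (Set.indicator {a} 1) (Cyc.pullFun f δX δY e (Set.indicator {b} 1)) x *
        (AlgebraicCycle.mapCoeff f δX δY x : ℤ) := by
  classical
  haveI := hX.1
  haveI := hY.1
  set G := pointSheaf b
  have hG : Coh.IsCoh G := isCoh_pointSheaf b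
  have hGb : ∀ y', Nontrivial (G.presheaf.stalk y') → b ⤳ y' := specializes_of_nontrivial_pointSheaf b
  set Gp := (Scheme.Modules.pullback f).obj G
  have hGp : Coh.IsCoh Gp := isCoh_pullback f hG
  have hGpb : ∀ x, Nontrivial (Gp.presheaf.stalk x) → b ⤳ f x := fun x hx =>
    hGb _ (nontrivial_of_pullback f G x hx)
  set F := pointSheaf a
  have hF : Coh.IsCoh F := isCoh_pointSheaf a
  have hFa : ∀ x, Nontrivial (F.presheaf.stalk x) → a ⤳ x := specializes_of_nontrivial_pointSheaf a
  have hsG : ∀ y', Nontrivial (G.presheaf.stalk y') → δY y' ≤ s := fun y' h =>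
    hb ▸ le_of_specializes hY.2.2 (hGb y' h)
  have hrF : ∀ x, Nontrivial (F.presheaf.stalk x) → δX x ≤ r := fun x h =>
    ha ▸ le_of_specializes hX.2.2 (hFa x h)
  obtain ⟨hsGp, hpull⟩ := pullFun_sheafFun f hX.2.2 e hc s G hsG
  have hsfG : Cyc.sheafFun δY s G = Set.indicator {b} 1 := sheafFun_pointSheaf hY.2.2 hb
  have hsfF : Cyc.sheafFun δX r F = Set.indicator {a} 1 := sheafFun_pointSheaf hX.2.2 ha
  let c : AlgebraicCycle X ℤ := Function.locallyFinsuppWithin.single a 1
  have hc1 : ⇑c = Cyc.sheafFun δX r F := by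
    rw [hsfF]
    funext x
    by_cases hx : x = a <;> simp [c, hx]
  have hmap : (fun y' => (AlgebraicCycle.mapCoeff f δX δY a : ℤ) * Set.indicator {f a} 1 y') =
      Cyc.sheafFun δY r ((Coh.push f).obj F) := by
    rw [← sheafFun_push f hX.2.2 hδ r F hF hrF c hc1]
    funext y'
    by_cases h : f a = y'
    · subst h
      rw [map_apply_finset f δX δY c (f a) {a} (by simp) (fun x _ hx => by simpa [c] using hx),
        Finset.sum_singleton]
      simp [c]
    · rw [map_apply_finset f δX δY c y' ∅ (by simp) (fun x hx hx0 => by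
        have : x = a := by simpa [c] using hx0
        exact absurd (this ▸ hx) h), Finset.sum_empty]
      simp [Ne.symm h]
  have hPF : Coh.IsCoh ((Coh.push f).obj F) := Groth.Agent.Coherent.Existence.isCoh_push_of_isProper f hF
  have hrP : ∀ y', Nontrivial (((Coh.push f).obj F).presheaf.stalk y') → δY y' ≤ r := fun y' h =>
    delta_le_of_push f f.isClosedMap hF (delta_le' f hδ) r hrF y' h
  have hrsP : ∀ y', Nontrivial (((Coh.push f).obj F).presheaf.stalk y') → Nontrivial (G.presheaf.stalk y') →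
      δY y' ≤ r + s - m := fun y' h1 h2 => by
    have e1 : {x : X | Nontrivial (F.presheaf.stalk x)} = CohB1.support F :=
      Set.ext fun x ↦ not_subsingleton_iff_nontrivial.symm
    obtain ⟨x, hx, rfl⟩ := support_push_subset_image f f.isClosedMap F (e1 ▸ isClosed_nontrivial hF)
      (not_subsingleton_iff_nontrivial.mpr h1)
    exact (delta_le' f hδ x).trans (H x (hFa x (not_subsingleton_iff_nontrivial.mp hx)) (hGb _ h2))
  have hrsX : ∀ x, Nontrivial (F.presheaf.stalk x) → Nontrivial (Gp.presheaf.stalk x) →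
      δX x ≤ r + (s + e) - n := fun x h1 h2 => by
    have := H x (hFa x h1) (hGpb x h2)
    omega
  have hXi := fun x => (Groth.Agent.S6470.result K X gX δX hX hδX n hn F Gp hF hGp r (s + e) hrF hsGp hrsX).2 x
  rw [hmap, ← hsfG, ← hsfF, hpull,
    (Groth.Agent.S6470.result K Y gY δY hY hδY m hm _ G hPF hG r s hrP hsG hrsP).2 y, if_pos hy,
    Finset.sum_congr rfl fun x _ => congrArg (· * _) (hXi x)]
  haveI : ∀ x, IsRegularLocalRing (X.presheaf.stalk x) := isRegularLocalRing_stalk gX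
  haveI := isRegularLocalRing_stalk gY y
  haveI hPfin := Groth.Agent.AssSch12.finite_stalk hPF y
  by_cases hby : b ⤳ y
  swap
  · haveI : Subsingleton (G.presheaf.stalk y) := not_nontrivial_iff_subsingleton.mp fun h => hby (hGb y h)
    rw [chi_of_subsingleton, Finset.sum_eq_zero]
    intro x hx
    haveI : Subsingleton (Gp.presheaf.stalk x) :=
      not_nontrivial_iff_subsingleton.mp fun h => hby (hQ1 x hx ▸ hGpb x h)
    haveI := Groth.Agent.AssSch12.finite_stalk hF x
    rw [chi_of_subsingleton, ite_self, zero_mul]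
  set i := (IntMult.ptIdeal a).subschemeι
  have hdx : ∀ x, a ⤳ x → f x = y → δX x = r + s - m := fun x h1 h2 =>
    le_antisymm (H x h1 (h2 ▸ hby)) (by have := delta_le' f hδ x; rw [h2] at this; omega)
  have hiv : ∀ v, a ⤳ i v := fun v =>
    mem_support_ptIdeal.1 ((IntMult.ptIdeal a).range_subschemeι.le ⟨v, rfl⟩)
  have htr : ∀ v, (i ≫ f) v = y → DimLib.trdegHom ((i ≫ f).residueFieldMap v).hom = 0 := fun v hv => by
    obtain ⟨k, hk, hk'⟩ := deltaCompat_square i (𝟙 Y) (i ≫ f) f (Category.comp_id _) hδ v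
    have h1 : δX (i v) = δY y + (k : ℤ) := by rw [← hv]; exact hk'
    have h2 := hdx (i v) (hiv v) hv
    have hk0 : k = 0 := by omega
    simp only [DimLib.trdegHom]
    rw [hk, hk0, Nat.cast_zero, map_zero]
  obtain ⟨V0, hy0, hfinV⟩ := finite_near_of_trdeg_zero (i ≫ f) y htr
  have hfib : {v | (i ≫ f) v = y}.Finite := by
    refine ((Q.finite_toSet).preimage i.isEmbedding.injective.injOn).subset fun v hv => ?_
    exact hQ2 _ hv (hiv v) hby
  have hsv : ∀ v, v ∈ hfib.toFinset ↔ (i ≫ f) v = y := fun v => hfib.mem_toFinset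
  haveI : Module.Finite (Y.presheaf.stalk y)
      (((Coh.push (i ≫ f)).obj (Coh.structureModule _)).presheaf.stalk y) := hPfin
  have hmeet : ChiCalc.Meet (A := Y.presheaf.stalk y)
      (((Coh.push (i ≫ f)).obj (Coh.structureModule _)).presheaf.stalk y) (G.presheaf.stalk y) := by
    rintro P ⟨hP1, hP2⟩
    rw [mem_support_iff_stalk hG.1] at hP2
    have hP1' : Nontrivial (((Coh.push f).obj F).presheaf.stalk (Y.fromSpecStalk y P)) :=
      (mem_support_iff_stalk hPF.1 y P).1 hP1
    have h1 := hrsP _ hP1' hP2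
    have h2 := eq_of_specializes_of_le hY.2.2 (fromSpecStalk_specializes y P) (by omega)
    exact fromSpecStalk_injective y (h2.trans Scheme.fromSpecStalk_closedPoint.symm)
  have key := chi_push f i G hG y hy0 hfib.toFinset hsv (isRegularLocalRing_stalk gX) hmeet
  refine key.trans ?_
  rw [← Finset.sum_image (f := fun x => IntMult.chi (X.presheaf.stalk x) (F.presheaf.stalk x)
    (Gp.presheaf.stalk x) * (f.residueDegree x : ℤ)) i.isEmbedding.injective.injOn]
  refine Finset.sum_subset_zero_on_sdiff ?_ ?_ ?_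
  · intro x hx
    obtain ⟨v, hv, rfl⟩ := Finset.mem_image.1 hx
    exact hQ2 _ ((hsv v).1 hv) (hiv v) hby
  · intro x hx
    rw [Finset.mem_sdiff] at hx
    haveI : Subsingleton (F.presheaf.stalk x) := not_nontrivial_iff_subsingleton.mp fun h => by
      obtain ⟨v, rfl⟩ := (IntMult.ptIdeal a).range_subschemeι.ge (mem_support_ptIdeal.2 (hFa x h))
      exact hx.2 (Finset.mem_image.2 ⟨v, (hsv v).2 (hQ1 _ hx.1), rfl⟩)
    haveI := Groth.Agent.AssSch12.finite_stalk hGp x
    rw [chi_comm, chi_of_subsingleton, ite_self, zero_mul]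
  · intro x hx
    obtain ⟨v, hv, rfl⟩ := Finset.mem_image.1 hx
    have hfx : f (i v) = y := (hsv v).1 hv
    have hd := hdx _ (hiv v) hfx
    rw [if_pos (show δX (i v) = r + (s + e) - n by omega), AlgebraicCycle.mapCoeff,
      if_pos (show δX (i v) = δY (f (i v)) by rw [hfx]; omega)]

/-- A pair of points with nonzero coefficients meets in the expected dimension. -/
theorem exists_pull_ne_zero (f : X ⟶ Y) [Flat f] {b : Y} {x : X} (h : b ⤳ f x) :
    ∃ w, w ⤳ x ∧ f w = b ∧ GenInFibre f w := by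
  obtain ⟨w0, hw0, hf0⟩ := exists_specializes_of_flat f h
  obtain ⟨w, hw, hfw, hg⟩ := exists_genInFibre f w0
  exact ⟨w, hw.trans hw0, hfw.trans hf0, hg⟩

/-- A closure meets a fibre in finitely many points when these have the dimension of the base point. -/
theorem finite_fibre_closure (f : X ⟶ Y) [IsProper f] {δX : X → ℤ} {δY : Y → ℤ} (hX : Cyc.IsSetup X δX)
    (hδ : Cyc.DeltaCompat f δX δY) (a : X) (y : Y) (hd : ∀ x, a ⤳ x → f x = y → δX x = δY y) :
    {x : X | f x = y ∧ a ⤳ x}.Finite := by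
  set i := (IntMult.ptIdeal a).subschemeι
  have htr : ∀ v, (i ≫ f) v = y → DimLib.trdegHom ((i ≫ f).residueFieldMap v).hom = 0 := fun v hv => by
    obtain ⟨k, hk, hk'⟩ := deltaCompat_square i (𝟙 Y) (i ≫ f) f (Category.comp_id _) hδ v
    have h1 : δX (i v) = δY y + (k : ℤ) := by rw [← hv]; exact hk'
    have h2 := hd (i v) (mem_support_ptIdeal.1 ((IntMult.ptIdeal a).range_subschemeι.le ⟨v, rfl⟩)) hv
    have hk0 : k = 0 := by omega
    simp only [DimLib.trdegHom]
    rw [hk, hk0, Nat.cast_zero, map_zero]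
  obtain ⟨V, hy, hV⟩ := finite_near_of_trdeg_zero (i ≫ f) y htr
  refine (((IsFinite.finite_preimage_singleton ((i ≫ f) ∣_ V) ⟨y, hy⟩).image
    (((i ≫ f) ⁻¹ᵁ V).ι ≫ i)).subset ?_)
  rintro x ⟨hfx, hax⟩
  obtain ⟨v, rfl⟩ := (IntMult.ptIdeal a).range_subschemeι.ge (mem_support_ptIdeal.2 hax)
  have hfv : (i ≫ f) v = y := hfx
  obtain ⟨w, hw⟩ : v ∈ Set.range ((i ≫ f) ⁻¹ᵁ V).ι := ((i ≫ f) ⁻¹ᵁ V).range_ι.ge
    (show (i ≫ f) v ∈ V from hfv ▸ hy)
  refine ⟨w, V.ι.isEmbedding.injective ?_, by rw [Scheme.Hom.comp_apply, hw]⟩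
  rw [← Scheme.Hom.comp_apply, morphismRestrict_ι, Scheme.Hom.comp_apply, hw, hfv]
  rfl

theorem exists_ne_zero_of_finsum' {ι : Type*} {g : ι → ℤ} (h : ∑ᶠ i, g i ≠ 0) : ∃ i, g i ≠ 0 :=
  not_forall.mp fun h' => h (finsum_eq_zero_of_forall_eq_zero h')

theorem lenFibre_toNat_ne_zero [IsLocallyNoetherian X] (f : X ⟶ Y) {x : X} (hx : GenInFibre f x) :
    (lenFibre f x).toNat ≠ 0 := by
  set J := Ideal.map (f.stalkMap x).hom (maximalIdeal (Y.presheaf.stalk (f x)))
  have hJ : J ≤ (closedPoint (X.presheaf.stalk x)).asIdeal :=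
    (map_maximalIdeal_le_iff f x _).mpr (by rw [Scheme.fromSpecStalk_closedPoint])
  haveI : Nontrivial (X.presheaf.stalk x ⧸ J) :=
    Ideal.Quotient.nontrivial_iff.mpr (ne_top_of_le_ne_top (Ideal.IsPrime.ne_top inferInstance) hJ)
  have htop : Module.length (X.presheaf.stalk x) (X.presheaf.stalk x ⧸ J) ≠ ⊤ := by
    refine length_ne_top_of_annihilator fun q hq ↦ fromSpecStalk_injective x ?_
    rw [Scheme.fromSpecStalk_closedPoint]
    rw [Ideal.annihilator_quotient] at hq
    exact hx _ ((map_maximalIdeal_le_iff f x q).mp hq) (fromSpecStalk_specializes x q)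
  exact (ENat.toNat_pos (ne_of_gt Module.length_pos) htop).ne'

theorem finite_support_cycle [CompactSpace X] (α : AlgebraicCycle X ℤ) : (Function.support ⇑α).Finite := by
  simpa using (Function.locallyFinsupp.locallyFiniteSupport α).finite_inter_support_of_isCompact isCompact_univ

theorem proj_formula (K : Type u) [Field K] [IsAlgClosed K] (f : X ⟶ Y) (gX : X ⟶ Spec (CommRingCat.of K))
    (gY : Y ⟶ Spec (CommRingCat.of K)) [Smooth gX] [IsSeparated gX] [QuasiCompact gX] [IsIntegral X] [Smooth gY]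
    [IsSeparated gY] [QuasiCompact gY] [IsIntegral Y] [Flat f] [IsProper f] {δX : X → ℤ} {δY : Y → ℤ}
    (hX : Cyc.IsSetup X δX) (hY : Cyc.IsSetup Y δY) (hδX : Cyc.DeltaCompat gX δX (fun _ => 0))
    (hδY : Cyc.DeltaCompat gY δY (fun _ => 0)) (hδ : Cyc.DeltaCompat f δX δY) {n m : ℤ} {e : ℤ}
    (hn : δX (genericPoint X) = n) (hm : δY (genericPoint Y) = m) (he : e = n - m)
    (hc : ∀ x, GenInFibre f x → δX x = δY (f x) + e) (r s : ℤ) (α : AlgebraicCycle X ℤ)
    (β : AlgebraicCycle Y ℤ) (hα : α ∈ Cyc.Zk X δX r) (hβ : β ∈ Cyc.Zk Y δY s)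
    (hprop : IntMult.IntersectProperly δX n ⇑α (Cyc.pullFun f δX δY e ⇑β)) (γ : AlgebraicCycle X ℤ)
    (hγ : ⇑γ = IntMult.interProd δX n ⇑α (Cyc.pullFun f δX δY e ⇑β)) :
    IntMult.IntersectProperly δY m ⇑(AlgebraicCycle.map f δX δY α) ⇑β ∧
      IntMult.interProd δY m ⇑(AlgebraicCycle.map f δX δY α) ⇑β = ⇑(AlgebraicCycle.map f δX δY γ) := by
  classical
  haveI := hX.1
  haveI := hY.1
  haveI : CompactSpace X := QuasiCompact.compactSpace_of_compactSpace gX
  haveI : CompactSpace Y := QuasiCompact.compactSpace_of_compactSpace gY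
  have hZ : ∀ a, α a ≠ 0 → δX a = r := fun a h => by
    by_contra hh
    exact h (hα a hh)
  have hZ' : ∀ b, β b ≠ 0 → δY b = s := fun b h => by
    by_contra hh
    exact h (hβ b hh)
  have hpull := fun (γ' : Y → ℤ) x => pullFun_eq f δX δY e hc γ' x
  -- the expected dimension upstairs
  have H : ∀ a b x, α a ≠ 0 → β b ≠ 0 → a ⤳ x → b ⤳ f x → δX x ≤ r + s - m := by
    intro a b x ha hb hax hbx
    obtain ⟨w, hwx, hfw, hg⟩ := exists_pull_ne_zero f hbx
    have hw : Cyc.pullFun f δX δY e ⇑β w ≠ 0 := by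
      rw [hpull, hfw]
      exact mul_ne_zero hb (Nat.cast_ne_zero.mpr (lenFibre_toNat_ne_zero f hg))
    have := hprop a w x ha hw hax hwx
    rw [hZ a ha, hc w hg, hfw, hZ' b hb] at this
    omega
  -- the support of the image cycle
  have hmapsupp : ∀ a', AlgebraicCycle.map f δX δY α a' ≠ 0 → ∃ a, f a = a' ∧ α a ≠ 0 ∧ δY a' = r := by
    intro a' h
    rw [map_apply] at h
    obtain ⟨a, ha, hne⟩ := exists_ne_zero_of_finsum_mem_ne_zero h
    refine ⟨a, ha, left_ne_zero_of_mul hne, ?_⟩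
    have h2 := right_ne_zero_of_mul hne
    have h3 : δX a = δY (f a) := by
      by_contra hh
      exact h2 (by rw [AlgebraicCycle.mapCoeff, if_neg hh, Nat.cast_zero])
    rw [← (ha : f a = a'), ← h3, hZ a (left_ne_zero_of_mul hne)]
  refine ⟨fun a' b y ha' hb hy1 hy2 => ?_, funext fun y => ?_⟩
  · obtain ⟨a, rfl, ha, hd⟩ := hmapsupp a' ha'
    obtain ⟨x, hax, rfl⟩ := f.isClosedMap.specializingMap hy1
    have := H a b x ha hb hax hy2
    have := delta_le' f hδ x
    rw [hd, hZ' b hb]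
    omega
  by_cases hy : δY y = r + s - m
  swap
  · rw [IntMult.interProd, finsum_eq_zero_of_forall_eq_zero, map_apply, finsum_mem_of_eqOn_zero]
    · intro x hx
      simp only [Pi.zero_apply]
      by_contra hne
      have h1 := left_ne_zero_of_mul hne
      have h2 : δX x = δY (f x) := by
        by_contra hh
        exact right_ne_zero_of_mul hne (by rw [AlgebraicCycle.mapCoeff, if_neg hh, Nat.cast_zero])
      rw [hγ, IntMult.interProd] at h1
      obtain ⟨p, hp⟩ := exists_ne_zero_of_finsum' h1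
      have hw := right_ne_zero_of_mul (left_ne_zero_of_mul hp)
      rw [hpull] at hw
      have hg : GenInFibre f p.1.2 := by
        by_contra hg
        rw [lenFibre_eq_top f hg, ENat.toNat_top, Nat.cast_zero, mul_zero] at hw
        exact hw rfl
      have h3 := p.2.2.2
      rw [hZ _ (left_ne_zero_of_mul (left_ne_zero_of_mul hp)), hc _ hg, hZ' _ (left_ne_zero_of_mul hw)] at h3
      rw [(hx : f x = y)] at h2
      omega
    · intro p
      by_contra hne
      obtain ⟨a, -, -, hd⟩ := hmapsupp _ (left_ne_zero_of_mul (left_ne_zero_of_mul hne))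
      have h3 := p.2.2.2
      rw [hd, hZ' _ (right_ne_zero_of_mul (left_ne_zero_of_mul hne))] at h3
      omega
  set A := (finite_support_cycle α).toFinset
  set B := (finite_support_cycle β).toFinset
  have hA : ∀ a, a ∈ A ↔ α a ≠ 0 := fun a => (finite_support_cycle α).mem_toFinset
  have hB : ∀ b, b ∈ B ↔ β b ≠ 0 := fun b => (finite_support_cycle β).mem_toFinset
  have hsetfin : {x : X | f x = y ∧ ∃ a ∈ A, ∃ b ∈ B, a ⤳ x ∧ b ⤳ y}.Finite := by
    have key : ∀ a ∈ A, ∀ b ∈ B, b ⤳ y → {x : X | f x = y ∧ a ⤳ x}.Finite := fun a ha b hb hby =>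
      finite_fibre_closure f hX hδ a y fun x h1 h2 =>
        le_antisymm ((H a b x ((hA a).1 ha) ((hB b).1 hb) h1 (h2.symm ▸ hby)).trans hy.ge)
          (h2 ▸ delta_le' f hδ x)
    refine (A.finite_toSet.biUnion fun a ha => B.finite_toSet.biUnion fun b hb =>
      (show {x : X | b ⤳ y ∧ f x = y ∧ a ⤳ x}.Finite from if hby : b ⤳ y then (key a ha b hb hby).subset
        (fun x hx => hx.2) else Set.finite_empty.subset fun x hx => absurd hx.1 hby)).subset ?_
    rintro x ⟨hx, a, ha, b, hb, h1, h2⟩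
    exact Set.mem_biUnion ha (Set.mem_biUnion hb ⟨h2, hx, h1⟩)
  set Q := hsetfin.toFinset
  have hQ : ∀ x, x ∈ Q ↔ f x = y ∧ ∃ a ∈ A, ∃ b ∈ B, a ⤳ x ∧ b ⤳ y := fun x => hsetfin.mem_toFinset
  -- expansions of the two sides
  have hαf : ⇑(AlgebraicCycle.map f δX δY α) =
      fun y' => ∑ a ∈ A, α a * ((AlgebraicCycle.mapCoeff f δX δY a : ℤ) * Set.indicator {f a} 1 y') := by
    funext y'
    rw [map_apply_finset f δX δY α y' (A.filter fun a => f a = y') (fun a ha => (Finset.mem_filter.1 ha).2)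
      (fun a ha h => Finset.mem_filter.2 ⟨(hA a).2 h, ha⟩), Finset.sum_filter]
    refine Finset.sum_congr rfl fun a _ => ?_
    by_cases h : f a = y'
    · subst h
      simp
    · simp [h, Ne.symm h]
  have hβf : ⇑β = fun y' => ∑ b ∈ B, β b * Set.indicator {b} 1 y' :=
    funext fun y' => (sum_indicator_mul (fun x h => (hB x).2 h) y').symm
  have hαx : ⇑α = fun x' => ∑ a ∈ A, α a * Set.indicator {a} 1 x' :=
    funext fun x' => (sum_indicator_mul (fun x h => (hA x).2 h) x').symm
  have hβx : Cyc.pullFun f δX δY e ⇑β =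
      fun x' => ∑ b ∈ B, β b * Cyc.pullFun f δX δY e (Set.indicator {b} 1) x' := by
    funext x'
    simp only [hpull]
    rw [← Finset.sum_congr rfl fun b _ => (mul_assoc _ _ _), ← Finset.sum_mul,
      sum_indicator_mul (fun x h => (hB x).2 h)]
  -- generic points of the fibres over the support of `β`
  have hT : ∀ b ∈ B, {w : X | Cyc.pullFun f δX δY e (Set.indicator {b} 1) w ≠ 0}.Finite := by
    intro b _
    obtain ⟨U, hU, hcov⟩ := isCompact_and_isOpen_iff_finite_and_eq_biUnion_affineOpens.mp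
      ⟨isCompact_univ, isOpen_univ (X := X)⟩
    refine ((hU.biUnion fun V _ => finite_genInFibre_over f b V.2)).subset fun w hw => ?_
    rw [Set.mem_setOf_eq, hpull] at hw
    have hfw : f w = b := by
      by_contra hh
      simp [hh] at hw
    obtain ⟨V, hV, hwV⟩ := Set.mem_iUnion₂.1 (hcov.le (Set.mem_univ w))
    refine Set.mem_biUnion hV ⟨hwV, ?_, hfw⟩
    by_contra hg
    rw [lenFibre_eq_top f hg, ENat.toNat_top, Nat.cast_zero, mul_zero] at hw
    exact hw rfl
  set T := (B.finite_toSet.biUnion hT).toFinset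
  have hexp : ∀ x, IntMult.interProd δX n ⇑α (Cyc.pullFun f δX δY e ⇑β) x = ∑ a ∈ A, ∑ b ∈ B, α a * β b *
      IntMult.interProd δX n (Set.indicator {a} 1) (Cyc.pullFun f δX δY e (Set.indicator {b} 1)) x := fun x => by
    conv_lhs => rw [hαx, hβx]
    exact interProd_sum δX n A B _ _ _ _ A T (fun a ha z hz => by
      rw [Set.mem_singleton_iff.1 (Set.mem_of_indicator_ne_zero hz)]; exact ha)
      (fun b hb z hz => by
        simp only [T, Set.Finite.mem_toFinset, Set.mem_iUnion₂]
        exact ⟨b, hb, hz⟩) x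
  rw [map_apply_finset f δX δY γ y Q (fun x hx => ((hQ x).1 hx).1) (fun x hx hne => ?_), hγ,
    Finset.sum_congr rfl fun x _ => congrArg (· * _) (hexp x)]
  swap
  · rw [hγ, IntMult.interProd] at hne
    obtain ⟨p, hp⟩ := exists_ne_zero_of_finsum' hne
    have hw := right_ne_zero_of_mul (left_ne_zero_of_mul hp)
    rw [hpull] at hw
    exact (hQ x).2 ⟨hx, p.1.1, (hA _).2 (left_ne_zero_of_mul (left_ne_zero_of_mul hp)), f p.1.2,
      (hB _).2 (left_ne_zero_of_mul hw), p.2.1, hx ▸ p.2.2.1.map f.continuous⟩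
  conv_lhs => rw [hαf, hβf]
  rw [interProd_sum δY m A B _ _ _ _ (A.image f) B (fun a ha z hz => by
      rw [Set.mem_singleton_iff.1 (Set.mem_of_indicator_ne_zero (right_ne_zero_of_mul hz))]
      exact Finset.mem_image_of_mem f ha)
    (fun b hb z hz => by rw [Set.mem_singleton_iff.1 (Set.mem_of_indicator_ne_zero hz)]; exact hb)]
  simp only [Finset.sum_mul]
  rw [Finset.sum_comm (s := Q)]
  refine Finset.sum_congr rfl fun a ha => ?_
  rw [Finset.sum_comm (s := Q)]
  refine Finset.sum_congr rfl fun b hb => ?_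
  rw [proj_pair K f gX gY hX hY hδX hδY hδ hn hm he hc (hZ a ((hA a).1 ha)) (hZ' b ((hB b).1 hb))
    (fun x => H a b x ((hA a).1 ha) ((hB b).1 hb)) hy Q (fun x hx => ((hQ x).1 hx).1)
    (fun x hx h1 h2 => (hQ x).2 ⟨hx, a, ha, b, hb, h1, h2⟩), Finset.mul_sum]
  exact Finset.sum_congr rfl fun x _ => (mul_assoc _ _ _).symm

end Groth.Agent.CycLib28.InterSheaf
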