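import Mathlib
import Groth.Agent.CycLib28.P1Inter
import Groth.Agent.CycLib28.ChiLocal

/-!
# A cylinder over the projective line cut by a section
-/

set_option autoImplicit false
set_option backward.isDefEq.respectTransparency false
set_option linter.style.haveILetI false

universe u

open CategoryTheory CategoryTheory.Limits AlgebraicGeometry IsLocalRing TensorProduct
open Groth.Agent Groth.Agent.CycLim28 Groth.Agent.CycLib28.InterSheaf

namespace Groth.Agent.CycLib28.P1Fam

theorem ringKrullDim_quot_le_one {A : Type u} [CommRing A] [IsLocalRing A] [IsNoetherianRing A] (q : PrimeSpectrum A) {t : A}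
    (htm : t ∈ maximalIdeal A) (h : ∀ p : PrimeSpectrum A, q.asIdeal ≤ p.asIdeal → t ∈ p.asIdeal → p = closedPoint A) :
    ringKrullDim (A ⧸ q.asIdeal) ≤ (1 : ℕ) := by
  refine (ringKrullDim_le_ringKrullDim_quotient_add_card {Ideal.Quotient.mk q.asIdeal t} ?_).trans ?_
  · intro x hx
    rw [Finset.coe_singleton, Set.mem_singleton_iff] at hx
    subst hx
    haveI : Nontrivial (A ⧸ q.asIdeal) := Ideal.Quotient.nontrivial_iff.2 q.2.ne_top
    haveI : IsLocalRing (A ⧸ q.asIdeal) :=
      IsLocalRing.of_surjective' (Ideal.Quotient.mk q.asIdeal) Ideal.Quotient.mk_surjective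
    rw [IsLocalRing.ringJacobson_eq_maximalIdeal]
    haveI := IsLocalHom.of_surjective (Ideal.Quotient.mk q.asIdeal) Ideal.Quotient.mk_surjective
    intro hu
    exact htm ((isUnit_map_iff (Ideal.Quotient.mk q.asIdeal) t).1 hu)
  · rw [Finset.coe_singleton, Finset.card_singleton]
    have h0 : Ring.KrullDimLE 0 ((A ⧸ q.asIdeal) ⧸ Ideal.span {Ideal.Quotient.mk q.asIdeal t}) := by
      refine Ring.KrullDimLE.mk₀ fun P hP => ?_
      let π := (Ideal.Quotient.mk (Ideal.span {Ideal.Quotient.mk q.asIdeal t})).comp (Ideal.Quotient.mk q.asIdeal)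
      have hπ : Function.Surjective π := Ideal.Quotient.mk_surjective.comp Ideal.Quotient.mk_surjective
      have hP' : (P.comap π).IsPrime := Ideal.comap_isPrime π P
      have he := h ⟨P.comap π, hP'⟩ (fun a ha => by
          show π a ∈ P
          rw [show π a = 0 by simp [π, Ideal.Quotient.eq_zero_iff_mem.2 ha]]
          exact P.zero_mem) (by
          show π t ∈ P
          rw [show π t = 0 from Ideal.Quotient.eq_zero_iff_mem.2 (Ideal.mem_span_singleton_self _)]
          exact P.zero_mem)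
      have hmax : (P.comap π).IsMaximal := by
        rw [show P.comap π = maximalIdeal A from congrArg PrimeSpectrum.asIdeal he]
        exact maximalIdeal.isMaximal A
      rw [← Ideal.map_comap_of_surjective π hπ P]
      exact (Ideal.map_eq_top_or_isMaximal_of_surjective π hπ hmax).resolve_left
        (by rw [Ideal.map_comap_of_surjective π hπ P]; exact hP.ne_top)
    calc _ ≤ ((0 : ℕ) : WithBot ℕ∞) + ((1 : ℕ) : WithBot ℕ∞) := add_le_add (Ring.krullDimLE_iff.1 h0) le_rfl
      _ = _ := by simp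

section immersion

variable {X Z : Scheme.{u}} (ι : Z ⟶ X)

theorem fromSpecStalk_comap (z : Z) (p : PrimeSpectrum (Z.presheaf.stalk z)) :
    X.fromSpecStalk (ι z) (PrimeSpectrum.comap (ι.stalkMap z).hom p) = ι (Z.fromSpecStalk z p) := by
  rw [← Scheme.Hom.comp_apply, ← Scheme.SpecMap_stalkMap_fromSpecStalk]
  rfl

theorem exists_generisation_of_ker_le [IsClosedImmersion ι] (z : Z) (P : PrimeSpectrum (X.presheaf.stalk (ι z)))
    (h : RingHom.ker (ι.stalkMap z).hom ≤ P.asIdeal) : ∃ z' : Z, z' ⤳ z ∧ ι z' = X.fromSpecStalk (ι z) P := by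
  obtain ⟨q, rfl⟩ : ∃ q, PrimeSpectrum.comap (ι.stalkMap z).hom q = P := by
    rw [← Set.mem_range, _root_.range_comap_of_surjective _ _ (ι.stalkMap_surjective z)]
    exact h
  exact ⟨_, fromSpecStalk_specializes z q, (fromSpecStalk_comap ι z q).symm⟩

theorem fromSpecStalk_bot [IsIntegral Z] (z : Z) :
    Z.fromSpecStalk z ⟨⊥, Ideal.isPrime_bot⟩ = genericPoint Z := by
  obtain ⟨P, hP⟩ := exists_fromSpecStalk_eq (genericPoint_specializes z)
  have h : P ≤ ⟨⊥, Ideal.isPrime_bot⟩ := (specializes_iff_le z P _).1 (hP ▸ genericPoint_specializes _)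
  rw [← hP]
  congr 1
  exact PrimeSpectrum.ext (le_antisymm bot_le (show P.asIdeal ≤ ⊥ from h))

theorem fromSpecStalk_ker [IsClosedImmersion ι] [IsIntegral Z] (z : Z) :
    X.fromSpecStalk (ι z) ⟨RingHom.ker (ι.stalkMap z).hom, RingHom.ker_isPrime _⟩ = ι (genericPoint Z) := by
  rw [← fromSpecStalk_bot z, ← fromSpecStalk_comap]
  congr 1

theorem nonempty_stalk_push_quot [IsClosedImmersion ι] [IsIntegral Z] (q : X) (P : PrimeSpectrum (X.presheaf.stalk q))
    (hP : X.fromSpecStalk q P = ι (genericPoint Z)) :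
    Nonempty (((Coh.push ι).obj (Coh.structureModule Z)).presheaf.stalk q ≃ₗ[X.presheaf.stalk q]
      (X.presheaf.stalk q ⧸ P.asIdeal)) := by
  obtain ⟨z, rfl⟩ : q ∈ Set.range ι :=
    (hP ▸ fromSpecStalk_specializes q P : ι (genericPoint Z) ⤳ q).mem_closed ι.isClosedEmbedding.isClosed_range ⟨_, rfl⟩
  have hk : P.asIdeal = RingHom.ker (ι.stalkMap z).hom :=
    congrArg PrimeSpectrum.asIdeal (fromSpecStalk_injective (ι z) (hP.trans (fromSpecStalk_ker ι z).symm))
  letI : Algebra (X.presheaf.stalk (ι z)) (Z.presheaf.stalk z) := (ι.stalkMap z).hom.toAlgebra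
  obtain ⟨e⟩ := exists_stalk_push_equiv ι z
  exact ⟨e ≪≫ₗ ((Algebra.linearMap (X.presheaf.stalk (ι z)) (Z.presheaf.stalk z)).quotKerEquivOfSurjective
    (ι.stalkMap_surjective z)).symm ≪≫ₗ Submodule.quotEquivOfEq _ _ (by ext a; exact (SetLike.ext_iff.1 hk a).symm)⟩

theorem range_of_nontrivial_push [IsClosedImmersion ι] (q : X)
    (h : Nontrivial (((Coh.push ι).obj (Coh.structureModule Z)).presheaf.stalk q)) : q ∈ Set.range ι :=
  by_contra fun hn => not_subsingleton_iff_nontrivial.2 h (subsingleton_stalk_push ι (Coh.structureModule Z) hn)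

theorem nontrivial_push [IsClosedImmersion ι] (z : Z) :
    Nontrivial (((Coh.push ι).obj (Coh.structureModule Z)).presheaf.stalk (ι z)) := by
  letI : Algebra (X.presheaf.stalk (ι z)) (Z.presheaf.stalk z) := (ι.stalkMap z).hom.toAlgebra
  obtain ⟨e⟩ := exists_stalk_push_equiv ι z
  exact e.toEquiv.nontrivial

end immersion

/-- the ideal of the trace of `closure ζ` on a section -/
theorem sup_span_eq_comap {Q S : Scheme.{u}} (π : Q ⟶ S) (s : S ⟶ Q) [IsClosedImmersion s] (hs : s ≫ π = 𝟙 S)
    (x : S) {t : Q.presheaf.stalk (s x)} (ht : RingHom.ker (s.stalkMap x).hom = Ideal.span {t})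
    (q : PrimeSpectrum (Q.presheaf.stalk (s x))) (p : PrimeSpectrum (S.presheaf.stalk x))
    (hp : π (Q.fromSpecStalk (s x) q) = S.fromSpecStalk x p)
    (hζ : Q.fromSpecStalk (s x) q ⤳ s (S.fromSpecStalk x p)) :
    q.asIdeal ⊔ Ideal.span {t} = p.asIdeal.comap (s.stalkMap x).hom := by
  have hq : q.asIdeal ≤ p.asIdeal.comap (s.stalkMap x).hom :=
    (specializes_iff_le (s x) q (PrimeSpectrum.comap (s.stalkMap x).hom p)).1 (by rw [fromSpecStalk_comap]; exact hζ)
  refine le_antisymm (sup_le hq ?_) fun a ha => ?_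
  · rw [← ht]
    intro a ha
    rw [Ideal.mem_comap, RingHom.mem_ker.1 ha]
    exact p.asIdeal.zero_mem
  · have he : π (s x) = x := congrArg (fun m : S ⟶ S => m x) hs
    let ψ : S.presheaf.stalk x ⟶ Q.presheaf.stalk (s x) :=
      S.presheaf.stalkSpecializes (specializes_of_eq he) ≫ π.stalkMap (s x)
    have hψ : ψ ≫ s.stalkMap x = 𝟙 _ := by
      have h1 : (s ≫ π).stalkMap x = π.stalkMap (s x) ≫ s.stalkMap x := Scheme.Hom.stalkMap_comp s π x
      have h2 := Scheme.Hom.stalkMap_congr_hom (s ≫ π) (𝟙 S) hs x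
      rw [h1, Scheme.Hom.stalkMap_id] at h2
      simp only [ψ, Category.assoc, h2, Category.comp_id]
      simp
    have hcomap : PrimeSpectrum.comap ψ.hom q = p := by
      refine fromSpecStalk_injective x ?_
      rw [← hp]
      show (Spec.map ψ ≫ S.fromSpecStalk x) q = _
      simp only [ψ, Spec.map_comp, Category.assoc, Scheme.SpecMap_stalkSpecializes_fromSpecStalk,
        Scheme.SpecMap_stalkMap_fromSpecStalk]
      rfl
    have hb : ψ.hom ((s.stalkMap x).hom a) ∈ q.asIdeal := by
      show ((s.stalkMap x).hom a) ∈ (PrimeSpectrum.comap ψ.hom q).asIdeal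
      rw [hcomap]
      exact ha
    have hker : a - ψ.hom ((s.stalkMap x).hom a) ∈ Ideal.span {t} := by
      rw [← ht, RingHom.mem_ker, map_sub, sub_eq_zero]
      exact (congrArg (fun m : S.presheaf.stalk x ⟶ S.presheaf.stalk x => m.hom ((s.stalkMap x).hom a)) hψ).symm
    have := Submodule.add_mem_sup hb hker
    rwa [add_sub_cancel] at this

theorem specializes_sect {S : Scheme.{u}} {δ : S → ℤ} (hS : Cyc.IsSetup S δ) {δP : ↥(CohB1.ProjSpaceOver 1 S) → ℤ}
    (hP : Cyc.DeltaCompat (CohB1.ProjSpaceOver.toBase 1 S) δP δ) (i : Fin (1 + 1)) (y : S)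
    (ζ : ↥(CohB1.ProjSpaceOver 1 S)) (hζ : CohB1.ProjSpaceOver.toBase 1 S ζ = y) (hd : δP ζ = δ y + 1) :
    ζ ⤳ P1.sect S i y := by
  haveI := hS.1
  haveI := P1Irred.isClosedImmersion_sect S i
  haveI := P1Irred.smooth_toBase S
  haveI := P1Irred.geometricallyIrreducible_toBase S
  haveI : IsLocallyNoetherian (CohB1.ProjSpaceOver 1 S) :=
    LocallyOfFiniteType.isLocallyNoetherian (CohB1.ProjSpaceOver.toBase 1 S)
  have hδP := isDimFun_of_deltaCompat (CohB1.ProjSpaceOver.toBase 1 S) hS.2.1 hS.2.2 hP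
  set π := CohB1.ProjSpaceOver.toBase 1 S
  have hπs : ∀ v, π (P1.sect S i v) = v := fun v => congrArg (fun m : S ⟶ S => m v) (P1Lib24.sect_toBase S i)
  have hT : IsIrreducible (π ⁻¹' {y}) := π.isIrreducible_preimage (P1Lib24.isOpenMap_toBase S) isIrreducible_singleton
  have hgen := hT.isGenericPoint_genericPoint_closure
  set g := hT.genericPoint
  have hg1 : ∀ u, π u = y → g ⤳ u := fun u hu => hgen.specializes (subset_closure hu)
  have hgy : π g = y := by
    have h1 : π g ∈ closure ({y} : Set S) := by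
      refine closure_mono (show π '' (π ⁻¹' {y}) ⊆ {y} from Set.image_preimage_subset _ _) ?_
      exact image_closure_subset_closure_image π.continuous ⟨g, hgen.mem, rfl⟩
    exact (((hg1 _ (hπs y)).map π.continuous).trans (specializes_of_eq (hπs y))).antisymm
      (specializes_iff_mem_closure.2 h1) |>.eq
  obtain ⟨P, hPg⟩ := exists_fromSpecStalk_eq (hg1 _ (hπs y))
  obtain ⟨t, ht⟩ := P1Irred.exists_span_eq_ker S i y
  have htm : t ∈ maximalIdeal _ := IsLocalRing.le_maximalIdeal (RingHom.ker_ne_top ((P1.sect S i).stalkMap y).hom)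
    (ht.ge (Ideal.mem_span_singleton_self t))
  have hdim := ringKrullDim_quot_le_one P htm fun p hp htp => by
    obtain ⟨y', hy', hy''⟩ := exists_generisation_of_ker_le (P1.sect S i) y p
      (ht.le.trans ((Ideal.span_singleton_le_iff_mem _).2 htp))
    have hsp : g ⤳ P1.sect S i y' := hy''.symm ▸ hPg ▸ (specializes_iff_le _ P p).2 hp
    have he : y' = y := by
      have := hsp.map π.continuous
      rw [hgy, hπs] at this
      exact (hy'.antisymm this).eq
    rw [he] at hy''
    exact fromSpecStalk_injective _ (hy''.symm.trans Scheme.fromSpecStalk_closedPoint.symm)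
  rw [dim_quotient hδP, drop, hPg, delta_sect hP i y] at hdim
  have hdim' : (δP g - δ y).toNat ≤ 1 := by exact_mod_cast hdim
  have := eq_of_specializes_of_le hδP (hg1 ζ hζ) (by omega)
  rw [← this]
  exact hg1 _ (hπs y)

theorem chi_restrict {Q S : Scheme.{u}} (π : Q ⟶ S) (s : S ⟶ Q) [IsClosedImmersion s] [IsLocallyNoetherian Q]
    (hs : s ≫ π = 𝟙 S) (x : S) [IsRegularLocalRing (Q.presheaf.stalk (s x))]
    {t : Q.presheaf.stalk (s x)} (ht : RingHom.ker (s.stalkMap x).hom = Ideal.span {t}) (ht0 : t ≠ 0)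
    {W : Scheme.{u}} (j : W ⟶ S) [IsClosedImmersion j] [IsIntegral W] (ζ : Q) (hζ : π ζ = j (genericPoint W))
    (hζs : ζ ⤳ s (j (genericPoint W))) {F : Q.Modules} (hM : Function.Injective
      (LinearMap.lsmul (Q.presheaf.stalk (s x)) (F.presheaf.stalk (s x)) t)) :
    IntMult.chi (Q.presheaf.stalk (s x)) (F.presheaf.stalk (s x))
        ((pointSheaf ζ).presheaf.stalk (s x) ⧸
          LinearMap.range (LinearMap.lsmul (Q.presheaf.stalk (s x)) ((pointSheaf ζ).presheaf.stalk (s x)) t)) =
      IntMult.chi (S.presheaf.stalk x) (((Scheme.Modules.pullback s).obj F).presheaf.stalk x)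
        (((Coh.push j).obj (Coh.structureModule W)).presheaf.stalk x) := by
  let A : Type u := Q.presheaf.stalk (s x)
  let B : Type u := S.presheaf.stalk x
  let M : Type u := F.presheaf.stalk (s x)
  let N : Type u := (pointSheaf ζ).presheaf.stalk (s x)
  letI : Algebra A B := (s.stalkMap x).hom.toAlgebra
  have hB : Function.Surjective (algebraMap A B) := s.stalkMap_surjective x
  have hA : Function.Injective (LinearMap.lsmul A A t) := by
    haveI := CAlgH3.isDomain_of_isRegularLocalRing A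
    exact fun a b e => mul_left_cancel₀ ht0 e
  have eF : ((Scheme.Modules.pullback s).obj F).presheaf.stalk x ≃ₗ[B] B ⊗[A] M :=
    (((ModStalk.pullbackStalkIso s x).app F :
      ((DerSch.stalkFunctor S x).obj ((Scheme.Modules.pullback s).obj F)) ≅
        (ModuleCat.extendScalars (s.stalkMap x).hom).obj ((DerSch.stalkFunctor Q (s x)).obj F))).toLinearEquiv
  have hq : LinearMap.range (LinearMap.lsmul A N t) = (RingHom.ker (algebraMap A B)) • (⊤ : Submodule A N) := by
    rw [show RingHom.ker (algebraMap A B) = Ideal.span {t} from ht, Submodule.ideal_span_singleton_smul]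
    ext v
    simp [Submodule.mem_smul_pointwise_iff_exists]
  let eAB : (A ⧸ RingHom.ker (algebraMap A B)) ≃ₗ[A] B :=
    Submodule.quotEquivOfEq _ _ (by ext a; exact Iff.rfl) ≪≫ₗ (Algebra.linearMap A B).quotKerEquivOfSurjective hB
  let eN : (N ⧸ LinearMap.range (LinearMap.lsmul A N t)) ≃ₗ[A] B ⊗[A] N :=
    Submodule.quotEquivOfEq _ _ hq ≪≫ₗ (TensorProduct.quotTensorEquivQuotSMul N (RingHom.ker (algebraMap A B))).symm ≪≫ₗ
      TensorProduct.congr eAB (LinearEquiv.refl A N)
  haveI : IsClosedImmersion (IntMult.ptIdeal ζ).subschemeι := inferInstance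
  haveI := isIntegral_ptIdeal ζ
  have hgen := P1Inter.subscheme_gen ζ
  have eG : Nonempty ((B ⊗[A] N) ≃ₗ[B] ((Coh.push j).obj (Coh.structureModule W)).presheaf.stalk x) := by
    have hπs : π (s x) = x := congrArg (fun m : S ⟶ S => m x) hs
    by_cases hx : j (genericPoint W) ⤳ x
    · obtain ⟨p, hp⟩ := exists_fromSpecStalk_eq hx
      obtain ⟨q, hq'⟩ := exists_fromSpecStalk_eq (hζs.trans (hx.map s.continuous))
      obtain ⟨e1⟩ := nonempty_stalk_push_quot (IntMult.ptIdeal ζ).subschemeι (s x) q (hq'.trans hgen.symm)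
      obtain ⟨e2⟩ := nonempty_stalk_push_quot j x p hp
      have hsup := sup_span_eq_comap π s hs x ht q p (by rw [hq', hp, hζ]) (by rw [hq', hp]; exact hζs)
      have hmap : q.asIdeal.map (algebraMap A B) = p.asIdeal := by
        rw [← Ideal.map_comap_of_surjective _ hB p.asIdeal]
        refine le_antisymm (Ideal.map_mono (le_sup_left.trans hsup.le)) (Ideal.map_le_iff_le_comap.2 ?_)
        refine hsup.ge.trans (sup_le Ideal.le_comap_map ?_)
        rw [← ht]
        intro a ha
        rw [Ideal.mem_comap, show algebraMap A B a = 0 from ha]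
        exact zero_mem _
      let e3 : (B ⊗[A] N) ≃ₗ[A] (B ⧸ p.asIdeal) :=
        TensorProduct.congr (LinearEquiv.refl A B) e1 ≪≫ₗ TensorProduct.tensorQuotEquivQuotSMul B q.asIdeal ≪≫ₗ
          Submodule.quotEquivOfEq _ (p.asIdeal.restrictScalars A) (by rw [Ideal.smul_top_eq_map, hmap]) ≪≫ₗ
          (Submodule.Quotient.restrictScalarsEquiv A p.asIdeal)
      exact ⟨e3.extendScalarsOfSurjective hB ≪≫ₗ e2.symm⟩
    · haveI : Subsingleton (((Coh.push j).obj (Coh.structureModule W)).presheaf.stalk x) :=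
        subsingleton_stalk_push j _ (by
          rintro ⟨v, rfl⟩
          exact hx ((genericPoint_specializes v).map j.continuous))
      haveI : Subsingleton N := subsingleton_stalk_push _ _ (by
        rintro ⟨v, hv⟩
        refine hx ?_
        have h1 := ((genericPoint_specializes v).map (IntMult.ptIdeal ζ).subschemeι.continuous).map π.continuous
        rwa [hgen, hv, hζ, hπs] at h1)
      haveI : Subsingleton (B ⊗[A] N) := inferInstance
      exact ⟨LinearEquiv.ofSubsingleton _ _⟩
  obtain ⟨eG⟩ := eG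
  rw [chi_congr_both (LinearEquiv.refl A M) eN, ChiLocal.chi_surjective hB ht hA M hM (B ⊗[A] N),
    chi_congr_both eF.symm eG]

end Groth.Agent.CycLib28.P1Fam
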