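import Mathlib
import Groth.Prelude.Def_KRR
import Groth.Agent.DCat.Acyclic
import Groth.Agent.EulerLib.Twist
import Groth.Agent.DCat.TensorAssoc
import Groth.Agent.DCat.PullTensor
import Groth.Agent.Coherent.ProjSpaceBC
import Groth.Agent.Coherent.ModExt

/-!
# Middle vanishing for derived functors; twists on projective space over a base
-/

set_option autoImplicit false
set_option backward.isDefEq.respectTransparency false
set_option linter.style.haveILetI false

universe v v' u u'

open CategoryTheory CategoryTheory.Limits AlgebraicGeometry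

namespace Groth.Agent.CM28

section Derived

variable {A : Type u} [Category.{v} A] [Abelian A] [HasInjectiveResolutions A] [EnoughInjectives A]
  {B : Type u'} [Category.{v'} B] [Abelian B] (F : A ⥤ B) [F.Additive]

theorem isZero_X₂ {S : ShortComplex A} (hS : S.ShortExact) (i : ℕ)
    (h₁ : IsZero ((F.rightDerived i).obj S.X₁)) (h₃ : IsZero ((F.rightDerived i).obj S.X₃)) :
    IsZero ((F.rightDerived i).obj S.X₂) := by
  let _ := HasDerivedCategory.standard A
  let _ := HasDerivedCategory.standard B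
  obtain ⟨e₁⟩ := SpecSeq.nonempty_rdSingle_iso F S.X₁ i
  obtain ⟨e₂⟩ := SpecSeq.nonempty_rdSingle_iso F S.X₂ i
  obtain ⟨e₃⟩ := SpecSeq.nonempty_rdSingle_iso F S.X₃ i
  obtain ⟨δ, hT⟩ := SpecSeq.exists_plus_singleTriangle hS
  exact (((SpecSeq.rdH F).homologySequence_exact₂ _ hT (i : ℤ)).isZero_X₂
    ((h₁.of_iso e₁).eq_of_src _ _) ((h₃.of_iso e₃).eq_of_tgt _ _)).of_iso e₂.symm

theorem isZero_X₁ {S : ShortComplex A} (hS : S.ShortExact) (i : ℕ)
    (h₂ : IsZero ((F.rightDerived (i + 1)).obj S.X₂)) (h₃ : IsZero ((F.rightDerived i).obj S.X₃)) :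
    IsZero ((F.rightDerived (i + 1)).obj S.X₁) := by
  let _ := HasDerivedCategory.standard A
  let _ := HasDerivedCategory.standard B
  obtain ⟨e₁⟩ := SpecSeq.nonempty_rdSingle_iso F S.X₁ (i + 1)
  obtain ⟨e₂⟩ := SpecSeq.nonempty_rdSingle_iso F S.X₂ (i + 1)
  obtain ⟨e₃⟩ := SpecSeq.nonempty_rdSingle_iso F S.X₃ i
  obtain ⟨δ, hT⟩ := SpecSeq.exists_plus_singleTriangle hS
  exact (((SpecSeq.rdH F).homologySequence_exact₁ _ hT (i : ℤ) ((i + 1 : ℕ) : ℤ) (by push_cast; ring)).isZero_X₂
    ((h₃.of_iso e₃).eq_of_src _ _) ((h₂.of_iso e₂).eq_of_tgt _ _)).of_iso e₁.symm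

theorem isZero_X₁_one [PreservesFiniteLimits F] {S : ShortComplex A} (hS : S.ShortExact)
    (h₂ : IsZero ((F.rightDerived 1).obj S.X₂)) [hepi : Epi (F.map S.g)] :
    IsZero ((F.rightDerived 1).obj S.X₁) := by
  let _ := HasDerivedCategory.standard A
  let _ := HasDerivedCategory.standard B
  have := hS.mono_f
  have := hS.epi_g
  let R := injectiveResolution S.X₁
  refine IsZero.of_iso ?_ (R.isoRightDerivedObj F 1)
  rw [HomologicalComplex.homologyFunctor_obj, ← HomologicalComplex.exactAt_iff_isZero_homology,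
    HomologicalComplex.exactAt_iff' _ 0 1 2 (by simp) (by simp),
    ShortComplex.exact_iff_exact_up_to_refinements]
  let d := R.cocomplex.d 0 1
  let d' := R.cocomplex.d 1 2
  have hdd : d ≫ d' = 0 := R.cocomplex.d_comp_d _ _ _
  let α : S.X₂ ⟶ R.cocomplex.X 0 := Injective.factorThru (R.ι.f 0) S.f
  have hα : S.f ≫ α = R.ι.f 0 := Injective.comp_factorThru _ _
  have hw : S.f ≫ α ≫ d = 0 := by rw [← Category.assoc, hα, R.ι_f_zero_comp_complex_d]
  let β : S.X₃ ⟶ R.cocomplex.X 1 := hS.exact.desc (α ≫ d) hw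
  have hgβ : S.g ≫ β = α ≫ d := hS.exact.g_desc _ _
  have hβ : β ≫ d' = 0 := by
    rw [← cancel_epi S.g, reassoc_of% hgβ, hdd, comp_zero, comp_zero]
  let T : ShortComplex A := ShortComplex.mk (biprod.lift α S.g)
    (kernel.lift d' (biprod.desc d (-β)) (biprod.hom_ext' _ _ (by simp [hdd]) (by simp [hβ])))
    (by ext; simp [biprod.lift_desc, hgβ])
  have hker : (ShortComplex.mk (R.ι.f 0) d R.ι_f_zero_comp_complex_d).Exact :=
    ShortComplex.exact_of_f_is_kernel _ R.isLimitKernelFork
  have hT : T.ShortExact := by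
    have hm : Mono T.f := Preadditive.mono_of_cancel_zero _ fun {W} m hm => by
      have h1 : m ≫ α = 0 := by
        have := hm =≫ biprod.fst
        simpa [T] using this
      have h2 : m ≫ S.g = 0 := by
        have := hm =≫ biprod.snd
        simpa [T] using this
      have h3 : hS.exact.lift m h2 ≫ R.ι.f 0 = 0 := by rw [← hα, hS.exact.lift_f_assoc, h1]
      rw [← hS.exact.lift_f m h2, Limits.zero_of_comp_mono (R.ι.f 0) h3, zero_comp]
    have he : Epi T.g := by
      rw [epi_iff_surjective_up_to_refinements]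
      intro W z
      obtain ⟨W', q, hq, x, hx⟩ := (R.exact_succ 0).exact_up_to_refinements (z ≫ kernel.ι d')
        (show (z ≫ kernel.ι d') ≫ d' = 0 by rw [Category.assoc, kernel.condition, comp_zero])
      refine ⟨W', q, hq, x ≫ biprod.inl, ?_⟩
      ext
      dsimp [T] at hx ⊢
      rw [Category.assoc, hx, Category.assoc, Category.assoc, kernel.lift_ι, biprod.inl_desc]
    refine { exact := ?_ }
    rw [ShortComplex.exact_iff_exact_up_to_refinements]
    intro W z hz
    obtain ⟨W', q, hq, x, hx⟩ := surjective_up_to_refinements_of_epi S.g (z ≫ biprod.snd)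
    have hz' : z ≫ biprod.fst ≫ d = z ≫ biprod.snd ≫ β := by
      have h := hz =≫ kernel.ι d'
      dsimp [T] at h
      rw [Category.assoc, kernel.lift_ι, zero_comp, biprod.desc_eq, Preadditive.comp_add, Preadditive.comp_neg,
        Preadditive.comp_neg, ← sub_eq_add_neg, sub_eq_zero] at h
      exact h
    have hw' : (q ≫ z ≫ biprod.fst - x ≫ α) ≫ d = 0 := by
      rw [Preadditive.sub_comp, Category.assoc, Category.assoc, Category.assoc, hz', ← hgβ, reassoc_of% hx, sub_self]
    refine ⟨W', q, hq, x + hker.lift _ hw' ≫ S.f, ?_⟩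
    ext
    · simp only [T, Category.assoc, Preadditive.add_comp, biprod.lift_fst, hα]
      rw [show hker.lift _ hw' ≫ R.ι.f 0 = _ from hker.lift_f _ hw']
      abel
    · simp only [T, Category.assoc, Preadditive.add_comp, biprod.lift_snd, S.zero, comp_zero, add_zero]
      exact hx
  haveI : Epi (F.map T.g) := SpecSeq.epi_map_of_isZero_rightDerived_one hT h₂
  intro W z hz
  have hz' : z ≫ F.map d' = 0 := hz
  let z' := kernel.lift (F.map d') z hz' ≫ (PreservesKernel.iso F d').inv
  have hz'' : z' ≫ F.map (kernel.ι d') = z := by simp [z', PreservesKernel.iso_inv_ι]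
  obtain ⟨W₁, q₁, hq₁, m, hm⟩ := surjective_up_to_refinements_of_epi (F.map T.g) z'
  obtain ⟨W₂, q₂, hq₂, y, hy⟩ := surjective_up_to_refinements_of_epi (F.map S.g) (m ≫ F.map biprod.snd)
  refine ⟨W₂, q₂ ≫ q₁, inferInstance, q₂ ≫ m ≫ F.map biprod.fst - y ≫ F.map α, ?_⟩
  have hsplit : T.g ≫ kernel.ι d' = biprod.fst ≫ d - biprod.snd ≫ β := by
    simp only [T, kernel.lift_ι, biprod.desc_eq, Preadditive.comp_neg, sub_eq_add_neg]
  change (q₂ ≫ q₁) ≫ z = (q₂ ≫ m ≫ F.map biprod.fst - y ≫ F.map α) ≫ F.map d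
  rw [Category.assoc, ← hz'', reassoc_of% hm, ← F.map_comp, hsplit, F.map_sub, F.map_comp, F.map_comp,
    Preadditive.comp_sub, Preadditive.comp_sub, reassoc_of% hy, ← F.map_comp S.g β, hgβ, F.map_comp,
    Preadditive.sub_comp]
  simp only [Category.assoc]

end Derived

section Twist

open Groth.Agent.Coherent Groth.Agent.PicLib Groth.Agent.AmpleLib

variable (n : ℕ) (T : Scheme.{u})

theorem isInvertible_twistOver (d : ℤ) : PicF.IsInvertible (Twist.twistOver n T d) :=
  PicLoc.isInvertible_pullback _ (isInvertible_twistProjSpaceZ n d (ULift.{u} ℤ))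

theorem nonempty_twistOver_add {a b c : ℤ} (h : a + b = c) :
    Nonempty (CohB1.tensorMod (Twist.twistOver n T a) (Twist.twistOver n T b) ≅ Twist.twistOver n T c) := by
  obtain ⟨e⟩ := TwistLib.G.nonempty_tensor_twist_iso (𝒜 := CohB1.polyGrading n (ULift.{u} ℤ))
    (UPLib.exists_degOne (UPLib.adjoin_one_eq_top (UPLib.linForm_mem (R := ULift.{u} ℤ) n)
      (UPLib.isSymmetricAlgebra_linForm n))) h
  exact ⟨(DCat.PullTensor.pullTensorIso _ _ _).symm ≪≫ (Scheme.Modules.pullback _).mapIso e⟩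

theorem nonempty_twistOver_zero :
    Nonempty (Twist.twistOver n T 0 ≅ Coh.structureModule (CohB1.ProjSpaceOver n T)) := by
  obtain ⟨e⟩ := TwistLib.G.nonempty_twist_zero_iso (𝒜 := CohB1.polyGrading n (ULift.{u} ℤ))
  exact ⟨(Scheme.Modules.pullback _).mapIso e ≪≫ PicLoc.pullbackStructureIso _⟩

variable {n T}

theorem nonempty_twF_twF (F : (KRR.PY n T).Modules) {a b c : ℤ} (h : a + b = c) :
    Nonempty (KRR.twF n T a (KRR.twF n T b F) ≅ KRR.twF n T c F) := by
  obtain ⟨e⟩ := nonempty_twistOver_add n T h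
  exact ⟨(DCat.TensorAssoc.assocIso _ _ _).symm ≪≫ ((DCoh.tensorBi (X := KRR.PY n T)).mapIso e).app F⟩

theorem nonempty_twF_zero (F : (KRR.PY n T).Modules) : Nonempty (KRR.twF n T 0 F ≅ F) := by
  obtain ⟨e⟩ := nonempty_twistOver_zero n T
  exact ⟨((DCoh.tensorBi (X := KRR.PY n T)).mapIso e).app F ≪≫ unitTensorIso F⟩

theorem tensorComm_natural {M M' : (KRR.PY n T).Modules} (L : (KRR.PY n T).Modules) (φ : M ⟶ M') :
    (tensorComm M L).hom ≫ ((DCoh.tensorBi (X := KRR.PY n T)).obj L).map φ =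
      tensorMap φ (𝟙 L) ≫ (tensorComm M' L).hom := by
  refine AmpleLib.hom_ext fun U a b => ?_
  have e1 : (tensorSwap M L).app U (tmul a b) = tmul b a := Bilin.desc_tmul _ U a b
  have e2 : (tensorSwap M' L).app U (tmul (φ.app U a) b) = tmul b (φ.app U a) := Bilin.desc_tmul _ U _ b
  have e3 : (tensorMap φ (𝟙 L)).app U (tmul a b) = tmul (φ.app U a) b := tensorMap_tmul φ (𝟙 L) a b
  show (((DCoh.tensorBi (X := KRR.PY n T)).obj L).map φ).app U ((tensorSwap M L).app U (tmul a b)) =
    (tensorSwap M' L).app U ((tensorMap φ (𝟙 L)).app U (tmul a b))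
  rw [e1, e3, e2]
  exact DCat.PullTensor.tensorBi_obj_map_tmul φ U b a

theorem twF_shortExact {S : ShortComplex (KRR.PY n T).Modules} (hS : S.ShortExact) (d : ℤ) :
    ((S.map ((DCoh.tensorBi (X := KRR.PY n T)).obj (Twist.twistOver n T d))).map
      (toAbFunctor (KRR.PY n T))).ShortExact := by
  refine toAb_shortExact ?_
  refine ShortComplex.shortExact_of_iso ?_ (EulerLib.twistSeq_shortExact (isInvertible_twistOver n T d) hS)
  exact ShortComplex.isoMk (tensorComm _ _) (tensorComm _ _) (tensorComm _ _)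
    (tensorComm_natural _ S.f) (tensorComm_natural _ S.g)

end Twist

end Groth.Agent.CM28
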